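import Mathlib
import Cfsg.Agent.Lib.Helper74.M11Defs
import Cfsg.Agent.Lib.Helper95.NormCent

/-!
# M11 lemma server (helper74), piece (Q5): `|C(D)| = 36` is impossible (helper37)

Route (shorter than the sketch, `P`, `Q` are not needed): `|N(D)| = 72`; a subgroup `W ≤ N(D)` of order 8 centralises
an involution `u₀ ∈ C(D)` (a central involution of `W` if it lies in `C(D)`, else a central involution of
`W ⊓ C(D)`).  `M := C(u₀) ⊓ N(D)` contains `W` and `D`, so `24 ∣ |M|`, and `|M| ∣ gcd(48,72) = 24`: `M` has index 2 in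
`C(u₀)`, hence is normal there; `D ⊴ M` has index 8 in `M`, so every element of order 3 of `M` lies in `D`
(`Subgroup.pow_relIndex_mem`); hence `C(u₀)` normalises `D`, `C(u₀) = M`, `48 = 24`.
-/

set_option autoImplicit false
set_option maxHeartbeats 400000

namespace Cfsg.Agent.Helper37.M11

open Cfsg.Agent.Helper74.M11

variable {G : Type*} [Group G] [Finite G]

/-- A nontrivial 2-subgroup has a central involution. -/
theorem q5_central_involution (Y : Subgroup G) (hY : IsPGroup 2 Y) (hne : Y ≠ ⊥) :
    ∃ u ∈ Y, orderOf u = 2 ∧ ∀ g ∈ Y, g * u = u * g := by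
  haveI : Fact (Nat.Prime 2) := ⟨Nat.prime_two⟩
  haveI : Nontrivial Y := (Subgroup.nontrivial_iff_ne_bot Y).2 hne
  haveI hcen : Nontrivial (Subgroup.center Y) := hY.center_nontrivial
  have hc2 : 2 ∣ Nat.card (Subgroup.center Y) := by
    have hpc : IsPGroup 2 (Subgroup.center Y) := hY.to_subgroup (Subgroup.center Y)
    obtain ⟨n, hn⟩ := (IsPGroup.iff_card).1 hpc
    have h1 : 1 < Nat.card (Subgroup.center Y) := Finite.one_lt_card
    rcases n with _ | n
    · rw [hn] at h1; simp at h1
    · rw [hn]; exact ⟨2 ^ n, by ring⟩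
  obtain ⟨z, hz⟩ := exists_prime_orderOf_dvd_card' (G := Subgroup.center Y) 2 hc2
  refine ⟨((z : Y) : G), (z : Y).2, ?_, ?_⟩
  · rw [Subgroup.orderOf_coe, Subgroup.orderOf_coe, hz]
  · intro g hg
    have hzc := Subgroup.mem_center_iff.1 z.2 ⟨g, hg⟩
    have := congrArg (fun t : Y => (t : G)) hzc
    simpa using this

/-- A subgroup whose order is divisible by 8 contains a subgroup of order 8. -/
theorem q5_exists_card_eight (N : Subgroup G) (h8 : 8 ∣ Nat.card N) :
    ∃ W : Subgroup G, W ≤ N ∧ Nat.card W = 8 := by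
  haveI : Fact (Nat.Prime 2) := ⟨Nat.prime_two⟩
  obtain ⟨K, hK⟩ := Sylow.exists_subgroup_card_pow_prime (G := ↥N) 2 (n := 3) (by simpa using h8)
  refine ⟨K.map N.subtype, Subgroup.map_subtype_le K, ?_⟩
  rw [Subgroup.card_map_of_injective N.subtype_injective, hK]; norm_num

/-- (Q5) `|C(D)| = 36` is impossible. -/
theorem false_of_36 (h48 : ∀ t : G, orderOf t = 2 → Nat.card (Cen t) = 48)
    (D P Q : Subgroup G) (hD : Nat.card D = 3) (hC : Nat.card (CenS D) = 36)
    (hP : Nat.card P = 9) (hQ : Nat.card Q = 9) (hPQ : P ≠ Q) (hPC : P ≤ CenS D) (hQC : Q ≤ CenS D)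
    (w : G) (hw : orderOf w = 2) (hwD : w ∈ NorS D) (hwC : w ∉ CenS D) : False := by
  have hCN : CenS D ≤ NorS D := Subgroup.centralizer_le_normalizer _
  -- `|N(D)| = 72`
  obtain ⟨r, hr, hNr⟩ := Cfsg.Agent.Helper95.card_normalizer_eq_mul 3 Nat.prime_three D hD
  have hN72 : Nat.card (NorS D) = 72 := by
    have hr2 : r = 1 ∨ r = 2 := by
      have h2 : r ∣ 2 := hr
      have h3 := Nat.le_of_dvd (by norm_num) h2
      interval_cases r
      · simp at h2
      · left; rfl
      · right; rfl
    rcases hr2 with rfl | rfl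
    · exfalso
      have h1 : CenS D = NorS D := Subgroup.eq_of_le_of_card_ge hCN (by
        show Nat.card (Subgroup.normalizer (D : Set G)) ≤ _
        rw [hNr, mul_one])
      exact hwC (h1 ▸ hwD)
    · show Nat.card (Subgroup.normalizer (D : Set G)) = 72
      rw [hNr]
      show Nat.card (CenS D) * 2 = 72
      rw [hC]
  -- `C(D)` has index 2 in `N(D)`
  have hidx : ((CenS D).subgroupOf (NorS D)).index = 2 := by
    have h1 := ((CenS D).subgroupOf (NorS D)).card_mul_index
    rw [Nat.card_congr (Subgroup.subgroupOfEquivOfLe hCN).toEquiv, hC, hN72] at h1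
    omega
  have hmul : ∀ a b : G, a ∈ NorS D → b ∈ NorS D →
      (a * b ∈ CenS D ↔ (a ∈ CenS D ↔ b ∈ CenS D)) := by
    intro a b ha hb
    have := Subgroup.mul_mem_iff_of_index_two hidx (a := ⟨a, ha⟩) (b := ⟨b, hb⟩)
    simpa [Subgroup.mem_subgroupOf] using this
  -- a subgroup `W` of order 8 of `N(D)`
  obtain ⟨W, hWN, hW8⟩ := q5_exists_card_eight (NorS D) (by rw [hN72]; norm_num)
  have hWp : IsPGroup 2 W := IsPGroup.of_card (n := 3) (by rw [hW8]; norm_num)
  have hWne : W ≠ ⊥ := by
    intro h
    rw [h, Subgroup.card_bot] at hW8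
    omega
  -- an involution `u₀ ∈ C(D)` centralised by `W`
  obtain ⟨u, huX, hu2, huW⟩ : ∃ u ∈ CenS D, orderOf u = 2 ∧ ∀ g ∈ W, g * u = u * g := by
    obtain ⟨z, hzW, hz2, hzc⟩ := q5_central_involution W hWp hWne
    by_cases hzX : z ∈ CenS D
    · exact ⟨z, hzX, hz2, hzc⟩
    · have hzz : z * z = 1 := by
        have := pow_orderOf_eq_one z
        rw [hz2, pow_two] at this
        exact this
      have key : ∀ g ∈ W, g ∈ CenS D ∨ g * z ∈ CenS D := by
        intro g hg
        by_cases hgX : g ∈ CenS D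
        · exact Or.inl hgX
        · right
          rw [hmul g z (hWN hg) (hWN hzW)]
          exact ⟨fun h => absurd h hgX, fun h => absurd h hzX⟩
      have hYne : W ⊓ CenS D ≠ ⊥ := by
        intro hbot
        have hsub : (W : Set G) ⊆ {1, z} := by
          intro g hg
          rcases key g hg with h | h
          · have : g ∈ W ⊓ CenS D := ⟨hg, h⟩
            rw [hbot, Subgroup.mem_bot] at this
            left; exact this
          · have : g * z ∈ W ⊓ CenS D := ⟨W.mul_mem hg hzW, h⟩
            rw [hbot, Subgroup.mem_bot] at this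
            right
            have h3 : g = z⁻¹ := eq_inv_of_mul_eq_one_left this
            rw [h3]
            exact inv_eq_of_mul_eq_one_left hzz
        have h1 : Nat.card W ≤ 2 := by
          have h2 : (W : Set G).ncard ≤ ({1, z} : Set G).ncard :=
            Set.ncard_le_ncard hsub (Set.toFinite _)
          have h3 : ({1, z} : Set G).ncard ≤ 2 := Set.ncard_insert_le _ _ |>.trans (by simp)
          have h4 : Nat.card W = (W : Set G).ncard := rfl
          omega
        omega
      have hYp : IsPGroup 2 (W ⊓ CenS D : Subgroup G) := hWp.to_le inf_le_left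
      obtain ⟨u, huY, hu2, huc⟩ := q5_central_involution (W ⊓ CenS D) hYp hYne
      refine ⟨u, huY.2, hu2, ?_⟩
      intro g hg
      rcases key g hg with h | h
      · exact huc g ⟨hg, h⟩
      · have h1 := huc (g * z) ⟨W.mul_mem hg hzW, h⟩
        have h2 : u * z = z * u := hzc u huY.1
        -- g * z * u = u * (g * z), u z = z u  ⇒  g u = u g
        have h3 : g * u * z = u * g * z := by
          calc g * u * z = g * (u * z) := by group
            _ = g * (z * u) := by rw [h2]
            _ = g * z * u := by group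
            _ = u * (g * z) := h1
            _ = u * g * z := by group
        exact mul_right_cancel h3
  -- `M := C(u₀) ⊓ N(D)`
  have h48u := h48 u hu2
  set M : Subgroup G := Cen u ⊓ NorS D with hM
  have hWM : W ≤ M := by
    intro g hg
    refine ⟨?_, hWN hg⟩
    show g ∈ Subgroup.centralizer ({u} : Set G)
    rw [Subgroup.mem_centralizer_iff]
    intro x hx
    rw [Set.mem_singleton_iff] at hx
    subst hx
    exact (huW g hg).symm
  have hDM : D ≤ M := by
    intro d hd
    refine ⟨?_, Subgroup.le_normalizer hd⟩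
    show d ∈ Subgroup.centralizer ({u} : Set G)
    rw [Subgroup.mem_centralizer_iff]
    intro x hx
    rw [Set.mem_singleton_iff] at hx
    subst hx
    exact ((Subgroup.mem_centralizer_iff.1 huX) d hd).symm
  have hM24 : Nat.card M = 24 := by
    have h8 : 8 ∣ Nat.card M := hW8 ▸ Subgroup.card_dvd_of_le hWM
    have h3 : 3 ∣ Nat.card M := hD ▸ Subgroup.card_dvd_of_le hDM
    have h48' : Nat.card M ∣ 48 := h48u ▸ Subgroup.card_dvd_of_le (inf_le_left : M ≤ Cen u)
    have h72 : Nat.card M ∣ 72 := hN72 ▸ Subgroup.card_dvd_of_le (inf_le_right : M ≤ NorS D)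
    have h24 : Nat.card M ∣ 24 := by
      have := Nat.dvd_gcd h48' h72
      norm_num at this
      exact this
    have hle := Nat.le_of_dvd (by norm_num) h24
    have hpos : 0 < Nat.card M := Nat.card_pos
    obtain ⟨a, ha⟩ := h8
    obtain ⟨b, hb⟩ := h3
    omega
  -- `M` is normal in `C(u₀)`
  have hMidx : (M.subgroupOf (Cen u)).index = 2 := by
    have h1 := (M.subgroupOf (Cen u)).card_mul_index
    rw [Nat.card_congr (Subgroup.subgroupOfEquivOfLe (inf_le_left : M ≤ Cen u)).toEquiv, hM24,
      h48u] at h1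
    omega
  haveI hMn : (M.subgroupOf (Cen u)).Normal := Subgroup.normal_of_index_eq_two hMidx
  -- `D` is normal in `M`, of index 8
  haveI hDn : (D.subgroupOf M).Normal :=
    Subgroup.normal_subgroupOf_of_le_normalizer (inf_le_right : M ≤ NorS D)
  have hDidx : D.relIndex M = 8 := by
    have h1 := (D.subgroupOf M).card_mul_index
    rw [Nat.card_congr (Subgroup.subgroupOfEquivOfLe hDM).toEquiv, hD, hM24] at h1
    show (D.subgroupOf M).index = 8
    omega
  -- elements of order dividing 3 of `M` lie in `D`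
  have h3D : ∀ e ∈ M, e ^ 3 = 1 → e ∈ D := by
    intro e he he3
    have h1 : (⟨e, he⟩ : M) ^ 8 ∈ D.subgroupOf M := by
      have := Subgroup.pow_index_mem (D.subgroupOf M) (⟨e, he⟩ : M)
      rwa [show (D.subgroupOf M).index = 8 from hDidx] at this
    have h2 : e ^ 8 ∈ D := by
      have := (Subgroup.mem_subgroupOf).1 h1
      simpa using this
    have h3 : e ^ 9 = 1 := by
      have : e ^ 9 = (e ^ 3) ^ 3 := by rw [← pow_mul]
      rw [this, he3, one_pow]
    have h4 : e = (e ^ 8)⁻¹ := by
      have : e ^ 8 * e = 1 := by rw [← pow_succ]; exact h3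
      exact (inv_eq_of_mul_eq_one_right this).symm
    rw [h4]
    exact D.inv_mem h2
  -- `C(u₀)` normalises `D`
  have hCuN : Cen u ≤ NorS D := by
    intro g hg
    have hgi : g⁻¹ ∈ Cen u := (Cen u).inv_mem hg
    have hconj : ∀ x ∈ Cen u, ∀ d ∈ D, x * d * x⁻¹ ∈ D := by
      intro x hx d hd
      have hdM : d ∈ M := hDM hd
      have h1 : (⟨x, hx⟩ : Cen u) * ⟨d, hdM.1⟩ * (⟨x, hx⟩ : Cen u)⁻¹ ∈ M.subgroupOf (Cen u) :=
        hMn.conj_mem ⟨d, hdM.1⟩ (by rw [Subgroup.mem_subgroupOf]; exact hdM) ⟨x, hx⟩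
      have h2 : x * d * x⁻¹ ∈ M := by
        have := (Subgroup.mem_subgroupOf).1 h1
        simpa using this
      apply h3D _ h2
      have hd3 : d ^ 3 = 1 := by
        have := pow_card_eq_one' (G := D) (x := ⟨d, hd⟩)
        rw [hD] at this
        have := congrArg (fun t : D => (t : G)) this
        simpa using this
      rw [conj_pow, hd3, mul_one, mul_inv_cancel]
    rw [Subgroup.mem_normalizer_iff]
    intro h
    constructor
    · intro hh
      exact hconj g hg h hh
    · intro hh
      have := hconj g⁻¹ hgi _ hh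
      simpa [mul_assoc] using this
  have hMeq : Nat.card (Cen u) ∣ 72 := hN72 ▸ Subgroup.card_dvd_of_le hCuN
  rw [h48u] at hMeq
  norm_num at hMeq

end Cfsg.Agent.Helper37.M11
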