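import Mathlib
import Cfsg.Agent.Lib.Helper74.M11Defs
import Cfsg.Agent.Lib.Helper95.NormCent

/-!
# M11 lemma server (helper74), piece (Q4): the centraliser of `D = P ⊓ Q` (helper37)
-/

set_option autoImplicit false
set_option maxHeartbeats 400000

namespace Cfsg.Agent.Helper37.M11

open Cfsg.Agent.Helper74.M11

variable {G : Type*} [Group G] [Finite G]

/-- A Sylow 3-subgroup of a group of order 7920 has order 9. -/
theorem q4_card_sylow3 (hc : Nat.card G = 7920) (P : Sylow 3 G) :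
    Nat.card (P : Subgroup G) = 9 := by
  haveI : Fact (Nat.Prime 3) := ⟨Nat.prime_three⟩
  obtain ⟨k, hk⟩ := (IsPGroup.iff_card).1 P.isPGroup'
  have h9 : 3 ^ 2 ∣ Nat.card (P : Subgroup G) :=
    P.pow_dvd_card_of_pow_dvd_card (by rw [hc]; norm_num)
  have hdvd : Nat.card (P : Subgroup G) ∣ 7920 := hc ▸ Subgroup.card_subgroup_dvd_card _
  rw [hk] at h9 hdvd ⊢
  have hk2 : 2 ≤ k := (Nat.pow_dvd_pow_iff_le_right (by norm_num)).1 h9
  have hk3 : k < 3 := by
    by_contra h
    push_neg at h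
    have : 3 ^ 3 ∣ 7920 := (pow_dvd_pow 3 h).trans hdvd
    norm_num at this
  interval_cases k
  norm_num

/-- A subgroup centralising an element of order 3 has order dividing 144. -/
theorem q4_card_dvd_144 (hc : Nat.card G = 7920)
    (h11 : ∀ x : G, orderOf x = 11 → Nat.card (Cen x) = 11)
    (h5c : ∀ y : G, orderOf y = 5 → Nat.card (Cen y) = 5)
    (H : Subgroup G) (d : G) (hd : orderOf d = 3) (hH : ∀ h ∈ H, h * d = d * h) :
    Nat.card H ∣ 144 := by
  have hdvd : Nat.card H ∣ 7920 := hc ▸ Subgroup.card_subgroup_dvd_card _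
  have key : ∀ p : ℕ, p.Prime → (∀ y : G, orderOf y = p → Nat.card (Cen y) = p) → p ≠ 3 →
      ¬ p ∣ Nat.card H := by
    intro p hp hcen hp3 hpH
    haveI : Fact p.Prime := ⟨hp⟩
    obtain ⟨y, hy⟩ := exists_prime_orderOf_dvd_card' (G := H) p hpH
    have hy' : orderOf (y : G) = p := by rw [Subgroup.orderOf_coe, hy]
    have hdC : d ∈ Cen (y : G) := by
      show d ∈ Subgroup.centralizer ({(y : G)} : Set G)
      rw [Subgroup.mem_centralizer_iff]
      intro x hx
      rw [Set.mem_singleton_iff] at hx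
      subst hx
      exact hH y y.2
    have h1 : orderOf d ∣ Nat.card (Cen (y : G)) := by
      have := orderOf_dvd_natCard (⟨d, hdC⟩ : Cen (y : G))
      rwa [← Subgroup.orderOf_coe] at this
    rw [hd, hcen _ hy'] at h1
    exact hp3 ((Nat.prime_dvd_prime_iff_eq Nat.prime_three hp).1 h1).symm
  have h5 : ¬ 5 ∣ Nat.card H := key 5 (by norm_num) h5c (by norm_num)
  have h11' : ¬ 11 ∣ Nat.card H := key 11 (by norm_num) h11 (by norm_num)
  have hcop : Nat.Coprime (Nat.card H) 55 := by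
    have h55 : (55 : ℕ) = 5 * 11 := by norm_num
    rw [h55]
    exact Nat.Coprime.mul_right
      ((Nat.Prime.coprime_iff_not_dvd (by norm_num)).2 h5).symm
      ((Nat.Prime.coprime_iff_not_dvd (by norm_num)).2 h11').symm
  have h7920 : (7920 : ℕ) = 144 * 55 := by norm_num
  rw [h7920] at hdvd
  exact hcop.dvd_of_dvd_mul_right hdvd

/-- arithmetic: a divisor of 8 that is `1 mod 3` and at least 2 is 4 -/
theorem q4_arith_n (n : ℕ) (h8 : n ∣ 8) (h1 : n % 3 = 1) (h2 : 2 ≤ n) : n = 4 := by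
  have hle := Nat.le_of_dvd (by norm_num) h8
  interval_cases n <;> omega

/-- arithmetic: a divisor of 8 divisible by 4 is 4 or 8 -/
theorem q4_arith_m (m : ℕ) (h8 : m ∣ 8) (h4 : 4 ∣ m) : m = 4 ∨ m = 8 := by
  have hle := Nat.le_of_dvd (by norm_num) h8
  have hpos : 0 < m := Nat.pos_of_dvd_of_pos h8 (by norm_num)
  interval_cases m <;> omega

/-- (Q4) the centraliser of `D = P ⊓ Q`. -/
theorem card_centralizer_inf (hc : Nat.card G = 7920)
    (h11 : ∀ x : G, orderOf x = 11 → Nat.card (Cen x) = 11)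
    (h5c : ∀ y : G, orderOf y = 5 → Nat.card (Cen y) = 5)
    (P Q : Sylow 3 G) (hN : Nat.card (NorS (P : Subgroup G)) = 36)
    (w : G) (hw : orderOf w = 2) (hwP : ∀ x ∈ (P : Subgroup G), w * x * w⁻¹ = x⁻¹)
    (hD : Nat.card ((P : Subgroup G) ⊓ (Q : Subgroup G) : Subgroup G) = 3) :
    (Nat.card (CenS ((P : Subgroup G) ⊓ (Q : Subgroup G))) = 36 ∨
      (Nat.card (CenS ((P : Subgroup G) ⊓ (Q : Subgroup G))) = 72 ∧
        NorS (P : Subgroup G) ≤ NorS ((P : Subgroup G) ⊓ (Q : Subgroup G)))) ∧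
    Nat.card (NorS ((P : Subgroup G) ⊓ (Q : Subgroup G))) =
      2 * Nat.card (CenS ((P : Subgroup G) ⊓ (Q : Subgroup G))) := by
  haveI : Fact (Nat.Prime 3) := ⟨Nat.prime_three⟩
  set D : Subgroup G := (P : Subgroup G) ⊓ (Q : Subgroup G) with hDdef
  have hP9 := q4_card_sylow3 hc P
  have hQ9 := q4_card_sylow3 hc Q
  have hPcomm : ∀ a ∈ (P : Subgroup G), ∀ b ∈ (P : Subgroup G), a * b = b * a := by
    intro a ha b hb
    have h := (IsPGroup.isMulCommutative_of_card_eq_prime_sq (G := ↥(P : Subgroup G)) (p := 3)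
      (by rw [hP9]; norm_num)).is_comm.comm ⟨a, ha⟩ ⟨b, hb⟩
    exact congrArg (fun t : ↥(P : Subgroup G) => (t : G)) h
  have hQcomm : ∀ a ∈ (Q : Subgroup G), ∀ b ∈ (Q : Subgroup G), a * b = b * a := by
    intro a ha b hb
    have h := (IsPGroup.isMulCommutative_of_card_eq_prime_sq (G := ↥(Q : Subgroup G)) (p := 3)
      (by rw [hQ9]; norm_num)).is_comm.comm ⟨a, ha⟩ ⟨b, hb⟩
    exact congrArg (fun t : ↥(Q : Subgroup G) => (t : G)) h
  -- a generator `d` of `D`
  obtain ⟨d0, hd0⟩ := exists_prime_orderOf_dvd_card' (G := D) 3 (by rw [hD])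
  have hd3 : orderOf (d0 : G) = 3 := by rw [Subgroup.orderOf_coe, hd0]
  have hdD : (d0 : G) ∈ D := d0.2
  have hPC : (P : Subgroup G) ≤ CenS D := by
    intro x hx
    show x ∈ Subgroup.centralizer (D : Set G)
    rw [Subgroup.mem_centralizer_iff]
    intro y hy
    exact hPcomm y hy.1 x hx
  have hQC : (Q : Subgroup G) ≤ CenS D := by
    intro x hx
    show x ∈ Subgroup.centralizer (D : Set G)
    rw [Subgroup.mem_centralizer_iff]
    intro y hy
    exact hQcomm y hy.2 x hx
  have hC144 : Nat.card (CenS D) ∣ 144 :=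
    q4_card_dvd_144 hc h11 h5c (CenS D) d0 hd3
      (fun h hh => ((Subgroup.mem_centralizer_iff.1 hh) d0 hdD).symm)
  -- `w` normalises `P` and `D` but does not centralise `D`
  have hww : w * w = 1 := by
    have := pow_orderOf_eq_one w
    rwa [hw, pow_two] at this
  have hwinv : w⁻¹ = w := inv_eq_of_mul_eq_one_right hww
  have hnorm : ∀ H : Subgroup G, H ≤ (P : Subgroup G) → w ∈ NorS H := by
    intro H hHP
    show w ∈ Subgroup.normalizer (H : Set G)
    rw [Subgroup.mem_normalizer_iff]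
    intro h
    constructor
    · intro hh
      rw [hwP h (hHP hh)]
      exact H.inv_mem hh
    · intro hh
      have h1 := hwP _ (hHP hh)
      have h2 : w * (w * h * w⁻¹) * w⁻¹ = h := by
        rw [hwinv]
        calc w * (w * h * w) * w = (w * w) * h * (w * w) := by group
          _ = h := by rw [hww, one_mul, mul_one]
      rw [h2] at h1
      rw [h1]
      exact H.inv_mem hh
  have hwND : w ∈ NorS D := hnorm D inf_le_left
  have hwNP : w ∈ NorS (P : Subgroup G) := hnorm _ le_rfl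
  have hwC : w ∉ CenS D := by
    intro hwc
    have h1 : (d0 : G) * w = w * d0 := (Subgroup.mem_centralizer_iff.1 hwc) d0 hdD
    have h2 : w * (d0 : G) * w⁻¹ = (d0 : G)⁻¹ := hwP _ hdD.1
    have h3 : w * (d0 : G) * w⁻¹ = d0 := by rw [← h1]; group
    have h4 : (d0 : G) * d0 = 1 := by
      have : (d0 : G) = (d0 : G)⁻¹ := h3.symm.trans h2
      calc (d0 : G) * d0 = (d0 : G) * (d0 : G)⁻¹ := by rw [← this]
        _ = 1 := mul_inv_cancel _
    have h5 : orderOf (d0 : G) ∣ 2 := orderOf_dvd_of_pow_eq_one (by rw [pow_two]; exact h4)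
    rw [hd3] at h5
    norm_num at h5
  have hCN : CenS D ≤ NorS D := Subgroup.centralizer_le_normalizer _
  -- `|N(D)| = 2 |C(D)|`
  obtain ⟨r, hr, hNr⟩ := Cfsg.Agent.Helper95.card_normalizer_eq_mul 3 Nat.prime_three D hD
  have hN2 : Nat.card (NorS D) = 2 * Nat.card (CenS D) := by
    have hr2 : r = 1 ∨ r = 2 := by
      have h2 : r ∣ 2 := hr
      have h3 := Nat.le_of_dvd (by norm_num) h2
      interval_cases r
      · simp at h2
      · left; rfl
      · right; rfl
    rcases hr2 with rfl | rfl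
    · exfalso
      have h1 : CenS D = NorS D := Subgroup.eq_of_le_of_card_ge hCN (by
        show Nat.card (Subgroup.normalizer (D : Set G)) ≤ _
        rw [hNr, mul_one])
      exact hwC (h1 ▸ hwND)
    · show Nat.card (Subgroup.normalizer (D : Set G)) = _
      rw [hNr, mul_comm]
  refine ⟨?_, hN2⟩
  -- `|C(D)|` divides 72 and is divisible by 9
  set c := Nat.card (CenS D) with hcdef
  have hc72 : c ∣ 72 := by
    have h1 : 2 * c ∣ 7920 := by
      rw [← hN2, ← hc]
      exact Subgroup.card_subgroup_dvd_card _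
    have h2 : 2 * c ∣ 2 * 144 := Nat.mul_dvd_mul_left 2 hC144
    have h3 : 2 * c ∣ Nat.gcd 7920 (2 * 144) := Nat.dvd_gcd h1 h2
    have h4 : Nat.gcd 7920 (2 * 144) = 2 * 72 := by norm_num
    rw [h4] at h3
    exact Nat.dvd_of_mul_dvd_mul_left (by norm_num) h3
  have h9c : 9 ∣ c := hP9 ▸ Subgroup.card_dvd_of_le hPC
  -- Sylow 3-subgroups of `C(D)`
  let P' : Sylow 3 ↥(CenS D) := P.subtype hPC
  let Q' : Sylow 3 ↥(CenS D) := Q.subtype hQC
  have hPQ' : P' ≠ Q' := by
    intro h
    have h1 : P = Q := Sylow.subtype_injective h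
    have h2 : D = (P : Subgroup G) := by rw [hDdef, ← h1, inf_idem]
    rw [h2, hP9] at hD
    omega
  have hcardP' : Nat.card (P' : Subgroup ↥(CenS D)) = 9 := by
    show Nat.card ((P : Subgroup G).subgroupOf (CenS D)) = 9
    rw [Nat.card_congr (Subgroup.subgroupOfEquivOfLe hPC).toEquiv, hP9]
  have hidx : (P' : Subgroup ↥(CenS D)).index * 9 = c := by
    have := (P' : Subgroup ↥(CenS D)).card_mul_index
    rw [hcardP'] at this
    rw [hcdef, ← this, mul_comm]
  have hn1 : Nat.card (Sylow 3 ↥(CenS D)) ≡ 1 [MOD 3] := card_sylow_modEq_one 3 _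
  have hn2 : Nat.card (Sylow 3 ↥(CenS D)) ∣ (P' : Subgroup ↥(CenS D)).index := P'.card_dvd_index
  have hn3 : 2 ≤ Nat.card (Sylow 3 ↥(CenS D)) := by
    haveI : Nontrivial (Sylow 3 ↥(CenS D)) := ⟨⟨P', Q', hPQ'⟩⟩
    exact Finite.one_lt_card
  have hn4 : Nat.card (Sylow 3 ↥(CenS D)) = (Subgroup.normalizer
      ((P' : Subgroup ↥(CenS D)) : Set ↥(CenS D))).index := P'.card_eq_index_normalizer
  -- the number of Sylow 3-subgroups is 4 and `c ∈ {36, 72}`
  have hcpos : 0 < c := Nat.card_pos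
  have hcle : c ≤ 72 := Nat.le_of_dvd (by norm_num) hc72
  obtain ⟨m, hm⟩ := h9c
  have hm8 : m ∣ 8 := by
    have : 9 * m ∣ 9 * 8 := by rw [← hm]; exact hc72
    exact Nat.dvd_of_mul_dvd_mul_left (by norm_num) this
  have hmidx : (P' : Subgroup ↥(CenS D)).index = m := by
    have : (P' : Subgroup ↥(CenS D)).index * 9 = m * 9 := by rw [hidx, hm, mul_comm]
    exact Nat.eq_of_mul_eq_mul_right (by norm_num) this
  rw [hmidx] at hn2
  set n := Nat.card (Sylow 3 ↥(CenS D)) with hndef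
  have hn8 : n ∣ 8 := hn2.trans hm8
  have hnle : n ≤ 8 := Nat.le_of_dvd (by norm_num) hn8
  have hn4' : n = 4 := q4_arith_n n hn8 (by simpa [Nat.ModEq] using hn1) hn3
  have h4m : 4 ∣ m := hn4' ▸ hn2
  have hm48 : m = 4 ∨ m = 8 := q4_arith_m m hm8 h4m
  rcases hm48 with rfl | rfl
  · left
    rw [hm]
  · right
    refine ⟨by rw [hm], ?_⟩
    -- `|N(P) ⊓ C(D)| = 18`
    have hc72' : c = 72 := by rw [hm]
    have hL : Nat.card (NorS (P : Subgroup G) ⊓ CenS D : Subgroup G) = 18 := by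
      have h1 : (Subgroup.normalizer ((P' : Subgroup ↥(CenS D)) : Set ↥(CenS D))) =
          (NorS (P : Subgroup G)).subgroupOf (CenS D) :=
        (Subgroup.subgroupOf_normalizer_eq hPC).symm
      have h2 := (Subgroup.normalizer ((P' : Subgroup ↥(CenS D)) : Set ↥(CenS D))).card_mul_index
      rw [← hn4, hn4', ← hcdef, hc72'] at h2
      have h3 : Nat.card (Subgroup.normalizer ((P' : Subgroup ↥(CenS D)) : Set ↥(CenS D))) = 18 := by
        omega
      rw [h1, ← Subgroup.inf_subgroupOf_right,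
        Nat.card_congr (Subgroup.subgroupOfEquivOfLe inf_le_right).toEquiv] at h3
      exact h3
    -- `K := N(P) ⊓ N(D)` contains `L := N(P) ⊓ C(D)` properly
    have hLK : (NorS (P : Subgroup G) ⊓ CenS D : Subgroup G) ≤ NorS (P : Subgroup G) ⊓ NorS D :=
      inf_le_inf_left _ hCN
    have hK1 : 18 ∣ Nat.card (NorS (P : Subgroup G) ⊓ NorS D : Subgroup G) :=
      hL ▸ Subgroup.card_dvd_of_le hLK
    have hK2 : Nat.card (NorS (P : Subgroup G) ⊓ NorS D : Subgroup G) ∣ 36 :=
      hN ▸ Subgroup.card_dvd_of_le inf_le_left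
    have hK3 : Nat.card (NorS (P : Subgroup G) ⊓ NorS D : Subgroup G) ≠ 18 := by
      intro h
      have : (NorS (P : Subgroup G) ⊓ CenS D : Subgroup G) = NorS (P : Subgroup G) ⊓ NorS D :=
        Subgroup.eq_of_le_of_card_ge hLK (by rw [h, hL])
      have hwK : w ∈ NorS (P : Subgroup G) ⊓ NorS D := ⟨hwNP, hwND⟩
      rw [← this] at hwK
      exact hwC hwK.2
    have hK36 : Nat.card (NorS (P : Subgroup G) ⊓ NorS D : Subgroup G) = 36 := by
      set k := Nat.card (NorS (P : Subgroup G) ⊓ NorS D : Subgroup G)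
      have hkle : k ≤ 36 := Nat.le_of_dvd (by norm_num) hK2
      obtain ⟨a, ha⟩ := hK1
      have hkpos : 0 < k := Nat.card_pos
      have : a = 1 ∨ a = 2 := by omega
      rcases this with rfl | rfl
      · exact absurd ha hK3
      · omega
    have hKeq : (NorS (P : Subgroup G) ⊓ NorS D : Subgroup G) = NorS (P : Subgroup G) :=
      Subgroup.eq_of_le_of_card_ge inf_le_left (by rw [hK36, hN])
    intro g hg
    rw [← hKeq] at hg
    exact hg.2

end Cfsg.Agent.Helper37.M11
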