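import Mathlib

/-!
# Tools for exceptional isomorphisms via permutation representations

* `PSys`: a matrix group permuting a finite set of "points" (vectors up to nonzero scalars), with the
  induced homomorphism into `Equiv.Perm (Fin n)`.
* permutations as lists of naturals, a checked table of products, and a lower bound for the order
  of a permutation group from a chain of partial transversals.
* `assemble`: two groups with the same image in a third one.
-/

set_option autoImplicit false

namespace Cfsg.Agent.Helper37.Exc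

open Equiv

section PSys

variable {F : Type*} [Field F] {ι : Type*} [Fintype ι] [DecidableEq ι]
variable {G : Type*} [Group G]

/-- A system of representatives of "points" (vectors up to nonzero scalars) permuted by a matrix
group. -/
structure PSys (ρ : G →* Matrix ι ι F) (S : (ι → F) → Prop) (n : ℕ) (rep : Fin n → ι → F) :
    Prop where
  inv : ∀ g v, S v → S (Matrix.mulVec (ρ g) v)
  rep_mem : ∀ i, S (rep i)
  cover : ∀ v, S v → ∃ i, ∃ c : F, c ≠ 0 ∧ v = c • rep i
  uniq : ∀ i j, ∀ c : F, c ≠ 0 → rep i = c • rep j → i = j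

variable {ρ : G →* Matrix ι ι F} {S : (ι → F) → Prop} {n : ℕ} {rep : Fin n → ι → F}

/-- The action on the indices. -/
noncomputable def PSys.act (h : PSys ρ S n rep) (g : G) (i : Fin n) : Fin n :=
  Classical.choose (h.cover _ (h.inv g _ (h.rep_mem i)))

theorem PSys.act_spec (h : PSys ρ S n rep) (g : G) (i : Fin n) :
    ∃ c : F, c ≠ 0 ∧ Matrix.mulVec (ρ g) (rep i) = c • rep (h.act g i) :=
  Classical.choose_spec (h.cover _ (h.inv g _ (h.rep_mem i)))

theorem PSys.act_eq_iff (h : PSys ρ S n rep) (g : G) (i j : Fin n) :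
    h.act g i = j ↔ ∃ c : F, c ≠ 0 ∧ Matrix.mulVec (ρ g) (rep i) = c • rep j := by
  constructor
  · rintro rfl
    exact h.act_spec g i
  · rintro ⟨c, hc, hcj⟩
    obtain ⟨c', hc', hc'j⟩ := h.act_spec g i
    apply h.uniq _ _ (c'⁻¹ * c) (mul_ne_zero (inv_ne_zero hc') hc)
    rw [mul_smul, ← hcj, hc'j, smul_smul, inv_mul_cancel₀ hc', one_smul]

theorem PSys.act_one (h : PSys ρ S n rep) (i : Fin n) : h.act 1 i = i :=
  (h.act_eq_iff 1 i i).2 ⟨1, one_ne_zero, by simp⟩

theorem PSys.act_mul (h : PSys ρ S n rep) (g g' : G) (i : Fin n) :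
    h.act (g * g') i = h.act g (h.act g' i) := by
  rw [h.act_eq_iff]
  obtain ⟨c, hc, e1⟩ := h.act_spec g' i
  obtain ⟨c', hc', e2⟩ := h.act_spec g (h.act g' i)
  refine ⟨c * c', mul_ne_zero hc hc', ?_⟩
  rw [map_mul, ← Matrix.mulVec_mulVec, e1, Matrix.mulVec_smul, e2, smul_smul]

/-- The permutation representation on the indices. -/
noncomputable def PSys.hom (h : PSys ρ S n rep) : G →* Perm (Fin n) where
  toFun g := ⟨h.act g, h.act g⁻¹,
    fun i => by rw [← h.act_mul, inv_mul_cancel, h.act_one],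
    fun i => by rw [← h.act_mul, mul_inv_cancel, h.act_one]⟩
  map_one' := by
    ext i
    simp [h.act_one]
  map_mul' g g' := by
    ext i
    simp [h.act_mul]

theorem PSys.hom_apply (h : PSys ρ S n rep) (g : G) (i : Fin n) : h.hom g i = h.act g i := rfl

theorem PSys.hom_apply_eq_iff (h : PSys ρ S n rep) (g : G) (i j : Fin n) :
    h.hom g i = j ↔ ∃ c : F, c ≠ 0 ∧ Matrix.mulVec (ρ g) (rep i) = c • rep j :=
  h.act_eq_iff g i j

theorem PSys.hom_eq_one_of_scalar (h : PSys ρ S n rep) (g : G) (c : F) (hc : c ≠ 0)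
    (hg : ρ g = c • (1 : Matrix ι ι F)) : h.hom g = 1 := by
  ext i
  have : h.hom g i = i := by
    rw [h.hom_apply_eq_iff]
    exact ⟨c, hc, by rw [hg, Matrix.smul_mulVec, Matrix.one_mulVec]⟩
  rw [this]
  rfl

end PSys

section Lists

variable {n : ℕ}

/-- A permutation as the list of its values. -/
def toL (σ : Perm (Fin n)) : List ℕ := List.ofFn (fun i => (σ i : ℕ))

theorem toL_length (σ : Perm (Fin n)) : (toL σ).length = n := by
  simp [toL]

theorem toL_getD (σ : Perm (Fin n)) (c : ℕ) (hc : c < n) : (toL σ).getD c 0 = (σ ⟨c, hc⟩ : ℕ) := by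
  have h : c < (toL σ).length := by rw [toL_length]; exact hc
  rw [List.getD_eq_getElem _ _ h]
  simp [toL]

theorem toL_injective : Function.Injective (toL (n := n)) := by
  intro σ τ h
  ext i
  have h1 := toL_getD σ i i.2
  have h2 := toL_getD τ i i.2
  rw [h] at h1
  exact h1.symm.trans h2

theorem toL_eq_of (σ : Perm (Fin n)) (l : List ℕ) (hlen : l.length = n)
    (h : ∀ i : Fin n, (σ i : ℕ) = l.getD i 0) : toL σ = l := by
  apply List.ext_getElem
  · rw [toL_length, hlen]
  · intro i h1 h2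
    have hi : i < n := by rw [toL_length] at h1; exact h1
    have := h ⟨i, hi⟩
    rw [List.getD_eq_getElem _ _ h2] at this
    simp only [toL, List.getElem_ofFn]
    exact this

/-- Composition on lists of values: `(a * b) i = a (b i)`. -/
def compL (a b : List ℕ) : List ℕ := b.map (fun j => a.getD j 0)

theorem compL_toL (σ τ : Perm (Fin n)) : compL (toL σ) (toL τ) = toL (σ * τ) := by
  apply (toL_eq_of (σ * τ) _ _ _).symm
  · simp [compL, toL]
  · intro i
    unfold compL
    have h : (i : ℕ) < (List.map (fun j => (toL σ).getD j 0) (toL τ)).length := by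
      rw [List.length_map, toL_length]
      exact i.2
    rw [List.getD_eq_getElem _ _ h, List.getElem_map]
    have h3 := toL_getD τ i i.2
    have h4 : (i : ℕ) < (toL τ).length := by rw [toL_length]; exact i.2
    rw [List.getD_eq_getElem _ _ h4] at h3
    rw [h3, toL_getD σ _ (τ i).2]
    rfl

/-- A checked table of permutations: the first `ng` entries are given, entry `ng + k` is the
product of the two earlier entries named by `prog[k]`. -/
theorem table_sound (P : Subgroup (Perm (Fin n))) (T : List (List ℕ)) (ng : ℕ)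
    (hgen : ∀ k < ng, ∃ σ ∈ P, T.getD k [] = toL σ) (prog : List (ℕ × ℕ))
    (hprog : ∀ k < prog.length, (prog.getD k (0, 0)).1 < ng + k ∧ (prog.getD k (0, 0)).2 < ng + k ∧
      T.getD (ng + k) [] =
        compL (T.getD (prog.getD k (0, 0)).1 []) (T.getD (prog.getD k (0, 0)).2 [])) :
    ∀ k < ng + prog.length, ∃ σ ∈ P, T.getD k [] = toL σ := by
  intro k
  induction k using Nat.strong_induction_on with
  | _ k ih =>
    intro hk
    rcases Nat.lt_or_ge k ng with h | h
    · exact hgen k h
    · obtain ⟨j, rfl⟩ : ∃ j, k = ng + j := ⟨k - ng, by omega⟩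
      have hj : j < prog.length := by omega
      obtain ⟨h1, h2, h3⟩ := hprog j hj
      obtain ⟨σ, hσ, e1⟩ := ih _ h1 (by omega)
      obtain ⟨τ, hτ, e2⟩ := ih _ h2 (by omega)
      refine ⟨σ * τ, P.mul_mem hσ hτ, ?_⟩
      rw [h3, e1, e2, compL_toL]

/-- The permutations fixing all the listed points. -/
def fixL (n : ℕ) (bs : List ℕ) : Subgroup (Perm (Fin n)) where
  carrier := {σ | ∀ c ∈ bs, ∀ h : c < n, σ ⟨c, h⟩ = ⟨c, h⟩}
  mul_mem' {a b} ha hb := by
    intro c hc h
    rw [Perm.mul_apply, hb c hc h, ha c hc h]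
  one_mem' := by
    intro c _ h
    rfl
  inv_mem' {a} ha := by
    intro c hc h
    rw [Perm.inv_eq_iff_eq, ha c hc h]

theorem mem_fixL (bs : List ℕ) (σ : Perm (Fin n)) :
    σ ∈ fixL n bs ↔ ∀ c ∈ bs, ∀ h : c < n, σ ⟨c, h⟩ = ⟨c, h⟩ := Iff.rfl

theorem fixL_nil : fixL n [] = ⊤ := by
  ext σ
  simp [mem_fixL]

/-- One level of the chain: a partial transversal of the next stabilizer. -/
theorem level_bound (P : Subgroup (Perm (Fin n))) (T : List (List ℕ))
    (hT : ∀ k < T.length, ∃ σ ∈ P, T.getD k [] = toL σ) (fixed : List ℕ) (b : ℕ) (hb : b < n)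
    (idxs : List ℕ)
    (h1 : ∀ k ∈ idxs, k < T.length ∧ ∀ c ∈ fixed, (T.getD k []).getD c 0 = c)
    (h2 : (idxs.map (fun k => (T.getD k []).getD b 0)).Nodup) :
    idxs.length * Nat.card ↥(P ⊓ fixL n (b :: fixed)) ≤ Nat.card ↥(P ⊓ fixL n fixed) := by
  classical
  have hex : ∀ k : Fin idxs.length, ∃ σ : Perm (Fin n), σ ∈ P ⊓ fixL n fixed ∧
      T.getD idxs[k] [] = toL σ := by
    intro k
    obtain ⟨hk1, hk2⟩ := h1 idxs[k] (List.getElem_mem _)
    obtain ⟨σ, hσ, e⟩ := hT _ hk1
    refine ⟨σ, ⟨hσ, ?_⟩, e⟩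
    intro c hc h
    apply Fin.ext
    have := hk2 c hc
    rw [e, toL_getD σ c h] at this
    exact this
  choose τ hτ hτe using hex
  let f : Fin idxs.length × ↥(P ⊓ fixL n (b :: fixed)) → ↥(P ⊓ fixL n fixed) := fun p =>
    ⟨τ p.1 * p.2.1, Subgroup.mul_mem _ (hτ p.1) ⟨p.2.2.1, fun c hc h =>
      p.2.2.2 c (List.mem_cons_of_mem _ hc) h⟩⟩
  have hf : Function.Injective f := by
    rintro ⟨k, x⟩ ⟨k', x'⟩ hkk
    have hval : τ k * x.1 = τ k' * x'.1 := congrArg Subtype.val hkk
    have hxb : x.1 ⟨b, hb⟩ = ⟨b, hb⟩ := x.2.2 b List.mem_cons_self hb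
    have hxb' : x'.1 ⟨b, hb⟩ = ⟨b, hb⟩ := x'.2.2 b List.mem_cons_self hb
    have himg : τ k ⟨b, hb⟩ = τ k' ⟨b, hb⟩ := by
      have := congrArg (fun σ : Perm (Fin n) => σ ⟨b, hb⟩) hval
      simp only [Perm.mul_apply, hxb, hxb'] at this
      exact this
    have hkeq : k = k' := by
      have hlen : (idxs.map (fun k => (T.getD k []).getD b 0)).length = idxs.length :=
        List.length_map _
      have e1 : (idxs.map (fun k => (T.getD k []).getD b 0))[(k : ℕ)]'(by rw [hlen]; exact k.2) =
          (τ k ⟨b, hb⟩ : ℕ) := by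
        rw [List.getElem_map]
        show (T.getD idxs[k] []).getD b 0 = _
        rw [hτe k, toL_getD _ b hb]
      have e2 : (idxs.map (fun k => (T.getD k []).getD b 0))[(k' : ℕ)]'(by rw [hlen]; exact k'.2) =
          (τ k' ⟨b, hb⟩ : ℕ) := by
        rw [List.getElem_map]
        show (T.getD idxs[k'] []).getD b 0 = _
        rw [hτe k', toL_getD _ b hb]
      have := (List.Nodup.getElem_inj_iff h2 (hi := by rw [hlen]; exact k.2)
        (hj := by rw [hlen]; exact k'.2)).1 (by rw [e1, e2, himg])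
      exact Fin.ext this
    subst hkeq
    have : x.1 = x'.1 := mul_left_cancel hval
    rw [Prod.mk.injEq]
    exact ⟨rfl, Subtype.ext this⟩
  have := Nat.card_le_card_of_injective f hf
  rw [Nat.card_prod, Nat.card_eq_fintype_card (α := Fin idxs.length), Fintype.card_fin] at this
  exact this

end Lists

section Assemble

/-- Two finite groups with the same image in a third one: the first is centerless of order `N`,
the second has order `2 * N` and a central involution in the kernel. -/
theorem assemble {G₁ G₂ Q : Type*} [Group G₁] [Group G₂] [Group Q] [Finite G₁] [Finite G₂]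
    (π₁ : G₁ →* Q) (π₂ : G₂ →* Q) (P : Subgroup Q) (h1 : P ≤ π₁.range) (h2 : P ≤ π₂.range)
    (N : ℕ) (hN : 0 < N) (hG1 : Nat.card G₁ = N) (hG2 : Nat.card G₂ = 2 * N)
    (hP : N ≤ Nat.card P) (hc1 : Subgroup.center G₁ = ⊥) (z : G₂) (hz1 : z ≠ 1)
    (hzc : z ∈ Subgroup.center G₂) (hzk : π₂ z = 1) :
    Nonempty (G₁ ⧸ Subgroup.center G₁ ≃* G₂ ⧸ Subgroup.center G₂) := by
  classical
  have : Finite π₁.range := Finite.of_surjective π₁.rangeRestrict π₁.rangeRestrict_surjective
  have : Finite π₂.range := Finite.of_surjective π₂.rangeRestrict π₂.rangeRestrict_surjective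
  -- orders of kernel and range
  have hkr1 : Nat.card π₁.range * Nat.card π₁.ker = N := by
    rw [← hG1, Subgroup.card_eq_card_quotient_mul_card_subgroup π₁.ker,
      Nat.card_congr (QuotientGroup.quotientKerEquivRange π₁).toEquiv]
  have hkr2 : Nat.card π₂.range * Nat.card π₂.ker = 2 * N := by
    rw [← hG2, Subgroup.card_eq_card_quotient_mul_card_subgroup π₂.ker,
      Nat.card_congr (QuotientGroup.quotientKerEquivRange π₂).toEquiv]
  have hP1 : Nat.card P ≤ Nat.card π₁.range := Subgroup.card_le_of_le h1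
  have hP2 : Nat.card P ≤ Nat.card π₂.range := Subgroup.card_le_of_le h2
  have hk1pos : 0 < Nat.card π₁.ker := Nat.card_pos
  have hk2pos : 0 < Nat.card π₂.ker := Nat.card_pos
  have hr1 : Nat.card π₁.range = N ∧ Nat.card π₁.ker = 1 := by
    have hge : N ≤ Nat.card π₁.range := le_trans hP hP1
    have : Nat.card π₁.ker = 1 := by
      by_contra hne
      have : 2 ≤ Nat.card π₁.ker := by omega
      nlinarith
    refine ⟨?_, this⟩
    rw [this, mul_one] at hkr1
    exact hkr1
  have two_le_card : ∀ H : Subgroup G₂, z ∈ H → 2 ≤ Nat.card H := by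
    intro H hz
    by_contra hlt
    have h1' : Nat.card H = 1 := by
      have : 0 < Nat.card H := Nat.card_pos
      omega
    have hbot := Subgroup.eq_bot_of_card_eq H h1'
    rw [hbot, Subgroup.mem_bot] at hz
    exact hz1 hz
  have hk2two : 2 ≤ Nat.card π₂.ker := two_le_card _ hzk
  have hr2 : Nat.card π₂.range = N ∧ Nat.card π₂.ker = 2 := by
    have hge : N ≤ Nat.card π₂.range := le_trans hP hP2
    have hk : Nat.card π₂.ker = 2 := by
      by_contra hne
      have : 3 ≤ Nat.card π₂.ker := by omega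
      nlinarith
    refine ⟨?_, hk⟩
    rw [hk] at hkr2
    omega
  have hPr1 : P = π₁.range := Subgroup.eq_of_le_of_card_ge h1 (by rw [hr1.1]; exact hP)
  have hPr2 : P = π₂.range := Subgroup.eq_of_le_of_card_ge h2 (by rw [hr2.1]; exact hP)
  have hrr : π₂.range = π₁.range := hPr2.symm.trans hPr1
  have hinj : Function.Injective π₁ := by
    rw [← MonoidHom.ker_eq_bot_iff]
    exact Subgroup.eq_bot_of_card_eq _ hr1.2
  -- the center of `G₂` is the kernel
  have hcle : Subgroup.center G₂ ≤ π₂.ker := by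
    intro c hc
    rw [MonoidHom.mem_ker]
    have hcr : π₂ c ∈ π₁.range := hrr ▸ (⟨c, rfl⟩ : π₂ c ∈ π₂.range)
    obtain ⟨x, hx⟩ := hcr
    have hxc : x ∈ Subgroup.center G₁ := by
      rw [Subgroup.mem_center_iff]
      intro y
      have hyr : π₁ y ∈ π₂.range := hrr.symm ▸ (⟨y, rfl⟩ : π₁ y ∈ π₁.range)
      obtain ⟨d, hd⟩ := hyr
      apply hinj
      rw [map_mul, map_mul, hx, ← hd, ← map_mul, ← map_mul]
      rw [Subgroup.mem_center_iff] at hc
      rw [hc d]
    rw [hc1, Subgroup.mem_bot] at hxc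
    rw [← hx, hxc, map_one]
  have hceq : Subgroup.center G₂ = π₂.ker :=
    Subgroup.eq_of_le_of_card_ge hcle (by rw [hr2.2]; exact two_le_card _ hzc)
  -- the isomorphisms
  have e1 : G₁ ⧸ Subgroup.center G₁ ≃* G₁ :=
    (QuotientGroup.quotientMulEquivOfEq hc1).trans QuotientGroup.quotientBot
  have e2 : G₁ ≃* π₁.range := MonoidHom.ofInjective hinj
  have e3 : π₁.range ≃* π₂.range := MulEquiv.subgroupCongr hrr.symm
  have e4 : G₂ ⧸ π₂.ker ≃* π₂.range := QuotientGroup.quotientKerEquivRange π₂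
  have e5 : G₂ ⧸ Subgroup.center G₂ ≃* G₂ ⧸ π₂.ker := QuotientGroup.quotientMulEquivOfEq hceq
  exact ⟨e1.trans (e2.trans (e3.trans (e4.symm.trans e5.symm)))⟩

end Assemble

end Cfsg.Agent.Helper37.Exc
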