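import Mathlib
import Cfsg.Prelude.Def_Classical

/-!
# Transport of `SU_n` and `Sp_{2m}` along a ring isomorphism
-/

set_option autoImplicit false
set_option linter.unusedSectionVars false

namespace Cfsg.Agent.Helper37.Exc

open Matrix

section SU

variable {F F' : Type*} [Field F] [Field F']

/-- A ring isomorphism induces an isomorphism of special linear groups. -/
def slCongr (n : ℕ) (e : F ≃+* F') :
    Matrix.SpecialLinearGroup (Fin n) F ≃* Matrix.SpecialLinearGroup (Fin n) F' where
  toFun := Matrix.SpecialLinearGroup.map (e : F →+* F')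
  invFun := Matrix.SpecialLinearGroup.map (e.symm : F' →+* F)
  left_inv A := by
    ext i j
    change e.symm (e (A.1 i j)) = A.1 i j
    simp
  right_inv A := by
    ext i j
    change e (e.symm (A.1 i j)) = A.1 i j
    simp
  map_mul' := map_mul _

theorem hermForm_comp (e : F ≃+* F') {n q : ℕ} (u v : Fin n → F) :
    Cfsg.hermForm n F' q (e ∘ u) (e ∘ v) = e (Cfsg.hermForm n F q u v) := by
  simp only [Cfsg.hermForm, map_sum, map_mul, map_pow, Function.comp]

theorem map_mulVec_comp (e : F ≃+* F') {n : ℕ} (A : Matrix (Fin n) (Fin n) F) (w : Fin n → F) :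
    (A.map e) *ᵥ (e ∘ w) = e ∘ (A *ᵥ w) := by
  ext i
  exact (RingHom.map_mulVec (e : F →+* F') A w i).symm

theorem map_mem_SU (e : F ≃+* F') {n q : ℕ} (g : Matrix.SpecialLinearGroup (Fin n) F)
    (hg : g ∈ Cfsg.SU n F q) : slCongr n e g ∈ Cfsg.SU n F' q := by
  intro u v
  obtain ⟨u', rfl⟩ : ∃ u' : Fin n → F, u = e ∘ u' := ⟨e.symm ∘ u, by ext i; simp⟩
  obtain ⟨v', rfl⟩ : ∃ v' : Fin n → F, v = e ∘ v' := ⟨e.symm ∘ v, by ext i; simp⟩
  have e1 : Cfsg.slToMat n F' (slCongr n e g) = (Cfsg.slToMat n F g).map e := rfl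
  rw [e1, map_mulVec_comp, map_mulVec_comp, hermForm_comp, hermForm_comp]
  congr 1
  exact hg u' v'

/-- A ring isomorphism induces an isomorphism of special unitary groups. -/
def suCongr (e : F ≃+* F') (n q : ℕ) : Cfsg.SU n F q ≃* Cfsg.SU n F' q where
  toFun g := ⟨slCongr n e g.1, map_mem_SU e g.1 g.2⟩
  invFun g := ⟨(slCongr n e).symm g.1, map_mem_SU e.symm g.1 g.2⟩
  left_inv g := Subtype.ext ((slCongr n e).symm_apply_apply g.1)
  right_inv g := Subtype.ext ((slCongr n e).apply_symm_apply g.1)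
  map_mul' a b := Subtype.ext (map_mul (slCongr n e) a.1 b.1)

end SU

section Sp

variable {R S : Type*} [CommRing R] [CommRing S] {l : Type*} [Fintype l] [DecidableEq l]

theorem J_map' (f : R →+* S) : (Matrix.J l R).map f = Matrix.J l S := by
  ext i j
  rcases i with i | i <;> rcases j with j | j <;>
    simp [Matrix.J, Matrix.one_apply, apply_ite f]

theorem map_mem_sp' (f : R →+* S) {A : Matrix (l ⊕ l) (l ⊕ l) R}
    (hA : A ∈ Matrix.symplecticGroup l R) : A.map f ∈ Matrix.symplecticGroup l S := by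
  rw [SymplecticGroup.mem_iff] at hA ⊢
  rw [← J_map' f, ← Matrix.transpose_map, ← Matrix.map_mul, ← Matrix.map_mul, hA]

/-- A ring isomorphism induces an isomorphism of symplectic groups. -/
def spCongr' (e : R ≃+* S) : Matrix.symplecticGroup l R ≃* Matrix.symplecticGroup l S where
  toFun A := ⟨A.1.map (e : R →+* S), map_mem_sp' (e : R →+* S) A.2⟩
  invFun B := ⟨B.1.map (e.symm : S →+* R), map_mem_sp' (e.symm : S →+* R) B.2⟩
  left_inv A := by
    apply Subtype.ext
    ext i j
    simp
  right_inv B := by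
    apply Subtype.ext
    ext i j
    simp
  map_mul' A B := by
    apply Subtype.ext
    exact Matrix.map_mul

end Sp

end Cfsg.Agent.Helper37.Exc
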