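import Mathlib
import Cfsg.Prelude.Def_Classical
import Cfsg.Agent.Lib.Lead.UnitaryGroupCard
import Cfsg.Agent.Lib.Helper37.ExcA

/-!
# `SU_4(2)` on the 40 nonisotropic points of `F_4^4`
-/

set_option autoImplicit false

namespace Cfsg.Agent.Helper37.Exc

open Matrix

/-- The field with four elements. -/
abbrev F4 : Type := QuadraticAlgebra (ZMod 2) 1 1

instance factF4 : Fact (∀ r : ZMod 2, r ^ 2 ≠ 1 + 1 * r) := ⟨by decide⟩

instance fintypeF4 : Fintype F4 :=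
  Fintype.ofEquiv (ZMod 2 × ZMod 2) (QuadraticAlgebra.equivProd 1 1).symm

theorem card_F4 : Fintype.card F4 = 2 ^ 2 := by
  rw [Fintype.card_congr (QuadraticAlgebra.equivProd (1 : ZMod 2) 1), Fintype.card_prod]
  rfl

/-- A primitive element. -/
def w : F4 := ⟨0, 1⟩
/-- Its square. -/
def w2 : F4 := ⟨1, 1⟩

/-- The Hermitian form, written out. -/
def herm4 (u v : Fin 4 → F4) : F4 :=
  u 0 * v 0 ^ 2 + u 1 * v 1 ^ 2 + u 2 * v 2 ^ 2 + u 3 * v 3 ^ 2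

theorem hermForm_eq (u v : Fin 4 → F4) : Cfsg.hermForm 4 F4 2 u v = herm4 u v := by
  simp [Cfsg.hermForm, Fin.sum_univ_four, herm4]

/-- Matrix times vector, written out. -/
def mv4 (A : Matrix (Fin 4) (Fin 4) F4) (v : Fin 4 → F4) (k : Fin 4) : F4 :=
  A k 0 * v 0 + A k 1 * v 1 + A k 2 * v 2 + A k 3 * v 3

theorem mulVec_eq4 (A : Matrix (Fin 4) (Fin 4) F4) (v : Fin 4 → F4) : A *ᵥ v = mv4 A v := by
  funext k
  simp [Matrix.mulVec, dotProduct, Fin.sum_univ_four, mv4]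

/-- Representatives of the 40 nonisotropic points. -/
def tbl1 : List (Fin 4 → F4) :=
  [![0, 0, 0, 1],
  ![0, 0, 1, 0],
  ![0, 1, 0, 0],
  ![0, 1, 1, 1],
  ![0, 1, 1, w],
  ![0, 1, 1, w2],
  ![0, 1, w, 1],
  ![0, 1, w, w],
  ![0, 1, w, w2],
  ![0, 1, w2, 1],
  ![0, 1, w2, w],
  ![0, 1, w2, w2],
  ![1, 0, 0, 0],
  ![1, 0, 1, 1],
  ![1, 0, 1, w],
  ![1, 0, 1, w2],
  ![1, 0, w, 1],
  ![1, 0, w, w],
  ![1, 0, w, w2],
  ![1, 0, w2, 1],
  ![1, 0, w2, w],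
  ![1, 0, w2, w2],
  ![1, 1, 0, 1],
  ![1, 1, 0, w],
  ![1, 1, 0, w2],
  ![1, 1, 1, 0],
  ![1, 1, w, 0],
  ![1, 1, w2, 0],
  ![1, w, 0, 1],
  ![1, w, 0, w],
  ![1, w, 0, w2],
  ![1, w, 1, 0],
  ![1, w, w, 0],
  ![1, w, w2, 0],
  ![1, w2, 0, 1],
  ![1, w2, 0, w],
  ![1, w2, 0, w2],
  ![1, w2, 1, 0],
  ![1, w2, w, 0],
  ![1, w2, w2, 0]]

/-- The representative with a given number. -/
def rep1N (k : ℕ) : Fin 4 → F4 := tbl1.getD k 0

/-- The representatives. -/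
def rep1 (i : Fin 40) : Fin 4 → F4 := rep1N i

/-- `SU_4(2)` as matrices. -/
def rho1 : Cfsg.SU 4 F4 2 →* Matrix (Fin 4) (Fin 4) F4 :=
  (Cfsg.slToMat 4 F4).comp (Cfsg.SU 4 F4 2).subtype

theorem d1 : ∀ i : Fin 40, herm4 (rep1N i) (rep1N i) ≠ 0 := by decide +kernel

theorem d3 : ∀ i j : Fin 40, ∀ t : F4, t ≠ 0 → (∀ k : Fin 4, rep1N i k = t * rep1N j k) →
    i = j := by
  decide +kernel

theorem d2 : ∀ a b c d : F4, herm4 ![a, b, c, d] ![a, b, c, d] ≠ 0 →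
    ∃ i : Fin 40, ∃ t : F4, t ≠ 0 ∧ ∀ k : Fin 4, ![a, b, c, d] k = t * rep1N i k := by
  decide +kernel

theorem psys1 : PSys rho1 (fun v => herm4 v v ≠ 0) 40 rep1 where
  inv g v hv := by
    have h := g.2 v v
    rw [hermForm_eq, hermForm_eq] at h
    show herm4 (rho1 g *ᵥ v) (rho1 g *ᵥ v) ≠ 0
    have e : rho1 g = Cfsg.slToMat 4 F4 g.1 := rfl
    rw [e, h]
    exact hv
  rep_mem i := d1 i
  cover v hv := by
    have hv' : v = ![v 0, v 1, v 2, v 3] := by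
      funext k
      fin_cases k <;> rfl
    rw [hv'] at hv
    obtain ⟨i, t, ht, h⟩ := d2 _ _ _ _ hv
    refine ⟨i, t, ht, ?_⟩
    rw [hv']
    funext k
    exact h k
  uniq i j c hc h := d3 i j c hc (fun k => congrFun h k)

/-- The permutation representation of `SU_4(2)` on the 40 points. -/
noncomputable def pi1 : Cfsg.SU 4 F4 2 →* Equiv.Perm (Fin 40) := psys1.hom

theorem mem_SU_of (A : Matrix (Fin 4) (Fin 4) F4) (hdet : A.det = 1)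
    (h : ∀ i j : Fin 4, herm4 (fun k => A k i) (fun k => A k j) = if i = j then 1 else 0) :
    (⟨A, hdet⟩ : Matrix.SpecialLinearGroup (Fin 4) F4) ∈ Cfsg.SU 4 F4 2 := by
  intro u v
  have hA : Cfsg.slToMat 4 F4 ⟨A, hdet⟩ = Cfsg.Agent.Lead.colMat (fun j k => A k j) :=
    Matrix.ext (fun i j => rfl)
  rw [hA]
  refine Cfsg.Agent.Lead.colMat_preserves card_F4 _ (fun i j => ?_) u v
  rw [Cfsg.Agent.Lead.stdHerm_apply, hermForm_eq]
  exact h i j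

theorem pi1_eq_of_list (g : Cfsg.SU 4 F4 2) (A : Matrix (Fin 4) (Fin 4) F4) (hA : rho1 g = A)
    (l : List ℕ) (hl : l.length = 40)
    (h : ∀ i : Fin 40, l.getD i 0 < 40 ∧ ∃ t : F4, t ≠ 0 ∧
      ∀ k : Fin 4, mv4 A (rep1N i) k = t * rep1N (l.getD i 0) k) : toL (pi1 g) = l := by
  apply toL_eq_of _ _ hl
  intro i
  obtain ⟨hlt, t, ht, hk⟩ := h i
  have : pi1 g i = ⟨l.getD i 0, hlt⟩ := by
    refine (psys1.hom_apply_eq_iff g i _).2 ⟨t, ht, ?_⟩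
    rw [hA, mulVec_eq4]
    funext k
    exact hk k
  rw [this]

/-! ### The generators -/

/-- A generator, as a matrix. -/
def A0 : Matrix (Fin 4) (Fin 4) F4 := !![0, 1, 0, 0; 0, 0, 1, 0; 1, 0, 0, 0; 0, 0, 0, 1]

theorem A0_det : A0.det = 1 := by decide +kernel

theorem A0_orth : ∀ i j : Fin 4, herm4 (fun k => A0 k i) (fun k => A0 k j) = if i = j then 1 else 0 := by
  decide +kernel

/-- A generator of `SU_4(2)`. -/
def a0 : Cfsg.SU 4 F4 2 := ⟨⟨A0, A0_det⟩, mem_SU_of A0 A0_det A0_orth⟩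

/-- The permutation of a generator. -/
def l0 : List ℕ := [0, 2, 12, 22, 23, 24, 28, 29, 30, 34, 35, 36, 1, 3, 4, 5, 11, 9, 10, 7, 8, 6, 13, 14, 15, 25, 31, 37, 21, 19, 20, 39, 27, 33, 17, 18, 16, 32, 38, 26]

theorem pi1_a0 : toL (pi1 a0) = l0 :=
  pi1_eq_of_list a0 A0 rfl l0 rfl (by decide +kernel)

/-- A generator, as a matrix. -/
def A1 : Matrix (Fin 4) (Fin 4) F4 := !![0, 1, 0, 0; 1, 0, 0, 0; 0, 0, 0, 1; 0, 0, 1, 0]

theorem A1_det : A1.det = 1 := by decide +kernel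

theorem A1_orth : ∀ i j : Fin 4, herm4 (fun k => A1 k i) (fun k => A1 k j) = if i = j then 1 else 0 := by
  decide +kernel

/-- A generator of `SU_4(2)`. -/
def a1 : Cfsg.SU 4 F4 2 := ⟨⟨A1, A1_det⟩, mem_SU_of A1 A1_det A1_orth⟩

/-- The permutation of a generator. -/
def l1 : List ℕ := [1, 0, 12, 13, 16, 19, 14, 17, 20, 15, 18, 21, 2, 3, 6, 9, 4, 7, 10, 5, 8, 11, 25, 26, 27, 22, 23, 24, 39, 37, 38, 36, 34, 35, 32, 33, 31, 29, 30, 28]

theorem pi1_a1 : toL (pi1 a1) = l1 :=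
  pi1_eq_of_list a1 A1 rfl l1 rfl (by decide +kernel)

/-- A generator, as a matrix. -/
def A2 : Matrix (Fin 4) (Fin 4) F4 := !![w, 0, 0, 0; 0, w2, 0, 0; 0, 0, 1, 0; 0, 0, 0, 1]

theorem A2_det : A2.det = 1 := by decide +kernel

theorem A2_orth : ∀ i j : Fin 4, herm4 (fun k => A2 k i) (fun k => A2 k j) = if i = j then 1 else 0 := by
  decide +kernel

/-- A generator of `SU_4(2)`. -/
def a2 : Cfsg.SU 4 F4 2 := ⟨⟨A2, A2_det⟩, mem_SU_of A2 A2_det A2_orth⟩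

/-- The permutation of a generator. -/
def l2 : List ℕ := [0, 1, 2, 7, 8, 6, 10, 11, 9, 4, 5, 3, 12, 21, 19, 20, 15, 13, 14, 18, 16, 17, 30, 28, 29, 33, 31, 32, 36, 34, 35, 39, 37, 38, 24, 22, 23, 27, 25, 26]

theorem pi1_a2 : toL (pi1 a2) = l2 :=
  pi1_eq_of_list a2 A2 rfl l2 rfl (by decide +kernel)

/-- A generator, as a matrix. -/
def A3 : Matrix (Fin 4) (Fin 4) F4 := !![1, 1, 1, 0; 1, w, w2, 0; 1, w2, w, 0; 0, 0, 0, 1]

theorem A3_det : A3.det = 1 := by decide +kernel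

theorem A3_orth : ∀ i j : Fin 4, herm4 (fun k => A3 k i) (fun k => A3 k j) = if i = j then 1 else 0 := by
  decide +kernel

/-- A generator of `SU_4(2)`. -/
def a3 : Cfsg.SU 4 F4 2 := ⟨⟨A3, A3_det⟩, mem_SU_of A3 A3_det A3_orth⟩

/-- The permutation of a generator. -/
def l3 : List ℕ := [0, 38, 33, 3, 4, 5, 23, 24, 22, 15, 13, 14, 25, 8, 6, 7, 20, 21, 19, 30, 28, 29, 10, 11, 9, 12, 27, 31, 35, 36, 34, 37, 39, 1, 18, 16, 17, 26, 2, 32]

theorem pi1_a3 : toL (pi1 a3) = l3 :=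
  pi1_eq_of_list a3 A3 rfl l3 rfl (by decide +kernel)

end Cfsg.Agent.Helper37.Exc
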