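import Mathlib
import Cfsg.Agent.Lib.Helper37.ExcA

/-!
# `Sp_4(3)` on the 40 points of `F_3^4`
-/

set_option autoImplicit false

namespace Cfsg.Agent.Helper37.Exc

open Matrix

/-- The index type of `Sp_4`. -/
abbrev I4 : Type := Fin 2 ⊕ Fin 2

/-- Matrix times vector, written out. -/
def mvS (A : Matrix I4 I4 (ZMod 3)) (v : I4 → ZMod 3) (k : I4) : ZMod 3 :=
  A k (Sum.inl 0) * v (Sum.inl 0) + A k (Sum.inl 1) * v (Sum.inl 1) +
    A k (Sum.inr 0) * v (Sum.inr 0) + A k (Sum.inr 1) * v (Sum.inr 1)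

theorem mulVec_eqS (A : Matrix I4 I4 (ZMod 3)) (v : I4 → ZMod 3) : A *ᵥ v = mvS A v := by
  funext k
  simp [Matrix.mulVec, dotProduct, Fintype.sum_sum_type, Fin.sum_univ_two, mvS, add_assoc]

/-- Representatives of the 40 points. -/
def tbl2 : List (I4 → ZMod 3) :=
  [Sum.elim ![0, 0] ![0, 1],
  Sum.elim ![0, 0] ![1, 0],
  Sum.elim ![0, 0] ![1, 1],
  Sum.elim ![1, 1] ![0, 0],
  Sum.elim ![1, 1] ![0, 1],
  Sum.elim ![1, 1] ![0, 2],
  Sum.elim ![1, 1] ![1, 0],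
  Sum.elim ![1, 1] ![1, 1],
  Sum.elim ![1, 1] ![1, 2],
  Sum.elim ![1, 1] ![2, 0],
  Sum.elim ![1, 1] ![2, 1],
  Sum.elim ![1, 1] ![2, 2],
  Sum.elim ![0, 0] ![1, 2],
  Sum.elim ![1, 2] ![0, 0],
  Sum.elim ![1, 2] ![0, 2],
  Sum.elim ![1, 2] ![0, 1],
  Sum.elim ![1, 2] ![1, 0],
  Sum.elim ![1, 2] ![1, 2],
  Sum.elim ![1, 2] ![1, 1],
  Sum.elim ![1, 2] ![2, 0],
  Sum.elim ![1, 2] ![2, 2],
  Sum.elim ![1, 2] ![2, 1],
  Sum.elim ![0, 1] ![0, 0],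
  Sum.elim ![0, 1] ![0, 1],
  Sum.elim ![0, 1] ![0, 2],
  Sum.elim ![1, 0] ![0, 0],
  Sum.elim ![1, 0] ![1, 0],
  Sum.elim ![1, 0] ![2, 0],
  Sum.elim ![0, 1] ![1, 1],
  Sum.elim ![0, 1] ![1, 2],
  Sum.elim ![0, 1] ![1, 0],
  Sum.elim ![1, 0] ![1, 1],
  Sum.elim ![1, 0] ![2, 1],
  Sum.elim ![1, 0] ![0, 1],
  Sum.elim ![0, 1] ![2, 2],
  Sum.elim ![0, 1] ![2, 0],
  Sum.elim ![0, 1] ![2, 1],
  Sum.elim ![1, 0] ![2, 2],
  Sum.elim ![1, 0] ![0, 2],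
  Sum.elim ![1, 0] ![1, 2]]

/-- The representative with a given number. -/
def rep2N (k : ℕ) : I4 → ZMod 3 := tbl2.getD k 0

/-- The representatives. -/
def rep2 (i : Fin 40) : I4 → ZMod 3 := rep2N i

/-- `Sp_4(3)` as matrices. -/
def rho2 : Matrix.symplecticGroup (Fin 2) (ZMod 3) →* Matrix I4 I4 (ZMod 3) :=
  (Matrix.symplecticGroup (Fin 2) (ZMod 3)).subtype

theorem e1 : ∀ i : Fin 40, ∃ k : I4, rep2N i k ≠ 0 := by decide +kernel

theorem e3 : ∀ i j : Fin 40, ∀ t : ZMod 3, t ≠ 0 → (∀ k : I4, rep2N i k = t * rep2N j k) →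
    i = j := by
  decide +kernel

theorem e2 : ∀ a b c d : ZMod 3, (∃ k : I4, (Sum.elim ![a, b] ![c, d] : I4 → ZMod 3) k ≠ 0) →
    ∃ i : Fin 40, ∃ t : ZMod 3, t ≠ 0 ∧
      ∀ k : I4, (Sum.elim ![a, b] ![c, d] : I4 → ZMod 3) k = t * rep2N i k := by
  decide +kernel

theorem psys2 : PSys rho2 (fun v => v ≠ 0) 40 rep2 where
  inv g v hv := by
    intro h0
    apply hv
    have : rho2 g⁻¹ *ᵥ (rho2 g *ᵥ v) = v := by
      rw [Matrix.mulVec_mulVec, ← map_mul, inv_mul_cancel, map_one, Matrix.one_mulVec]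
    rw [← this, h0, Matrix.mulVec_zero]
  rep_mem i := by
    obtain ⟨k, hk⟩ := e1 i
    intro h0
    apply hk
    show rep2 i k = 0
    rw [h0]
    rfl
  cover v hv := by
    have hv' : v = Sum.elim ![v (Sum.inl 0), v (Sum.inl 1)] ![v (Sum.inr 0), v (Sum.inr 1)] := by
      funext k
      rcases k with k | k <;> fin_cases k <;> rfl
    have hex : ∃ k : I4, v k ≠ 0 := by
      by_contra hne
      push Not at hne
      exact hv (funext hne)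
    rw [hv'] at hex
    obtain ⟨i, t, ht, h⟩ := e2 _ _ _ _ hex
    refine ⟨i, t, ht, ?_⟩
    rw [hv']
    funext k
    exact h k
  uniq i j c hc h := e3 i j c hc (fun k => congrFun h k)

/-- The permutation representation of `Sp_4(3)` on the 40 points. -/
noncomputable def pi2 : Matrix.symplecticGroup (Fin 2) (ZMod 3) →* Equiv.Perm (Fin 40) := psys2.hom

theorem pi2_eq_of_list (g : Matrix.symplecticGroup (Fin 2) (ZMod 3)) (A : Matrix I4 I4 (ZMod 3))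
    (hA : rho2 g = A) (l : List ℕ) (hl : l.length = 40)
    (h : ∀ i : Fin 40, l.getD i 0 < 40 ∧ ∃ t : ZMod 3, t ≠ 0 ∧
      ∀ k : I4, mvS A (rep2N i) k = t * rep2N (l.getD i 0) k) : toL (pi2 g) = l := by
  apply toL_eq_of _ _ hl
  intro i
  obtain ⟨hlt, t, ht, hk⟩ := h i
  have : pi2 g i = ⟨l.getD i 0, hlt⟩ := by
    refine (psys2.hom_apply_eq_iff g i _).2 ⟨t, ht, ?_⟩
    rw [hA, mulVec_eqS]
    funext k
    exact hk k
  rw [this]

/-- The central involution. -/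
def zSp : Matrix.symplecticGroup (Fin 2) (ZMod 3) :=
  ⟨-1, SymplecticGroup.neg_mem (Submonoid.one_mem _)⟩

theorem zSp_ne_one : zSp ≠ 1 := by
  intro h
  have h1 : (-1 : Matrix I4 I4 (ZMod 3)) = 1 := congrArg Subtype.val h
  have h2 := congrFun (congrFun h1 (Sum.inl 0)) (Sum.inl 0)
  revert h2
  simp only [Matrix.neg_apply, Matrix.one_apply_eq]
  decide

theorem zSp_mem_center : zSp ∈ Subgroup.center (Matrix.symplecticGroup (Fin 2) (ZMod 3)) := by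
  rw [Subgroup.mem_center_iff]
  intro g
  apply Subtype.ext
  show g.1 * (-1) = (-1) * g.1
  rw [mul_neg, neg_mul, mul_one, one_mul]

theorem pi2_zSp : pi2 zSp = 1 := by
  apply psys2.hom_eq_one_of_scalar zSp (-1) (by decide)
  show (-1 : Matrix I4 I4 (ZMod 3)) = (-1 : ZMod 3) • (1 : Matrix I4 I4 (ZMod 3))
  rw [neg_smul, one_smul]

/-! ### The generators -/

/-- A generator, as a matrix. -/
def B0 : Matrix I4 I4 (ZMod 3) := Matrix.fromBlocks !![2, 1; 0, 2] !![0, 0; 0, 0] !![0, 0; 0, 0] !![2, 0; 2, 2]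

theorem B0_mem : B0 ∈ Matrix.symplecticGroup (Fin 2) (ZMod 3) := by
  rw [SymplecticGroup.mem_iff]
  decide +kernel

/-- A generator of `Sp_4(3)`. -/
def b0 : Matrix.symplecticGroup (Fin 2) (ZMod 3) := ⟨B0, B0_mem⟩

/-- The permutation of a generator. -/
def m0 : List ℕ := [0, 2, 12, 22, 23, 24, 28, 29, 30, 34, 35, 36, 1, 3, 4, 5, 11, 9, 10, 7, 8, 6, 13, 14, 15, 25, 31, 37, 21, 19, 20, 39, 27, 33, 17, 18, 16, 32, 38, 26]

theorem pi2_b0 : toL (pi2 b0) = m0 :=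
  pi2_eq_of_list b0 B0 rfl m0 rfl (by decide +kernel)

/-- A generator, as a matrix. -/
def B1 : Matrix I4 I4 (ZMod 3) := Matrix.fromBlocks !![0, 1; 2, 0] !![0, 0; 0, 0] !![0, 0; 0, 0] !![0, 1; 2, 0]

theorem B1_mem : B1 ∈ Matrix.symplecticGroup (Fin 2) (ZMod 3) := by
  rw [SymplecticGroup.mem_iff]
  decide +kernel

/-- A generator of `Sp_4(3)`. -/
def b1 : Matrix.symplecticGroup (Fin 2) (ZMod 3) := ⟨B1, B1_mem⟩

/-- The permutation of a generator. -/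
def m1 : List ℕ := [1, 0, 12, 13, 16, 19, 14, 17, 20, 15, 18, 21, 2, 3, 6, 9, 4, 7, 10, 5, 8, 11, 25, 26, 27, 22, 23, 24, 39, 37, 38, 36, 34, 35, 32, 33, 31, 29, 30, 28]

theorem pi2_b1 : toL (pi2 b1) = m1 :=
  pi2_eq_of_list b1 B1 rfl m1 rfl (by decide +kernel)

/-- A generator, as a matrix. -/
def B2 : Matrix I4 I4 (ZMod 3) := Matrix.fromBlocks !![1, 0; 0, 1] !![0, 0; 0, 0] !![0, 1; 1, 0] !![1, 0; 0, 1]

theorem B2_mem : B2 ∈ Matrix.symplecticGroup (Fin 2) (ZMod 3) := by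
  rw [SymplecticGroup.mem_iff]
  decide +kernel

/-- A generator of `Sp_4(3)`. -/
def b2 : Matrix.symplecticGroup (Fin 2) (ZMod 3) := ⟨B2, B2_mem⟩

/-- The permutation of a generator. -/
def m2 : List ℕ := [0, 1, 2, 7, 8, 6, 10, 11, 9, 4, 5, 3, 12, 21, 19, 20, 15, 13, 14, 18, 16, 17, 30, 28, 29, 33, 31, 32, 36, 34, 35, 39, 37, 38, 24, 22, 23, 27, 25, 26]

theorem pi2_b2 : toL (pi2 b2) = m2 :=
  pi2_eq_of_list b2 B2 rfl m2 rfl (by decide +kernel)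

/-- A generator, as a matrix. -/
def B3 : Matrix I4 I4 (ZMod 3) := Matrix.fromBlocks !![0, 1; 0, 1] !![2, 0; 0, 0] !![1, 2; 2, 1] !![0, 0; 1, 1]

theorem B3_mem : B3 ∈ Matrix.symplecticGroup (Fin 2) (ZMod 3) := by
  rw [SymplecticGroup.mem_iff]
  decide +kernel

/-- A generator of `Sp_4(3)`. -/
def b3 : Matrix.symplecticGroup (Fin 2) (ZMod 3) := ⟨B3, B3_mem⟩

/-- The permutation of a generator. -/
def m3 : List ℕ := [0, 38, 33, 3, 4, 5, 23, 24, 22, 15, 13, 14, 25, 8, 6, 7, 20, 21, 19, 30, 28, 29, 10, 11, 9, 12, 27, 31, 35, 36, 34, 37, 39, 1, 18, 16, 17, 26, 2, 32]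

theorem pi2_b3 : toL (pi2 b3) = m3 :=
  pi2_eq_of_list b3 B3 rfl m3 rfl (by decide +kernel)

end Cfsg.Agent.Helper37.Exc
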