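import Mathlib
import Cfsg.Agent.Lib.Helper37.ExcA

/-!
# More tools: images of homomorphisms, tables of pairs of permutations, Sylow subgroups

* `hom_range_eq`, `assemble_iso`: variants of `assemble` that name the common image.
* tables of pairs of permutations (a subgroup of a product of two symmetric groups given by a list
  of its elements) and what they say about the two projections.
* `sylow_transfer`: a group of the right order that embeds in `G` is isomorphic to each Sylow
  subgroup.
-/

set_option autoImplicit false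

namespace Cfsg.Agent.Helper37.Exc

open Equiv

section Range

theorem hom_range_eq {G Q : Type*} [Group G] [Group Q] [Finite G] (π : G →* Q) (P : Subgroup Q)
    (h1 : P ≤ π.range) (hc : Nat.card G ≤ Nat.card P) : Function.Injective π ∧ π.range = P := by
  classical
  have : Finite π.range := Finite.of_surjective π.rangeRestrict π.rangeRestrict_surjective
  have hkr : Nat.card π.range * Nat.card π.ker = Nat.card G := by
    rw [Subgroup.card_eq_card_quotient_mul_card_subgroup π.ker,
      Nat.card_congr (QuotientGroup.quotientKerEquivRange π).toEquiv]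
  have hP1 : Nat.card P ≤ Nat.card π.range := Subgroup.card_le_of_le h1
  have hkpos : 0 < Nat.card π.ker := Nat.card_pos
  have hGpos : 0 < Nat.card G := Nat.card_pos
  have hk : Nat.card π.ker = 1 := by
    by_contra hne
    have : 2 ≤ Nat.card π.ker := by omega
    nlinarith
  rw [hk, mul_one] at hkr
  refine ⟨?_, ?_⟩
  · rw [← MonoidHom.ker_eq_bot_iff]
    exact Subgroup.eq_bot_of_card_eq _ hk
  · exact (Subgroup.eq_of_le_of_card_ge h1 (by omega)).symm

/-- As `assemble`, but with the common image named. -/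
theorem assemble_iso {G₁ G₂ Q : Type*} [Group G₁] [Group G₂] [Group Q] [Finite G₁] [Finite G₂]
    (π₁ : G₁ →* Q) (π₂ : G₂ →* Q) (P : Subgroup Q) (h1 : P ≤ π₁.range) (h2 : P ≤ π₂.range)
    (N : ℕ) (hN : 0 < N) (hG1 : Nat.card G₁ = N) (hG2 : Nat.card G₂ = 2 * N)
    (hP : N ≤ Nat.card P) (hc1 : Subgroup.center G₁ = ⊥) (z : G₂) (hz1 : z ≠ 1)
    (hzc : z ∈ Subgroup.center G₂) (hzk : π₂ z = 1) :
    Nonempty (G₂ ⧸ Subgroup.center G₂ ≃* P) ∧ Nat.card P = N := by
  classical
  have : Finite π₂.range := Finite.of_surjective π₂.rangeRestrict π₂.rangeRestrict_surjective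
  obtain ⟨hinj, hPr1⟩ := hom_range_eq π₁ P h1 (by rw [hG1]; exact hP)
  have hcardP : Nat.card P = N := by
    rw [← hPr1, ← hG1]
    exact (Nat.card_congr (MonoidHom.ofInjective hinj).toEquiv).symm
  have hkr2 : Nat.card π₂.range * Nat.card π₂.ker = 2 * N := by
    rw [← hG2, Subgroup.card_eq_card_quotient_mul_card_subgroup π₂.ker,
      Nat.card_congr (QuotientGroup.quotientKerEquivRange π₂).toEquiv]
  have hP2 : Nat.card P ≤ Nat.card π₂.range := Subgroup.card_le_of_le h2
  have two_le_card : ∀ H : Subgroup G₂, z ∈ H → 2 ≤ Nat.card H := by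
    intro H hz
    by_contra hlt
    have h1' : Nat.card H = 1 := by
      have : 0 < Nat.card H := Nat.card_pos
      omega
    have hbot := Subgroup.eq_bot_of_card_eq H h1'
    rw [hbot, Subgroup.mem_bot] at hz
    exact hz1 hz
  have hk2two : 2 ≤ Nat.card π₂.ker := two_le_card _ hzk
  have hr2 : Nat.card π₂.range = N ∧ Nat.card π₂.ker = 2 := by
    have hge : N ≤ Nat.card π₂.range := le_trans hP hP2
    have hk : Nat.card π₂.ker = 2 := by
      by_contra hne
      have : 3 ≤ Nat.card π₂.ker := by omega
      nlinarith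
    refine ⟨?_, hk⟩
    rw [hk] at hkr2
    omega
  have hPr2 : P = π₂.range := Subgroup.eq_of_le_of_card_ge h2 (by rw [hr2.1]; exact hP)
  have hrr : π₂.range = π₁.range := hPr2.symm.trans hPr1.symm
  have hcle : Subgroup.center G₂ ≤ π₂.ker := by
    intro c hc
    rw [MonoidHom.mem_ker]
    have hcr : π₂ c ∈ π₁.range := hrr ▸ (⟨c, rfl⟩ : π₂ c ∈ π₂.range)
    obtain ⟨x, hx⟩ := hcr
    have hxc : x ∈ Subgroup.center G₁ := by
      rw [Subgroup.mem_center_iff]
      intro y
      have hyr : π₁ y ∈ π₂.range := hrr.symm ▸ (⟨y, rfl⟩ : π₁ y ∈ π₁.range)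
      obtain ⟨d, hd⟩ := hyr
      apply hinj
      rw [map_mul, map_mul, hx, ← hd, ← map_mul, ← map_mul]
      rw [Subgroup.mem_center_iff] at hc
      rw [hc d]
    rw [hc1, Subgroup.mem_bot] at hxc
    rw [← hx, hxc, map_one]
  have hceq : Subgroup.center G₂ = π₂.ker :=
    Subgroup.eq_of_le_of_card_ge hcle (by rw [hr2.2]; exact two_le_card _ hzc)
  have e4 : G₂ ⧸ π₂.ker ≃* π₂.range := QuotientGroup.quotientKerEquivRange π₂
  have e5 : G₂ ⧸ Subgroup.center G₂ ≃* G₂ ⧸ π₂.ker := QuotientGroup.quotientMulEquivOfEq hceq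
  have e6 : π₂.range ≃* P := MulEquiv.subgroupCongr hPr2.symm
  exact ⟨⟨e5.trans (e4.trans e6)⟩, hcardP⟩

end Range

section Pairs

variable {n m : ℕ}

/-- A pair of permutations as a pair of lists of values. -/
def toL2 (x : Perm (Fin n) × Perm (Fin m)) : List ℕ × List ℕ := (toL x.1, toL x.2)

theorem toL2_injective : Function.Injective (toL2 (n := n) (m := m)) := by
  intro x y h
  have h1 : toL x.1 = toL y.1 := congrArg Prod.fst h
  have h2 : toL x.2 = toL y.2 := congrArg Prod.snd h
  exact Prod.ext (toL_injective h1) (toL_injective h2)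

/-- Composition of pairs of lists of values. -/
def compL2 (a b : List ℕ × List ℕ) : List ℕ × List ℕ := (compL a.1 b.1, compL a.2 b.2)

theorem compL2_toL2 (x y : Perm (Fin n) × Perm (Fin m)) :
    compL2 (toL2 x) (toL2 y) = toL2 (x * y) := by
  unfold compL2 toL2
  simp only [compL_toL, Prod.fst_mul, Prod.snd_mul]

/-- A checked table of pairs of permutations. -/
theorem table_sound2 (D : Subgroup (Perm (Fin n) × Perm (Fin m))) (T : List (List ℕ × List ℕ))
    (ng : ℕ) (hgen : ∀ k < ng, ∃ x ∈ D, T.getD k ([], []) = toL2 x) (prog : List (ℕ × ℕ))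
    (hprog : ∀ k < prog.length, (prog.getD k (0, 0)).1 < ng + k ∧ (prog.getD k (0, 0)).2 < ng + k ∧
      T.getD (ng + k) ([], []) =
        compL2 (T.getD (prog.getD k (0, 0)).1 ([], [])) (T.getD (prog.getD k (0, 0)).2 ([], []))) :
    ∀ k < ng + prog.length, ∃ x ∈ D, T.getD k ([], []) = toL2 x := by
  intro k
  induction k using Nat.strong_induction_on with
  | _ k ih =>
    intro hk
    rcases Nat.lt_or_ge k ng with h | h
    · exact hgen k h
    · obtain ⟨j, rfl⟩ : ∃ j, k = ng + j := ⟨k - ng, by omega⟩
      have hj : j < prog.length := by omega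
      obtain ⟨h1, h2, h3⟩ := hprog j hj
      obtain ⟨σ, hσ, e1⟩ := ih _ h1 (by omega)
      obtain ⟨τ, hτ, e2⟩ := ih _ h2 (by omega)
      refine ⟨σ * τ, D.mul_mem hσ hτ, ?_⟩
      rw [h3, e1, e2, compL2_toL2]

/-- If the table contains the identity and is closed under the generators, it contains the
group they generate. -/
theorem closed_mem (gens : Set (Perm (Fin n) × Perm (Fin m))) (T : List (List ℕ × List ℕ))
    (h1 : toL2 (1 : Perm (Fin n) × Perm (Fin m)) ∈ T)
    (hcl : ∀ g ∈ gens, ∀ t ∈ T, compL2 (toL2 g) t ∈ T) :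
    ∀ x ∈ Subgroup.closure gens, toL2 x ∈ T := by
  classical
  have key : ∀ x ∈ Subgroup.closure gens,
      ∀ y : Perm (Fin n) × Perm (Fin m), toL2 y ∈ T → toL2 (x * y) ∈ T := by
    intro x hx
    induction hx using Subgroup.closure_induction with
    | mem g hg =>
      intro y hy
      rw [← compL2_toL2]
      exact hcl g hg _ hy
    | one =>
      intro y hy
      rw [one_mul]
      exact hy
    | mul a b _ _ iha ihb =>
      intro y hy
      rw [mul_assoc]
      exact iha _ (ihb _ hy)
    | inv a _ iha =>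
      intro y hy
      let Ls : Finset (Perm (Fin n) × Perm (Fin m)) := Finset.univ.filter (fun z => toL2 z ∈ T)
      have hsub : Ls.image (fun z => a * z) ⊆ Ls := by
        intro w hw
        rw [Finset.mem_image] at hw
        obtain ⟨z, hz, rfl⟩ := hw
        rw [Finset.mem_filter] at hz ⊢
        exact ⟨Finset.mem_univ _, iha z hz.2⟩
      have hcard : Ls.card ≤ (Ls.image (fun z => a * z)).card := by
        rw [Finset.card_image_of_injective _ (mul_right_injective a)]
      have heq := Finset.eq_of_subset_of_card_le hsub hcard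
      have hyL : y ∈ Ls := by
        rw [Finset.mem_filter]
        exact ⟨Finset.mem_univ _, hy⟩
      rw [← heq, Finset.mem_image] at hyL
      obtain ⟨z, hz, hzy⟩ := hyL
      rw [Finset.mem_filter] at hz
      have : a⁻¹ * y = z := by rw [← hzy, inv_mul_cancel_left]
      rw [this]
      exact hz.2
  intro x hx
  have := key x hx 1 h1
  rwa [mul_one] at this

/-- What a closed table with distinct first (second) components says. -/
theorem diag_facts (gens : Set (Perm (Fin n) × Perm (Fin m))) (T : List (List ℕ × List ℕ))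
    (hsound : ∀ t ∈ T, ∃ x ∈ Subgroup.closure gens, t = toL2 x)
    (hmem : ∀ x ∈ Subgroup.closure gens, toL2 x ∈ T)
    (hnd1 : (T.map Prod.fst).Nodup) (hnd2 : (T.map Prod.snd).Nodup) :
    Nat.card (Subgroup.closure gens) = T.length ∧
      (∀ x ∈ Subgroup.closure gens, ∀ y ∈ Subgroup.closure gens, x.1 = y.1 → x = y) ∧
      (∀ x ∈ Subgroup.closure gens, ∀ y ∈ Subgroup.closure gens, x.2 = y.2 → x = y) := by
  classical
  have hnd : T.Nodup := List.Nodup.of_map _ hnd1
  refine ⟨?_, ?_, ?_⟩
  · let f : Subgroup.closure gens → {t // t ∈ T.toFinset} := fun x =>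
      ⟨toL2 x.1, by rw [List.mem_toFinset]; exact hmem x.1 x.2⟩
    have hf : Function.Bijective f := by
      constructor
      · intro x y hxy
        have : toL2 x.1 = toL2 y.1 := congrArg Subtype.val hxy
        exact Subtype.ext (toL2_injective this)
      · rintro ⟨t, ht⟩
        rw [List.mem_toFinset] at ht
        obtain ⟨x, hx, rfl⟩ := hsound t ht
        exact ⟨⟨x, hx⟩, rfl⟩
    rw [Nat.card_congr (Equiv.ofBijective f hf), Nat.card_eq_fintype_card, Fintype.card_coe,
      List.toFinset_card_of_nodup hnd]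
  · intro x hx y hy hxy
    apply toL2_injective
    apply List.inj_on_of_nodup_map hnd1 (hmem x hx) (hmem y hy)
    show toL x.1 = toL y.1
    rw [hxy]
  · intro x hx y hy hxy
    apply toL2_injective
    apply List.inj_on_of_nodup_map hnd2 (hmem x hx) (hmem y hy)
    show toL x.2 = toL y.2
    rw [hxy]

theorem toL_one : toL (1 : Perm (Fin n)) = List.range n := by
  apply toL_eq_of _ _ (List.length_range)
  intro i
  rw [List.getD_eq_getElem _ _ (by rw [List.length_range]; exact i.2), List.getElem_range]
  rfl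

/-- The subgroup of a product of two symmetric groups given by a closed table, with its two
projections. -/
theorem diag_exists (gens : List (Perm (Fin n) × Perm (Fin m))) (T : List (List ℕ × List ℕ))
    (prog : List (ℕ × ℕ))
    (hgen : ∀ k < gens.length, T.getD k ([], []) = toL2 (gens.getD k 1))
    (hprog : ∀ k < prog.length, (prog.getD k (0, 0)).1 < gens.length + k ∧
      (prog.getD k (0, 0)).2 < gens.length + k ∧
      T.getD (gens.length + k) ([], []) =
        compL2 (T.getD (prog.getD k (0, 0)).1 ([], [])) (T.getD (prog.getD k (0, 0)).2 ([], [])))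
    (hlen : T.length = gens.length + prog.length)
    (h1 : (List.range n, List.range m) ∈ T)
    (hcl : ∀ i < gens.length, ∀ t ∈ T, compL2 (T.getD i ([], [])) t ∈ T)
    (hnd1 : (T.map Prod.fst).Nodup) (hnd2 : (T.map Prod.snd).Nodup)
    (A : Subgroup (Perm (Fin n))) (B : Subgroup (Perm (Fin m)))
    (hA : ∀ g ∈ gens, g.1 ∈ A) (hB : ∀ g ∈ gens, g.2 ∈ B) :
    ∃ (X : Type) (_ : Group X) (f₁ : X →* A) (f₂ : X →* B),
      Function.Injective f₁ ∧ Function.Injective f₂ ∧ Nat.card X = T.length := by
  classical
  let gs : Set (Perm (Fin n) × Perm (Fin m)) := {g | g ∈ gens}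
  let D : Subgroup (Perm (Fin n) × Perm (Fin m)) := Subgroup.closure gs
  have hgetD_mem : ∀ k < gens.length, gens.getD k 1 ∈ gens := by
    intro k hk
    rw [List.getD_eq_getElem _ _ hk]
    exact List.getElem_mem _
  have hgenT : ∀ k < gens.length, ∃ x ∈ D, T.getD k ([], []) = toL2 x := by
    intro k hk
    exact ⟨gens.getD k 1, Subgroup.subset_closure (hgetD_mem k hk), hgen k hk⟩
  have hsound := table_sound2 D T gens.length hgenT prog hprog
  have hsound' : ∀ t ∈ T, ∃ x ∈ D, t = toL2 x := by
    intro t ht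
    obtain ⟨k, hk, rfl⟩ := List.mem_iff_getElem.1 ht
    obtain ⟨x, hx, e⟩ := hsound k (by rw [← hlen]; exact hk)
    rw [List.getD_eq_getElem _ _ hk] at e
    exact ⟨x, hx, e⟩
  have h1' : toL2 (1 : Perm (Fin n) × Perm (Fin m)) ∈ T := by
    have : toL2 (1 : Perm (Fin n) × Perm (Fin m)) = (List.range n, List.range m) := by
      unfold toL2
      rw [Prod.fst_one, Prod.snd_one, toL_one, toL_one]
    rw [this]
    exact h1
  have hcl' : ∀ g ∈ gs, ∀ t ∈ T, compL2 (toL2 g) t ∈ T := by
    intro g hg t ht
    obtain ⟨k, hk, rfl⟩ := List.mem_iff_getElem.1 (show g ∈ gens from hg)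
    have := hcl k hk t ht
    rw [hgen k hk, List.getD_eq_getElem _ _ hk] at this
    exact this
  have hmem := closed_mem gs T h1' hcl'
  obtain ⟨hcard, hfst, hsnd⟩ := diag_facts gs T hsound' hmem hnd1 hnd2
  have hDA : D ≤ A.comap (MonoidHom.fst _ _) := by
    rw [Subgroup.closure_le]
    intro g hg
    exact hA g hg
  have hDB : D ≤ B.comap (MonoidHom.snd _ _) := by
    rw [Subgroup.closure_le]
    intro g hg
    exact hB g hg
  let f₁ : D →* A := ((MonoidHom.fst _ _).comp D.subtype).codRestrict A (fun x => hDA x.2)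
  let f₂ : D →* B := ((MonoidHom.snd _ _).comp D.subtype).codRestrict B (fun x => hDB x.2)
  refine ⟨D, inferInstance, f₁, f₂, ?_, ?_, hcard⟩
  · intro x y hxy
    have : x.1.1 = y.1.1 := congrArg Subtype.val hxy
    exact Subtype.ext (hfst x.1 x.2 y.1 y.2 this)
  · intro x y hxy
    have : x.1.2 = y.1.2 := congrArg Subtype.val hxy
    exact Subtype.ext (hsnd x.1 x.2 y.1 y.2 this)

end Pairs

section Sylow

/-- A group of the order of a Sylow subgroup that embeds in `G` is isomorphic to every Sylow
subgroup. -/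
theorem sylow_transfer {G X : Type*} [Group G] [Group X] [Finite G] (p : ℕ) [Fact p.Prime]
    (P : Sylow p G) (f : X →* G) (hf : Function.Injective f)
    (hX : Nat.card X = p ^ (Nat.card G).factorization p) : Nonempty (X ≃* P) := by
  have hcard : Nat.card f.range = p ^ (Nat.card G).factorization p := by
    rw [← hX]
    exact (Nat.card_congr (MonoidHom.ofInjective hf).toEquiv).symm
  let R : Sylow p G := Sylow.ofCard f.range hcard
  have e1 : X ≃* f.range := MonoidHom.ofInjective hf
  have e2 : (R : Subgroup G) ≃* (P : Subgroup G) := Sylow.equiv R P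
  exact ⟨e1.trans e2⟩

theorem factorization_two (k m : ℕ) (hm : ¬ 2 ∣ m) : (2 ^ k * m).factorization 2 = k := by
  have hm0 : m ≠ 0 := by
    rintro rfl
    exact hm (dvd_zero 2)
  rw [Nat.factorization_mul (pow_ne_zero k two_ne_zero) hm0, Nat.Prime.factorization_pow
    Nat.prime_two]
  simp [Nat.factorization_eq_zero_of_not_dvd hm]

end Sylow

end Cfsg.Agent.Helper37.Exc
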