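import Mathlib
import Cfsg.Agent.Lib.Helper37.ExcE
import Cfsg.Agent.Lib.Helper37.ExcF

/-!
# A Sylow 2-subgroup of the group `P40` and an isomorphic subgroup of the alternating group of degree 8
-/

set_option autoImplicit false

namespace Cfsg.Agent.Helper37.Exc

open Equiv

/-- Products of the four generators, ending in generators of a Sylow 2-subgroup. -/
def tblS : List (List ℕ) :=
  [[0, 2, 12, 22, 23, 24, 28, 29, 30, 34, 35, 36, 1, 3, 4, 5, 11, 9, 10, 7, 8, 6, 13, 14, 15, 25, 31, 37, 21, 19, 20, 39, 27, 33, 17, 18, 16, 32, 38, 26],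
  [1, 0, 12, 13, 16, 19, 14, 17, 20, 15, 18, 21, 2, 3, 6, 9, 4, 7, 10, 5, 8, 11, 25, 26, 27, 22, 23, 24, 39, 37, 38, 36, 34, 35, 32, 33, 31, 29, 30, 28],
  [0, 1, 2, 7, 8, 6, 10, 11, 9, 4, 5, 3, 12, 21, 19, 20, 15, 13, 14, 18, 16, 17, 30, 28, 29, 33, 31, 32, 36, 34, 35, 39, 37, 38, 24, 22, 23, 27, 25, 26],
  [0, 38, 33, 3, 4, 5, 23, 24, 22, 15, 13, 14, 25, 8, 6, 7, 20, 21, 19, 30, 28, 29, 10, 11, 9, 12, 27, 31, 35, 36, 34, 37, 39, 1, 18, 16, 17, 26, 2, 32],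
  [1, 30, 35, 13, 16, 19, 26, 27, 25, 9, 3, 6, 22, 20, 14, 17, 8, 11, 5, 38, 39, 37, 18, 21, 15, 2, 24, 36, 33, 31, 32, 29, 28, 0, 10, 4, 7, 23, 12, 34],
  [0, 38, 33, 3, 4, 5, 23, 24, 22, 15, 13, 14, 25, 8, 6, 7, 20, 21, 19, 30, 28, 29, 10, 11, 9, 12, 27, 31, 35, 36, 34, 37, 39, 1, 18, 16, 17, 26, 2, 32],
  [0, 2, 1, 3, 4, 5, 11, 9, 10, 7, 8, 6, 12, 22, 23, 24, 28, 29, 30, 34, 35, 36, 13, 14, 15, 25, 31, 37, 16, 17, 18, 26, 32, 38, 19, 20, 21, 27, 33, 39],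
  [1, 12, 0, 13, 16, 19, 21, 15, 18, 17, 20, 14, 2, 25, 26, 27, 39, 37, 38, 32, 33, 31, 3, 6, 9, 22, 36, 29, 4, 7, 10, 23, 34, 30, 5, 8, 11, 24, 35, 28],
  [2, 1, 0, 3, 11, 7, 6, 5, 10, 9, 8, 4, 12, 25, 31, 37, 26, 32, 38, 27, 33, 39, 22, 28, 34, 13, 16, 19, 23, 29, 35, 14, 17, 20, 24, 30, 36, 15, 18, 21],
  [33, 38, 0, 3, 14, 24, 23, 5, 13, 15, 22, 4, 25, 12, 37, 26, 27, 39, 2, 31, 1, 32, 10, 35, 18, 8, 20, 30, 11, 36, 16, 6, 21, 28, 9, 34, 17, 7, 19, 29],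
  [38, 25, 0, 7, 19, 29, 28, 6, 21, 20, 30, 8, 33, 12, 27, 31, 32, 26, 2, 39, 1, 37, 5, 22, 14, 9, 16, 35, 3, 23, 15, 10, 17, 36, 4, 24, 13, 11, 18, 34],
  [30, 22, 1, 17, 5, 37, 39, 14, 11, 8, 38, 20, 35, 2, 24, 36, 34, 23, 12, 28, 0, 29, 19, 25, 6, 15, 4, 33, 13, 26, 9, 18, 7, 31, 16, 27, 3, 21, 10, 32],
  [9, 19, 22, 23, 37, 21, 32, 24, 20, 11, 10, 0, 27, 1, 6, 3, 16, 25, 35, 13, 30, 26, 28, 15, 39, 36, 5, 31, 2, 4, 8, 12, 14, 18, 34, 33, 17, 29, 38, 7],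
  [8, 28, 19, 25, 21, 29, 7, 6, 0, 20, 38, 30, 33, 22, 39, 17, 34, 15, 27, 2, 9, 4, 13, 36, 32, 3, 37, 18, 1, 5, 11, 35, 24, 12, 16, 31, 23, 26, 10, 14],
  [1, 12, 2, 25, 26, 27, 39, 37, 38, 32, 33, 31, 0, 13, 16, 19, 21, 15, 18, 17, 20, 14, 3, 6, 9, 22, 36, 29, 11, 5, 8, 28, 24, 35, 7, 10, 4, 34, 30, 23],
  [0, 2, 12, 22, 23, 24, 28, 29, 30, 34, 35, 36, 1, 3, 4, 5, 11, 9, 10, 7, 8, 6, 13, 14, 15, 25, 31, 37, 21, 19, 20, 39, 27, 33, 17, 18, 16, 32, 38, 26],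
  [0, 12, 1, 13, 14, 15, 21, 19, 20, 17, 18, 16, 2, 22, 23, 24, 36, 34, 35, 29, 30, 28, 3, 4, 5, 25, 39, 32, 6, 7, 8, 26, 37, 33, 9, 10, 11, 27, 38, 31],
  [0, 1, 2, 3, 4, 5, 6, 7, 8, 9, 10, 11, 12, 13, 14, 15, 16, 17, 18, 19, 20, 21, 22, 23, 24, 25, 26, 27, 28, 29, 30, 31, 32, 33, 34, 35, 36, 37, 38, 39],
  [0, 2, 12, 22, 23, 24, 28, 29, 30, 34, 35, 36, 1, 3, 4, 5, 11, 9, 10, 7, 8, 6, 13, 14, 15, 25, 31, 37, 21, 19, 20, 39, 27, 33, 17, 18, 16, 32, 38, 26],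
  [0, 33, 25, 10, 11, 9, 35, 36, 34, 18, 16, 17, 38, 3, 4, 5, 14, 15, 13, 24, 22, 23, 8, 6, 7, 12, 37, 26, 29, 30, 28, 32, 31, 1, 21, 19, 20, 39, 2, 27],
  [0, 1, 12, 13, 14, 15, 16, 17, 18, 19, 20, 21, 2, 3, 4, 5, 6, 7, 8, 9, 10, 11, 22, 23, 24, 25, 26, 27, 36, 34, 35, 39, 37, 38, 29, 30, 28, 32, 33, 31],
  [0, 38, 33, 24, 22, 23, 13, 14, 15, 4, 5, 3, 25, 29, 30, 28, 7, 8, 6, 19, 20, 21, 34, 35, 36, 1, 37, 39, 17, 18, 16, 32, 26, 2, 9, 10, 11, 31, 12, 27],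
  [0, 25, 38, 29, 30, 28, 21, 19, 20, 8, 6, 7, 33, 34, 35, 36, 11, 9, 10, 18, 16, 17, 24, 22, 23, 1, 27, 26, 13, 14, 15, 37, 31, 2, 4, 5, 3, 39, 12, 32],
  [1, 22, 30, 37, 38, 39, 11, 5, 8, 20, 14, 17, 35, 32, 33, 31, 21, 15, 18, 10, 4, 7, 27, 25, 26, 0, 24, 23, 3, 6, 9, 29, 36, 12, 16, 19, 13, 28, 2, 34],
  [2, 13, 20, 32, 38, 26, 36, 24, 30, 8, 4, 9, 18, 27, 33, 39, 6, 5, 10, 35, 23, 29, 37, 25, 31, 0, 15, 14, 22, 28, 34, 19, 16, 1, 11, 7, 3, 21, 12, 17],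
  [12, 3, 8, 27, 38, 31, 16, 15, 20, 30, 23, 34, 10, 37, 33, 26, 28, 24, 35, 18, 14, 19, 32, 25, 39, 0, 5, 4, 13, 21, 17, 7, 11, 2, 36, 29, 22, 6, 1, 9],
  [2, 13, 20, 24, 30, 36, 4, 9, 8, 38, 26, 32, 18, 29, 35, 23, 39, 27, 33, 10, 6, 5, 34, 22, 28, 1, 19, 16, 3, 11, 7, 17, 21, 12, 31, 37, 25, 14, 0, 15],
  [12, 3, 8, 27, 38, 31, 16, 15, 20, 30, 23, 34, 10, 37, 33, 26, 28, 24, 35, 18, 14, 19, 32, 25, 39, 0, 5, 4, 13, 21, 17, 7, 11, 2, 36, 29, 22, 6, 1, 9],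
  [25, 3, 22, 31, 2, 37, 20, 7, 28, 34, 11, 18, 13, 26, 1, 27, 35, 9, 16, 19, 6, 30, 39, 12, 32, 0, 5, 4, 8, 29, 21, 24, 14, 33, 17, 36, 10, 23, 38, 15],
  [25, 22, 13, 39, 12, 32, 8, 29, 21, 17, 36, 10, 3, 31, 2, 37, 18, 34, 11, 7, 28, 20, 26, 1, 27, 0, 24, 23, 30, 19, 6, 15, 4, 33, 9, 16, 35, 14, 38, 5],
  [0, 26, 31, 5, 3, 4, 21, 19, 20, 34, 35, 36, 39, 15, 13, 14, 11, 9, 10, 29, 30, 28, 24, 22, 23, 25, 27, 1, 6, 7, 8, 37, 12, 33, 17, 18, 16, 2, 38, 32],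
  [25, 24, 15, 32, 39, 12, 20, 7, 28, 9, 16, 35, 5, 37, 31, 2, 10, 17, 36, 19, 6, 30, 27, 26, 1, 0, 23, 22, 8, 29, 21, 14, 3, 33, 34, 11, 18, 13, 38, 4],
  [0, 2, 1, 3, 4, 5, 11, 9, 10, 7, 8, 6, 12, 22, 23, 24, 28, 29, 30, 34, 35, 36, 13, 14, 15, 25, 31, 37, 16, 17, 18, 26, 32, 38, 19, 20, 21, 27, 33, 39],
  [1, 12, 0, 13, 16, 19, 21, 15, 18, 17, 20, 14, 2, 25, 26, 27, 39, 37, 38, 32, 33, 31, 3, 6, 9, 22, 36, 29, 4, 7, 10, 23, 34, 30, 5, 8, 11, 24, 35, 28],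
  [1, 12, 0, 21, 15, 18, 17, 20, 14, 13, 16, 19, 2, 33, 31, 32, 26, 27, 25, 37, 38, 39, 7, 10, 4, 30, 23, 34, 8, 11, 5, 28, 24, 35, 6, 9, 3, 29, 22, 36],
  [38, 25, 0, 29, 7, 19, 21, 28, 6, 8, 20, 30, 33, 1, 37, 39, 27, 31, 12, 26, 2, 32, 24, 13, 4, 34, 11, 18, 22, 14, 5, 35, 9, 16, 23, 15, 3, 36, 10, 17],
  [25, 33, 0, 34, 11, 18, 17, 36, 10, 9, 16, 35, 38, 1, 27, 26, 32, 39, 12, 31, 2, 37, 29, 21, 8, 24, 3, 14, 30, 19, 6, 22, 4, 15, 28, 20, 7, 23, 5, 13],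
  [25, 33, 0, 17, 36, 10, 9, 16, 35, 34, 11, 18, 38, 2, 37, 31, 27, 26, 1, 39, 12, 32, 19, 6, 30, 15, 22, 4, 20, 7, 28, 13, 23, 5, 21, 8, 29, 14, 24, 3],
  [33, 38, 0, 13, 23, 5, 4, 15, 22, 24, 3, 14, 25, 2, 27, 39, 32, 31, 1, 26, 12, 37, 18, 10, 35, 20, 30, 8, 16, 11, 36, 21, 28, 6, 17, 9, 34, 19, 29, 7],
  [38, 25, 0, 21, 28, 6, 8, 20, 30, 29, 7, 19, 33, 2, 32, 26, 37, 39, 1, 31, 12, 27, 14, 5, 22, 16, 35, 9, 15, 3, 23, 17, 36, 10, 13, 4, 24, 18, 34, 11],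
  [2, 12, 0, 29, 35, 23, 22, 28, 34, 36, 24, 30, 1, 33, 39, 27, 26, 32, 38, 37, 25, 31, 6, 5, 10, 20, 16, 15, 7, 3, 11, 21, 17, 13, 8, 4, 9, 19, 18, 14]]

/-- How `tblS` was computed. -/
def progS : List (ℕ × ℕ) :=
  [(1, 3), (1, 4), (3, 5), (1, 6), (0, 7), (3, 8), (2, 9), (1, 10), (11, 11), (11, 12), (1, 0), (1, 14), (0, 15), (0, 16), (0, 17), (3, 18), (3, 19), (3, 2), (2, 21), (1, 22), (0, 23), (0, 24), (1, 25), (1, 26), (3, 27), (0, 28), (29, 29), (29, 30), (3, 3), (1, 32), (2, 33), (3, 34), (2, 35), (0, 36), (2, 37), (2, 38), (3, 39)]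

theorem tblS_prog : ∀ k < progS.length, (progS.getD k (0, 0)).1 < 4 + k ∧
    (progS.getD k (0, 0)).2 < 4 + k ∧
    tblS.getD (4 + k) [] =
      compL (tblS.getD (progS.getD k (0, 0)).1 []) (tblS.getD (progS.getD k (0, 0)).2 []) := by
  decide +kernel

theorem tblS_sound : ∀ k < tblS.length, ∃ σ ∈ P40, tblS.getD k [] = toL σ := by
  have hlen : tblS.length = 4 + progS.length := by decide +kernel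
  rw [hlen]
  apply table_sound P40 tblS 4 _ progS tblS_prog
  intro k hk
  interval_cases k
  · exact ⟨pi1 a0, Subgroup.subset_closure (by simp), pi1_a0.symm⟩
  · exact ⟨pi1 a1, Subgroup.subset_closure (by simp), pi1_a1.symm⟩
  · exact ⟨pi1 a2, Subgroup.subset_closure (by simp), pi1_a2.symm⟩
  · exact ⟨pi1 a3, Subgroup.subset_closure (by simp), pi1_a3.symm⟩

/-- A permutation of 8 points. -/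
def t8_0 : Perm (Fin 8) := Equiv.swap 0 1 * Equiv.swap 6 7

theorem t8_0_toL : toL t8_0 = [1, 0, 2, 3, 4, 5, 7, 6] := by decide +kernel

theorem t8_0_mem : t8_0 ∈ alternatingGroup (Fin 8) := by
  rw [Equiv.Perm.mem_alternatingGroup]
  decide

/-- A permutation of 8 points. -/
def t8_1 : Perm (Fin 8) := Equiv.swap 0 2 * Equiv.swap 1 4

theorem t8_1_toL : toL t8_1 = [2, 4, 0, 3, 1, 5, 6, 7] := by decide +kernel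

theorem t8_1_mem : t8_1 ∈ alternatingGroup (Fin 8) := by
  rw [Equiv.Perm.mem_alternatingGroup]
  decide

/-- A permutation of 8 points. -/
def t8_2 : Perm (Fin 8) := Equiv.swap 3 7 * Equiv.swap 5 6

theorem t8_2_toL : toL t8_2 = [0, 1, 2, 7, 4, 6, 5, 3] := by decide +kernel

theorem t8_2_mem : t8_2 ∈ alternatingGroup (Fin 8) := by
  rw [Equiv.Perm.mem_alternatingGroup]
  decide

/-- A permutation of 8 points. -/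
def t8_3 : Perm (Fin 8) := Equiv.swap 0 3 * Equiv.swap 1 5 * Equiv.swap 2 6 * Equiv.swap 4 7

theorem t8_3_toL : toL t8_3 = [3, 5, 6, 0, 7, 1, 2, 4] := by decide +kernel

theorem t8_3_mem : t8_3 ∈ alternatingGroup (Fin 8) := by
  rw [Equiv.Perm.mem_alternatingGroup]
  decide

/-- The elements of the diagonal subgroup. -/
def tblD : List (List ℕ × List ℕ) :=
  [([8, 28, 19, 25, 21, 29, 7, 6, 0, 20, 38, 30, 33, 22, 39, 17, 34, 15, 27, 2, 9, 4, 13, 36, 32, 3, 37, 18, 1, 5, 11, 35, 24, 12, 16, 31, 23, 26, 10, 14], [1, 0, 2, 3, 4, 5, 7, 6]),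
  ([0, 1, 12, 13, 14, 15, 16, 17, 18, 19, 20, 21, 2, 3, 4, 5, 6, 7, 8, 9, 10, 11, 22, 23, 24, 25, 26, 27, 36, 34, 35, 39, 37, 38, 29, 30, 28, 32, 33, 31], [2, 4, 0, 3, 1, 5, 6, 7]),
  ([25, 24, 15, 32, 39, 12, 20, 7, 28, 9, 16, 35, 5, 37, 31, 2, 10, 17, 36, 19, 6, 30, 27, 26, 1, 0, 23, 22, 8, 29, 21, 14, 3, 33, 34, 11, 18, 13, 38, 4], [0, 1, 2, 7, 4, 6, 5, 3]),
  ([2, 12, 0, 29, 35, 23, 22, 28, 34, 36, 24, 30, 1, 33, 39, 27, 26, 32, 38, 37, 25, 31, 6, 5, 10, 20, 16, 15, 7, 3, 11, 21, 17, 13, 8, 4, 9, 19, 18, 14], [3, 5, 6, 0, 7, 1, 2, 4]),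
  ([0, 1, 2, 3, 4, 5, 6, 7, 8, 9, 10, 11, 12, 13, 14, 15, 16, 17, 18, 19, 20, 21, 22, 23, 24, 25, 26, 27, 28, 29, 30, 31, 32, 33, 34, 35, 36, 37, 38, 39], [0, 1, 2, 3, 4, 5, 6, 7]),
  ([18, 36, 9, 25, 11, 34, 17, 16, 0, 10, 33, 35, 38, 22, 31, 7, 29, 5, 27, 12, 19, 14, 3, 28, 37, 13, 32, 8, 1, 15, 21, 30, 24, 2, 6, 39, 23, 26, 20, 4], [4, 2, 0, 3, 1, 5, 7, 6]),
  ([28, 8, 19, 0, 30, 29, 7, 20, 25, 6, 38, 21, 33, 27, 4, 17, 34, 2, 22, 15, 9, 39, 37, 18, 3, 32, 13, 36, 24, 12, 35, 11, 1, 5, 10, 14, 26, 23, 16, 31], [1, 0, 2, 7, 4, 6, 3, 5]),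
  ([34, 7, 37, 20, 31, 3, 28, 22, 2, 25, 18, 11, 13, 6, 14, 32, 8, 27, 15, 0, 36, 35, 33, 9, 17, 29, 19, 38, 12, 23, 30, 4, 10, 1, 26, 21, 5, 16, 24, 39], [5, 3, 6, 0, 7, 1, 4, 2]),
  ([8, 28, 33, 22, 39, 17, 34, 15, 27, 2, 9, 4, 19, 25, 21, 29, 7, 6, 0, 20, 38, 30, 13, 36, 32, 3, 37, 18, 23, 16, 31, 14, 26, 10, 5, 11, 1, 24, 12, 35], [2, 4, 1, 3, 0, 5, 7, 6]),
  ([25, 24, 5, 37, 31, 2, 10, 17, 36, 19, 6, 30, 15, 32, 39, 12, 20, 7, 28, 9, 16, 35, 27, 26, 1, 0, 23, 22, 18, 34, 11, 4, 13, 38, 29, 21, 8, 3, 33, 14], [2, 4, 0, 7, 1, 6, 5, 3]),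
  ([2, 12, 1, 33, 39, 27, 26, 32, 38, 37, 25, 31, 0, 29, 35, 23, 22, 28, 34, 36, 24, 30, 6, 5, 10, 20, 16, 15, 9, 8, 4, 14, 19, 18, 3, 11, 7, 17, 13, 21], [6, 7, 3, 0, 5, 1, 2, 4]),
  ([3, 32, 17, 24, 14, 33, 9, 6, 1, 20, 34, 31, 29, 26, 35, 19, 38, 15, 23, 2, 7, 11, 18, 37, 28, 8, 36, 13, 0, 5, 4, 39, 25, 12, 16, 30, 27, 22, 10, 21], [1, 0, 2, 6, 4, 7, 5, 3]),
  ([20, 10, 27, 17, 14, 1, 25, 28, 7, 36, 26, 4, 23, 19, 21, 0, 24, 32, 9, 37, 22, 11, 15, 16, 12, 2, 5, 6, 34, 3, 31, 39, 29, 13, 8, 30, 38, 33, 18, 35], [3, 5, 6, 4, 7, 2, 1, 0]),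
  ([19, 33, 8, 5, 31, 36, 13, 1, 16, 23, 32, 11, 28, 12, 14, 18, 37, 24, 10, 26, 3, 35, 7, 29, 38, 9, 34, 17, 6, 25, 30, 4, 15, 22, 0, 21, 20, 2, 27, 39], [3, 5, 7, 1, 6, 0, 2, 4]),
  ([12, 2, 0, 34, 30, 23, 22, 36, 29, 28, 24, 35, 1, 38, 31, 27, 26, 37, 33, 32, 25, 39, 16, 15, 20, 10, 6, 5, 17, 13, 21, 11, 7, 3, 18, 14, 19, 9, 8, 4], [3, 5, 6, 2, 7, 4, 0, 1]),
  ([15, 5, 25, 29, 11, 26, 27, 8, 34, 18, 1, 21, 24, 33, 4, 22, 23, 3, 38, 13, 0, 14, 20, 12, 16, 6, 10, 2, 7, 32, 35, 30, 17, 37, 28, 39, 9, 19, 36, 31], [7, 6, 5, 0, 3, 1, 2, 4]),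
  ([27, 23, 20, 3, 30, 16, 15, 34, 8, 38, 12, 31, 10, 13, 35, 6, 5, 29, 18, 33, 2, 39, 25, 1, 26, 22, 24, 0, 28, 17, 4, 11, 32, 19, 7, 14, 36, 37, 9, 21], [4, 2, 1, 3, 0, 5, 6, 7]),
  ([36, 18, 9, 0, 35, 34, 17, 10, 25, 16, 33, 11, 38, 27, 14, 7, 29, 12, 22, 5, 19, 31, 32, 8, 13, 37, 3, 28, 24, 2, 30, 21, 1, 15, 20, 4, 26, 23, 6, 39], [4, 2, 0, 7, 1, 6, 3, 5]),
  ([38, 9, 36, 20, 30, 8, 32, 26, 2, 24, 13, 4, 18, 6, 21, 28, 3, 23, 15, 1, 37, 39, 29, 7, 19, 33, 17, 34, 12, 27, 31, 11, 10, 0, 22, 14, 5, 16, 25, 35], [7, 6, 3, 0, 5, 1, 4, 2]),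
  ([1, 0, 2, 8, 11, 5, 6, 9, 3, 7, 10, 4, 12, 18, 21, 15, 16, 19, 13, 17, 20, 14, 26, 27, 25, 24, 22, 23, 32, 33, 31, 30, 28, 29, 38, 39, 37, 36, 34, 35], [0, 1, 2, 6, 4, 7, 3, 5]),
  ([7, 34, 37, 2, 11, 3, 28, 25, 20, 22, 18, 31, 13, 15, 35, 32, 8, 0, 6, 27, 36, 14, 19, 38, 29, 17, 33, 9, 10, 1, 4, 30, 12, 23, 24, 39, 16, 5, 26, 21], [5, 3, 6, 4, 7, 2, 0, 1]),
  ([16, 6, 26, 9, 35, 25, 1, 13, 19, 3, 27, 30, 22, 7, 39, 24, 0, 18, 17, 8, 23, 31, 12, 20, 15, 5, 2, 10, 33, 36, 11, 21, 38, 28, 37, 4, 29, 34, 32, 14], [5, 3, 7, 1, 6, 0, 4, 2]),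
  ([29, 17, 32, 10, 39, 13, 36, 22, 12, 25, 8, 21, 3, 16, 4, 37, 18, 27, 5, 0, 28, 30, 38, 19, 7, 34, 9, 33, 2, 23, 35, 14, 20, 1, 26, 11, 15, 6, 24, 31], [5, 3, 6, 2, 7, 4, 1, 0]),
  ([34, 7, 13, 6, 14, 32, 8, 27, 15, 0, 36, 35, 37, 20, 31, 3, 28, 22, 2, 25, 18, 11, 33, 9, 17, 29, 19, 38, 5, 26, 21, 39, 16, 24, 23, 30, 12, 10, 1, 4], [6, 7, 5, 0, 3, 1, 4, 2]),
  ([18, 36, 38, 22, 31, 7, 29, 5, 27, 12, 19, 14, 9, 25, 11, 34, 17, 16, 0, 10, 33, 35, 3, 28, 37, 13, 32, 8, 23, 6, 39, 4, 26, 20, 15, 21, 1, 24, 2, 30], [0, 1, 4, 3, 2, 5, 7, 6]),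
  ([28, 8, 33, 27, 4, 17, 34, 2, 22, 15, 9, 39, 19, 0, 30, 29, 7, 20, 25, 6, 38, 21, 37, 18, 3, 32, 13, 36, 26, 10, 14, 31, 23, 16, 12, 35, 24, 1, 5, 11], [2, 4, 1, 7, 0, 6, 3, 5]),
  ([3, 32, 29, 26, 35, 19, 38, 15, 23, 2, 7, 11, 17, 24, 14, 33, 9, 6, 1, 20, 34, 31, 18, 37, 28, 8, 36, 13, 27, 16, 30, 21, 22, 10, 5, 4, 0, 25, 12, 39], [2, 4, 1, 6, 0, 7, 5, 3]),
  ([20, 10, 23, 19, 21, 0, 24, 32, 9, 37, 22, 11, 27, 17, 14, 1, 25, 28, 7, 36, 26, 4, 15, 16, 12, 2, 5, 6, 38, 8, 30, 35, 33, 18, 3, 31, 34, 29, 13, 39], [6, 7, 3, 4, 5, 2, 1, 0]),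
  ([19, 33, 28, 12, 14, 18, 37, 24, 10, 26, 3, 35, 8, 5, 31, 36, 13, 1, 16, 23, 32, 11, 7, 29, 38, 9, 34, 17, 20, 0, 21, 39, 2, 27, 25, 30, 6, 15, 22, 4], [7, 6, 3, 1, 5, 0, 2, 4]),
  ([12, 2, 1, 38, 31, 27, 26, 37, 33, 32, 25, 39, 0, 34, 30, 23, 22, 36, 29, 28, 24, 35, 16, 15, 20, 10, 6, 5, 19, 18, 14, 4, 9, 8, 13, 21, 17, 7, 3, 11], [6, 7, 3, 2, 5, 4, 0, 1]),
  ([15, 5, 24, 33, 4, 22, 23, 3, 38, 13, 0, 14, 25, 29, 11, 26, 27, 8, 34, 18, 1, 21, 20, 12, 16, 6, 10, 2, 9, 28, 39, 31, 19, 36, 32, 35, 7, 17, 37, 30], [5, 3, 7, 0, 6, 1, 2, 4]),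
  ([13, 37, 7, 24, 4, 38, 19, 16, 1, 10, 29, 39, 34, 26, 30, 9, 33, 5, 23, 12, 17, 21, 8, 32, 36, 18, 28, 3, 0, 15, 14, 31, 25, 2, 6, 35, 27, 22, 20, 11], [4, 2, 0, 6, 1, 7, 5, 3]),
  ([32, 3, 17, 1, 31, 33, 9, 20, 24, 6, 34, 14, 29, 23, 11, 19, 38, 2, 26, 15, 7, 35, 36, 13, 8, 28, 18, 37, 25, 12, 39, 4, 0, 5, 10, 21, 22, 27, 16, 30], [1, 0, 2, 5, 4, 3, 6, 7]),
  ([9, 38, 18, 15, 39, 28, 3, 1, 6, 23, 37, 21, 36, 2, 4, 8, 32, 24, 20, 26, 13, 30, 17, 34, 33, 19, 29, 7, 16, 25, 35, 14, 5, 22, 0, 11, 10, 12, 27, 31], [3, 5, 7, 4, 6, 2, 0, 1]),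
  ([10, 20, 27, 7, 4, 1, 25, 36, 17, 28, 26, 14, 23, 9, 11, 0, 24, 37, 19, 32, 22, 21, 5, 6, 2, 12, 15, 16, 29, 13, 39, 31, 34, 3, 18, 35, 33, 38, 8, 30], [3, 5, 6, 1, 7, 0, 4, 2]),
  ([6, 16, 22, 17, 31, 24, 0, 8, 7, 18, 23, 39, 26, 19, 30, 25, 1, 3, 9, 13, 27, 35, 2, 10, 5, 15, 12, 20, 34, 32, 14, 4, 29, 37, 28, 21, 38, 33, 36, 11], [7, 6, 5, 4, 3, 2, 1, 0]),
  ([37, 13, 34, 23, 21, 9, 33, 12, 26, 5, 17, 30, 7, 1, 39, 38, 19, 10, 24, 16, 29, 4, 28, 3, 18, 36, 8, 32, 22, 20, 11, 35, 27, 6, 2, 31, 25, 0, 15, 14], [0, 1, 4, 5, 2, 3, 6, 7]),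
  ([33, 19, 8, 16, 11, 36, 13, 23, 5, 1, 32, 31, 28, 10, 35, 18, 37, 26, 12, 24, 3, 14, 34, 17, 9, 38, 7, 29, 15, 22, 4, 30, 6, 25, 27, 39, 2, 20, 0, 21], [3, 5, 7, 2, 6, 4, 1, 0]),
  ([5, 15, 25, 34, 21, 26, 27, 18, 29, 8, 1, 11, 24, 38, 14, 22, 23, 13, 33, 3, 0, 4, 10, 2, 6, 16, 20, 12, 17, 37, 30, 35, 7, 32, 36, 31, 19, 9, 28, 39], [7, 6, 5, 2, 3, 4, 0, 1]),
  ([17, 29, 3, 5, 30, 37, 18, 0, 16, 27, 28, 4, 32, 12, 21, 13, 36, 25, 10, 22, 8, 39, 9, 33, 34, 7, 38, 19, 6, 24, 31, 11, 15, 26, 1, 14, 20, 2, 23, 35], [6, 7, 5, 1, 3, 0, 2, 4]),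
  ([27, 23, 10, 13, 35, 6, 5, 29, 18, 33, 2, 39, 20, 3, 30, 16, 15, 34, 8, 38, 12, 31, 25, 1, 26, 22, 24, 0, 36, 7, 14, 21, 37, 9, 17, 4, 28, 32, 19, 11], [1, 0, 4, 3, 2, 5, 6, 7]),
  ([22, 26, 6, 32, 21, 10, 2, 34, 28, 38, 5, 14, 16, 37, 11, 20, 12, 29, 36, 33, 15, 4, 0, 24, 23, 27, 1, 25, 8, 17, 39, 35, 3, 19, 7, 31, 18, 13, 9, 30], [4, 2, 1, 7, 0, 6, 5, 3]),
  ([23, 27, 20, 8, 31, 16, 15, 38, 3, 34, 12, 30, 10, 18, 39, 6, 5, 33, 13, 29, 2, 35, 24, 0, 22, 26, 25, 1, 32, 19, 11, 4, 28, 17, 9, 21, 37, 36, 7, 14], [4, 2, 1, 6, 0, 7, 3, 5]),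
  ([9, 38, 36, 2, 4, 8, 32, 24, 20, 26, 13, 30, 18, 15, 39, 28, 3, 1, 6, 23, 37, 21, 17, 34, 33, 19, 29, 7, 10, 0, 11, 31, 12, 27, 25, 35, 16, 5, 22, 14], [7, 6, 3, 4, 5, 2, 0, 1]),
  ([10, 20, 23, 9, 11, 0, 24, 37, 19, 32, 22, 21, 27, 7, 4, 1, 25, 36, 17, 28, 26, 14, 5, 6, 2, 12, 15, 16, 33, 18, 35, 30, 38, 8, 13, 39, 29, 34, 3, 31], [6, 7, 3, 1, 5, 0, 4, 2]),
  ([33, 19, 28, 10, 35, 18, 37, 26, 12, 24, 3, 14, 8, 16, 11, 36, 13, 23, 5, 1, 32, 31, 34, 17, 9, 38, 7, 29, 2, 27, 39, 21, 20, 0, 22, 4, 15, 6, 25, 30], [7, 6, 3, 2, 5, 4, 1, 0]),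
  ([38, 9, 18, 6, 21, 28, 3, 23, 15, 1, 37, 39, 36, 20, 30, 8, 32, 26, 2, 24, 13, 4, 29, 7, 19, 33, 17, 34, 5, 22, 14, 35, 16, 25, 27, 31, 12, 10, 0, 11], [3, 5, 7, 0, 6, 1, 4, 2]),
  ([1, 0, 12, 18, 21, 15, 16, 19, 13, 17, 20, 14, 2, 8, 11, 5, 6, 9, 3, 7, 10, 4, 26, 27, 25, 24, 22, 23, 37, 38, 39, 35, 36, 34, 33, 31, 32, 28, 29, 30], [2, 4, 0, 6, 1, 7, 3, 5]),
  ([24, 25, 15, 28, 35, 12, 20, 9, 32, 7, 16, 39, 5, 36, 30, 2, 10, 19, 37, 17, 6, 31, 23, 22, 0, 1, 27, 26, 3, 33, 14, 21, 8, 29, 38, 4, 13, 18, 34, 11], [0, 1, 2, 5, 4, 3, 7, 6]),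
  ([6, 16, 26, 19, 30, 25, 1, 3, 9, 13, 27, 35, 22, 17, 31, 24, 0, 8, 7, 18, 23, 39, 2, 10, 5, 15, 12, 20, 38, 28, 21, 11, 33, 36, 32, 14, 34, 29, 37, 4], [5, 3, 7, 4, 6, 2, 1, 0]),
  ([17, 29, 32, 12, 21, 13, 36, 25, 10, 22, 8, 39, 3, 5, 30, 37, 18, 0, 16, 27, 28, 4, 9, 33, 34, 7, 38, 19, 20, 1, 14, 35, 2, 23, 24, 31, 6, 15, 26, 11], [5, 3, 6, 1, 7, 0, 2, 4]),
  ([7, 34, 13, 15, 35, 32, 8, 0, 6, 27, 36, 14, 37, 2, 11, 3, 28, 25, 20, 22, 18, 31, 19, 38, 29, 17, 33, 9, 16, 24, 39, 21, 5, 26, 1, 4, 10, 12, 23, 30], [6, 7, 5, 4, 3, 2, 0, 1]),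
  ([26, 22, 16, 36, 4, 20, 12, 33, 37, 29, 15, 11, 6, 28, 14, 10, 2, 38, 32, 34, 5, 21, 1, 25, 27, 23, 0, 24, 13, 9, 30, 31, 18, 7, 19, 35, 3, 8, 17, 39], [1, 0, 4, 5, 2, 3, 7, 6]),
  ([5, 15, 24, 38, 14, 22, 23, 13, 33, 3, 0, 4, 25, 34, 21, 26, 27, 18, 29, 8, 1, 11, 10, 2, 6, 16, 20, 12, 19, 36, 31, 39, 9, 28, 37, 30, 17, 7, 32, 35], [5, 3, 7, 2, 6, 4, 0, 1]),
  ([29, 17, 3, 16, 4, 37, 18, 27, 5, 0, 28, 30, 32, 10, 39, 13, 36, 22, 12, 25, 8, 21, 38, 19, 7, 34, 9, 33, 15, 26, 11, 31, 6, 24, 23, 35, 2, 20, 1, 14], [6, 7, 5, 2, 3, 4, 1, 0]),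
  ([16, 6, 22, 7, 39, 24, 0, 18, 17, 8, 23, 31, 26, 9, 35, 25, 1, 13, 19, 3, 27, 30, 12, 20, 15, 5, 2, 10, 29, 37, 4, 14, 34, 32, 36, 11, 33, 38, 28, 21], [7, 6, 5, 1, 3, 0, 4, 2]),
  ([36, 18, 38, 27, 14, 7, 29, 12, 22, 5, 19, 31, 9, 0, 35, 34, 17, 10, 25, 16, 33, 11, 32, 8, 13, 37, 3, 28, 26, 20, 4, 39, 23, 6, 2, 30, 24, 1, 15, 21], [0, 1, 4, 7, 2, 6, 3, 5]),
  ([13, 37, 34, 26, 30, 9, 33, 5, 23, 12, 17, 21, 7, 24, 4, 38, 19, 16, 1, 10, 29, 39, 8, 32, 36, 18, 28, 3, 27, 6, 35, 11, 22, 20, 15, 14, 0, 25, 2, 31], [0, 1, 4, 6, 2, 7, 5, 3]),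
  ([32, 3, 29, 23, 11, 19, 38, 2, 26, 15, 7, 35, 17, 1, 31, 33, 9, 20, 24, 6, 34, 14, 36, 13, 8, 28, 18, 37, 22, 10, 21, 30, 27, 16, 12, 39, 25, 0, 5, 4], [2, 4, 1, 5, 0, 3, 6, 7]),
  ([37, 13, 7, 1, 39, 38, 19, 10, 24, 16, 29, 4, 34, 23, 21, 9, 33, 12, 26, 5, 17, 30, 28, 3, 18, 36, 8, 32, 25, 2, 31, 14, 0, 15, 20, 11, 22, 27, 6, 35], [4, 2, 0, 5, 1, 3, 6, 7]),
  ([22, 26, 16, 37, 11, 20, 12, 29, 36, 33, 15, 4, 6, 32, 21, 10, 2, 34, 28, 38, 5, 14, 0, 24, 23, 27, 1, 25, 18, 7, 31, 30, 13, 9, 17, 39, 8, 3, 19, 35], [1, 0, 4, 7, 2, 6, 5, 3]),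
  ([23, 27, 10, 18, 39, 6, 5, 33, 13, 29, 2, 35, 20, 8, 31, 16, 15, 38, 3, 34, 12, 30, 24, 0, 22, 26, 25, 1, 37, 9, 21, 14, 36, 7, 19, 11, 32, 28, 17, 4], [1, 0, 4, 6, 2, 7, 3, 5]),
  ([26, 22, 6, 28, 14, 10, 2, 38, 32, 34, 5, 21, 16, 36, 4, 20, 12, 33, 37, 29, 15, 11, 1, 25, 27, 23, 0, 24, 3, 19, 35, 39, 8, 17, 9, 30, 13, 18, 7, 31], [4, 2, 1, 5, 0, 3, 7, 6]),
  ([24, 25, 5, 36, 30, 2, 10, 19, 37, 17, 6, 31, 15, 28, 35, 12, 20, 9, 32, 7, 16, 39, 23, 22, 0, 1, 27, 26, 13, 38, 4, 11, 18, 34, 33, 14, 3, 8, 29, 21], [2, 4, 0, 5, 1, 3, 7, 6])]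

/-- How `tblD` was computed. -/
def progD : List (ℕ × ℕ) :=
  [(0, 0), (1, 0), (2, 0), (3, 0), (0, 1), (2, 1), (3, 1), (0, 2), (3, 2), (0, 3), (1, 3), (2, 3), (0, 5), (2, 5), (3, 5), (0, 6), (3, 6), (0, 7), (1, 7), (2, 7), (1, 8), (2, 8), (0, 9), (3, 9), (0, 10), (1, 10), (2, 10), (1, 11), (2, 11), (0, 12), (1, 12), (2, 12), (3, 13), (0, 14), (2, 14), (0, 15), (1, 16), (2, 16), (0, 17), (3, 17), (0, 18), (1, 18), (2, 18), (1, 19), (2, 19), (0, 20), (1, 20), (2, 20), (3, 21), (0, 22), (2, 22), (0, 23), (2, 24), (1, 26), (2, 26), (3, 28), (2, 40), (1, 42), (2, 42), (3, 44)]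

theorem tblD_prog : ∀ k < progD.length, (progD.getD k (0, 0)).1 < 4 + k ∧
    (progD.getD k (0, 0)).2 < 4 + k ∧
    tblD.getD (4 + k) ([], []) =
      compL2 (tblD.getD (progD.getD k (0, 0)).1 ([], []))
        (tblD.getD (progD.getD k (0, 0)).2 ([], [])) := by
  decide +kernel

theorem tblD_closed : ∀ i < 4, ∀ t ∈ tblD, compL2 (tblD.getD i ([], [])) t ∈ tblD := by
  decide +kernel

theorem tblD_one : (List.range 40, List.range 8) ∈ tblD := by decide +kernel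

theorem tblD_nd1 : (tblD.map Prod.fst).Nodup := by decide +kernel

theorem tblD_nd2 : (tblD.map Prod.snd).Nodup := by decide +kernel

theorem tblD_gens : tblD.getD 0 ([], []) = (tblS.getD 13 [], [1, 0, 2, 3, 4, 5, 7, 6]) ∧
    tblD.getD 1 ([], []) = (tblS.getD 20 [], [2, 4, 0, 3, 1, 5, 6, 7]) ∧
    tblD.getD 2 ([], []) = (tblS.getD 31 [], [0, 1, 2, 7, 4, 6, 5, 3]) ∧
    tblD.getD 3 ([], []) = (tblS.getD 40 [], [3, 5, 6, 0, 7, 1, 2, 4]) := by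
  decide +kernel

/-- A group of order 64 that embeds in `P40` and in the alternating group of degree 8. -/
theorem part1_exists : ∃ (X : Type) (_ : Group X) (f₁ : X →* P40)
    (f₂ : X →* alternatingGroup (Fin 8)),
    Function.Injective f₁ ∧ Function.Injective f₂ ∧ Nat.card X = 64 := by
  obtain ⟨s0, hs0, e0⟩ := tblS_sound 13 (by decide)
  obtain ⟨s1, hs1, e1⟩ := tblS_sound 20 (by decide)
  obtain ⟨s2, hs2, e2⟩ := tblS_sound 31 (by decide)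
  obtain ⟨s3, hs3, e3⟩ := tblS_sound 40 (by decide)
  obtain ⟨g0, g1, g2, g3⟩ := tblD_gens
  have hlen : tblD.length = 64 := by decide +kernel
  rw [← hlen]
  refine diag_exists [(s0, t8_0), (s1, t8_1), (s2, t8_2), (s3, t8_3)] tblD progD ?_ tblD_prog
    (by show tblD.length = 4 + progD.length; decide +kernel) tblD_one tblD_closed tblD_nd1 tblD_nd2 P40 (alternatingGroup (Fin 8)) ?_ ?_
  · intro k hk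
    have hk4 : k < 4 := hk
    interval_cases k
    · rw [g0, e0, ← t8_0_toL]; rfl
    · rw [g1, e1, ← t8_1_toL]; rfl
    · rw [g2, e2, ← t8_2_toL]; rfl
    · rw [g3, e3, ← t8_3_toL]; rfl
  · intro g hg
    simp only [List.mem_cons, List.not_mem_nil, or_false] at hg
    rcases hg with rfl | rfl | rfl | rfl
    · exact hs0
    · exact hs1
    · exact hs2
    · exact hs3
  · intro g hg
    simp only [List.mem_cons, List.not_mem_nil, or_false] at hg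
    rcases hg with rfl | rfl | rfl | rfl
    · exact t8_0_mem
    · exact t8_1_mem
    · exact t8_2_mem
    · exact t8_3_mem

end Cfsg.Agent.Helper37.Exc
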