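import Mathlib
import Cfsg.Prelude.Def_Classical
import Cfsg.Agent.Lib.Helper37.ExcA

/-!
# The orthogonal group `O_6^-(2)` on the 27 singular points
-/

set_option autoImplicit false

namespace Cfsg.Agent.Helper37.Exc

open Matrix

/-- The index type of the orthogonal space. -/
abbrev I6 : Type := (Fin 2 ⊕ Fin 2) ⊕ Fin 2

/-- A vector with given coordinates. -/
def mk6 (x0 x1 y0 y1 z0 z1 : ZMod 2) : I6 → ZMod 2 :=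
  Sum.elim (Sum.elim ![x0, x1] ![y0, y1]) ![z0, z1]

theorem mk6_eta (v : I6 → ZMod 2) : v = mk6 (v (Sum.inl (Sum.inl 0))) (v (Sum.inl (Sum.inl 1)))
    (v (Sum.inl (Sum.inr 0))) (v (Sum.inl (Sum.inr 1))) (v (Sum.inr 0)) (v (Sum.inr 1)) := by
  funext k
  rcases k with (k | k) | k <;> fin_cases k <;> rfl

/-- The quadratic form of minus type. -/
abbrev QM : (I6 → ZMod 2) → ZMod 2 := Cfsg.quadFormMinus 2 (ZMod 2) 1 1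

/-- The quadratic form, written out. -/
def Q6 (v : I6 → ZMod 2) : ZMod 2 :=
  v (Sum.inl (Sum.inl 0)) * v (Sum.inl (Sum.inr 0)) +
    v (Sum.inl (Sum.inl 1)) * v (Sum.inl (Sum.inr 1)) +
    (v (Sum.inr 0) ^ 2 + v (Sum.inr 0) * v (Sum.inr 1) + v (Sum.inr 1) ^ 2)

theorem QM_eq (v : I6 → ZMod 2) : QM v = Q6 v := by
  simp [QM, Cfsg.quadFormMinus, Fin.sum_univ_two, Q6]

/-- Matrix times vector, written out. -/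
def mv6 (A : Matrix I6 I6 (ZMod 2)) (v : I6 → ZMod 2) (k : I6) : ZMod 2 :=
  A k (Sum.inl (Sum.inl 0)) * v (Sum.inl (Sum.inl 0)) +
    A k (Sum.inl (Sum.inl 1)) * v (Sum.inl (Sum.inl 1)) +
    A k (Sum.inl (Sum.inr 0)) * v (Sum.inl (Sum.inr 0)) +
    A k (Sum.inl (Sum.inr 1)) * v (Sum.inl (Sum.inr 1)) +
    A k (Sum.inr 0) * v (Sum.inr 0) + A k (Sum.inr 1) * v (Sum.inr 1)

theorem mulVec_eq6 (A : Matrix I6 I6 (ZMod 2)) (v : I6 → ZMod 2) : A *ᵥ v = mv6 A v := by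
  funext k
  simp [Matrix.mulVec, dotProduct, Fintype.sum_sum_type, Fin.sum_univ_two, mv6, add_assoc]

/-- The 27 singular vectors. -/
def tbl3 : List (I6 → ZMod 2) :=
  [mk6 0 0 0 1 0 0,
  mk6 0 0 1 0 0 0,
  mk6 0 0 1 1 0 0,
  mk6 0 1 0 0 0 0,
  mk6 0 1 0 1 0 1,
  mk6 0 1 0 1 1 0,
  mk6 0 1 0 1 1 1,
  mk6 0 1 1 0 0 0,
  mk6 0 1 1 1 0 1,
  mk6 0 1 1 1 1 0,
  mk6 0 1 1 1 1 1,
  mk6 1 0 0 0 0 0,
  mk6 1 0 0 1 0 0,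
  mk6 1 0 1 0 0 1,
  mk6 1 0 1 0 1 0,
  mk6 1 0 1 0 1 1,
  mk6 1 0 1 1 0 1,
  mk6 1 0 1 1 1 0,
  mk6 1 0 1 1 1 1,
  mk6 1 1 0 0 0 0,
  mk6 1 1 0 1 0 1,
  mk6 1 1 0 1 1 0,
  mk6 1 1 0 1 1 1,
  mk6 1 1 1 0 0 1,
  mk6 1 1 1 0 1 0,
  mk6 1 1 1 0 1 1,
  mk6 1 1 1 1 0 0]

/-- The singular vector with a given number. -/
def rep3N (k : ℕ) : I6 → ZMod 2 := tbl3.getD k 0

/-- The singular vectors. -/
def rep3 (i : Fin 27) : I6 → ZMod 2 := rep3N i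

/-- The isometry group as matrices. -/
def rho3 : Cfsg.isometryGroup (ZMod 2) QM →* Matrix I6 I6 (ZMod 2) :=
  (Units.coeHom (Matrix I6 I6 (ZMod 2))).comp (Cfsg.isometryGroup (ZMod 2) QM).subtype

theorem h1 : ∀ i : Fin 27, (∃ k : I6, rep3N i k ≠ 0) ∧ Q6 (rep3N i) = 0 := by decide +kernel

theorem h3 : ∀ i j : Fin 27, ∀ t : ZMod 2, t ≠ 0 → (∀ k : I6, rep3N i k = t * rep3N j k) →
    i = j := by
  decide +kernel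

theorem h2 : ∀ x0 x1 y0 y1 z0 z1 : ZMod 2, (∃ k : I6, mk6 x0 x1 y0 y1 z0 z1 k ≠ 0) →
    Q6 (mk6 x0 x1 y0 y1 z0 z1) = 0 →
    ∃ i : Fin 27, ∃ t : ZMod 2, t ≠ 0 ∧ ∀ k : I6, mk6 x0 x1 y0 y1 z0 z1 k = t * rep3N i k := by
  decide +kernel

theorem rho3_Q (g : Cfsg.isometryGroup (ZMod 2) QM) (v : I6 → ZMod 2) :
    QM (rho3 g *ᵥ v) = QM v := g.2 v v

theorem psys3 : PSys rho3 (fun v => v ≠ 0 ∧ QM v = 0) 27 rep3 where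
  inv g v hv := by
    refine ⟨?_, by rw [rho3_Q]; exact hv.2⟩
    intro h0
    apply hv.1
    have : rho3 g⁻¹ *ᵥ (rho3 g *ᵥ v) = v := by
      rw [Matrix.mulVec_mulVec, ← map_mul, inv_mul_cancel, map_one, Matrix.one_mulVec]
    rw [← this, h0, Matrix.mulVec_zero]
  rep_mem i := by
    obtain ⟨⟨k, hk⟩, hq⟩ := h1 i
    refine ⟨?_, by rw [QM_eq]; exact hq⟩
    intro h0
    apply hk
    show rep3 i k = 0
    rw [h0]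
    rfl
  cover v hv := by
    have hv' := mk6_eta v
    have hex : ∃ k : I6, v k ≠ 0 := by
      by_contra hne
      push Not at hne
      exact hv.1 (funext hne)
    have hq := hv.2
    rw [QM_eq] at hq
    rw [hv'] at hex hq
    obtain ⟨i, t, ht, h⟩ := h2 _ _ _ _ _ _ hex hq
    refine ⟨i, t, ht, ?_⟩
    rw [hv']
    funext k
    exact h k
  uniq i j c hc h := h3 i j c hc (fun k => congrFun h k)

/-- The permutation representation on the 27 singular points. -/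
noncomputable def pi3 : Cfsg.isometryGroup (ZMod 2) QM →* Equiv.Perm (Fin 27) := psys3.hom

theorem pi3_eq_of_list (g : Cfsg.isometryGroup (ZMod 2) QM) (A : Matrix I6 I6 (ZMod 2))
    (hA : rho3 g = A) (l : List ℕ) (hl : l.length = 27)
    (h : ∀ i : Fin 27, l.getD i 0 < 27 ∧ ∃ t : ZMod 2, t ≠ 0 ∧
      ∀ k : I6, mv6 A (rep3N i) k = t * rep3N (l.getD i 0) k) : toL (pi3 g) = l := by
  apply toL_eq_of _ _ hl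
  intro i
  obtain ⟨hlt, t, ht, hk⟩ := h i
  have : pi3 g i = ⟨l.getD i 0, hlt⟩ := by
    refine (psys3.hom_apply_eq_iff g i _).2 ⟨t, ht, ?_⟩
    rw [hA, mulVec_eq6]
    funext k
    exact hk k
  rw [this]

/-- An involutory matrix preserving the form, as an element of the isometry group. -/
def isoOf (A : Matrix I6 I6 (ZMod 2)) (hAA : A * A = 1)
    (hQ : ∀ x0 x1 y0 y1 z0 z1 : ZMod 2, Q6 (mv6 A (mk6 x0 x1 y0 y1 z0 z1)) =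
      Q6 (mk6 x0 x1 y0 y1 z0 z1)) : Cfsg.isometryGroup (ZMod 2) QM :=
  ⟨⟨A, A, hAA, hAA⟩, by
    intro u _
    show QM (A *ᵥ u) = QM u
    rw [QM_eq, QM_eq, mulVec_eq6, mk6_eta u]
    exact hQ _ _ _ _ _ _⟩

/-! ### The generators: six reflections -/

/-- A reflection, as a matrix. -/
def R0 : Matrix I6 I6 (ZMod 2) := Matrix.fromBlocks (Matrix.fromBlocks !![1, 0; 0, 1] !![0, 0; 0, 0] !![0, 0; 0, 0] !![1, 0; 0, 1]) (Matrix.fromRows !![0, 0; 0, 0] !![0, 0; 0, 0]) (Matrix.fromCols !![0, 0; 0, 0] !![0, 0; 0, 0]) !![1, 0; 1, 1]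

theorem R0_sq : R0 * R0 = 1 := by decide +kernel

theorem R0_Q : ∀ x0 x1 y0 y1 z0 z1 : ZMod 2, Q6 (mv6 R0 (mk6 x0 x1 y0 y1 z0 z1)) =
    Q6 (mk6 x0 x1 y0 y1 z0 z1) := by decide +kernel

/-- A reflection. -/
def r0 : Cfsg.isometryGroup (ZMod 2) QM := isoOf R0 R0_sq R0_Q

/-- The permutation of a reflection. -/
def n0 : List ℕ := [0, 1, 2, 3, 4, 6, 5, 7, 8, 10, 9, 11, 12, 13, 15, 14, 16, 18, 17, 19, 20, 22, 21, 23, 25, 24, 26]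

theorem pi3_r0 : toL (pi3 r0) = n0 :=
  pi3_eq_of_list r0 R0 rfl n0 rfl (by decide +kernel)

/-- A reflection, as a matrix. -/
def R1 : Matrix I6 I6 (ZMod 2) := Matrix.fromBlocks (Matrix.fromBlocks !![1, 0; 0, 1] !![0, 0; 0, 0] !![0, 0; 0, 0] !![1, 0; 0, 1]) (Matrix.fromRows !![0, 0; 0, 0] !![0, 0; 0, 0]) (Matrix.fromCols !![0, 0; 0, 0] !![0, 0; 0, 0]) !![1, 1; 0, 1]

theorem R1_sq : R1 * R1 = 1 := by decide +kernel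

theorem R1_Q : ∀ x0 x1 y0 y1 z0 z1 : ZMod 2, Q6 (mv6 R1 (mk6 x0 x1 y0 y1 z0 z1)) =
    Q6 (mk6 x0 x1 y0 y1 z0 z1) := by decide +kernel

/-- A reflection. -/
def r1 : Cfsg.isometryGroup (ZMod 2) QM := isoOf R1 R1_sq R1_Q

/-- The permutation of a reflection. -/
def n1 : List ℕ := [0, 1, 2, 3, 6, 5, 4, 7, 10, 9, 8, 11, 12, 15, 14, 13, 18, 17, 16, 19, 22, 21, 20, 25, 24, 23, 26]

theorem pi3_r1 : toL (pi3 r1) = n1 :=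
  pi3_eq_of_list r1 R1 rfl n1 rfl (by decide +kernel)

/-- A reflection, as a matrix. -/
def R2 : Matrix I6 I6 (ZMod 2) := Matrix.fromBlocks (Matrix.fromBlocks !![1, 0; 0, 1] !![0, 0; 0, 0] !![0, 0; 0, 1] !![1, 0; 0, 1]) (Matrix.fromRows !![0, 0; 0, 0] !![0, 0; 1, 0]) (Matrix.fromCols !![0, 0; 0, 1] !![0, 0; 0, 0]) !![1, 0; 1, 1]

theorem R2_sq : R2 * R2 = 1 := by decide +kernel

theorem R2_Q : ∀ x0 x1 y0 y1 z0 z1 : ZMod 2, Q6 (mv6 R2 (mk6 x0 x1 y0 y1 z0 z1)) =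
    Q6 (mk6 x0 x1 y0 y1 z0 z1) := by decide +kernel

/-- A reflection. -/
def r2 : Cfsg.isometryGroup (ZMod 2) QM := isoOf R2 R2_sq R2_Q

/-- The permutation of a reflection. -/
def n2 : List ℕ := [0, 1, 2, 4, 3, 5, 6, 8, 7, 9, 10, 11, 12, 13, 18, 17, 16, 15, 14, 20, 19, 21, 22, 26, 24, 25, 23]

theorem pi3_r2 : toL (pi3 r2) = n2 :=
  pi3_eq_of_list r2 R2 rfl n2 rfl (by decide +kernel)

/-- A reflection, as a matrix. -/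
def R3 : Matrix I6 I6 (ZMod 2) := Matrix.fromBlocks (Matrix.fromBlocks !![1, 0; 0, 1] !![0, 0; 0, 0] !![1, 0; 0, 0] !![1, 0; 0, 1]) (Matrix.fromRows !![0, 0; 0, 0] !![1, 0; 0, 0]) (Matrix.fromCols !![0, 0; 1, 0] !![0, 0; 0, 0]) !![1, 0; 1, 1]

theorem R3_sq : R3 * R3 = 1 := by decide +kernel

theorem R3_Q : ∀ x0 x1 y0 y1 z0 z1 : ZMod 2, Q6 (mv6 R3 (mk6 x0 x1 y0 y1 z0 z1)) =
    Q6 (mk6 x0 x1 y0 y1 z0 z1) := by decide +kernel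

/-- A reflection. -/
def r3 : Cfsg.isometryGroup (ZMod 2) QM := isoOf R3 R3_sq R3_Q

/-- The permutation of a reflection. -/
def n3 : List ℕ := [0, 1, 2, 3, 4, 10, 9, 7, 8, 6, 5, 13, 16, 11, 14, 15, 12, 17, 18, 23, 26, 21, 22, 19, 24, 25, 20]

theorem pi3_r3 : toL (pi3 r3) = n3 :=
  pi3_eq_of_list r3 R3 rfl n3 rfl (by decide +kernel)

/-- A reflection, as a matrix. -/
def R4 : Matrix I6 I6 (ZMod 2) := Matrix.fromBlocks (Matrix.fromBlocks !![1, 0; 0, 1] !![0, 0; 0, 1] !![0, 0; 0, 0] !![1, 0; 0, 1]) (Matrix.fromRows !![0, 0; 1, 0] !![0, 0; 0, 0]) (Matrix.fromCols !![0, 0; 0, 0] !![0, 0; 0, 1]) !![1, 0; 1, 1]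

theorem R4_sq : R4 * R4 = 1 := by decide +kernel

theorem R4_Q : ∀ x0 x1 y0 y1 z0 z1 : ZMod 2, Q6 (mv6 R4 (mk6 x0 x1 y0 y1 z0 z1)) =
    Q6 (mk6 x0 x1 y0 y1 z0 z1) := by decide +kernel

/-- A reflection. -/
def r4 : Cfsg.isometryGroup (ZMod 2) QM := isoOf R4 R4_sq R4_Q

/-- The permutation of a reflection. -/
def n4 : List ℕ := [4, 1, 8, 3, 0, 5, 6, 7, 2, 9, 10, 11, 20, 13, 25, 24, 26, 17, 18, 19, 12, 21, 22, 23, 15, 14, 16]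

theorem pi3_r4 : toL (pi3 r4) = n4 :=
  pi3_eq_of_list r4 R4 rfl n4 rfl (by decide +kernel)

/-- A reflection, as a matrix. -/
def R5 : Matrix I6 I6 (ZMod 2) := Matrix.fromBlocks (Matrix.fromBlocks !![1, 0; 0, 1] !![1, 0; 0, 0] !![0, 0; 0, 0] !![1, 0; 0, 1]) (Matrix.fromRows !![1, 0; 0, 0] !![0, 0; 0, 0]) (Matrix.fromCols !![0, 0; 0, 0] !![0, 0; 1, 0]) !![1, 0; 1, 1]

theorem R5_sq : R5 * R5 = 1 := by decide +kernel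

theorem R5_Q : ∀ x0 x1 y0 y1 z0 z1 : ZMod 2, Q6 (mv6 R5 (mk6 x0 x1 y0 y1 z0 z1)) =
    Q6 (mk6 x0 x1 y0 y1 z0 z1) := by decide +kernel

/-- A reflection. -/
def r5 : Cfsg.isometryGroup (ZMod 2) QM := isoOf R5 R5_sq R5_Q

/-- The permutation of a reflection. -/
def n5 : List ℕ := [0, 13, 16, 3, 4, 22, 21, 23, 26, 9, 10, 11, 12, 1, 14, 15, 2, 17, 18, 19, 20, 6, 5, 7, 24, 25, 8]

theorem pi3_r5 : toL (pi3 r5) = n5 :=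
  pi3_eq_of_list r5 R5 rfl n5 rfl (by decide +kernel)

/-- The group generated by the permutations of the six reflections. -/
noncomputable def P27 : Subgroup (Equiv.Perm (Fin 27)) :=
  Subgroup.closure {pi3 r0, pi3 r1, pi3 r2, pi3 r3, pi3 r4, pi3 r5}

/-- A table of products of the generators. -/
def tblU : List (List ℕ) :=
  [[0, 1, 2, 3, 4, 6, 5, 7, 8, 10, 9, 11, 12, 13, 15, 14, 16, 18, 17, 19, 20, 22, 21, 23, 25, 24, 26],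
  [0, 1, 2, 3, 6, 5, 4, 7, 10, 9, 8, 11, 12, 15, 14, 13, 18, 17, 16, 19, 22, 21, 20, 25, 24, 23, 26],
  [0, 1, 2, 4, 3, 5, 6, 8, 7, 9, 10, 11, 12, 13, 18, 17, 16, 15, 14, 20, 19, 21, 22, 26, 24, 25, 23],
  [0, 1, 2, 3, 4, 10, 9, 7, 8, 6, 5, 13, 16, 11, 14, 15, 12, 17, 18, 23, 26, 21, 22, 19, 24, 25, 20],
  [4, 1, 8, 3, 0, 5, 6, 7, 2, 9, 10, 11, 20, 13, 25, 24, 26, 17, 18, 19, 12, 21, 22, 23, 15, 14, 16],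
  [0, 13, 16, 3, 4, 22, 21, 23, 26, 9, 10, 11, 12, 1, 14, 15, 2, 17, 18, 19, 20, 6, 5, 7, 24, 25, 8],
  [0, 1, 2, 3, 4, 5, 6, 7, 8, 9, 10, 11, 12, 13, 14, 15, 16, 17, 18, 19, 20, 21, 22, 23, 24, 25, 26],
  [6, 1, 10, 3, 0, 5, 4, 7, 2, 9, 8, 11, 22, 15, 23, 24, 26, 17, 16, 19, 12, 21, 20, 25, 13, 14, 18],
  [3, 1, 7, 4, 0, 5, 6, 8, 2, 9, 10, 11, 19, 13, 25, 24, 23, 15, 14, 20, 12, 21, 22, 26, 17, 18, 16],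
  [5, 1, 9, 3, 0, 6, 4, 7, 2, 10, 8, 11, 21, 14, 23, 25, 26, 18, 16, 19, 12, 22, 20, 24, 13, 15, 17],
  [9, 1, 5, 3, 0, 10, 4, 7, 2, 6, 8, 13, 22, 15, 19, 24, 20, 17, 12, 23, 16, 21, 26, 25, 11, 14, 18],
  [21, 13, 10, 3, 0, 22, 4, 23, 16, 9, 26, 11, 5, 15, 7, 24, 8, 17, 2, 19, 12, 6, 20, 25, 1, 14, 18],
  [10, 1, 6, 3, 0, 9, 4, 7, 2, 5, 8, 13, 21, 14, 19, 25, 20, 18, 12, 23, 16, 22, 26, 24, 11, 15, 17],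
  [22, 13, 9, 3, 0, 21, 4, 23, 16, 10, 26, 11, 6, 14, 7, 25, 8, 18, 2, 19, 12, 5, 20, 24, 1, 15, 17],
  [8, 1, 4, 3, 0, 9, 6, 7, 2, 5, 10, 15, 21, 14, 19, 23, 22, 16, 12, 25, 18, 20, 26, 24, 11, 13, 17],
  [20, 15, 9, 3, 0, 21, 6, 25, 18, 8, 26, 11, 4, 14, 7, 23, 10, 16, 2, 19, 12, 5, 22, 24, 1, 13, 17],
  [7, 1, 3, 4, 0, 9, 6, 8, 2, 5, 10, 17, 21, 18, 20, 26, 22, 16, 12, 25, 14, 19, 23, 24, 11, 13, 15],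
  [2, 1, 0, 3, 4, 9, 6, 7, 8, 5, 10, 24, 21, 25, 19, 23, 22, 26, 20, 14, 18, 12, 16, 15, 11, 13, 17],
  [26, 13, 4, 3, 0, 9, 21, 23, 16, 22, 10, 15, 6, 14, 19, 7, 5, 2, 12, 25, 18, 20, 8, 24, 11, 1, 17],
  [19, 17, 9, 4, 0, 21, 6, 25, 14, 7, 23, 11, 3, 18, 8, 26, 10, 16, 2, 20, 12, 5, 22, 24, 1, 13, 15],
  [12, 24, 9, 3, 4, 21, 6, 14, 18, 2, 16, 11, 0, 25, 7, 23, 10, 26, 8, 19, 20, 5, 22, 15, 1, 13, 17],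
  [23, 13, 3, 4, 0, 9, 21, 26, 16, 22, 10, 17, 6, 18, 20, 8, 5, 2, 12, 25, 14, 19, 7, 24, 11, 1, 15],
  [16, 13, 0, 3, 4, 9, 21, 23, 26, 22, 10, 24, 6, 25, 19, 7, 5, 8, 20, 14, 18, 12, 2, 15, 11, 1, 17],
  [25, 15, 3, 6, 0, 9, 21, 26, 18, 20, 8, 17, 4, 16, 22, 10, 5, 2, 12, 23, 14, 19, 7, 24, 11, 1, 13],
  [18, 15, 0, 3, 6, 9, 21, 25, 26, 20, 8, 24, 4, 23, 19, 7, 5, 10, 22, 14, 16, 12, 2, 13, 11, 1, 17],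
  [24, 14, 3, 5, 0, 10, 22, 26, 17, 20, 8, 18, 4, 16, 21, 9, 6, 2, 12, 23, 15, 19, 7, 25, 11, 1, 13],
  [14, 24, 3, 6, 4, 9, 21, 16, 18, 12, 2, 17, 0, 26, 22, 10, 5, 8, 20, 23, 25, 19, 7, 15, 11, 1, 13],
  [17, 14, 0, 3, 5, 10, 22, 24, 26, 20, 8, 25, 4, 23, 19, 7, 6, 9, 21, 15, 16, 12, 2, 13, 11, 1, 18],
  [15, 25, 3, 5, 4, 10, 22, 16, 17, 12, 2, 18, 0, 26, 21, 9, 6, 8, 20, 23, 24, 19, 7, 14, 11, 1, 13],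
  [13, 23, 3, 5, 6, 8, 20, 18, 17, 12, 2, 16, 0, 26, 21, 9, 4, 10, 22, 25, 24, 19, 7, 14, 11, 1, 15],
  [11, 19, 3, 10, 9, 8, 26, 18, 17, 16, 2, 12, 0, 20, 21, 6, 4, 5, 22, 25, 24, 23, 7, 14, 13, 1, 15],
  [1, 7, 3, 22, 21, 26, 20, 18, 17, 12, 16, 2, 0, 8, 6, 9, 4, 10, 5, 25, 24, 19, 23, 14, 11, 13, 15],
  [11, 19, 3, 8, 9, 10, 26, 16, 17, 18, 2, 12, 0, 22, 21, 4, 6, 5, 20, 23, 24, 25, 7, 14, 15, 1, 13],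
  [12, 25, 10, 2, 16, 17, 15, 22, 5, 4, 3, 0, 11, 24, 23, 26, 9, 8, 7, 1, 13, 14, 18, 21, 20, 19, 6],
  [0, 1, 2, 5, 4, 3, 6, 9, 8, 7, 10, 11, 12, 18, 14, 16, 15, 17, 13, 21, 20, 19, 22, 23, 26, 25, 24],
  [22, 11, 6, 3, 0, 21, 4, 19, 12, 5, 20, 13, 9, 14, 7, 25, 8, 18, 2, 23, 16, 10, 26, 24, 1, 15, 17],
  [20, 14, 10, 3, 22, 5, 0, 24, 8, 26, 17, 11, 4, 7, 23, 15, 16, 2, 9, 19, 6, 21, 12, 1, 13, 25, 18],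
  [6, 23, 17, 3, 12, 5, 20, 13, 8, 18, 2, 11, 22, 24, 1, 15, 16, 10, 26, 19, 0, 21, 4, 14, 7, 25, 9],
  [4, 24, 18, 3, 6, 21, 12, 14, 16, 2, 9, 11, 20, 1, 13, 25, 8, 26, 17, 19, 22, 5, 0, 7, 23, 15, 10],
  [0, 11, 12, 3, 4, 5, 6, 19, 20, 21, 22, 1, 2, 13, 14, 15, 16, 17, 18, 7, 8, 9, 10, 23, 24, 25, 26],
  [8, 1, 4, 3, 0, 6, 9, 7, 2, 10, 5, 15, 21, 14, 23, 19, 22, 12, 16, 25, 18, 26, 20, 24, 13, 11, 17],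
  [2, 1, 0, 3, 8, 5, 6, 7, 4, 9, 10, 23, 20, 19, 25, 24, 26, 22, 21, 13, 12, 18, 17, 11, 15, 14, 16],
  [4, 1, 8, 3, 2, 9, 6, 7, 0, 5, 10, 24, 18, 25, 13, 11, 17, 26, 20, 14, 21, 12, 16, 15, 23, 19, 22],
  [0, 1, 2, 3, 4, 6, 5, 7, 8, 10, 9, 11, 12, 13, 15, 14, 16, 18, 17, 19, 20, 22, 21, 23, 25, 24, 26],
  [23, 13, 3, 4, 0, 10, 22, 26, 16, 21, 9, 18, 5, 17, 20, 8, 6, 2, 12, 24, 15, 19, 7, 25, 11, 1, 14],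
  [24, 18, 4, 0, 23, 22, 19, 15, 5, 7, 10, 2, 21, 12, 14, 16, 9, 3, 6, 1, 20, 25, 26, 11, 17, 13, 8],
  [11, 12, 0, 23, 24, 7, 25, 8, 9, 26, 10, 3, 19, 6, 20, 5, 22, 4, 21, 13, 14, 1, 15, 17, 2, 18, 16],
  [17, 6, 23, 24, 11, 26, 1, 16, 22, 15, 10, 4, 25, 21, 14, 9, 7, 0, 19, 18, 20, 13, 8, 2, 3, 12, 5],
  [4, 25, 17, 2, 3, 16, 12, 22, 15, 5, 10, 24, 18, 1, 20, 26, 8, 11, 13, 21, 14, 6, 9, 0, 23, 19, 7],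
  [0, 1, 2, 3, 4, 10, 9, 7, 8, 6, 5, 13, 16, 11, 14, 15, 12, 17, 18, 23, 26, 21, 22, 19, 24, 25, 20],
  [0, 1, 2, 6, 4, 3, 5, 10, 8, 7, 9, 11, 12, 17, 15, 16, 14, 18, 13, 22, 20, 19, 21, 23, 26, 24, 25],
  [0, 1, 2, 10, 4, 3, 9, 6, 8, 7, 5, 13, 16, 18, 14, 12, 15, 17, 11, 21, 26, 23, 22, 19, 20, 25, 24],
  [0, 1, 2, 9, 4, 3, 10, 5, 8, 7, 6, 13, 16, 17, 15, 12, 14, 18, 11, 22, 26, 23, 21, 19, 20, 24, 25],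
  [0, 11, 12, 22, 4, 3, 21, 6, 20, 19, 5, 13, 16, 18, 14, 2, 15, 17, 1, 9, 26, 23, 10, 7, 8, 25, 24],
  [0, 1, 2, 7, 4, 5, 10, 3, 8, 9, 6, 18, 15, 17, 16, 12, 14, 13, 11, 22, 24, 23, 19, 21, 20, 26, 25],
  [0, 11, 12, 21, 4, 3, 22, 5, 20, 19, 6, 13, 16, 17, 15, 2, 14, 18, 1, 10, 26, 23, 9, 7, 8, 24, 25],
  [0, 1, 2, 8, 3, 5, 10, 4, 7, 9, 6, 14, 17, 15, 16, 12, 18, 13, 11, 22, 24, 26, 20, 21, 19, 23, 25],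
  [0, 11, 12, 19, 4, 5, 22, 3, 20, 21, 6, 18, 15, 17, 16, 2, 14, 13, 1, 10, 24, 23, 7, 9, 8, 26, 25],
  [0, 11, 12, 20, 3, 5, 22, 4, 19, 21, 6, 14, 17, 15, 16, 2, 18, 13, 1, 10, 24, 26, 8, 9, 7, 23, 25],
  [0, 13, 16, 23, 4, 10, 22, 3, 26, 21, 9, 18, 15, 17, 12, 2, 14, 11, 1, 5, 24, 19, 7, 6, 8, 20, 25],
  [0, 13, 16, 26, 3, 10, 22, 4, 23, 21, 9, 14, 17, 15, 12, 2, 18, 11, 1, 5, 24, 20, 8, 6, 7, 19, 25],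
  [0, 18, 15, 24, 5, 10, 22, 4, 23, 19, 7, 14, 17, 16, 12, 2, 13, 11, 1, 3, 26, 20, 8, 6, 9, 21, 25],
  [0, 17, 14, 25, 6, 9, 21, 4, 23, 19, 7, 15, 18, 16, 12, 2, 13, 11, 1, 3, 26, 20, 8, 5, 10, 22, 24],
  [0, 1, 2, 5, 3, 4, 6, 9, 7, 8, 10, 11, 12, 14, 18, 16, 17, 15, 13, 21, 19, 20, 22, 26, 23, 25, 24],
  [0, 1, 2, 3, 5, 4, 6, 7, 9, 8, 10, 11, 12, 14, 13, 15, 17, 16, 18, 19, 21, 20, 22, 24, 23, 25, 26],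
  [0, 11, 12, 19, 4, 6, 21, 3, 20, 22, 5, 17, 14, 18, 16, 2, 15, 13, 1, 9, 25, 23, 7, 10, 8, 26, 24],
  [0, 18, 15, 10, 4, 5, 7, 19, 24, 23, 22, 1, 2, 13, 14, 12, 16, 17, 11, 6, 8, 9, 3, 21, 20, 25, 26],
  [0, 11, 12, 22, 4, 5, 19, 6, 20, 21, 3, 18, 15, 13, 14, 2, 16, 17, 1, 7, 24, 23, 10, 9, 8, 25, 26],
  [0, 18, 15, 7, 4, 5, 10, 22, 24, 23, 19, 1, 2, 17, 16, 12, 14, 13, 11, 3, 8, 9, 6, 21, 20, 26, 25],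
  [0, 1, 2, 3, 4, 10, 9, 7, 8, 6, 5, 13, 16, 11, 14, 15, 12, 17, 18, 23, 26, 21, 22, 19, 24, 25, 20],
  [0, 1, 2, 4, 3, 6, 5, 8, 7, 10, 9, 11, 12, 13, 17, 18, 16, 14, 15, 20, 19, 22, 21, 26, 25, 24, 23],
  [0, 1, 2, 3, 4, 6, 5, 7, 8, 10, 9, 11, 12, 13, 15, 14, 16, 18, 17, 19, 20, 22, 21, 23, 25, 24, 26],
  [0, 1, 2, 3, 10, 4, 9, 7, 6, 8, 5, 13, 16, 14, 11, 15, 17, 12, 18, 23, 21, 26, 22, 24, 19, 25, 20],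
  [0, 1, 2, 3, 6, 4, 5, 7, 10, 8, 9, 11, 12, 15, 13, 14, 18, 16, 17, 19, 22, 20, 21, 25, 23, 24, 26],
  [0, 11, 12, 3, 22, 4, 21, 19, 6, 20, 5, 13, 16, 14, 1, 15, 17, 2, 18, 23, 9, 26, 10, 24, 7, 25, 8],
  [0, 1, 2, 3, 9, 4, 10, 7, 5, 8, 6, 13, 16, 15, 11, 14, 18, 12, 17, 23, 22, 26, 21, 25, 19, 24, 20],
  [0, 11, 12, 3, 21, 4, 22, 19, 5, 20, 6, 13, 16, 15, 1, 14, 18, 2, 17, 23, 10, 26, 9, 25, 7, 24, 8],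
  [0, 1, 2, 3, 8, 5, 10, 7, 4, 9, 6, 14, 17, 15, 11, 13, 18, 12, 16, 24, 22, 26, 20, 25, 19, 23, 21],
  [0, 11, 12, 3, 20, 5, 22, 19, 4, 21, 6, 14, 17, 15, 1, 13, 18, 2, 16, 24, 10, 26, 8, 25, 7, 23, 9],
  [0, 13, 16, 3, 26, 10, 22, 23, 4, 21, 9, 14, 17, 15, 1, 11, 18, 2, 12, 24, 5, 20, 8, 25, 7, 19, 6],
  [0, 11, 12, 3, 20, 6, 21, 19, 4, 22, 5, 15, 18, 14, 1, 13, 17, 2, 16, 25, 9, 26, 8, 24, 7, 23, 10],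
  [0, 14, 17, 3, 10, 5, 8, 24, 20, 26, 22, 1, 2, 13, 11, 15, 16, 12, 18, 7, 6, 9, 4, 23, 19, 25, 21],
  [0, 11, 12, 3, 22, 5, 20, 19, 6, 21, 4, 14, 17, 13, 1, 15, 16, 2, 18, 24, 8, 26, 10, 23, 7, 25, 9],
  [0, 14, 17, 3, 8, 5, 10, 24, 22, 26, 20, 1, 2, 15, 11, 13, 18, 12, 16, 7, 4, 9, 6, 25, 19, 23, 21],
  [0, 1, 2, 3, 4, 10, 9, 7, 8, 6, 5, 13, 16, 11, 14, 15, 12, 17, 18, 23, 26, 21, 22, 19, 24, 25, 20],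
  [0, 1, 2, 3, 8, 10, 5, 7, 4, 6, 9, 14, 17, 15, 13, 11, 18, 16, 12, 24, 22, 20, 26, 25, 23, 19, 21],
  [0, 1, 2, 3, 4, 6, 5, 7, 8, 10, 9, 11, 12, 13, 15, 14, 16, 18, 17, 19, 20, 22, 21, 23, 25, 24, 26],
  [0, 13, 16, 3, 22, 4, 21, 23, 9, 26, 10, 11, 12, 14, 1, 15, 17, 2, 18, 19, 6, 20, 5, 24, 7, 25, 8],
  [0, 13, 16, 3, 10, 22, 26, 23, 21, 9, 4, 14, 17, 1, 11, 15, 2, 12, 18, 24, 20, 8, 5, 7, 19, 25, 6],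
  [0, 14, 17, 3, 5, 10, 8, 24, 26, 20, 22, 1, 2, 11, 13, 15, 12, 16, 18, 7, 9, 6, 4, 19, 23, 25, 21],
  [0, 11, 12, 3, 4, 5, 6, 19, 20, 21, 22, 1, 2, 13, 14, 15, 16, 17, 18, 7, 8, 9, 10, 23, 24, 25, 26],
  [0, 1, 2, 3, 4, 9, 10, 7, 8, 5, 6, 13, 16, 11, 15, 14, 12, 18, 17, 23, 26, 22, 21, 19, 25, 24, 20],
  [0, 11, 12, 3, 4, 22, 21, 19, 20, 6, 5, 13, 16, 1, 14, 15, 2, 17, 18, 23, 26, 9, 10, 7, 24, 25, 8],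
  [0, 11, 12, 3, 4, 21, 22, 19, 20, 5, 6, 13, 16, 1, 15, 14, 2, 18, 17, 23, 26, 10, 9, 7, 25, 24, 8],
  [0, 13, 16, 3, 4, 21, 22, 23, 26, 10, 9, 11, 12, 1, 15, 14, 2, 18, 17, 19, 20, 5, 6, 7, 25, 24, 8],
  [0, 13, 16, 3, 4, 10, 9, 23, 26, 21, 22, 1, 2, 11, 14, 15, 12, 17, 18, 7, 8, 6, 5, 19, 24, 25, 20],
  [0, 11, 12, 3, 4, 22, 21, 19, 20, 6, 5, 13, 16, 1, 14, 15, 2, 17, 18, 23, 26, 9, 10, 7, 24, 25, 8],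
  [0, 13, 16, 3, 4, 9, 10, 23, 26, 22, 21, 1, 2, 11, 15, 14, 12, 18, 17, 7, 8, 5, 6, 19, 25, 24, 20],
  [0, 11, 12, 3, 4, 5, 6, 19, 20, 21, 22, 1, 2, 13, 14, 15, 16, 17, 18, 7, 8, 9, 10, 23, 24, 25, 26],
  [0, 1, 2, 3, 9, 10, 4, 7, 5, 6, 8, 13, 16, 15, 14, 11, 18, 17, 12, 23, 22, 21, 26, 25, 24, 19, 20],
  [0, 1, 2, 4, 9, 10, 3, 8, 5, 6, 7, 13, 16, 17, 18, 11, 14, 15, 12, 26, 22, 21, 23, 25, 24, 20, 19],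
  [0, 1, 2, 4, 3, 10, 9, 8, 7, 6, 5, 13, 16, 11, 18, 17, 12, 15, 14, 26, 23, 21, 22, 20, 24, 25, 19],
  [0, 1, 2, 3, 4, 9, 10, 7, 8, 5, 6, 13, 16, 11, 15, 14, 12, 18, 17, 23, 26, 22, 21, 19, 25, 24, 20],
  [0, 1, 2, 4, 3, 10, 9, 8, 7, 6, 5, 13, 16, 11, 18, 17, 12, 15, 14, 26, 23, 21, 22, 20, 24, 25, 19],
  [0, 1, 2, 4, 3, 5, 6, 8, 7, 9, 10, 11, 12, 13, 18, 17, 16, 15, 14, 20, 19, 21, 22, 26, 24, 25, 23],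
  [0, 1, 2, 4, 3, 6, 5, 8, 7, 10, 9, 11, 12, 13, 17, 18, 16, 14, 15, 20, 19, 22, 21, 26, 25, 24, 23],
  [0, 1, 2, 6, 3, 4, 5, 10, 7, 8, 9, 11, 12, 15, 17, 16, 18, 14, 13, 22, 19, 20, 21, 26, 23, 24, 25],
  [0, 1, 2, 4, 3, 6, 5, 8, 7, 10, 9, 11, 12, 13, 17, 18, 16, 14, 15, 20, 19, 22, 21, 26, 25, 24, 23],
  [0, 13, 16, 4, 3, 21, 22, 26, 23, 10, 9, 11, 12, 1, 17, 18, 2, 14, 15, 20, 19, 5, 6, 8, 25, 24, 7],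
  [0, 15, 18, 6, 3, 21, 20, 26, 25, 8, 9, 11, 12, 1, 17, 16, 2, 14, 13, 22, 19, 5, 4, 10, 23, 24, 7],
  [0, 16, 13, 20, 6, 5, 19, 7, 24, 25, 8, 11, 12, 15, 14, 2, 18, 17, 1, 4, 22, 21, 3, 9, 10, 23, 26],
  [0, 2, 1, 19, 20, 21, 22, 26, 23, 24, 25, 11, 12, 16, 17, 18, 13, 14, 15, 3, 4, 5, 6, 8, 9, 10, 7]]

/-- How `tblU` was computed. -/
def progU : List (ℕ × ℕ) :=
  [(0, 0), (1, 4), (2, 4), (0, 7), (3, 7), (5, 7), (3, 9), (5, 9), (1, 12), (1, 13), (2, 14), (4, 14), (5, 14), (2, 15), (4, 15), (5, 16), (5, 17), (1, 21), (1, 22), (0, 23), (4, 23), (0, 24), (4, 25), (1, 28), (3, 29), (5, 29), (1, 30), (30, 30), (33, 32), (3, 13), (13, 13), (36, 36), (13, 37), (38, 35), (3, 14), (14, 14), (14, 41), (42, 40), (0, 21), (21, 21), (21, 45), (45, 45), (46, 47), (48, 44), (43, 34), (49, 34), (49, 50), (39, 51),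 (34, 52), (39, 52), (2, 54), (39, 54), (39, 56), (49, 57), (49, 58), (34, 60), (43, 61), (2, 34), (34, 63), (43, 57), (57, 57), (66, 66), (57, 67), (68, 65), (43, 2), (2, 70), (69, 64), (71, 64), (39, 72), (71, 72), (71, 74), (64, 75), (64, 76), (69, 78), (71, 78), (78, 78), (81, 81), (78, 82), (83, 80), (69, 77), (77, 85), (69, 74), (74, 74), (74, 88), (89, 87), (86, 84), (90, 84), (90, 91), (84, 93), (93, 93), (95, 95), (93, 96), (97, 94), (3, 1), (2, 99), (3, 2), (0, 3), (3, 2), (3, 103), (0, 104), (1, 105), (1, 106), (5, 107), (1, 108), (109, 109), (109, 110)]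

theorem tblU_prog : ∀ k < progU.length, (progU.getD k (0, 0)).1 < 6 + k ∧
    (progU.getD k (0, 0)).2 < 6 + k ∧
    tblU.getD (6 + k) [] =
      compL (tblU.getD (progU.getD k (0, 0)).1 []) (tblU.getD (progU.getD k (0, 0)).2 []) := by
  decide +kernel

theorem tblU_sound : ∀ k < tblU.length, ∃ σ ∈ P27, tblU.getD k [] = toL σ := by
  have hlen : tblU.length = 6 + progU.length := by decide +kernel
  rw [hlen]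
  apply table_sound P27 tblU 6 _ progU tblU_prog
  intro k hk
  interval_cases k
  · exact ⟨pi3 r0, Subgroup.subset_closure (by simp), pi3_r0.symm⟩
  · exact ⟨pi3 r1, Subgroup.subset_closure (by simp), pi3_r1.symm⟩
  · exact ⟨pi3 r2, Subgroup.subset_closure (by simp), pi3_r2.symm⟩
  · exact ⟨pi3 r3, Subgroup.subset_closure (by simp), pi3_r3.symm⟩
  · exact ⟨pi3 r4, Subgroup.subset_closure (by simp), pi3_r4.symm⟩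
  · exact ⟨pi3 r5, Subgroup.subset_closure (by simp), pi3_r5.symm⟩

/-- A partial transversal. -/
def jdx0 : List ℕ := [6, 4, 7, 8, 9, 10, 11, 12, 13, 14, 15, 16, 17, 18, 19, 20, 21, 22, 23, 24, 25, 26, 27, 28, 29, 30, 31]

/-- A partial transversal. -/
def jdx1 : List ℕ := [6, 34, 2, 50, 51, 52, 53, 54, 55, 56, 57, 58, 59, 60, 61, 62]

/-- A partial transversal. -/
def jdx2 : List ℕ := [6, 64, 72, 73, 74, 75, 76, 77, 78, 79]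

/-- A partial transversal. -/
def jdx3 : List ℕ := [6, 84, 86, 91, 92, 93]

/-- A partial transversal. -/
def jdx4 : List ℕ := [6, 98]

theorem card_P27 : 51840 ≤ Nat.card P27 := by
  have h0 := level_bound P27 tblU tblU_sound [] 0 (by norm_num) jdx0
    (by decide +kernel) (by decide +kernel)
  have h1 := level_bound P27 tblU tblU_sound [0] 3 (by norm_num) jdx1
    (by decide +kernel) (by decide +kernel)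
  have h2 := level_bound P27 tblU tblU_sound [3, 0] 4 (by norm_num) jdx2
    (by decide +kernel) (by decide +kernel)
  have h3 := level_bound P27 tblU tblU_sound [4, 3, 0] 5 (by norm_num) jdx3
    (by decide +kernel) (by decide +kernel)
  have h4 := level_bound P27 tblU tblU_sound [5, 4, 3, 0] 1 (by norm_num) jdx4
    (by decide +kernel) (by decide +kernel)
  have hlast : 0 < Nat.card ↥(P27 ⊓ fixL 27 [1, 5, 4, 3, 0]) := Nat.card_pos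
  rw [fixL_nil, inf_top_eq] at h0
  have e0 : jdx0.length = 27 := rfl
  rw [e0] at h0
  have e1 : jdx1.length = 16 := rfl
  rw [e1] at h1
  have e2 : jdx2.length = 10 := rfl
  rw [e2] at h2
  have e3 : jdx3.length = 6 := rfl
  rw [e3] at h3
  have e4 : jdx4.length = 2 := rfl
  rw [e4] at h4
  omega

end Cfsg.Agent.Helper37.Exc
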