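import Mathlib
import Cfsg.Agent.Lib.Helper37.ExcH
import Cfsg.Agent.Lib.Helper37.ExcF

/-!
# A Sylow 2-subgroup of the group `P27` and an isomorphic subgroup of the symmetric group of degree 8
-/

set_option autoImplicit false

namespace Cfsg.Agent.Helper37.Exc

open Equiv

/-- A permutation of 8 points. -/
def u8_0 : Perm (Fin 8) := Equiv.swap 0 1 * Equiv.swap 1 3 * Equiv.swap 3 6 * Equiv.swap 2 5 * Equiv.swap 5 7 * Equiv.swap 7 4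

theorem u8_0_toL : toL u8_0 = [1, 3, 5, 6, 2, 7, 0, 4] := by decide +kernel

/-- A permutation of 8 points. -/
def u8_1 : Perm (Fin 8) := Equiv.swap 0 2 * Equiv.swap 1 4 * Equiv.swap 3 7 * Equiv.swap 5 6

theorem u8_1_toL : toL u8_1 = [2, 4, 0, 7, 1, 6, 5, 3] := by decide +kernel

/-- A permutation of 8 points. -/
def u8_2 : Perm (Fin 8) := Equiv.swap 0 2 * Equiv.swap 1 3 * Equiv.swap 4 7 * Equiv.swap 5 6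

theorem u8_2_toL : toL u8_2 = [2, 3, 0, 1, 7, 6, 5, 4] := by decide +kernel

/-- A permutation of 8 points. -/
def u8_3 : Perm (Fin 8) := Equiv.swap 2 6

theorem u8_3_toL : toL u8_3 = [0, 1, 6, 3, 4, 5, 2, 7] := by decide +kernel

/-- The elements of the diagonal subgroup. -/
def tblE : List (List ℕ × List ℕ) :=
  [([0, 1, 2, 4, 9, 10, 3, 8, 5, 6, 7, 13, 16, 17, 18, 11, 14, 15, 12, 26, 22, 21, 23, 25, 24, 20, 19], [1, 3, 5, 6, 2, 7, 0, 4]),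
  ([0, 1, 2, 4, 3, 10, 9, 8, 7, 6, 5, 13, 16, 11, 18, 17, 12, 15, 14, 26, 23, 21, 22, 20, 24, 25, 19], [2, 4, 0, 7, 1, 6, 5, 3]),
  ([0, 1, 2, 3, 4, 9, 10, 7, 8, 5, 6, 13, 16, 11, 15, 14, 12, 18, 17, 23, 26, 22, 21, 19, 25, 24, 20], [2, 3, 0, 1, 7, 6, 5, 4]),
  ([0, 2, 1, 19, 20, 21, 22, 26, 23, 24, 25, 11, 12, 16, 17, 18, 13, 14, 15, 3, 4, 5, 6, 8, 9, 10, 7], [0, 1, 6, 3, 4, 5, 2, 7]),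
  ([0, 1, 2, 9, 6, 7, 4, 5, 10, 3, 8, 17, 14, 15, 12, 13, 18, 11, 16, 19, 23, 21, 25, 20, 24, 22, 26], [3, 6, 7, 0, 5, 4, 1, 2]),
  ([0, 1, 2, 3, 6, 5, 4, 7, 10, 9, 8, 11, 12, 15, 14, 13, 18, 17, 16, 19, 22, 21, 20, 25, 24, 23, 26], [4, 7, 6, 5, 0, 3, 2, 1]),
  ([0, 1, 2, 4, 5, 6, 3, 8, 9, 10, 7, 11, 12, 18, 17, 13, 15, 14, 16, 20, 21, 22, 19, 24, 25, 26, 23], [3, 1, 6, 5, 0, 4, 2, 7]),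
  ([0, 2, 1, 20, 24, 25, 19, 23, 21, 22, 26, 16, 13, 14, 15, 11, 17, 18, 12, 7, 6, 5, 8, 10, 9, 4, 3], [1, 3, 5, 2, 6, 7, 0, 4]),
  ([0, 1, 2, 9, 4, 7, 6, 5, 8, 3, 10, 17, 14, 13, 12, 15, 16, 11, 18, 19, 25, 21, 23, 22, 24, 20, 26], [5, 2, 1, 4, 3, 0, 7, 6]),
  ([0, 1, 2, 3, 4, 5, 6, 7, 8, 9, 10, 11, 12, 13, 14, 15, 16, 17, 18, 19, 20, 21, 22, 23, 24, 25, 26], [0, 1, 2, 3, 4, 5, 6, 7]),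
  ([0, 1, 2, 4, 3, 6, 5, 8, 7, 10, 9, 11, 12, 13, 17, 18, 16, 14, 15, 20, 19, 22, 21, 26, 25, 24, 23], [0, 7, 2, 4, 3, 5, 6, 1]),
  ([0, 2, 1, 20, 19, 25, 24, 23, 26, 22, 21, 16, 13, 11, 15, 14, 12, 18, 17, 7, 8, 5, 6, 4, 9, 10, 3], [6, 4, 0, 7, 1, 2, 5, 3]),
  ([0, 1, 2, 4, 9, 6, 7, 8, 5, 10, 3, 17, 14, 13, 11, 18, 16, 12, 15, 25, 19, 23, 21, 26, 20, 24, 22], [5, 6, 1, 3, 4, 0, 7, 2]),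
  ([0, 2, 1, 19, 20, 24, 25, 26, 23, 21, 22, 16, 13, 11, 18, 17, 12, 15, 14, 8, 7, 6, 5, 3, 10, 9, 4], [6, 3, 0, 1, 7, 2, 5, 4]),
  ([0, 2, 1, 26, 22, 21, 23, 19, 25, 24, 20, 13, 16, 14, 15, 12, 17, 18, 11, 4, 9, 10, 3, 5, 6, 7, 8], [1, 3, 0, 6, 2, 7, 5, 4]),
  ([0, 2, 1, 26, 23, 21, 22, 19, 20, 24, 25, 13, 16, 12, 15, 14, 11, 18, 17, 4, 3, 10, 9, 7, 6, 5, 8], [2, 4, 5, 7, 1, 6, 0, 3]),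
  ([0, 2, 1, 23, 26, 22, 21, 20, 19, 25, 24, 13, 16, 12, 18, 17, 11, 15, 14, 3, 4, 9, 10, 8, 5, 6, 7], [2, 3, 5, 1, 7, 6, 0, 4]),
  ([0, 1, 2, 6, 3, 8, 9, 10, 7, 4, 5, 15, 18, 11, 16, 17, 12, 13, 14, 26, 25, 21, 20, 22, 24, 23, 19], [6, 0, 4, 1, 7, 2, 3, 5]),
  ([0, 1, 2, 6, 9, 8, 3, 10, 5, 4, 7, 15, 18, 17, 16, 11, 14, 13, 12, 26, 20, 21, 25, 23, 24, 22, 19], [7, 5, 3, 2, 6, 1, 4, 0]),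
  ([0, 1, 2, 5, 10, 7, 4, 9, 6, 3, 8, 18, 15, 14, 16, 11, 17, 13, 12, 23, 19, 22, 24, 26, 25, 21, 20], [1, 5, 4, 2, 6, 7, 3, 0]),
  ([0, 2, 1, 24, 22, 26, 20, 21, 25, 19, 23, 14, 17, 18, 12, 16, 15, 11, 13, 3, 8, 5, 10, 4, 9, 6, 7], [3, 2, 7, 0, 5, 4, 1, 6]),
  ([0, 1, 2, 3, 10, 9, 4, 7, 6, 5, 8, 13, 16, 14, 15, 11, 17, 18, 12, 23, 21, 22, 26, 24, 25, 19, 20], [7, 4, 5, 6, 2, 1, 0, 3]),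
  ([0, 2, 1, 19, 22, 21, 20, 26, 25, 24, 23, 11, 12, 18, 17, 16, 15, 14, 13, 3, 6, 5, 4, 10, 9, 8, 7], [4, 7, 2, 5, 0, 3, 6, 1]),
  ([0, 1, 2, 9, 10, 3, 4, 5, 6, 7, 8, 13, 16, 12, 15, 17, 11, 18, 14, 22, 21, 23, 26, 24, 20, 19, 25], [6, 3, 0, 7, 1, 2, 5, 4]),
  ([0, 2, 1, 20, 21, 22, 19, 23, 24, 25, 26, 11, 12, 15, 14, 16, 18, 17, 13, 4, 5, 6, 3, 9, 10, 7, 8], [3, 1, 2, 5, 0, 4, 6, 7]),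
  ([0, 2, 1, 22, 24, 20, 26, 25, 21, 23, 19, 14, 17, 18, 11, 13, 15, 12, 16, 8, 3, 10, 5, 7, 6, 9, 4], [3, 6, 7, 5, 0, 4, 1, 2]),
  ([0, 2, 1, 23, 24, 25, 26, 20, 21, 22, 19, 12, 11, 18, 17, 13, 15, 14, 16, 8, 9, 10, 7, 5, 6, 3, 4], [4, 7, 6, 0, 5, 3, 2, 1]),
  ([0, 2, 1, 26, 25, 24, 23, 19, 22, 21, 20, 12, 11, 15, 14, 13, 18, 17, 16, 7, 10, 9, 8, 6, 5, 4, 3], [3, 1, 6, 0, 5, 4, 2, 7]),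
  ([0, 1, 2, 5, 4, 7, 10, 9, 8, 3, 6, 18, 15, 11, 16, 14, 12, 13, 17, 23, 24, 22, 19, 21, 25, 26, 20], [6, 0, 3, 7, 1, 2, 4, 5]),
  ([0, 2, 1, 24, 20, 26, 22, 21, 23, 19, 25, 14, 17, 16, 12, 18, 13, 11, 15, 3, 10, 5, 8, 6, 9, 4, 7], [5, 6, 1, 4, 3, 0, 7, 2]),
  ([0, 1, 2, 9, 4, 3, 10, 5, 8, 7, 6, 13, 16, 17, 15, 12, 14, 18, 11, 22, 26, 23, 21, 19, 20, 24, 25], [1, 4, 5, 2, 6, 7, 0, 3]),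
  ([0, 2, 1, 20, 19, 22, 21, 23, 26, 25, 24, 11, 12, 16, 14, 15, 13, 17, 18, 4, 3, 6, 5, 7, 10, 9, 8], [0, 7, 6, 4, 3, 5, 2, 1]),
  ([0, 2, 1, 22, 26, 20, 24, 25, 19, 23, 21, 14, 17, 13, 11, 18, 16, 12, 15, 8, 5, 10, 3, 9, 6, 7, 4], [0, 2, 1, 4, 3, 5, 7, 6]),
  ([0, 2, 1, 23, 26, 25, 24, 20, 19, 22, 21, 12, 11, 13, 17, 18, 16, 14, 15, 8, 7, 10, 9, 3, 6, 5, 4], [5, 1, 2, 3, 4, 0, 6, 7]),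
  ([0, 2, 1, 26, 23, 24, 25, 19, 20, 21, 22, 12, 11, 13, 14, 15, 16, 17, 18, 7, 8, 9, 10, 4, 5, 6, 3], [5, 7, 2, 4, 3, 0, 6, 1]),
  ([0, 1, 2, 9, 6, 3, 8, 5, 10, 7, 4, 15, 18, 17, 13, 12, 14, 16, 11, 20, 26, 25, 21, 19, 22, 24, 23], [7, 0, 3, 6, 2, 1, 4, 5]),
  ([0, 1, 2, 3, 6, 9, 8, 7, 10, 5, 4, 15, 18, 11, 13, 14, 12, 16, 17, 25, 26, 20, 21, 19, 23, 24, 22], [6, 5, 4, 7, 1, 2, 3, 0]),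
  ([0, 1, 2, 4, 5, 10, 7, 8, 9, 6, 3, 18, 15, 11, 13, 17, 12, 16, 14, 24, 23, 19, 22, 20, 26, 25, 21], [6, 5, 3, 1, 7, 2, 4, 0]),
  ([0, 2, 1, 20, 24, 22, 26, 23, 21, 25, 19, 14, 17, 16, 11, 15, 13, 12, 18, 10, 3, 8, 5, 7, 4, 9, 6], [5, 2, 1, 3, 4, 0, 7, 6]),
  ([0, 2, 1, 26, 22, 24, 20, 19, 25, 21, 23, 14, 17, 13, 12, 15, 16, 11, 18, 5, 8, 3, 10, 4, 7, 6, 9], [0, 6, 1, 3, 4, 5, 7, 2]),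
  ([0, 2, 1, 19, 23, 21, 25, 26, 20, 24, 22, 17, 14, 18, 11, 16, 15, 12, 13, 9, 6, 7, 4, 10, 3, 8, 5], [3, 6, 1, 0, 5, 4, 7, 2]),
  ([0, 1, 2, 7, 6, 5, 8, 3, 10, 9, 4, 16, 13, 17, 18, 12, 14, 15, 11, 20, 24, 25, 19, 21, 22, 26, 23], [1, 3, 0, 2, 6, 7, 5, 4]),
  ([0, 2, 1, 19, 25, 21, 23, 26, 22, 24, 20, 17, 14, 16, 11, 18, 13, 12, 15, 9, 4, 7, 6, 8, 3, 10, 5], [5, 2, 7, 4, 3, 0, 1, 6]),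
  ([0, 1, 2, 7, 8, 5, 6, 3, 4, 9, 10, 16, 13, 12, 18, 17, 11, 15, 14, 20, 19, 25, 24, 26, 22, 21, 23], [6, 4, 5, 7, 1, 2, 0, 3]),
  ([0, 2, 1, 25, 19, 23, 21, 22, 26, 20, 24, 17, 14, 16, 12, 15, 13, 11, 18, 4, 9, 6, 7, 5, 10, 3, 8], [5, 6, 7, 3, 4, 0, 1, 2]),
  ([0, 1, 2, 8, 7, 6, 5, 4, 3, 10, 9, 16, 13, 12, 15, 14, 11, 18, 17, 19, 20, 24, 25, 23, 21, 22, 26], [6, 3, 5, 1, 7, 2, 0, 4]),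
  ([0, 1, 2, 10, 3, 8, 5, 6, 7, 4, 9, 14, 17, 13, 12, 18, 16, 11, 15, 20, 24, 22, 26, 21, 25, 19, 23], [5, 2, 7, 3, 4, 0, 1, 6]),
  ([0, 2, 1, 22, 19, 23, 24, 25, 26, 20, 21, 18, 15, 11, 13, 14, 12, 16, 17, 7, 10, 5, 4, 6, 9, 8, 3], [2, 0, 4, 1, 7, 6, 3, 5]),
  ([0, 1, 2, 10, 5, 8, 3, 6, 9, 4, 7, 14, 17, 18, 12, 13, 15, 11, 16, 20, 26, 22, 24, 19, 25, 21, 23], [4, 6, 1, 0, 5, 3, 7, 2]),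
  ([0, 2, 1, 22, 24, 23, 19, 25, 21, 20, 26, 18, 15, 14, 13, 11, 17, 16, 12, 7, 4, 5, 10, 8, 9, 6, 3], [7, 5, 3, 6, 2, 1, 4, 0]),
  ([0, 1, 2, 10, 7, 8, 9, 6, 3, 4, 5, 12, 11, 18, 14, 13, 15, 17, 16, 25, 26, 23, 24, 19, 20, 21, 22], [3, 7, 2, 5, 0, 4, 6, 1]),
  ([0, 2, 1, 21, 25, 26, 20, 24, 22, 19, 23, 15, 18, 17, 13, 11, 14, 16, 12, 8, 3, 6, 9, 7, 10, 5, 4], [1, 5, 4, 6, 2, 7, 3, 0]),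
  ([0, 2, 1, 24, 23, 19, 22, 21, 20, 26, 25, 18, 15, 12, 16, 14, 11, 13, 17, 4, 5, 10, 7, 9, 6, 3, 8], [6, 5, 4, 1, 7, 2, 3, 0]),
  ([0, 2, 1, 24, 22, 19, 23, 21, 25, 26, 20, 18, 15, 14, 16, 12, 17, 13, 11, 4, 7, 10, 5, 3, 6, 9, 8], [7, 0, 3, 2, 6, 1, 4, 5]),
  ([0, 2, 1, 25, 21, 20, 26, 22, 24, 23, 19, 15, 18, 17, 16, 12, 14, 13, 11, 3, 8, 9, 6, 4, 5, 10, 7], [1, 0, 4, 2, 6, 7, 3, 5]),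
  ([0, 1, 2, 4, 7, 6, 9, 8, 3, 10, 5, 17, 14, 18, 11, 13, 15, 12, 16, 25, 21, 23, 19, 24, 20, 26, 22], [4, 2, 7, 0, 5, 3, 1, 6]),
  ([0, 2, 1, 19, 25, 24, 20, 26, 22, 21, 23, 16, 13, 17, 18, 11, 14, 15, 12, 8, 5, 6, 7, 9, 10, 3, 4], [7, 4, 5, 2, 6, 1, 0, 3]),
  ([0, 2, 1, 23, 21, 22, 26, 20, 24, 25, 19, 13, 16, 17, 18, 12, 14, 15, 11, 3, 10, 9, 4, 6, 5, 8, 7], [7, 4, 0, 6, 2, 1, 5, 3]),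
  ([0, 1, 2, 6, 7, 4, 9, 10, 3, 8, 5, 17, 14, 16, 11, 15, 13, 12, 18, 23, 21, 25, 19, 24, 22, 26, 20], [0, 6, 1, 4, 3, 5, 7, 2]),
  ([0, 1, 2, 6, 5, 4, 3, 10, 9, 8, 7, 11, 12, 16, 17, 15, 13, 14, 18, 22, 21, 20, 19, 24, 23, 26, 25], [5, 7, 2, 3, 4, 0, 6, 1]),
  ([0, 1, 2, 5, 6, 3, 4, 9, 10, 7, 8, 11, 12, 16, 14, 18, 13, 17, 15, 21, 22, 19, 20, 25, 26, 23, 24], [5, 1, 2, 4, 3, 0, 6, 7]),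
  ([0, 2, 1, 24, 25, 19, 20, 21, 22, 26, 23, 16, 13, 12, 18, 14, 11, 15, 17, 6, 5, 8, 7, 9, 4, 3, 10], [2, 3, 0, 7, 1, 6, 5, 4]),
  ([0, 2, 1, 22, 21, 23, 26, 25, 24, 20, 19, 13, 16, 11, 18, 14, 12, 15, 17, 9, 10, 3, 4, 6, 7, 8, 5], [6, 3, 5, 7, 1, 2, 0, 4]),
  ([0, 2, 1, 23, 24, 22, 19, 20, 21, 25, 26, 18, 15, 12, 13, 17, 11, 16, 14, 5, 4, 7, 10, 8, 3, 6, 9], [6, 0, 4, 7, 1, 2, 3, 5]),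
  ([0, 1, 2, 6, 9, 4, 7, 10, 5, 8, 3, 17, 14, 15, 11, 16, 18, 12, 13, 23, 19, 25, 21, 26, 22, 24, 20], [3, 2, 7, 5, 0, 4, 1, 6]),
  ([0, 2, 1, 25, 24, 20, 19, 22, 21, 23, 26, 16, 13, 12, 15, 17, 11, 18, 14, 5, 6, 7, 8, 10, 3, 4, 9], [2, 4, 0, 1, 7, 6, 5, 3]),
  ([0, 1, 2, 8, 9, 10, 7, 4, 5, 6, 3, 12, 11, 15, 14, 16, 18, 17, 13, 23, 24, 25, 26, 21, 22, 19, 20], [4, 7, 2, 0, 5, 3, 6, 1]),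
  ([0, 1, 2, 7, 10, 9, 8, 3, 6, 5, 4, 12, 11, 18, 17, 16, 15, 14, 13, 26, 25, 24, 23, 22, 21, 20, 19], [3, 1, 2, 0, 5, 4, 6, 7]),
  ([0, 1, 2, 10, 9, 8, 7, 6, 5, 4, 3, 12, 11, 13, 14, 18, 16, 17, 15, 25, 24, 23, 26, 21, 20, 19, 22], [0, 1, 6, 4, 3, 5, 2, 7]),
  ([0, 2, 1, 21, 20, 26, 25, 24, 23, 19, 22, 15, 18, 11, 13, 17, 12, 16, 14, 8, 9, 6, 3, 5, 10, 7, 4], [2, 0, 3, 7, 1, 6, 4, 5]),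
  ([0, 2, 1, 25, 26, 20, 21, 22, 19, 23, 24, 15, 18, 12, 16, 17, 11, 13, 14, 3, 6, 9, 8, 10, 5, 4, 7], [6, 5, 3, 7, 1, 2, 4, 0]),
  ([0, 1, 2, 6, 3, 4, 5, 10, 7, 8, 9, 11, 12, 15, 17, 16, 18, 14, 13, 22, 19, 20, 21, 26, 23, 24, 25], [4, 1, 6, 0, 5, 3, 2, 7]),
  ([0, 1, 2, 5, 4, 3, 6, 9, 8, 7, 10, 11, 12, 18, 14, 16, 15, 17, 13, 21, 20, 19, 22, 23, 26, 25, 24], [3, 7, 6, 0, 5, 4, 2, 1]),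
  ([0, 2, 1, 24, 20, 19, 25, 21, 23, 26, 22, 16, 13, 14, 18, 12, 17, 15, 11, 6, 7, 8, 5, 3, 4, 9, 10], [1, 4, 5, 6, 2, 7, 0, 3]),
  ([0, 2, 1, 22, 26, 23, 21, 25, 19, 20, 24, 13, 16, 14, 18, 11, 17, 15, 12, 9, 4, 3, 10, 8, 7, 6, 5], [1, 4, 0, 2, 6, 7, 5, 3]),
  ([0, 2, 1, 23, 19, 22, 24, 20, 26, 25, 21, 18, 15, 17, 13, 12, 14, 16, 11, 5, 10, 7, 4, 6, 3, 8, 9], [1, 5, 3, 2, 6, 7, 4, 0]),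
  ([0, 2, 1, 25, 19, 20, 24, 22, 26, 23, 21, 16, 13, 17, 15, 12, 14, 18, 11, 5, 8, 7, 6, 4, 3, 10, 9], [7, 3, 5, 6, 2, 1, 0, 4]),
  ([0, 1, 2, 8, 7, 10, 9, 4, 3, 6, 5, 12, 11, 16, 14, 15, 13, 17, 18, 23, 26, 25, 24, 19, 22, 21, 20], [5, 1, 6, 3, 4, 0, 2, 7]),
  ([0, 1, 2, 7, 8, 9, 10, 3, 4, 5, 6, 12, 11, 16, 17, 18, 13, 14, 15, 26, 23, 24, 25, 20, 21, 22, 19], [5, 7, 6, 4, 3, 0, 2, 1]),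
  ([0, 1, 2, 5, 10, 3, 8, 9, 6, 7, 4, 14, 17, 18, 11, 16, 15, 12, 13, 26, 20, 24, 22, 23, 21, 25, 19], [4, 2, 1, 5, 0, 3, 7, 6]),
  ([0, 1, 2, 3, 10, 5, 8, 7, 6, 9, 4, 14, 17, 13, 11, 15, 16, 12, 18, 24, 20, 26, 22, 23, 19, 25, 21], [5, 6, 7, 4, 3, 0, 1, 2]),
  ([0, 2, 1, 19, 22, 24, 23, 26, 25, 21, 20, 18, 15, 11, 16, 17, 12, 13, 14, 10, 7, 4, 5, 3, 8, 9, 6], [2, 5, 4, 7, 1, 6, 3, 0]),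
  ([0, 1, 2, 9, 10, 7, 8, 5, 6, 3, 4, 12, 11, 13, 17, 15, 16, 14, 18, 24, 25, 26, 23, 22, 19, 20, 21], [0, 7, 6, 3, 4, 5, 2, 1]),
  ([0, 2, 1, 20, 21, 25, 26, 23, 24, 22, 19, 15, 18, 11, 16, 14, 12, 13, 17, 9, 8, 3, 6, 4, 7, 10, 5], [2, 5, 3, 1, 7, 6, 4, 0]),
  ([0, 2, 1, 26, 25, 21, 20, 19, 22, 24, 23, 15, 18, 12, 13, 14, 11, 16, 17, 6, 3, 8, 9, 7, 4, 5, 10], [6, 0, 3, 1, 7, 2, 4, 5]),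
  ([0, 2, 1, 19, 23, 24, 22, 26, 20, 21, 25, 18, 15, 17, 16, 11, 14, 13, 12, 10, 5, 4, 7, 9, 8, 3, 6], [1, 0, 3, 6, 2, 7, 4, 5]),
  ([0, 1, 2, 7, 6, 9, 4, 3, 10, 5, 8, 17, 14, 16, 12, 18, 13, 11, 15, 21, 23, 19, 25, 20, 26, 22, 24], [0, 2, 1, 3, 4, 5, 7, 6]),
  ([0, 2, 1, 26, 20, 21, 25, 19, 23, 24, 22, 15, 18, 14, 13, 12, 17, 16, 11, 6, 9, 8, 3, 5, 4, 7, 10], [7, 5, 4, 2, 6, 1, 3, 0]),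
  ([0, 1, 2, 3, 8, 5, 10, 7, 4, 9, 6, 14, 17, 15, 11, 13, 18, 12, 16, 24, 22, 26, 20, 25, 19, 23, 21], [3, 2, 1, 0, 5, 4, 7, 6]),
  ([0, 1, 2, 8, 3, 10, 5, 4, 7, 6, 9, 14, 17, 15, 12, 16, 18, 11, 13, 22, 24, 20, 26, 21, 23, 19, 25], [3, 6, 1, 5, 0, 4, 7, 2]),
  ([0, 1, 2, 8, 5, 10, 3, 4, 9, 6, 7, 14, 17, 16, 12, 15, 13, 11, 18, 22, 26, 20, 24, 19, 23, 21, 25], [0, 2, 7, 4, 3, 5, 1, 6]),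
  ([0, 2, 1, 20, 26, 25, 21, 23, 19, 22, 24, 15, 18, 14, 16, 11, 17, 13, 12, 9, 6, 3, 8, 10, 7, 4, 5], [7, 0, 4, 6, 2, 1, 3, 5]),
  ([0, 1, 2, 5, 8, 3, 10, 9, 4, 7, 6, 14, 17, 16, 11, 18, 13, 12, 15, 26, 22, 24, 20, 25, 21, 23, 19], [0, 6, 7, 3, 4, 5, 1, 2]),
  ([0, 1, 2, 7, 4, 5, 10, 3, 8, 9, 6, 18, 15, 17, 16, 12, 14, 13, 11, 22, 24, 23, 19, 21, 20, 26, 25], [7, 5, 4, 6, 2, 1, 3, 0]),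
  ([0, 2, 1, 21, 23, 19, 25, 24, 20, 26, 22, 17, 14, 13, 11, 15, 16, 12, 18, 7, 6, 9, 4, 10, 5, 8, 3], [0, 2, 7, 3, 4, 5, 1, 6]),
  ([0, 1, 2, 7, 10, 5, 4, 3, 6, 9, 8, 18, 15, 12, 16, 17, 11, 13, 14, 22, 19, 23, 24, 26, 20, 21, 25], [2, 0, 3, 1, 7, 6, 4, 5]),
  ([0, 2, 1, 25, 21, 23, 19, 22, 24, 20, 26, 17, 14, 15, 12, 16, 18, 11, 13, 4, 7, 6, 9, 3, 10, 5, 8], [4, 2, 1, 0, 5, 3, 7, 6]),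
  ([0, 2, 1, 21, 25, 19, 23, 24, 22, 26, 20, 17, 14, 15, 11, 13, 18, 12, 16, 7, 4, 9, 6, 8, 5, 10, 3], [4, 6, 1, 5, 0, 3, 7, 2]),
  ([0, 1, 2, 5, 8, 7, 6, 9, 4, 3, 10, 16, 13, 14, 18, 11, 17, 15, 12, 25, 19, 20, 24, 26, 23, 21, 22], [7, 3, 0, 6, 2, 1, 5, 4]),
  ([0, 1, 2, 6, 7, 8, 5, 10, 3, 4, 9, 16, 13, 17, 15, 11, 14, 18, 12, 24, 20, 19, 25, 23, 26, 22, 21], [1, 4, 0, 6, 2, 7, 5, 3]),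
  ([0, 2, 1, 25, 26, 23, 24, 22, 19, 20, 21, 12, 11, 15, 17, 16, 18, 14, 13, 10, 7, 8, 9, 3, 4, 5, 6], [3, 7, 6, 5, 0, 4, 2, 1]),
  ([0, 2, 1, 21, 20, 19, 22, 24, 23, 26, 25, 11, 12, 15, 17, 13, 18, 14, 16, 5, 4, 3, 6, 8, 7, 10, 9], [3, 7, 2, 0, 5, 4, 6, 1]),
  ([0, 2, 1, 24, 25, 26, 23, 21, 22, 19, 20, 12, 11, 16, 14, 18, 13, 17, 15, 9, 10, 7, 8, 6, 3, 4, 5], [0, 7, 2, 3, 4, 5, 6, 1]),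
  ([0, 1, 2, 9, 8, 3, 6, 5, 4, 7, 10, 15, 18, 12, 13, 17, 11, 16, 14, 20, 21, 25, 26, 24, 22, 19, 23], [2, 5, 4, 1, 7, 6, 3, 0]),
  ([0, 2, 1, 24, 23, 26, 25, 21, 20, 19, 22, 12, 11, 18, 14, 16, 15, 17, 13, 9, 8, 7, 10, 4, 3, 6, 5], [4, 1, 6, 5, 0, 3, 2, 7]),
  ([0, 1, 2, 10, 5, 4, 7, 6, 9, 8, 3, 18, 15, 14, 13, 12, 17, 16, 11, 19, 23, 24, 22, 20, 21, 25, 26], [1, 0, 4, 6, 2, 7, 3, 5]),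
  ([0, 1, 2, 3, 8, 9, 6, 7, 4, 5, 10, 15, 18, 14, 13, 11, 17, 16, 12, 25, 21, 20, 26, 24, 23, 19, 22], [1, 0, 3, 2, 6, 7, 4, 5]),
  ([0, 1, 2, 4, 7, 10, 5, 8, 3, 6, 9, 18, 15, 17, 13, 11, 14, 16, 12, 24, 22, 19, 23, 25, 26, 20, 21], [7, 0, 4, 2, 6, 1, 3, 5]),
  ([0, 2, 1, 20, 26, 22, 24, 23, 19, 25, 21, 14, 17, 15, 11, 16, 18, 12, 13, 10, 5, 8, 3, 9, 4, 7, 6], [4, 6, 7, 0, 5, 3, 1, 2]),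
  ([0, 2, 1, 26, 20, 24, 22, 19, 23, 21, 25, 14, 17, 15, 12, 13, 18, 11, 16, 5, 10, 3, 8, 6, 7, 4, 9], [4, 2, 7, 5, 0, 3, 1, 6]),
  ([0, 1, 2, 8, 5, 6, 7, 4, 9, 10, 3, 16, 13, 14, 15, 12, 17, 18, 11, 19, 25, 24, 20, 22, 21, 23, 26], [7, 4, 0, 2, 6, 1, 5, 3]),
  ([0, 1, 2, 10, 7, 4, 5, 6, 3, 8, 9, 18, 15, 12, 13, 14, 11, 16, 17, 19, 22, 24, 23, 25, 21, 20, 26], [2, 5, 3, 7, 1, 6, 4, 0]),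
  ([0, 1, 2, 10, 9, 4, 3, 6, 5, 8, 7, 13, 16, 12, 18, 14, 11, 15, 17, 21, 22, 26, 23, 25, 19, 20, 24], [6, 4, 0, 1, 7, 2, 5, 3]),
  ([0, 2, 1, 22, 21, 20, 19, 25, 24, 23, 26, 11, 12, 13, 14, 18, 16, 17, 15, 6, 5, 4, 3, 9, 8, 7, 10], [5, 7, 6, 3, 4, 0, 2, 1]),
  ([0, 1, 2, 10, 3, 4, 9, 6, 7, 8, 5, 13, 16, 14, 18, 12, 17, 15, 11, 21, 23, 26, 22, 20, 19, 25, 24], [7, 3, 5, 2, 6, 1, 0, 4]),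
  ([0, 2, 1, 21, 22, 19, 20, 24, 25, 26, 23, 11, 12, 13, 17, 15, 16, 14, 18, 5, 6, 3, 4, 10, 7, 8, 9], [5, 1, 6, 4, 3, 0, 2, 7]),
  ([0, 2, 1, 25, 24, 23, 26, 22, 21, 20, 19, 12, 11, 16, 17, 15, 13, 14, 18, 10, 9, 8, 7, 5, 4, 3, 6], [0, 1, 2, 4, 3, 5, 6, 7]),
  ([0, 2, 1, 23, 21, 25, 19, 20, 24, 22, 26, 17, 14, 13, 12, 18, 16, 11, 15, 6, 7, 4, 9, 3, 8, 5, 10], [0, 6, 7, 4, 3, 5, 1, 2]),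
  ([0, 1, 2, 6, 5, 8, 7, 10, 9, 4, 3, 16, 13, 11, 15, 17, 12, 18, 14, 24, 25, 19, 20, 22, 26, 23, 21], [2, 3, 5, 7, 1, 6, 0, 4]),
  ([0, 1, 2, 8, 9, 6, 3, 4, 5, 10, 7, 15, 18, 12, 16, 14, 11, 13, 17, 21, 20, 26, 25, 23, 19, 22, 24], [2, 0, 4, 7, 1, 6, 3, 5]),
  ([0, 1, 2, 5, 6, 7, 8, 9, 10, 3, 4, 16, 13, 11, 18, 14, 12, 15, 17, 25, 24, 20, 19, 21, 23, 26, 22], [2, 4, 5, 1, 7, 6, 0, 3]),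
  ([0, 2, 1, 22, 19, 20, 21, 25, 26, 23, 24, 11, 12, 18, 14, 13, 15, 17, 16, 6, 3, 4, 5, 7, 8, 9, 10], [4, 1, 2, 0, 5, 3, 6, 7]),
  ([0, 2, 1, 23, 19, 25, 21, 20, 26, 22, 24, 17, 14, 18, 12, 13, 15, 11, 16, 6, 9, 4, 7, 5, 8, 3, 10], [3, 2, 1, 5, 0, 4, 7, 6]),
  ([0, 1, 2, 8, 3, 6, 9, 4, 7, 10, 5, 15, 18, 14, 16, 12, 17, 13, 11, 21, 25, 26, 20, 22, 19, 23, 24], [1, 5, 3, 6, 2, 7, 4, 0]),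
  ([0, 1, 2, 7, 4, 9, 6, 3, 8, 5, 10, 17, 14, 18, 12, 16, 15, 11, 13, 21, 25, 19, 23, 22, 26, 20, 24], [4, 6, 7, 5, 0, 3, 1, 2]),
  ([0, 1, 2, 9, 8, 7, 10, 5, 4, 3, 6, 12, 11, 15, 17, 13, 18, 14, 16, 24, 23, 26, 25, 20, 19, 22, 21], [4, 1, 2, 5, 0, 3, 6, 7]),
  ([0, 2, 1, 21, 23, 26, 22, 24, 20, 19, 25, 13, 16, 17, 15, 11, 14, 18, 12, 10, 3, 4, 9, 7, 8, 5, 6], [7, 3, 0, 2, 6, 1, 5, 4]),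
  ([0, 2, 1, 21, 22, 26, 23, 24, 25, 19, 20, 13, 16, 11, 15, 17, 12, 18, 14, 10, 9, 4, 3, 5, 8, 7, 6], [6, 4, 5, 1, 7, 2, 0, 3])]

/-- How `tblE` was computed. -/
def progE : List (ℕ × ℕ) :=
  [(0, 0), (1, 0), (2, 0), (3, 0), (0, 1), (1, 1), (2, 1), (3, 1), (0, 2), (3, 2), (0, 3), (1, 3), (2, 3), (0, 4), (1, 4), (2, 4), (3, 4), (2, 5), (3, 5), (0, 6), (3, 6), (0, 7), (1, 7), (2, 7), (2, 8), (3, 8), (0, 10), (3, 10), (0, 11), (1, 11), (2, 11), (0, 12), (1, 12), (2, 12), (3, 12), (0, 13), (0, 14), (3, 14), (0, 15), (3, 15), (0, 16), (3, 16), (2, 17), (3, 17), (2, 18), (3, 18), (0, 19), (3, 19), (0, 20), (1, 20), (2, 20), (0, 21), (3, 21), (2, 22), (0, 23), (1, 23), (2, 23), (3, 23), (0, 24), (0, 25), (3, 25), (0, 26), (3, 26), (3, 27), (0, 28), (3,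 28), (2, 29), (1, 30), (2, 30), (3, 30), (0, 31), (0, 32), (0, 33), (3, 33), (3, 34), (2, 35), (2, 36), (3, 36), (0, 37), (3, 37), (2, 38), (0, 39), (3, 39), (1, 40), (3, 40), (0, 41), (0, 43), (0, 44), (0, 45), (0, 46), (2, 47), (0, 48), (3, 48), (2, 49), (1, 50), (2, 50), (3, 50), (0, 51), (0, 52), (3, 52), (0, 53), (3, 54), (1, 55), (2, 55), (3, 55), (0, 56), (3, 57), (2, 58), (2, 59), (3, 59), (0, 60), (3, 60), (2, 61), (0, 62), (3, 62), (3, 63), (0, 66), (3, 71), (0, 74), (3, 75), (2, 93), (2, 98), (3, 98), (0, 101)]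

theorem tblE_prog : ∀ k < progE.length, (progE.getD k (0, 0)).1 < 4 + k ∧
    (progE.getD k (0, 0)).2 < 4 + k ∧
    tblE.getD (4 + k) ([], []) =
      compL2 (tblE.getD (progE.getD k (0, 0)).1 ([], []))
        (tblE.getD (progE.getD k (0, 0)).2 ([], [])) := by
  decide +kernel

theorem tblE_closed : ∀ i < 4, ∀ t ∈ tblE, compL2 (tblE.getD i ([], [])) t ∈ tblE := by
  decide +kernel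

theorem tblE_one : (List.range 27, List.range 8) ∈ tblE := by decide +kernel

theorem tblE_nd1 : (tblE.map Prod.fst).Nodup := by decide +kernel

theorem tblE_nd2 : (tblE.map Prod.snd).Nodup := by decide +kernel

theorem tblE_gens : tblE.getD 0 ([], []) = (tblU.getD 100 [], [1, 3, 5, 6, 2, 7, 0, 4]) ∧
    tblE.getD 1 ([], []) = (tblU.getD 101 [], [2, 4, 0, 7, 1, 6, 5, 3]) ∧
    tblE.getD 2 ([], []) = (tblU.getD 102 [], [2, 3, 0, 1, 7, 6, 5, 4]) ∧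
    tblE.getD 3 ([], []) = (tblU.getD 111 [], [0, 1, 6, 3, 4, 5, 2, 7]) := by
  decide +kernel

/-- A group of order 128 that embeds in `P27` and in the symmetric group of degree 8. -/
theorem part2_exists : ∃ (X : Type) (_ : Group X) (f₁ : X →* P27)
    (f₂ : X →* (⊤ : Subgroup (Perm (Fin 8)))),
    Function.Injective f₁ ∧ Function.Injective f₂ ∧ Nat.card X = 128 := by
  obtain ⟨s0, hs0, e0⟩ := tblU_sound 100 (by decide)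
  obtain ⟨s1, hs1, e1⟩ := tblU_sound 101 (by decide)
  obtain ⟨s2, hs2, e2⟩ := tblU_sound 102 (by decide)
  obtain ⟨s3, hs3, e3⟩ := tblU_sound 111 (by decide)
  obtain ⟨g0, g1, g2, g3⟩ := tblE_gens
  have hlen : tblE.length = 128 := by decide +kernel
  rw [← hlen]
  refine diag_exists [(s0, u8_0), (s1, u8_1), (s2, u8_2), (s3, u8_3)] tblE progE ?_ tblE_prog
    (by show tblE.length = 4 + progE.length; decide +kernel) tblE_one tblE_closed tblE_nd1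
    tblE_nd2 P27 ⊤ ?_ ?_
  · intro k hk
    have hk4 : k < 4 := hk
    interval_cases k
    · rw [g0, e0, ← u8_0_toL]; rfl
    · rw [g1, e1, ← u8_1_toL]; rfl
    · rw [g2, e2, ← u8_2_toL]; rfl
    · rw [g3, e3, ← u8_3_toL]; rfl
  · intro g hg
    simp only [List.mem_cons, List.not_mem_nil, or_false] at hg
    rcases hg with rfl | rfl | rfl | rfl
    · exact hs0
    · exact hs1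
    · exact hs2
    · exact hs3
  · intro g _
    exact Subgroup.mem_top _

end Cfsg.Agent.Helper37.Exc
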