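import Mathlib
import Cfsg.Agent.S0278
import Cfsg.Agent.S0245
import Cfsg.Agent.Lib.Helper5.SUCenter
import Cfsg.Agent.Lib.Helper37.ExcB
import Cfsg.Agent.Lib.Helper37.ExcE
import Cfsg.Agent.Lib.Helper37.ExcF

/-!
# `PSp_4(3)` is the permutation group `P40` of order 25920
-/

set_option autoImplicit false

namespace Cfsg.Agent.Helper37.Exc

theorem card_SU4_F4 : Nat.card (Cfsg.SU 4 F4 2) = 25920 := by
  have h := Cfsg.Agent.S0278.result card_F4 4 (by norm_num)
  have h2 : (2 : ℕ) ^ (4 * (4 - 1) / 2) * ∏ i ∈ Finset.range 4,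
      (if Even i then 2 ^ (i + 1) + 1 else 2 ^ (i + 1) - 1) = 77760 := by decide
  rw [h2] at h
  omega

theorem psp_equiv_P40 {K : Type*} [Field K] [Fintype K] (hK : Fintype.card K = 3) :
    Nonempty (Cfsg.PSp 2 K ≃* ↥P40) ∧ Nat.card P40 = 25920 := by
  classical
  have eK : K ≃+* ZMod 3 := (ZMod.ringEquivOfPrime K Nat.prime_three hK).symm
  let φ₂ : Matrix.symplecticGroup (Fin 2) K ≃* Matrix.symplecticGroup (Fin 2) (ZMod 3) :=
    spCongr' eK
  have hc1 := card_SU4_F4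
  have hc2 : Nat.card (Matrix.symplecticGroup (Fin 2) K) = 2 * 25920 := by
    rw [Cfsg.Agent.S0245.result hK 2]
    decide
  have hcen : Subgroup.center (Cfsg.SU 4 F4 2) = ⊥ := by
    apply Subgroup.eq_bot_of_card_eq
    rw [Cfsg.Agent.Helper5.card_center_SU_of_two_le card_F4 (by norm_num)]
    rfl
  have : Finite (Cfsg.SU 4 F4 2) := Nat.finite_of_card_ne_zero (by rw [hc1]; norm_num)
  have : Finite (Matrix.symplecticGroup (Fin 2) K) :=
    Nat.finite_of_card_ne_zero (by rw [hc2]; norm_num)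
  have h1 : P40 ≤ pi1.range := by
    unfold P40
    rw [Subgroup.closure_le]
    rintro x (rfl | rfl | rfl | rfl)
    · exact ⟨a0, rfl⟩
    · exact ⟨a1, rfl⟩
    · exact ⟨a2, rfl⟩
    · exact ⟨a3, rfl⟩
  have h2 : P40 ≤ (pi2.comp φ₂.toMonoidHom).range := by
    unfold P40
    rw [Subgroup.closure_le]
    rintro x (rfl | rfl | rfl | rfl)
    · exact ⟨φ₂.symm b0, by simp [pi1_eq_pi2_0]⟩
    · exact ⟨φ₂.symm b1, by simp [pi1_eq_pi2_1]⟩
    · exact ⟨φ₂.symm b2, by simp [pi1_eq_pi2_2]⟩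
    · exact ⟨φ₂.symm b3, by simp [pi1_eq_pi2_3]⟩
  have hz1 : φ₂.symm zSp ≠ 1 := by
    intro h
    apply zSp_ne_one
    have := congrArg φ₂ h
    rwa [MulEquiv.apply_symm_apply, map_one] at this
  have hzc : φ₂.symm zSp ∈ Subgroup.center (Matrix.symplecticGroup (Fin 2) K) := by
    rw [Subgroup.mem_center_iff]
    intro g
    apply φ₂.injective
    rw [map_mul, map_mul, MulEquiv.apply_symm_apply]
    exact (Subgroup.mem_center_iff.1 zSp_mem_center) (φ₂ g)
  have hzk : (pi2.comp φ₂.toMonoidHom) (φ₂.symm zSp) = 1 := by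
    show pi2 (φ₂ (φ₂.symm zSp)) = 1
    rw [MulEquiv.apply_symm_apply]
    exact pi2_zSp
  exact assemble_iso pi1 (pi2.comp φ₂.toMonoidHom) P40 h1 h2 25920 (by norm_num) hc1 hc2
    card_P40 hcen _ hz1 hzc hzk

end Cfsg.Agent.Helper37.Exc
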