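import Mathlib
import Cfsg.Prelude.Def_Chevalley
import Cfsg.Agent.Lib.Helper14.IsomTransfer

/-!
# More tools: invariant finite sets of vectors, faithfulness, two cosets, transport of Chevalley groups
-/

set_option autoImplicit false
set_option linter.unusedSectionVars false

namespace Cfsg.Agent.Helper37.Exc

open Matrix

section Invariant

variable {F : Type*} [Field F] {ι : Type*} [Fintype ι] [DecidableEq ι]
variable {G : Type*} [Group G]

/-- If the generators map a finite family of vectors into itself, so does the group they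
generate. -/
theorem closure_preserves (ρ : G →* Matrix ι ι F) (s : Set G) {n : ℕ} (rep : Fin n → ι → F)
    (h : ∀ g ∈ s, ∀ i, ∃ j, ρ g *ᵥ rep i = rep j) :
    ∀ g ∈ Subgroup.closure s, ∀ i, ∃ j, ρ g *ᵥ rep i = rep j := by
  classical
  intro g hg
  induction hg using Subgroup.closure_induction with
  | mem g hg => exact h g hg
  | one =>
    intro i
    exact ⟨i, by rw [map_one, Matrix.one_mulVec]⟩
  | mul a b _ _ iha ihb =>
    intro i
    obtain ⟨j, hj⟩ := ihb i
    obtain ⟨k, hk⟩ := iha j
    exact ⟨k, by rw [map_mul, ← Matrix.mulVec_mulVec, hj, hk]⟩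
  | inv a _ iha =>
    intro i
    let R : Finset (ι → F) := Finset.univ.image rep
    have hinj : Function.Injective (fun v : ι → F => ρ a *ᵥ v) := by
      intro v w hvw
      have h1 : ρ a⁻¹ *ᵥ (ρ a *ᵥ v) = ρ a⁻¹ *ᵥ (ρ a *ᵥ w) := congrArg _ hvw
      rwa [Matrix.mulVec_mulVec, Matrix.mulVec_mulVec, ← map_mul, inv_mul_cancel, map_one,
        Matrix.one_mulVec, Matrix.one_mulVec] at h1
    have hsub : R.image (fun v => ρ a *ᵥ v) ⊆ R := by
      intro w hw
      rw [Finset.mem_image] at hw
      obtain ⟨v, hv, rfl⟩ := hw
      rw [Finset.mem_image] at hv ⊢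
      obtain ⟨i, _, rfl⟩ := hv
      obtain ⟨j, hj⟩ := iha i
      exact ⟨j, Finset.mem_univ _, hj.symm⟩
    have hcard : R.card ≤ (R.image (fun v => ρ a *ᵥ v)).card := by
      rw [Finset.card_image_of_injective _ hinj]
    have heq := Finset.eq_of_subset_of_card_le hsub hcard
    have hi : rep i ∈ R := Finset.mem_image.2 ⟨i, Finset.mem_univ _, rfl⟩
    rw [← heq, Finset.mem_image] at hi
    obtain ⟨v, hv, hvi⟩ := hi
    rw [Finset.mem_image] at hv
    obtain ⟨j, _, rfl⟩ := hv
    refine ⟨j, ?_⟩
    have hvi' : ρ a *ᵥ rep j = rep i := hvi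
    rw [← hvi', Matrix.mulVec_mulVec, ← map_mul, inv_mul_cancel, map_one, Matrix.one_mulVec]

theorem mulVec_list_sum (A : Matrix ι ι F) (l : List (ι → F)) :
    A *ᵥ l.sum = (l.map (fun v => A *ᵥ v)).sum := by
  induction l with
  | nil => simp
  | cons a l ih => rw [List.sum_cons, Matrix.mulVec_add, ih, List.map_cons, List.sum_cons]

/-- A matrix fixing vectors that span is the identity. -/
theorem eq_one_of_fix (A : Matrix ι ι F) (rep : ℕ → ι → F) (span : ι → List ℕ)
    (hspan : ∀ k j, ((span k).map (fun i => rep i j)).sum = if j = k then 1 else 0)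
    (hfix : ∀ k, ∀ i ∈ span k, A *ᵥ rep i = rep i) : A = 1 := by
  have hsingle : ∀ k, ((span k).map rep).sum = Pi.single k (1 : F) := by
    intro k
    funext j
    have hsum : ∀ l : List ℕ, (l.map rep).sum j = (l.map (fun i => rep i j)).sum := by
      intro l
      induction l with
      | nil => simp
      | cons a l ih => rw [List.map_cons, List.sum_cons, Pi.add_apply, ih, List.map_cons,
          List.sum_cons]
    rw [hsum, Pi.single_apply]
    exact hspan k j
  have hcol : ∀ k, A *ᵥ Pi.single k (1 : F) = Pi.single k (1 : F) := by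
    intro k
    rw [← hsingle k, mulVec_list_sum, List.map_map]
    congr 1
    apply List.map_congr_left
    intro i hi
    exact hfix k i hi
  ext i k
  have := congrFun (hcol k) i
  rw [Matrix.mulVec_single_one] at this
  rw [Matrix.one_apply, ← Pi.single_apply]
  exact this

end Invariant

section TwoCosets

variable {Q : Type*} [Group Q]

/-- A group generated by elements lying in `N ∪ tN`, where `t` is an involution normalizing
`N`. -/
theorem two_cosets_of_gens (gensP gensN : Set Q) (t : Q) (ht2 : t * t = 1)
    (hgen : ∀ g ∈ gensP, g ∈ Subgroup.closure gensN ∨ t * g ∈ Subgroup.closure gensN)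
    (hconj : ∀ q ∈ gensN, t * q * t ∈ Subgroup.closure gensN) :
    (∀ n ∈ Subgroup.closure gensN, t * n * t ∈ Subgroup.closure gensN) ∧
    (∀ x ∈ Subgroup.closure gensP,
      x ∈ Subgroup.closure gensN ∨ t * x ∈ Subgroup.closure gensN) ∧
    (∀ x ∈ Subgroup.closure gensP, ∀ n ∈ Subgroup.closure gensN,
      x * n * x⁻¹ ∈ Subgroup.closure gensN) := by
  set N := Subgroup.closure gensN with hN
  have htinv : t⁻¹ = t := inv_eq_of_mul_eq_one_left ht2
  have h1 : ∀ n ∈ N, t * n * t ∈ N := by
    intro n hn
    induction hn using Subgroup.closure_induction with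
    | mem q hq => exact hconj q hq
    | one =>
      rw [mul_one, ht2]
      exact N.one_mem
    | mul a b _ _ iha ihb =>
      have : t * (a * b) * t = (t * a * t) * (t * b * t) := by
        calc t * (a * b) * t = t * a * (1 : Q) * b * t := by group
          _ = t * a * (t * t) * b * t := by rw [ht2]
          _ = (t * a * t) * (t * b * t) := by group
      rw [this]
      exact N.mul_mem iha ihb
    | inv a _ iha =>
      have : t * a⁻¹ * t = (t * a * t)⁻¹ := by
        rw [_root_.mul_inv_rev, _root_.mul_inv_rev, htinv, mul_assoc]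
      rw [this]
      exact N.inv_mem iha
  have h2 : ∀ x ∈ Subgroup.closure gensP, x ∈ N ∨ t * x ∈ N := by
    intro x hx
    induction hx using Subgroup.closure_induction with
    | mem g hg => exact hgen g hg
    | one => exact Or.inl N.one_mem
    | mul a b _ _ iha ihb =>
      rcases iha with ha | ha <;> rcases ihb with hb | hb
      · exact Or.inl (N.mul_mem ha hb)
      · right
        have : t * (a * b) = (t * a * t) * (t * b) := by
          calc t * (a * b) = t * a * (1 : Q) * b := by group
            _ = t * a * (t * t) * b := by rw [ht2]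
            _ = (t * a * t) * (t * b) := by group
        rw [this]
        exact N.mul_mem (h1 a ha) hb
      · right
        rw [← mul_assoc]
        exact N.mul_mem ha hb
      · left
        have : a * b = (t * (t * a) * t) * (t * b) := by
          calc a * b = (1 : Q) * a * (1 : Q) * b := by group
            _ = (t * t) * a * (t * t) * b := by rw [ht2]
            _ = (t * (t * a) * t) * (t * b) := by group
        rw [this]
        exact N.mul_mem (h1 _ ha) hb
    | inv a _ iha =>
      rcases iha with ha | ha
      · exact Or.inl (N.inv_mem ha)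
      · right
        have : t * a⁻¹ = t * (t * a)⁻¹ * t := by
          rw [_root_.mul_inv_rev, htinv]
          calc t * a⁻¹ = t * a⁻¹ * (1 : Q) := by group
            _ = t * a⁻¹ * (t * t) := by rw [ht2]
            _ = t * (a⁻¹ * t) * t := by group
        rw [this]
        exact h1 _ (N.inv_mem ha)
  refine ⟨h1, h2, ?_⟩
  intro x hx n hn
  rcases h2 x hx with h | h
  · exact N.mul_mem (N.mul_mem h hn) (N.inv_mem h)
  · have : x * n * x⁻¹ = t * ((t * x) * n * (t * x)⁻¹) * t := by
      rw [_root_.mul_inv_rev, htinv]
      calc x * n * x⁻¹ = (1 : Q) * x * n * x⁻¹ * (1 : Q) := by group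
        _ = (t * t) * x * n * x⁻¹ * (t * t) := by rw [ht2]
        _ = t * (t * x * n * (x⁻¹ * t)) * t := by group
    rw [this]
    exact h1 _ (N.mul_mem (N.mul_mem h hn) (N.inv_mem h))

/-- With the conclusions of `two_cosets_of_gens`, commutators lie in `N`. -/
theorem commutator_le_of_two_cosets (P N : Subgroup Q) (t : Q) (ht2 : t * t = 1)
    (h1 : ∀ n ∈ N, t * n * t ∈ N) (h2 : ∀ x ∈ P, x ∈ N ∨ t * x ∈ N)
    (h3 : ∀ x ∈ P, ∀ n ∈ N, x * n * x⁻¹ ∈ N) : ⁅P, P⁆ ≤ N := by
  have htinv : t⁻¹ = t := inv_eq_of_mul_eq_one_left ht2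
  rw [Subgroup.commutator_le]
  intro x hx y hy
  rw [commutatorElement_def]
  rcases h2 x hx with hxN | hxN
  · have : x * y * x⁻¹ * y⁻¹ = x * (y * x⁻¹ * y⁻¹) := by group
    rw [this]
    exact N.mul_mem hxN (h3 y hy _ (N.inv_mem hxN))
  · rcases h2 y hy with hyN | hyN
    · exact N.mul_mem (h3 x hx _ hyN) (N.inv_mem hyN)
    · -- x = t a, y = t b
      have : x * y * x⁻¹ * y⁻¹ =
          (t * (t * x) * t) * ((t * y) * (t * x)⁻¹) * (t * (t * y)⁻¹ * t) := by
        rw [_root_.mul_inv_rev, _root_.mul_inv_rev, htinv]
        calc x * y * x⁻¹ * y⁻¹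
            = (1 : Q) * x * (1 : Q) * y * x⁻¹ * (1 : Q) * y⁻¹ * (1 : Q) := by group
          _ = (t * t) * x * (t * t) * y * x⁻¹ * (t * t) * y⁻¹ * (t * t) := by rw [ht2]
          _ = (t * (t * x) * t) * ((t * y) * (x⁻¹ * t)) * (t * (y⁻¹ * t) * t) := by group
      rw [this]
      exact N.mul_mem (N.mul_mem (h1 _ hxN) (N.mul_mem hyN (N.inv_mem hxN)))
        (h1 _ (N.inv_mem hyN))

end TwoCosets

section Chevalley

open Cfsg.Lie

variable {F K : Type*} [Field F] [Field K]

theorem xMat_map (D : ChevalleyDatum) (e : F →+* K) (r : Fin D.nroots) (t : F) :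
    (D.xMat F r t).map e = D.xMat K r (e t) := by
  ext row col
  simp only [Matrix.map_apply, ChevalleyDatum.xMat, Matrix.of_apply]
  rcases col with i | s
  · rcases row with i' | u
    · simp only [apply_ite e, map_one, map_zero]
    · simp only [apply_ite e, map_neg, map_mul, map_intCast, map_zero]
  · simp only
    split_ifs with h1 h2
    · rcases row with i' | u
      · simp only [map_zero]
      · simp only [apply_ite e, map_one, map_zero]
    · rcases row with i' | u
      · simp only [map_mul, map_intCast]
      · simp only [apply_ite e, map_one, map_neg, map_pow, map_zero]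
    · rcases row with i' | u
      · simp only [map_zero]
      · simp only [map_add, apply_ite e, map_one, map_zero, map_list_sum, List.map_map]
        congr 2
        apply List.map_congr_left
        intro km _
        simp only [Function.comp, map_mul, map_intCast, map_pow]

/-- A ring isomorphism induces an isomorphism of Chevalley groups. -/
noncomputable def chevCongr (D : ChevalleyDatum) (e : F ≃+* K) : D.group F ≃* D.group K :=
  ((Cfsg.Agent.Helper14.glEquiv e).subgroupMap (D.group F)).trans
    (MulEquiv.subgroupCongr (by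
      unfold ChevalleyDatum.group
      rw [MonoidHom.map_closure]
      congr 1
      ext g'
      constructor
      · rintro ⟨g, ⟨r, t, hg⟩, rfl⟩
        refine ⟨r, e t, ?_⟩
        show ((Cfsg.Agent.Helper14.glEquiv e g : GL D.Idx K) : Matrix D.Idx D.Idx K) = _
        rw [Cfsg.Agent.Helper14.glEquiv_coe, hg]
        exact xMat_map D (e : F →+* K) r t
      · rintro ⟨r, t, hg⟩
        refine ⟨(Cfsg.Agent.Helper14.glEquiv e).symm g', ⟨r, e.symm t, ?_⟩, by simp⟩
        have h1 : (((Cfsg.Agent.Helper14.glEquiv e).symm g' : GL D.Idx F) :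
            Matrix D.Idx D.Idx F) = (g' : Matrix D.Idx D.Idx K).map e.symm := rfl
        rw [h1, hg]
        have := xMat_map D (e.symm : K →+* F) r t
        exact this))

end Chevalley

end Cfsg.Agent.Helper37.Exc
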