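import Mathlib
import Cfsg.Prelude.Def_ChevG2
import Cfsg.Agent.Lib.Helper37.ExcA
import Cfsg.Agent.Lib.Helper37.ExcF
import Cfsg.Agent.Lib.Helper37.ExcK

/-!
# The Chevalley group of type `G_2` over the field with two elements, on 63 vectors
-/

set_option autoImplicit false

namespace Cfsg.Agent.Helper37.Exc

open Matrix Cfsg.Lie

/-- The coordinates. -/
abbrev G2I : Type := chevG2.Idx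

/-- The number of a coordinate. -/
def idxN : G2I → ℕ
  | Sum.inl i => i.val
  | Sum.inr u => 2 + u.val

/-- The 63 vectors. -/
def tblG : List (List ℕ) :=
  [[0, 0, 0, 0, 0, 0, 0, 0, 0, 0, 0, 0, 0, 1],
  [0, 0, 0, 0, 0, 0, 0, 0, 0, 0, 0, 0, 1, 0],
  [0, 0, 0, 0, 0, 0, 0, 0, 0, 0, 0, 0, 1, 1],
  [0, 0, 0, 0, 0, 0, 0, 0, 1, 0, 0, 0, 0, 0],
  [0, 0, 0, 0, 0, 0, 0, 0, 1, 0, 0, 0, 0, 1],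
  [0, 0, 0, 0, 0, 0, 0, 0, 1, 0, 1, 1, 1, 0],
  [0, 0, 0, 0, 0, 0, 0, 0, 1, 0, 1, 1, 1, 1],
  [0, 0, 0, 0, 0, 0, 0, 1, 0, 0, 0, 0, 0, 0],
  [0, 0, 0, 0, 0, 0, 0, 1, 0, 0, 0, 0, 1, 0],
  [0, 0, 0, 0, 0, 0, 0, 1, 0, 1, 0, 1, 0, 1],
  [0, 0, 0, 0, 0, 0, 0, 1, 0, 1, 0, 1, 1, 1],
  [0, 0, 0, 1, 0, 0, 0, 0, 0, 0, 0, 0, 0, 0],
  [0, 0, 0, 1, 0, 0, 0, 0, 1, 0, 0, 0, 0, 0],
  [0, 0, 0, 1, 0, 0, 1, 0, 0, 0, 1, 0, 0, 1],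
  [0, 0, 0, 1, 0, 0, 1, 0, 1, 0, 1, 0, 0, 1],
  [0, 0, 0, 1, 1, 1, 0, 1, 0, 0, 0, 0, 0, 0],
  [0, 0, 0, 1, 1, 1, 0, 1, 1, 0, 1, 1, 1, 0],
  [0, 0, 1, 0, 0, 0, 0, 0, 0, 0, 0, 0, 0, 0],
  [0, 0, 1, 0, 0, 0, 0, 1, 0, 0, 0, 0, 0, 0],
  [0, 0, 1, 0, 0, 1, 0, 0, 0, 1, 0, 0, 1, 0],
  [0, 0, 1, 0, 0, 1, 0, 1, 0, 1, 0, 0, 1, 0],
  [0, 0, 1, 0, 1, 0, 1, 0, 1, 0, 0, 0, 0, 0],
  [0, 0, 1, 0, 1, 0, 1, 1, 1, 1, 0, 1, 0, 1],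
  [0, 0, 1, 1, 0, 0, 0, 0, 0, 0, 0, 0, 0, 0],
  [0, 0, 1, 1, 0, 1, 1, 0, 0, 1, 1, 0, 1, 1],
  [0, 0, 1, 1, 1, 0, 1, 0, 1, 0, 0, 0, 0, 0],
  [0, 0, 1, 1, 1, 1, 0, 1, 0, 0, 0, 0, 0, 0],
  [0, 1, 0, 0, 0, 0, 0, 1, 1, 0, 0, 0, 0, 0],
  [0, 1, 0, 0, 0, 0, 0, 1, 1, 0, 0, 0, 1, 1],
  [0, 1, 0, 0, 0, 0, 0, 1, 1, 1, 1, 1, 0, 1],
  [0, 1, 0, 0, 0, 0, 0, 1, 1, 1, 1, 1, 1, 0],
  [0, 1, 0, 1, 1, 1, 1, 1, 0, 0, 1, 1, 1, 1],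
  [0, 1, 0, 1, 1, 1, 1, 1, 1, 0, 0, 0, 0, 0],
  [0, 1, 1, 0, 1, 1, 1, 0, 1, 1, 0, 1, 1, 1],
  [0, 1, 1, 0, 1, 1, 1, 1, 1, 0, 0, 0, 0, 0],
  [0, 1, 1, 1, 0, 0, 0, 1, 1, 0, 0, 0, 0, 0],
  [0, 1, 1, 1, 0, 1, 1, 1, 1, 1, 1, 0, 1, 1],
  [0, 1, 1, 1, 1, 0, 1, 1, 0, 1, 1, 1, 0, 1],
  [0, 1, 1, 1, 1, 1, 0, 0, 1, 1, 1, 1, 1, 0],
  [1, 0, 0, 1, 1, 1, 1, 1, 0, 1, 1, 0, 1, 1],
  [1, 0, 0, 1, 1, 1, 1, 1, 1, 1, 0, 1, 0, 1],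
  [1, 0, 1, 0, 0, 0, 0, 0, 0, 0, 0, 0, 0, 1],
  [1, 0, 1, 0, 0, 0, 0, 1, 0, 0, 0, 0, 1, 1],
  [1, 0, 1, 0, 0, 1, 0, 0, 0, 1, 0, 1, 1, 1],
  [1, 0, 1, 0, 0, 1, 0, 1, 0, 1, 0, 1, 0, 1],
  [1, 0, 1, 0, 1, 0, 1, 0, 1, 0, 1, 0, 0, 1],
  [1, 0, 1, 0, 1, 0, 1, 1, 1, 1, 1, 1, 1, 0],
  [1, 0, 1, 1, 0, 0, 0, 0, 1, 0, 0, 0, 0, 1],
  [1, 0, 1, 1, 0, 1, 1, 0, 1, 1, 1, 1, 1, 0],
  [1, 0, 1, 1, 1, 0, 1, 0, 0, 0, 1, 0, 0, 1],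
  [1, 0, 1, 1, 1, 1, 0, 1, 1, 0, 1, 1, 1, 1],
  [1, 1, 0, 1, 0, 0, 0, 0, 0, 0, 0, 0, 1, 0],
  [1, 1, 0, 1, 0, 0, 0, 0, 1, 0, 0, 0, 1, 1],
  [1, 1, 0, 1, 0, 0, 1, 0, 0, 0, 1, 1, 1, 1],
  [1, 1, 0, 1, 0, 0, 1, 0, 1, 0, 1, 1, 1, 0],
  [1, 1, 0, 1, 1, 1, 0, 1, 0, 1, 0, 0, 1, 0],
  [1, 1, 0, 1, 1, 1, 0, 1, 1, 1, 1, 1, 0, 1],
  [1, 1, 1, 0, 1, 1, 1, 0, 1, 1, 1, 0, 1, 1],
  [1, 1, 1, 0, 1, 1, 1, 1, 1, 0, 1, 1, 1, 0],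
  [1, 1, 1, 1, 0, 0, 0, 1, 0, 0, 0, 0, 1, 0],
  [1, 1, 1, 1, 0, 1, 1, 1, 0, 1, 1, 1, 0, 1],
  [1, 1, 1, 1, 1, 0, 1, 1, 1, 1, 0, 1, 1, 1],
  [1, 1, 1, 1, 1, 1, 0, 0, 0, 1, 0, 0, 1, 0]]

/-- The vector with a given number. -/
def repGN (k : ℕ) : G2I → ZMod 2 := fun x => (((tblG.getD k []).getD (idxN x) 0 : ℕ) : ZMod 2)

/-- The vectors. -/
def repG (i : Fin 63) : G2I → ZMod 2 := repGN i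

/-- The permutations of the root elements. -/
def tblLG : List (List ℕ) :=
  [[41, 8, 42, 12, 47, 16, 50, 7, 1, 44, 43, 11, 3, 49, 45, 15, 5, 17, 18, 20, 19, 25, 40, 23, 39, 21, 26, 35, 52, 56, 38, 53, 34, 61, 32, 27, 57, 60, 30, 24, 22, 0, 2, 10, 9, 14, 48, 4, 46, 13, 6, 59, 28, 31, 58, 62, 29, 36, 54, 51, 37, 33, 55],
  [4, 51, 52, 3, 0, 54, 53, 18, 59, 22, 61, 11, 12, 14, 13, 26, 58, 17, 7, 62, 55, 21, 9, 23, 57, 25, 15, 35, 42, 37, 46, 50, 34, 43, 32, 27, 39, 29, 48, 36, 44, 47, 28, 33, 40, 49, 30, 41, 38, 45, 31, 1, 2, 6, 5, 20, 60, 24, 16, 8, 56, 10, 19],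
  [13, 19, 24, 3, 14, 38, 33, 7, 20, 37, 31, 11, 12, 0, 4, 26, 30, 17, 18, 1, 8, 25, 29, 23, 2, 21, 15, 27, 36, 22, 16, 10, 34, 6, 32, 35, 28, 9, 5, 42, 56, 49, 39, 53, 60, 47, 58, 45, 54, 41, 61, 62, 57, 43, 48, 59, 40, 52, 46, 55, 44, 50, 51],
  [9, 1, 10, 21, 22, 58, 57, 7, 8, 0, 2, 11, 25, 60, 56, 26, 54, 17, 18, 20, 19, 3, 4, 23, 53, 12, 15, 34, 33, 45, 46, 39, 35, 28, 27, 32, 50, 49, 48, 31, 47, 44, 43, 42, 41, 29, 30, 40, 38, 37, 36, 51, 61, 24, 16, 62, 14, 6, 5, 59, 13, 52, 55],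
  [0, 5, 6, 3, 4, 1, 2, 15, 16, 40, 39, 11, 12, 14, 13, 7, 8, 17, 26, 48, 46, 25, 44, 23, 43, 21, 18, 32, 31, 56, 55, 28, 27, 57, 35, 34, 61, 60, 62, 10, 9, 41, 50, 24, 22, 49, 20, 47, 19, 45, 42, 54, 53, 52, 51, 30, 29, 33, 59, 58, 37, 36, 38],
  [2, 1, 0, 27, 28, 30, 29, 7, 8, 10, 9, 23, 35, 24, 36, 26, 38, 17, 18, 19, 20, 34, 33, 11, 13, 32, 15, 3, 4, 6, 5, 37, 25, 22, 21, 12, 14, 31, 16, 49, 61, 42, 41, 44, 43, 57, 58, 52, 54, 39, 56, 59, 47, 60, 48, 62, 50, 45, 46, 51, 53, 40, 55],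
  [0, 2, 1, 3, 4, 6, 5, 27, 28, 29, 30, 11, 12, 13, 14, 32, 31, 23, 35, 24, 36, 25, 37, 17, 19, 21, 34, 7, 8, 9, 10, 16, 15, 38, 26, 18, 20, 22, 33, 55, 56, 47, 59, 48, 60, 49, 61, 41, 43, 45, 58, 52, 51, 54, 53, 39, 40, 62, 50, 42, 44, 46, 57],
  [0, 1, 2, 5, 6, 3, 4, 7, 8, 10, 9, 15, 16, 39, 40, 11, 12, 17, 18, 20, 19, 46, 45, 26, 49, 48, 23, 30, 29, 28, 27, 53, 54, 57, 58, 38, 61, 60, 35, 13, 14, 41, 42, 44, 43, 22, 21, 50, 25, 24, 47, 55, 56, 31, 32, 51, 52, 33, 34, 62, 37, 36, 59],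
  [0, 1, 2, 3, 4, 6, 5, 9, 10, 7, 8, 11, 12, 14, 13, 56, 55, 21, 22, 57, 58, 17, 18, 25, 62, 23, 60, 29, 30, 27, 28, 39, 40, 43, 44, 37, 50, 35, 48, 31, 32, 45, 46, 33, 34, 41, 42, 49, 38, 47, 36, 51, 52, 54, 53, 16, 15, 19, 20, 61, 26, 59, 24],
  [0, 1, 2, 3, 4, 6, 5, 7, 8, 10, 9, 13, 14, 11, 12, 31, 32, 19, 20, 17, 18, 33, 34, 24, 23, 38, 37, 27, 28, 30, 29, 15, 16, 21, 22, 36, 35, 26, 25, 55, 56, 43, 44, 41, 42, 57, 58, 48, 47, 62, 61, 53, 54, 51, 52, 39, 40, 45, 46, 60, 59, 50, 49],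
  [0, 1, 2, 4, 3, 6, 5, 7, 8, 9, 10, 51, 52, 53, 54, 55, 56, 18, 17, 20, 19, 22, 21, 59, 60, 61, 62, 28, 27, 30, 29, 39, 40, 34, 33, 47, 48, 49, 50, 31, 32, 42, 41, 44, 43, 46, 45, 35, 36, 37, 38, 11, 12, 13, 14, 15, 16, 58, 57, 23, 24, 25, 26],
  [0, 1, 2, 3, 4, 5, 6, 8, 7, 10, 9, 12, 11, 14, 13, 16, 15, 41, 42, 43, 44, 45, 46, 47, 48, 49, 50, 28, 27, 30, 29, 32, 31, 57, 58, 59, 60, 61, 62, 40, 39, 17, 18, 19, 20, 21, 22, 23, 24, 25, 26, 52, 51, 54, 53, 56, 55, 33, 34, 35, 36, 37, 38]]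

/-- The permutation of a root element. -/
def lG (r : ℕ) : List ℕ := tblLG.getD r []

/-- How the coordinate vectors are sums of the 63 vectors. -/
def tblSpan : List (List ℕ) :=
  [[0, 3, 5, 11, 13, 15, 27, 29, 39],
  [3, 7, 27],
  [17],
  [11],
  [0, 3, 5, 7, 11, 15, 17, 19, 27, 29],
  [0, 3, 5, 17, 19, 27, 29],
  [0, 7, 9, 11, 13, 27, 29],
  [7],
  [3],
  [0, 1, 3, 5, 27, 29],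
  [7, 9, 27, 29],
  [1, 3, 5, 7, 9, 27, 29],
  [1],
  [0]]

/-- How a coordinate vector is a sum of the 63 vectors. -/
def spanG (k : G2I) : List ℕ := tblSpan.getD (idxN k) []

theorem xG_sq : ∀ r : Fin 12, chevG2.xMat (ZMod 2) r 1 * chevG2.xMat (ZMod 2) r 1 = 1 := by
  decide +kernel

theorem xG_zero : ∀ r : Fin 12, chevG2.xMat (ZMod 2) r 0 = 1 := by
  decide +kernel

theorem xG_act : ∀ r : Fin 12, ∀ i : Fin 63, (lG r).getD i 0 < 63 ∧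
    chevG2.xMat (ZMod 2) r 1 *ᵥ repGN i = repGN ((lG r).getD i 0) := by
  decide +kernel

theorem repG_inj : ∀ i j : Fin 63, repGN i = repGN j → i = j := by
  decide +kernel

theorem spanG_lt : ∀ k : G2I, ∀ i ∈ spanG k, i < 63 := by
  decide +kernel

theorem spanG_sum : ∀ k j : G2I, ((spanG k).map (fun i => repGN i j)).sum = if j = k then 1 else 0 := by
  decide +kernel

end Cfsg.Agent.Helper37.Exc
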