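import Mathlib
import Cfsg.Agent.Lib.Helper37.ExcL

/-!
# The Chevalley group of type `G_2` over the field with two elements as a permutation group
-/

set_option autoImplicit false

namespace Cfsg.Agent.Helper37.Exc

open Matrix Cfsg.Lie Equiv

/-- The group, for short. -/
abbrev G22 : Subgroup (GL G2I (ZMod 2)) := chevG2.group (ZMod 2)

/-- The group as matrices. -/
def rhoG : ↥G22 →* Matrix G2I G2I (ZMod 2) :=
  (Units.coeHom (Matrix G2I G2I (ZMod 2))).comp G22.subtype

/-- The generating set. -/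
def gensG : Set (GL G2I (ZMod 2)) :=
  {g | ∃ (r : Fin chevG2.nroots) (t : ZMod 2), (g : Matrix G2I G2I (ZMod 2)) = chevG2.xMat (ZMod 2) r t}

theorem G22_eq : G22 = Subgroup.closure gensG := rfl

/-- The root elements. -/
def xgU (r : Fin 12) : GL G2I (ZMod 2) :=
  ⟨chevG2.xMat (ZMod 2) r 1, chevG2.xMat (ZMod 2) r 1, xG_sq r, xG_sq r⟩

theorem xgU_mem_gens (r : Fin 12) : xgU r ∈ gensG := ⟨r, 1, rfl⟩

theorem xgU_mem (r : Fin 12) : xgU r ∈ G22 := Subgroup.subset_closure (xgU_mem_gens r)

/-- The root elements. -/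
def xg (r : Fin 12) : ↥G22 := ⟨xgU r, xgU_mem r⟩

theorem zmod2_cases (t : ZMod 2) : t = 0 ∨ t = 1 := by
  revert t
  decide

theorem gens_act : ∀ g ∈ gensG, ∀ i : Fin 63, ∃ j : Fin 63,
    (Units.coeHom (Matrix G2I G2I (ZMod 2)) g) *ᵥ repG i = repG j := by
  rintro g ⟨r, t, hg⟩ i
  rcases zmod2_cases t with rfl | rfl
  · refine ⟨i, ?_⟩
    show (g : Matrix G2I G2I (ZMod 2)) *ᵥ repG i = repG i
    rw [hg, xG_zero r, one_mulVec]
  · obtain ⟨h1, h2⟩ := xG_act r i
    refine ⟨⟨_, h1⟩, ?_⟩
    show (g : Matrix G2I G2I (ZMod 2)) *ᵥ repG i = _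
    rw [hg]
    exact h2

theorem psysG : PSys rhoG (fun v => ∃ i : Fin 63, v = repG i) 63 repG where
  inv g v := by
    rintro ⟨i, rfl⟩
    have hg : g.1 ∈ Subgroup.closure gensG := g.2
    exact closure_preserves (Units.coeHom (Matrix G2I G2I (ZMod 2))) gensG repG gens_act g.1 hg i
  rep_mem i := ⟨i, rfl⟩
  cover v := by
    rintro ⟨i, rfl⟩
    exact ⟨i, 1, one_ne_zero, (one_smul _ _).symm⟩
  uniq i j c hc h := by
    rcases zmod2_cases c with rfl | rfl
    · exact absurd rfl hc
    · rw [one_smul] at h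
      exact repG_inj i j h

/-- The permutation representation on the 63 vectors. -/
noncomputable def piG : ↥G22 →* Perm (Fin 63) := psysG.hom

theorem lG_len : ∀ r : Fin 12, (lG r).length = 63 := by decide +kernel

theorem piG_xg (r : Fin 12) : toL (piG (xg r)) = lG r := by
  apply toL_eq_of _ _ (lG_len r)
  intro i
  obtain ⟨h1, h2⟩ := xG_act r i
  have : piG (xg r) i = ⟨(lG r).getD i 0, h1⟩ := by
    refine (psysG.hom_apply_eq_iff (xg r) i _).2 ⟨1, one_ne_zero, ?_⟩
    rw [one_smul]
    exact h2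
  rw [this]

theorem piG_injective : Function.Injective piG := by
  rw [injective_iff_map_eq_one]
  intro g hg
  have hfix : ∀ i : Fin 63, rhoG g *ᵥ repG i = repG i := by
    intro i
    have : piG g i = i := by rw [hg]; rfl
    obtain ⟨c, hc, h⟩ := (psysG.hom_apply_eq_iff g i i).1 this
    rcases zmod2_cases c with rfl | rfl
    · exact absurd rfl hc
    · rwa [one_smul] at h
  have h1 : rhoG g = 1 := eq_one_of_fix (rhoG g) repGN spanG spanG_sum
    (fun k i hi => hfix ⟨i, spanG_lt k i hi⟩)
  apply Subtype.ext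
  apply Units.ext
  exact h1

/-- The group generated by the permutations of the root elements. -/
noncomputable def P63 : Subgroup (Perm (Fin 63)) :=
  Subgroup.closure {σ | ∃ r : Fin 12, σ = piG (xg r)}

theorem piG_range : piG.range = P63 := by
  have htop : (⊤ : Subgroup ↥G22) =
      Subgroup.closure (((↑) : ↥G22 → GL G2I (ZMod 2)) ⁻¹' gensG) :=
    (Subgroup.closure_closure_coe_preimage (k := gensG)).symm
  rw [MonoidHom.range_eq_map, htop, MonoidHom.map_closure]
  apply le_antisymm
  · rw [Subgroup.closure_le]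
    rintro σ ⟨g, ⟨r, t, hg⟩, rfl⟩
    rcases zmod2_cases t with rfl | rfl
    · have : g = 1 := by
        apply Subtype.ext
        apply Units.ext
        rw [hg, xG_zero r]
        rfl
      rw [this, map_one]
      exact P63.one_mem
    · have : g = xg r := by
        apply Subtype.ext
        apply Units.ext
        rw [hg]
        rfl
      rw [this]
      exact Subgroup.subset_closure ⟨r, rfl⟩
  · unfold P63
    rw [Subgroup.closure_le]
    rintro σ ⟨r, rfl⟩
    exact Subgroup.subset_closure ⟨xg r, xgU_mem_gens r, rfl⟩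

theorem map_commutator_G : Subgroup.map piG (commutator ↥G22) = ⁅P63, P63⁆ := by
  rw [commutator_def, Subgroup.map_commutator, ← MonoidHom.range_eq_map, piG_range]

end Cfsg.Agent.Helper37.Exc
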