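import Mathlib
import Cfsg.Prelude.Def_Classical
import Cfsg.Agent.Lib.Lead.UnitaryGroupCard
import Cfsg.Agent.Lib.Helper37.ExcA

/-!
# `SU_3(3)` on the 63 nonisotropic points of `F_9^3`
-/

set_option autoImplicit false

namespace Cfsg.Agent.Helper37.Exc

open Matrix

/-- The field with nine elements. -/
abbrev F9 : Type := QuadraticAlgebra (ZMod 3) 2 0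

instance factF9 : Fact (∀ r : ZMod 3, r ^ 2 ≠ 2 + 0 * r) := ⟨by decide⟩

instance fintypeF9 : Fintype F9 :=
  Fintype.ofEquiv (ZMod 3 × ZMod 3) (QuadraticAlgebra.equivProd 2 0).symm

theorem card_F9 : Fintype.card F9 = 3 ^ 2 := by
  rw [Fintype.card_congr (QuadraticAlgebra.equivProd (2 : ZMod 3) 0), Fintype.card_prod]
  rfl

/-- The Hermitian form, written out. -/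
def herm3 (u v : Fin 3 → F9) : F9 :=
  u 0 * v 0 ^ 3 + u 1 * v 1 ^ 3 + u 2 * v 2 ^ 3

theorem hermForm_eq3 (u v : Fin 3 → F9) : Cfsg.hermForm 3 F9 3 u v = herm3 u v := by
  simp [Cfsg.hermForm, Fin.sum_univ_three, herm3]

/-- Matrix times vector, written out. -/
def mv3 (A : Matrix (Fin 3) (Fin 3) F9) (v : Fin 3 → F9) (k : Fin 3) : F9 :=
  A k 0 * v 0 + A k 1 * v 1 + A k 2 * v 2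

theorem mulVec_eq3 (A : Matrix (Fin 3) (Fin 3) F9) (v : Fin 3 → F9) : A *ᵥ v = mv3 A v := by
  funext k
  simp [Matrix.mulVec, dotProduct, Fin.sum_univ_three, mv3]

/-- Representatives of the 63 nonisotropic points. -/
def tbl3u : List (Fin 3 → F9) :=
  [![⟨0, 0⟩, ⟨0, 0⟩, ⟨1, 0⟩],
  ![⟨0, 0⟩, ⟨1, 0⟩, ⟨0, 0⟩],
  ![⟨1, 0⟩, ⟨0, 0⟩, ⟨0, 0⟩],
  ![⟨1, 0⟩, ⟨0, 1⟩, ⟨0, 0⟩],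
  ![⟨1, 0⟩, ⟨0, 2⟩, ⟨0, 0⟩],
  ![⟨1, 0⟩, ⟨1, 0⟩, ⟨0, 0⟩],
  ![⟨1, 0⟩, ⟨2, 0⟩, ⟨0, 0⟩],
  ![⟨1, 0⟩, ⟨0, 0⟩, ⟨0, 1⟩],
  ![⟨1, 0⟩, ⟨0, 0⟩, ⟨0, 2⟩],
  ![⟨1, 0⟩, ⟨0, 0⟩, ⟨1, 0⟩],
  ![⟨1, 0⟩, ⟨0, 0⟩, ⟨2, 0⟩],
  ![⟨1, 0⟩, ⟨0, 2⟩, ⟨2, 2⟩],
  ![⟨1, 0⟩, ⟨0, 2⟩, ⟨1, 1⟩],
  ![⟨1, 0⟩, ⟨0, 2⟩, ⟨1, 2⟩],
  ![⟨1, 0⟩, ⟨0, 2⟩, ⟨2, 1⟩],
  ![⟨1, 0⟩, ⟨2, 0⟩, ⟨1, 2⟩],
  ![⟨1, 0⟩, ⟨2, 0⟩, ⟨2, 1⟩],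
  ![⟨1, 0⟩, ⟨2, 2⟩, ⟨0, 2⟩],
  ![⟨1, 0⟩, ⟨1, 1⟩, ⟨0, 2⟩],
  ![⟨1, 0⟩, ⟨1, 2⟩, ⟨0, 2⟩],
  ![⟨1, 0⟩, ⟨2, 1⟩, ⟨0, 2⟩],
  ![⟨1, 0⟩, ⟨1, 2⟩, ⟨2, 0⟩],
  ![⟨1, 0⟩, ⟨2, 1⟩, ⟨2, 0⟩],
  ![⟨1, 0⟩, ⟨2, 1⟩, ⟨2, 1⟩],
  ![⟨1, 0⟩, ⟨1, 1⟩, ⟨1, 1⟩],
  ![⟨1, 0⟩, ⟨1, 1⟩, ⟨1, 2⟩],
  ![⟨1, 0⟩, ⟨1, 2⟩, ⟨1, 1⟩],
  ![⟨0, 0⟩, ⟨1, 0⟩, ⟨2, 0⟩],
  ![⟨0, 0⟩, ⟨1, 0⟩, ⟨1, 0⟩],
  ![⟨0, 0⟩, ⟨1, 0⟩, ⟨0, 1⟩],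
  ![⟨0, 0⟩, ⟨1, 0⟩, ⟨0, 2⟩],
  ![⟨1, 0⟩, ⟨1, 0⟩, ⟨2, 2⟩],
  ![⟨1, 0⟩, ⟨1, 0⟩, ⟨1, 1⟩],
  ![⟨1, 0⟩, ⟨2, 2⟩, ⟨1, 0⟩],
  ![⟨1, 0⟩, ⟨1, 1⟩, ⟨1, 0⟩],
  ![⟨1, 0⟩, ⟨1, 2⟩, ⟨1, 2⟩],
  ![⟨1, 0⟩, ⟨2, 2⟩, ⟨2, 2⟩],
  ![⟨1, 0⟩, ⟨2, 2⟩, ⟨2, 1⟩],
  ![⟨1, 0⟩, ⟨2, 1⟩, ⟨2, 2⟩],
  ![⟨1, 0⟩, ⟨2, 0⟩, ⟨2, 2⟩],
  ![⟨1, 0⟩, ⟨2, 0⟩, ⟨1, 1⟩],
  ![⟨1, 0⟩, ⟨2, 2⟩, ⟨0, 1⟩],
  ![⟨1, 0⟩, ⟨1, 1⟩, ⟨0, 1⟩],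
  ![⟨1, 0⟩, ⟨1, 2⟩, ⟨0, 1⟩],
  ![⟨1, 0⟩, ⟨2, 1⟩, ⟨0, 1⟩],
  ![⟨1, 0⟩, ⟨1, 2⟩, ⟨1, 0⟩],
  ![⟨1, 0⟩, ⟨2, 1⟩, ⟨1, 0⟩],
  ![⟨1, 0⟩, ⟨2, 1⟩, ⟨1, 2⟩],
  ![⟨1, 0⟩, ⟨1, 1⟩, ⟨2, 2⟩],
  ![⟨1, 0⟩, ⟨1, 1⟩, ⟨2, 1⟩],
  ![⟨1, 0⟩, ⟨1, 2⟩, ⟨2, 2⟩],
  ![⟨1, 0⟩, ⟨0, 1⟩, ⟨2, 2⟩],
  ![⟨1, 0⟩, ⟨0, 1⟩, ⟨1, 1⟩],
  ![⟨1, 0⟩, ⟨0, 1⟩, ⟨1, 2⟩],
  ![⟨1, 0⟩, ⟨0, 1⟩, ⟨2, 1⟩],
  ![⟨1, 0⟩, ⟨1, 0⟩, ⟨1, 2⟩],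
  ![⟨1, 0⟩, ⟨1, 0⟩, ⟨2, 1⟩],
  ![⟨1, 0⟩, ⟨2, 2⟩, ⟨2, 0⟩],
  ![⟨1, 0⟩, ⟨1, 1⟩, ⟨2, 0⟩],
  ![⟨1, 0⟩, ⟨1, 2⟩, ⟨2, 1⟩],
  ![⟨1, 0⟩, ⟨2, 2⟩, ⟨1, 1⟩],
  ![⟨1, 0⟩, ⟨2, 2⟩, ⟨1, 2⟩],
  ![⟨1, 0⟩, ⟨2, 1⟩, ⟨1, 1⟩]]

/-- The representative with a given number. -/
def rep3Nu (k : ℕ) : Fin 3 → F9 := tbl3u.getD k 0

/-- The representatives. -/
def rep3u (i : Fin 63) : Fin 3 → F9 := rep3Nu i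

/-- `SU_3(3)` as matrices. -/
def rho3u : Cfsg.SU 3 F9 3 →* Matrix (Fin 3) (Fin 3) F9 :=
  (Cfsg.slToMat 3 F9).comp (Cfsg.SU 3 F9 3).subtype

theorem u3e1 : ∀ i : Fin 63, herm3 (rep3Nu i) (rep3Nu i) ≠ 0 := by decide +kernel

theorem u3e3 : ∀ i j : Fin 63, ∀ t : F9, t ≠ 0 → (∀ k : Fin 3, rep3Nu i k = t * rep3Nu j k) →
    i = j := by
  decide +kernel

theorem u3e2 : ∀ a b c : F9, herm3 ![a, b, c] ![a, b, c] ≠ 0 →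
    ∃ i : Fin 63, ∃ t : F9, t ≠ 0 ∧ ∀ k : Fin 3, ![a, b, c] k = t * rep3Nu i k := by
  decide +kernel

theorem psys3u : PSys rho3u (fun v => herm3 v v ≠ 0) 63 rep3u where
  inv g v hv := by
    have h := g.2 v v
    rw [hermForm_eq3, hermForm_eq3] at h
    show herm3 (rho3u g *ᵥ v) (rho3u g *ᵥ v) ≠ 0
    have e : rho3u g = Cfsg.slToMat 3 F9 g.1 := rfl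
    rw [e, h]
    exact hv
  rep_mem i := u3e1 i
  cover v hv := by
    have hv' : v = ![v 0, v 1, v 2] := by
      funext k
      fin_cases k <;> rfl
    rw [hv'] at hv
    obtain ⟨i, t, ht, h⟩ := u3e2 _ _ _ hv
    refine ⟨i, t, ht, ?_⟩
    rw [hv']
    funext k
    exact h k
  uniq i j c hc h := u3e3 i j c hc (fun k => congrFun h k)

/-- The permutation representation of `SU_3(3)` on the 63 points. -/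
noncomputable def pi3u : Cfsg.SU 3 F9 3 →* Equiv.Perm (Fin 63) := psys3u.hom

theorem mem_SU3_of (A : Matrix (Fin 3) (Fin 3) F9) (hdet : A.det = 1)
    (h : ∀ i j : Fin 3, herm3 (fun k => A k i) (fun k => A k j) = if i = j then 1 else 0) :
    (⟨A, hdet⟩ : Matrix.SpecialLinearGroup (Fin 3) F9) ∈ Cfsg.SU 3 F9 3 := by
  intro u v
  have hA : Cfsg.slToMat 3 F9 ⟨A, hdet⟩ = Cfsg.Agent.Lead.colMat (fun j k => A k j) :=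
    Matrix.ext (fun i j => rfl)
  rw [hA]
  refine Cfsg.Agent.Lead.colMat_preserves card_F9 _ (fun i j => ?_) u v
  rw [Cfsg.Agent.Lead.stdHerm_apply, hermForm_eq3]
  exact h i j

theorem pi3u_eq_of_list (g : Cfsg.SU 3 F9 3) (A : Matrix (Fin 3) (Fin 3) F9) (hA : rho3u g = A)
    (l : List ℕ) (hl : l.length = 63)
    (h : ∀ i : Fin 63, l.getD i 0 < 63 ∧ ∃ t : F9, t ≠ 0 ∧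
      ∀ k : Fin 3, mv3 A (rep3Nu i) k = t * rep3Nu (l.getD i 0) k) : toL (pi3u g) = l := by
  apply toL_eq_of _ _ hl
  intro i
  obtain ⟨hlt, t, ht, hk⟩ := h i
  have : pi3u g i = ⟨l.getD i 0, hlt⟩ := by
    refine (psys3u.hom_apply_eq_iff g i _).2 ⟨t, ht, ?_⟩
    rw [hA, mulVec_eq3]
    funext k
    exact hk k
  rw [this]

/-! ### The generators -/

/-- A generator, as a matrix. -/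
def CU0 : Matrix (Fin 3) (Fin 3) F9 := !![⟨0, 1⟩, ⟨1, 1⟩, ⟨0, 2⟩; ⟨0, 1⟩, ⟨0, 1⟩, ⟨2, 2⟩; ⟨2, 2⟩, ⟨0, 2⟩, ⟨0, 1⟩]

theorem CU0_det : CU0.det = 1 := by decide +kernel

theorem CU0_orth : ∀ i j : Fin 3, herm3 (fun k => CU0 k i) (fun k => CU0 k j) = if i = j then 1 else 0 := by
  decide +kernel

/-- A generator of `SU_3(3)`. -/
def cu0 : Cfsg.SU 3 F9 3 := ⟨⟨CU0, CU0_det⟩, mem_SU3_of CU0 CU0_det CU0_orth⟩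

/-- The permutation of a generator. -/
def lq0 : List ℕ := [21, 60, 56, 11, 25, 22, 9, 20, 53, 28, 48, 12, 3, 17, 23, 61, 51, 49, 39, 7, 19, 47, 59, 45, 18, 41, 30, 55, 6, 42, 38, 1, 10, 15, 46, 36, 62, 8, 26, 24, 16, 4, 54, 34, 50, 14, 43, 0, 32, 13, 52, 40, 44, 37, 29, 57, 58, 27, 2, 5, 31, 33, 35]

theorem pi3u_cu0 : toL (pi3u cu0) = lq0 :=
  pi3u_eq_of_list cu0 CU0 rfl lq0 rfl (by decide +kernel)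

/-- A generator, as a matrix. -/
def CU1 : Matrix (Fin 3) (Fin 3) F9 := !![⟨0, 0⟩, ⟨2, 2⟩, ⟨2, 2⟩; ⟨0, 0⟩, ⟨2, 2⟩, ⟨1, 1⟩; ⟨0, 1⟩, ⟨0, 0⟩, ⟨0, 0⟩]

theorem CU1_det : CU1.det = 1 := by decide +kernel

theorem CU1_orth : ∀ i j : Fin 3, herm3 (fun k => CU1 k i) (fun k => CU1 k j) = if i = j then 1 else 0 := by
  decide +kernel

/-- A generator of `SU_3(3)`. -/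
def cu1 : Cfsg.SU 3 F9 3 := ⟨⟨CU1, CU1_det⟩, mem_SU3_of CU1 CU1_det CU1_orth⟩

/-- The permutation of a generator. -/
def lq1 : List ℕ := [6, 5, 0, 55, 56, 32, 31, 15, 16, 40, 39, 18, 62, 45, 36, 23, 34, 17, 26, 46, 48, 59, 33, 7, 10, 51, 11, 1, 2, 4, 3, 37, 19, 49, 20, 8, 9, 52, 12, 43, 61, 50, 41, 24, 22, 57, 35, 29, 27, 14, 53, 38, 42, 60, 21, 58, 47, 44, 25, 30, 28, 13, 54]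

theorem pi3u_cu1 : toL (pi3u cu1) = lq1 :=
  pi3u_eq_of_list cu1 CU1 rfl lq1 rfl (by decide +kernel)

end Cfsg.Agent.Helper37.Exc
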