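import Mathlib
import Cfsg.Prelude.Def_ChevG2

/-!
# Fast arithmetic for `14 × 14` matrices over the field with three elements

A matrix is a list of 14 natural numbers, one for each column; the entries of a column are the
digits in base 64 (so that a linear combination of columns with small coefficients is computed by
one multiplication and addition of natural numbers for each column, without carries).
-/

set_option autoImplicit false

namespace Cfsg.Agent.Helper37.G3

open Matrix Cfsg.Lie

/-- The coordinates. -/
abbrev G2I : Type := chevG2.Idx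

/-- The number of a coordinate. -/
def idxN : G2I → ℕ
  | Sum.inl i => i.val
  | Sum.inr u => 2 + u.val

theorem idxN_lt (i : G2I) : idxN i < 14 := by
  rcases i with i | u
  · have := i.2
    show i.val < 14
    have h2 : chevG2.rank = 2 := rfl
    omega
  · have := u.2
    show 2 + u.val < 14
    have h2 : chevG2.nroots = 12 := rfl
    omega

/-- The coordinate with a given number. -/
def idxI (n : ℕ) : G2I :=
  if h : n < 2 then Sum.inl ⟨n, h⟩ else Sum.inr ⟨(n - 2) % 12, Nat.mod_lt _ (by norm_num)⟩

theorem idxN_idxI (n : ℕ) (h : n < 14) : idxN (idxI n) = n := by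
  unfold idxI
  split_ifs with h2
  · rfl
  · show 2 + (n - 2) % 12 = n
    rw [Nat.mod_eq_of_lt (by omega)]
    omega

theorem sum_idx {M : Type*} [AddCommMonoid M] (f : ℕ → M) :
    ∑ k : G2I, f (idxN k) = ∑ k ∈ Finset.range 14, f k := by
  rw [Fintype.sum_sum_type]
  have h1 : ∑ i : Fin chevG2.rank, f (idxN (Sum.inl i)) = ∑ k ∈ Finset.range 2, f k :=
    Fin.sum_univ_eq_sum_range (fun k => f k) 2
  have h2 : ∑ u : Fin chevG2.nroots, f (idxN (Sum.inr u)) = ∑ k ∈ Finset.range 12, f (2 + k) :=
    Fin.sum_univ_eq_sum_range (fun k => f (2 + k)) 12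
  rw [h1, h2, Finset.sum_range_add f 2 12]

/-! ### Numbers in base 64 -/

/-- The number with given digits (the first is the lowest). -/
def encL (l : List ℕ) : ℕ := l.foldr (fun x acc => x + 64 * acc) 0

/-- A digit. -/
def dig (x j : ℕ) : ℕ := x / 64 ^ j % 64

theorem encL_nil : encL [] = 0 := rfl

theorem encL_cons (x : ℕ) (l : List ℕ) : encL (x :: l) = x + 64 * encL l := rfl

theorem dig_encL (l : List ℕ) (h : ∀ x ∈ l, x < 64) (j : ℕ) : dig (encL l) j = l.getD j 0 := by
  induction l generalizing j with
  | nil => simp [dig, encL_nil]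
  | cons x l ih =>
    have hx : x < 64 := h x List.mem_cons_self
    have hl : ∀ y ∈ l, y < 64 := fun y hy => h y (List.mem_cons_of_mem _ hy)
    cases j with
    | zero =>
      simp only [dig, encL_cons, pow_zero, Nat.div_one, List.getD_cons_zero]
      rw [Nat.add_mul_mod_self_left, Nat.mod_eq_of_lt hx]
    | succ j =>
      have := ih hl j
      simp only [dig, encL_cons, List.getD_cons_succ] at this ⊢
      rw [pow_succ, mul_comm (64 ^ j) 64, ← Nat.div_div_eq_div_mul,
        Nat.add_mul_div_left _ _ (by norm_num : 0 < 64), Nat.div_eq_of_lt hx, zero_add]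
      exact this

theorem encL_append (l : List ℕ) (x : ℕ) : encL (l ++ [x]) = encL l + x * 64 ^ l.length := by
  induction l with
  | nil => simp [encL]
  | cons y l ih =>
    rw [List.cons_append, encL_cons, ih, encL_cons, List.length_cons, pow_succ]
    ring

theorem encL_range_map (n : ℕ) (s : ℕ → ℕ) :
    encL ((List.range n).map s) = ∑ j ∈ Finset.range n, s j * 64 ^ j := by
  induction n with
  | zero => simp [encL]
  | succ n ih =>
    rw [List.range_succ, List.map_append, List.map_singleton, encL_append, ih,
      Finset.sum_range_succ, List.length_map, List.length_range]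

/-! ### Vectors and matrices -/

/-- The vector with given entries (taken modulo 3). -/
def vecL (v : List ℕ) : G2I → ZMod 3 := fun i => ((v.getD (idxN i) 0 : ℕ) : ZMod 3)

/-- The matrix with given columns: the entries of a column are its digits (taken modulo 3). -/
def ofE (A : List ℕ) : Matrix G2I G2I (ZMod 3) :=
  Matrix.of fun i j => ((dig (A.getD (idxN j) 0) (idxN i) : ℕ) : ZMod 3)

/-- The digits, reduced modulo 3. -/
def digs3 (x : ℕ) : List ℕ := (List.range 14).map (fun j => dig x j % 3)

/-- The linear combination of the columns of `A` with coefficients `c`. -/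
def comb (A c : List ℕ) : ℕ := (List.zipWith (fun a b => a * b) c A).sum

/-- Matrix times vector. -/
def mvE (A v : List ℕ) : List ℕ := digs3 (comb A v)

/-- Matrix times matrix. -/
def mulE (A B : List ℕ) : List ℕ := B.map (fun bc => encL (mvE A (digs3 bc)))

/-- The columns are numbers with 14 digits, all at most 2. -/
def normE (A : List ℕ) : Prop :=
  A.length = 14 ∧ ∀ a ∈ A, a = encL ((List.range 14).map (dig a)) ∧ ∀ j < 14, dig a j ≤ 2

instance (A : List ℕ) : Decidable (normE A) := by
  unfold normE
  infer_instance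

/-- Fourteen entries, all at most 2. -/
def normV (v : List ℕ) : Prop := v.length = 14 ∧ ∀ x ∈ v, x ≤ 2

instance (v : List ℕ) : Decidable (normV v) := by
  unfold normV
  infer_instance

theorem digs3_length (x : ℕ) : (digs3 x).length = 14 := by simp [digs3]

theorem digs3_getD (x j : ℕ) (hj : j < 14) : (digs3 x).getD j 0 = dig x j % 3 := by
  unfold digs3
  rw [List.getD_eq_getElem _ _ (by simp; exact hj)]
  simp

theorem normV_digs3 (x : ℕ) : normV (digs3 x) := by
  refine ⟨digs3_length x, ?_⟩
  intro y hy
  unfold digs3 at hy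
  rw [List.mem_map] at hy
  obtain ⟨j, _, rfl⟩ := hy
  have := Nat.mod_lt (dig x j) (by norm_num : 0 < 3)
  omega

theorem zipWith_sum (c A : List ℕ) :
    (List.zipWith (fun a b => a * b) c A).sum =
      ∑ k ∈ Finset.range (min c.length A.length), c.getD k 0 * A.getD k 0 := by
  induction c generalizing A with
  | nil => simp
  | cons x c ih =>
    cases A with
    | nil => simp
    | cons a A =>
      rw [List.zipWith_cons_cons, List.sum_cons, ih, List.length_cons, List.length_cons,
        Nat.succ_min_succ, Finset.sum_range_succ']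
      simp only [List.getD_cons_succ, List.getD_cons_zero]
      ring

theorem comb_eq (A c : List ℕ) (hA : A.length = 14) (hc : c.length = 14) :
    comb A c = ∑ k ∈ Finset.range 14, c.getD k 0 * A.getD k 0 := by
  unfold comb
  rw [zipWith_sum, hA, hc, min_self]

theorem getD_mem (A : List ℕ) (k : ℕ) (hk : k < A.length) : A.getD k 0 ∈ A := by
  rw [List.getD_eq_getElem _ _ hk]
  exact List.getElem_mem hk

/-- The digits of a linear combination. -/
theorem dig_comb (A c : List ℕ) (hA : normE A) (hc : normV c) (j : ℕ) (hj : j < 14) :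
    dig (comb A c) j = ∑ k ∈ Finset.range 14, c.getD k 0 * dig (A.getD k 0) j := by
  obtain ⟨hAl, hAd⟩ := hA
  obtain ⟨hcl, hcd⟩ := hc
  have hcol : ∀ k ∈ Finset.range 14, A.getD k 0 = ∑ i ∈ Finset.range 14, dig (A.getD k 0) i * 64 ^ i := by
    intro k hk
    rw [Finset.mem_range] at hk
    have hmem := getD_mem A k (by rw [hAl]; exact hk)
    have := (hAd _ hmem).1
    rw [encL_range_map] at this
    exact this
  have hc2 : ∀ k ∈ Finset.range 14, c.getD k 0 ≤ 2 := by
    intro k hk
    rw [Finset.mem_range] at hk
    rw [List.getD_eq_getElem _ _ (by rw [hcl]; exact hk)]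
    exact hcd _ (List.getElem_mem _)
  have hd2 : ∀ k ∈ Finset.range 14, ∀ i < 14, dig (A.getD k 0) i ≤ 2 := by
    intro k hk i hi
    rw [Finset.mem_range] at hk
    exact (hAd _ (getD_mem A k (by rw [hAl]; exact hk))).2 i hi
  set s : ℕ → ℕ := fun i => ∑ k ∈ Finset.range 14, c.getD k 0 * dig (A.getD k 0) i with hs
  have hsum : comb A c = encL ((List.range 14).map s) := by
    rw [comb_eq A c hAl hcl, encL_range_map]
    calc ∑ k ∈ Finset.range 14, c.getD k 0 * A.getD k 0
        = ∑ k ∈ Finset.range 14, ∑ i ∈ Finset.range 14,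
            c.getD k 0 * dig (A.getD k 0) i * 64 ^ i := by
          apply Finset.sum_congr rfl
          intro k hk
          conv_lhs => rw [hcol k hk]
          rw [Finset.mul_sum]
          apply Finset.sum_congr rfl
          intro i _
          ring
      _ = ∑ i ∈ Finset.range 14, ∑ k ∈ Finset.range 14,
            c.getD k 0 * dig (A.getD k 0) i * 64 ^ i := Finset.sum_comm
      _ = ∑ i ∈ Finset.range 14, s i * 64 ^ i := by
          apply Finset.sum_congr rfl
          intro i _
          rw [hs, Finset.sum_mul]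
  have hs64 : ∀ x ∈ (List.range 14).map s, x < 64 := by
    intro x hx
    rw [List.mem_map] at hx
    obtain ⟨i, hi, rfl⟩ := hx
    rw [List.mem_range] at hi
    have : s i ≤ ∑ k ∈ Finset.range 14, 4 := by
      apply Finset.sum_le_sum
      intro k hk
      have h1 := hc2 k hk
      have h2 := hd2 k hk i hi
      nlinarith
    simp at this
    omega
  rw [hsum, dig_encL _ hs64, List.getD_eq_getElem _ _ (by simp; exact hj)]
  simp [hs]

theorem natCast_mod3 (x : ℕ) : ((x % 3 : ℕ) : ZMod 3) = (x : ZMod 3) := ZMod.natCast_mod x 3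

theorem vecL_mvE (A v : List ℕ) (hA : normE A) (hv : normV v) :
    vecL (mvE A v) = ofE A *ᵥ vecL v := by
  funext i
  have hi := idxN_lt i
  unfold mvE
  show (((digs3 (comb A v)).getD (idxN i) 0 : ℕ) : ZMod 3) = _
  rw [digs3_getD _ _ hi, natCast_mod3, dig_comb A v hA hv _ hi, Matrix.mulVec, dotProduct]
  rw [Nat.cast_sum]
  rw [← sum_idx (fun k => ((v.getD k 0 * dig (A.getD k 0) (idxN i) : ℕ) : ZMod 3))]
  apply Finset.sum_congr rfl
  intro k _
  rw [Nat.cast_mul, mul_comm]
  rfl

theorem vecL_digs3 (x : ℕ) (k : G2I) : vecL (digs3 x) k = ((dig x (idxN k) : ℕ) : ZMod 3) := by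
  show (((digs3 x).getD (idxN k) 0 : ℕ) : ZMod 3) = _
  rw [digs3_getD _ _ (idxN_lt k), natCast_mod3]

theorem mulE_length (A B : List ℕ) : (mulE A B).length = B.length := by simp [mulE]

theorem mvE_lt64 (A v : List ℕ) : ∀ x ∈ mvE A v, x < 64 := by
  intro x hx
  have := (normV_digs3 (comb A v)).2 x hx
  omega

theorem ofE_mulE (A B : List ℕ) (hA : normE A) (hB : B.length = 14) :
    ofE (mulE A B) = ofE A * ofE B := by
  ext i j
  have hi := idxN_lt i
  have hj := idxN_lt j
  rw [Matrix.mul_apply]
  show ((dig ((mulE A B).getD (idxN j) 0) (idxN i) : ℕ) : ZMod 3) = _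
  have hcol : (mulE A B).getD (idxN j) 0 = encL (mvE A (digs3 (B.getD (idxN j) 0))) := by
    unfold mulE
    rw [List.getD_eq_getElem _ _ (by rw [List.length_map, hB]; exact hj), List.getElem_map,
      List.getD_eq_getElem _ _ (by rw [hB]; exact hj)]
  rw [hcol, dig_encL _ (mvE_lt64 _ _)]
  have := congrFun (vecL_mvE A (digs3 (B.getD (idxN j) 0)) hA (normV_digs3 _)) i
  rw [Matrix.mulVec, dotProduct] at this
  show vecL (mvE A (digs3 (B.getD (idxN j) 0))) i = _
  rw [this]
  apply Finset.sum_congr rfl
  intro k _
  rw [vecL_digs3]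
  rfl

theorem normE_mulE (A B : List ℕ) (hB : B.length = 14) : normE (mulE A B) := by
  refine ⟨by rw [mulE_length, hB], ?_⟩
  intro a ha
  unfold mulE at ha
  rw [List.mem_map] at ha
  obtain ⟨bc, _, rfl⟩ := ha
  set l := mvE A (digs3 bc) with hl
  have hlen : l.length = 14 := digs3_length _
  have hl64 : ∀ x ∈ l, x < 64 := mvE_lt64 _ _
  have hl2 : ∀ x ∈ l, x ≤ 2 := (normV_digs3 _).2
  constructor
  · congr 1
    apply List.ext_getElem
    · simp [hlen]
    · intro n h1 h2
      rw [List.getElem_map, List.getElem_range, dig_encL _ hl64, List.getD_eq_getElem _ _ h1]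
  · intro j hj
    rw [dig_encL _ hl64, List.getD_eq_getElem _ _ (by rw [hlen]; exact hj)]
    exact hl2 _ (List.getElem_mem _)

theorem normV_mvE (A v : List ℕ) : normV (mvE A v) := normV_digs3 _

/-- Two matrices with an entry that differs are different. -/
theorem ofE_ne (A B : List ℕ) (i j : ℕ) (hi : i < 14) (hj : j < 14)
    (h : dig (A.getD j 0) i % 3 ≠ dig (B.getD j 0) i % 3) : ofE A ≠ ofE B := by
  intro hAB
  have := congrFun (congrFun hAB (idxI i)) (idxI j)
  simp only [ofE, Matrix.of_apply, idxN_idxI _ hi, idxN_idxI _ hj] at this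
  rw [ZMod.natCast_eq_natCast_iff'] at this
  exact h this

/-- Two vectors with an entry that differs are different. -/
theorem vecL_ne (a b : List ℕ) (i : ℕ) (hi : i < 14) (h : a.getD i 0 % 3 ≠ b.getD i 0 % 3) :
    vecL a ≠ vecL b := by
  intro hab
  have := congrFun hab (idxI i)
  simp only [vecL, idxN_idxI _ hi] at this
  rw [ZMod.natCast_eq_natCast_iff'] at this
  exact h this

/-- The identity matrix. -/
def idE : List ℕ := (List.range 14).map (fun j => 64 ^ j)

theorem ofE_idE : ofE idE = 1 := by
  ext i j
  have hi := idxN_lt i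
  have hj := idxN_lt j
  show ((dig (idE.getD (idxN j) 0) (idxN i) : ℕ) : ZMod 3) = _
  have : idE.getD (idxN j) 0 = 64 ^ idxN j := by
    unfold idE
    rw [List.getD_eq_getElem _ _ (by simp; exact hj)]
    simp
  rw [this, Matrix.one_apply]
  have hinj : ∀ a b : G2I, idxN a = idxN b → a = b := by
    intro a b hab
    rcases a with a | a <;> rcases b with b | b
    · congr 1
      exact Fin.ext hab
    · exfalso
      have := a.2
      have h2 : chevG2.rank = 2 := rfl
      simp only [idxN] at hab
      omega
    · exfalso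
      have := b.2
      have h2 : chevG2.rank = 2 := rfl
      simp only [idxN] at hab
      omega
    · congr 1
      apply Fin.ext
      simp only [idxN] at hab
      omega
  by_cases h : i = j
  · subst h
    rw [if_pos rfl]
    unfold dig
    rw [Nat.div_self (by positivity)]
    rfl
  · rw [if_neg h]
    have hne : idxN i ≠ idxN j := fun hh => h (hinj _ _ hh)
    unfold dig
    rcases Nat.lt_or_gt_of_ne hne with hlt | hgt
    · -- i < j: 64^j / 64^i = 64^(j-i), divisible by 64
      have : 64 ^ idxN j / 64 ^ idxN i = 64 ^ (idxN j - idxN i) :=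
        Nat.pow_div hlt.le (by norm_num)
      rw [this]
      obtain ⟨d, hd⟩ : ∃ d, idxN j - idxN i = d + 1 := ⟨idxN j - idxN i - 1, by omega⟩
      rw [hd, pow_succ, Nat.mul_mod_left]
      rfl
    · rw [Nat.div_eq_of_lt (Nat.pow_lt_pow_right (by norm_num) hgt)]
      rfl

end Cfsg.Agent.Helper37.G3
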