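import Mathlib
import Cfsg.Agent.Lib.Helper37.ExcA
import Cfsg.Agent.Lib.Helper37.G3A

/-!
# The Chevalley group of type `G_2` over the field with three elements: elements as tables,
  actions on points
-/

set_option autoImplicit false

namespace Cfsg.Agent.Helper37.G3

open Matrix Cfsg.Lie Equiv Cfsg.Agent.Helper37.Exc

/-- The group. -/
abbrev G23 : Subgroup (GL G2I (ZMod 3)) := chevG2.group (ZMod 3)

/-- The generating set. -/
def gensG3 : Set (GL G2I (ZMod 3)) :=
  {g | ∃ (r : Fin chevG2.nroots) (t : ZMod 3),
    (g : Matrix G2I G2I (ZMod 3)) = chevG2.xMat (ZMod 3) r t}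

theorem G23_eq : G23 = Subgroup.closure gensG3 := rfl

/-- The root elements `x_r(1)`, by columns. -/
def TX : List (List ℕ) :=
  [[1, 4160, 4096, 262144, 16777216, 1073741824, 68719476736, 4398046511104, 281474976972800, 18014398509481984, 1152921504623624192, 73786976296985690112, 4722366491665738235904, 302231454903657293684802],
  [1, 524352, 4096, 262144, 16777216, 1073741824, 68719476736, 4398046515200, 281474976710656, 18014398526259200, 1152921504606846976, 73786976432277159936, 4722366482869645738114, 302231455466607247097856],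
  [16777217, 64, 4096, 262144, 16777216, 1073741824, 68719476736, 4398046511104, 281474976710656, 18014399583223808, 1152921642045800448, 73786976294871760897, 4722402511667737923584, 302233760746803946848256],
  [2147483649, 1073741888, 4096, 262144, 16777216, 1073741824, 68736253952, 4398046511104, 281543729745920, 18014398509481984, 1152921506754330626, 73823005091857170432, 4722366482869645213696, 302305259903146734387200],
  [137438953473, 137438953536, 4096, 262144, 16777216, 1107296256, 68719476736, 4399137554432, 281474976710656, 18014535948435458, 1152921504606846976, 74939897799445053440, 4798459583648673824768, 302231454903657293676544],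
  [1, 8796093022272, 4096, 270336, 16777216, 1073741824, 70866960384, 4398046511104, 290271069732992, 18014398509481984, 1170935903116328960, 73786976294838206464, 4722366482869645213696, 306953821386526938890240],
  [1, 281474976710720, 528384, 262144, 16777216, 138512695296, 68719476736, 567347999932480, 281474976710656, 1170935903116328960, 1152921504606846976, 73786976294838206464, 306953821386526938890240, 302231454903657293676544],
  [18014398509481985, 18014398509482048, 4096, 8798274322432, 2164260864, 1073741824, 36028865738440705, 4398046511104, 4798459583648673824768, 18014398509481984, 74939897799445053440, 73786976294838206464, 4722366482869645213696, 302231454903657293676544],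
  [1152921504606846977, 2305843009213694016, 281543729745920, 262144, 68736253952, 2305843010287435777, 68719476736, 604610519793099329241088, 281474976710656, 147591966988185894912, 1152921504606846976, 73786976294838206464, 4722366482869645213696, 302231454903657293676544],
  [147573952589676412929, 64, 4722402511667737923584, 604464062728887913938944, 147573952589693190146, 18014399583223808, 2305843077933170688, 4398046511104, 281474976710656, 18014398509481984, 1152921504606846976, 73786976294838206464, 4722366482869645213696, 302231454903657293676544],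
  [1, 4722366482869645213760, 4398046515200, 9444732965739290689601, 18014398526259200, 1073741824, 147573952658395889664, 4398046511104, 604462910088789564063744, 18014398509481984, 1152921504606846976, 73786976294838206464, 4722366482869645213696, 302231454903657293676544],
  [1, 604462909807314587353152, 604462909807314587357313, 281474976972800, 1152921504623624192, 147573952590750154752, 68719476736, 9444732970137336938496, 281474976710656, 18014398509481984, 1152921504606846976, 73786976294838206464, 4722366482869645213696, 302231454903657293676544]]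

theorem TX_eq : ∀ r : Fin 12, chevG2.xMat (ZMod 3) r 1 = ofE (TX.getD r []) := by decide +kernel

theorem TX_two : ∀ r : Fin 12, chevG2.xMat (ZMod 3) r 2 =
    ofE (mulE (TX.getD r []) (TX.getD r [])) := by decide +kernel

theorem TX_zero : ∀ r : Fin 12, chevG2.xMat (ZMod 3) r 0 = 1 := by decide +kernel

theorem TX_norm : ∀ r : Fin 12, normE (TX.getD r []) := by decide +kernel

theorem TX_cube : ∀ r : Fin 12,
    mulE (TX.getD r []) (mulE (TX.getD r []) (TX.getD r [])) = idE := by decide +kernel

theorem TX_len (r : Fin 12) : (TX.getD r []).length = 14 := (TX_norm r).1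

theorem xM_two (r : Fin 12) : chevG2.xMat (ZMod 3) r 2 =
    chevG2.xMat (ZMod 3) r 1 * chevG2.xMat (ZMod 3) r 1 := by
  rw [TX_two, ofE_mulE _ _ (TX_norm r) (TX_len r), ← TX_eq]

theorem xM_cube (r : Fin 12) : chevG2.xMat (ZMod 3) r 1 *
    (chevG2.xMat (ZMod 3) r 1 * chevG2.xMat (ZMod 3) r 1) = 1 := by
  have h := TX_cube r
  have h2 := ofE_mulE (TX.getD r []) (mulE (TX.getD r []) (TX.getD r [])) (TX_norm r)
    (by rw [mulE_length]; exact TX_len r)
  rw [h, ofE_idE, ofE_mulE _ _ (TX_norm r) (TX_len r), ← TX_eq] at h2
  exact h2.symm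

/-- The root elements `x_r(1)` as invertible matrices. -/
def xU (r : Fin 12) : GL G2I (ZMod 3) :=
  ⟨chevG2.xMat (ZMod 3) r 1, chevG2.xMat (ZMod 3) r 1 * chevG2.xMat (ZMod 3) r 1, xM_cube r, by
    rw [mul_assoc]
    exact xM_cube r⟩

theorem xU_mem_gens (r : Fin 12) : xU r ∈ gensG3 := ⟨r, 1, rfl⟩

theorem xU_mem (r : Fin 12) : xU r ∈ G23 := Subgroup.subset_closure (xU_mem_gens r)

theorem zmod3_cases (t : ZMod 3) : t = 0 ∨ t = 1 ∨ t = 2 := by
  revert t
  decide

/-- Every generator is `1`, `x_r(1)` or its square. -/
theorem gens_cases (g : GL G2I (ZMod 3)) (hg : g ∈ gensG3) :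
    g = 1 ∨ ∃ r : Fin 12, g = xU r ∨ g = xU r * xU r := by
  obtain ⟨r, t, h⟩ := hg
  rcases zmod3_cases t with rfl | rfl | rfl
  · left
    apply Units.ext
    rw [h, TX_zero r]
    rfl
  · right
    exact ⟨r, Or.inl (Units.ext h)⟩
  · right
    refine ⟨r, Or.inr (Units.ext ?_)⟩
    rw [h, xM_two r]
    rfl

/-! ### Elements given by columns -/

/-- The columns are those of an element of the group. -/
def IsElt (A : List ℕ) : Prop :=
  normE A ∧ ∃ g ∈ G23, (g : Matrix G2I G2I (ZMod 3)) = ofE A

theorem isElt_gen (r : Fin 12) : IsElt (TX.getD r []) :=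
  ⟨TX_norm r, xU r, xU_mem r, TX_eq r⟩

theorem isElt_mul {A B : List ℕ} (hA : IsElt A) (hB : IsElt B) : IsElt (mulE A B) := by
  obtain ⟨hAn, g, hg, hgA⟩ := hA
  obtain ⟨hBn, h, hh, hhB⟩ := hB
  refine ⟨normE_mulE A B hBn.1, g * h, G23.mul_mem hg hh, ?_⟩
  rw [ofE_mulE A B hAn hBn.1, ← hgA, ← hhB]
  rfl

/-- A checked table of elements: the first 12 entries are the root elements, entry `12 + k` is
the product of the two earlier entries named by `prog[k]`. -/
theorem tableE_sound (T : List (List ℕ)) (hgen : ∀ k < 12, T.getD k [] = TX.getD k [])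
    (prog : List (ℕ × ℕ))
    (hprog : ∀ k < prog.length, (prog.getD k (0, 0)).1 < 12 + k ∧ (prog.getD k (0, 0)).2 < 12 + k ∧
      T.getD (12 + k) [] =
        mulE (T.getD (prog.getD k (0, 0)).1 []) (T.getD (prog.getD k (0, 0)).2 [])) :
    ∀ k < 12 + prog.length, IsElt (T.getD k []) := by
  intro k
  induction k using Nat.strong_induction_on with
  | _ k ih =>
    intro hk
    rcases Nat.lt_or_ge k 12 with h | h
    · rw [hgen k h]
      exact isElt_gen ⟨k, h⟩
    · obtain ⟨j, rfl⟩ : ∃ j, k = 12 + j := ⟨k - 12, by omega⟩
      have hj : j < prog.length := by omega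
      obtain ⟨h1, h2, h3⟩ := hprog j hj
      rw [h3]
      exact isElt_mul (ih _ h1 (by omega)) (ih _ h2 (by omega))

/-! ### Points -/

section Closure

variable {F : Type*} [Field F] {ι : Type*} [Fintype ι] [DecidableEq ι]
variable {G : Type*} [Group G] [Finite G]

/-- If the generators permute a finite family of points (vectors up to nonzero scalars), so does
the group they generate. -/
theorem closure_preserves_pts (ρ : G →* Matrix ι ι F) (s : Set G) {n : ℕ} (rep : Fin n → ι → F)
    (h : ∀ g ∈ s, ∀ i, ∃ j, ∃ c : F, c ≠ 0 ∧ ρ g *ᵥ rep i = c • rep j) :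
    ∀ g ∈ Subgroup.closure s, ∀ i, ∃ j, ∃ c : F, c ≠ 0 ∧ ρ g *ᵥ rep i = c • rep j := by
  have hone : ∀ i, ∃ j, ∃ c : F, c ≠ 0 ∧ ρ (1 : G) *ᵥ rep i = c • rep j := by
    intro i
    exact ⟨i, 1, one_ne_zero, by rw [map_one, Matrix.one_mulVec, one_smul]⟩
  have hmul : ∀ a b : G, (∀ i, ∃ j, ∃ c : F, c ≠ 0 ∧ ρ a *ᵥ rep i = c • rep j) →
      (∀ i, ∃ j, ∃ c : F, c ≠ 0 ∧ ρ b *ᵥ rep i = c • rep j) →
      ∀ i, ∃ j, ∃ c : F, c ≠ 0 ∧ ρ (a * b) *ᵥ rep i = c • rep j := by
    intro a b ha hb i
    obtain ⟨j, c, hc, hj⟩ := hb i
    obtain ⟨k, d, hd, hk⟩ := ha j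
    refine ⟨k, c * d, mul_ne_zero hc hd, ?_⟩
    rw [map_mul, ← Matrix.mulVec_mulVec, hj, Matrix.mulVec_smul, hk, smul_smul]
  have hpow : ∀ a : G, (∀ i, ∃ j, ∃ c : F, c ≠ 0 ∧ ρ a *ᵥ rep i = c • rep j) →
      ∀ m : ℕ, ∀ i, ∃ j, ∃ c : F, c ≠ 0 ∧ ρ (a ^ m) *ᵥ rep i = c • rep j := by
    intro a ha m
    induction m with
    | zero =>
      rw [pow_zero]
      exact hone
    | succ m ih =>
      rw [pow_succ]
      exact hmul _ _ ih ha
  intro g hg
  induction hg using Subgroup.closure_induction with
  | mem g hg => exact h g hg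
  | one => exact hone
  | mul a b _ _ iha ihb => exact hmul a b iha ihb
  | inv a _ iha =>
    have hpos : 0 < orderOf a := orderOf_pos a
    have : a⁻¹ = a ^ (orderOf a - 1) := by
      apply inv_eq_of_mul_eq_one_right
      rw [← pow_succ', Nat.sub_add_cancel hpos, pow_orderOf_eq_one]
    rw [this]
    exact hpow a iha _

end Closure

end Cfsg.Agent.Helper37.G3
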