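import Mathlib
import Cfsg.Agent.Lib.Helper37.G3B

/-!
# Actions of `G_2(3)` on finite sets of points, from tables
-/

set_option autoImplicit false

namespace Cfsg.Agent.Helper37.G3

open Matrix Cfsg.Lie Equiv Cfsg.Agent.Helper37.Exc

/-- Multiply a vector by a scalar. -/
def smulL (c : ℕ) (v : List ℕ) : List ℕ := v.map (fun x => c * x % 3)

theorem vecL_smulL (c : ℕ) (v : List ℕ) : vecL (smulL c v) = (c : ZMod 3) • vecL v := by
  funext i
  show (((smulL c v).getD (idxN i) 0 : ℕ) : ZMod 3) =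
    (c : ZMod 3) * ((v.getD (idxN i) 0 : ℕ) : ZMod 3)
  unfold smulL
  rcases Nat.lt_or_ge (idxN i) v.length with h | h
  · rw [List.getD_eq_getElem _ _ (by rw [List.length_map]; exact h), List.getElem_map,
      List.getD_eq_getElem _ _ h, natCast_mod3, Nat.cast_mul]
  · rw [List.getD_eq_default _ _ (by rw [List.length_map]; exact h), List.getD_eq_default _ _ h]
    simp

theorem normV_smulL (c : ℕ) (v : List ℕ) (hv : v.length = 14) : normV (smulL c v) := by
  refine ⟨by rw [smulL, List.length_map, hv], ?_⟩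
  intro x hx
  unfold smulL at hx
  rw [List.mem_map] at hx
  obtain ⟨y, _, rfl⟩ := hx
  have := Nat.mod_lt (c * y) (by norm_num : 0 < 3)
  omega

theorem vecL_inj (a b : List ℕ) (ha : normV a) (hb : normV b) (h : vecL a = vecL b) : a = b := by
  apply List.ext_getElem (by rw [ha.1, hb.1])
  intro k h1 h2
  have hk : k < 14 := by rw [ha.1] at h1; exact h1
  have := congrFun h (idxI k)
  simp only [vecL, idxN_idxI _ hk] at this
  rw [List.getD_eq_getElem _ _ h1, List.getD_eq_getElem _ _ h2,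
    ZMod.natCast_eq_natCast_iff'] at this
  have e1 := ha.2 _ (List.getElem_mem h1)
  have e2 := hb.2 _ (List.getElem_mem h2)
  omega

/-- The group as matrices. -/
def rhoG3 : ↥G23 →* Matrix G2I G2I (ZMod 3) :=
  (Units.coeHom (Matrix G2I G2I (ZMod 3))).comp G23.subtype

/-- A binary tree, for fast look-up in tables. -/
inductive BT (α : Type) : Type
  | leaf (a : α) : BT α
  | node (l r : BT α) : BT α

/-- Look up the entry with a given number (lowest bit first). -/
def BT.look {α : Type} : BT α → ℕ → α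
  | BT.leaf a, _ => a
  | BT.node l r, i => if i % 2 = 0 then l.look (i / 2) else r.look (i / 2)

/-- A certificate that the root elements permute `n` points, given by normalized vectors. -/
structure PCert (n : ℕ) (tb : ℕ → List ℕ) (lgf sgf : ℕ → ℕ → ℕ) (codes : List ℕ) : Prop where
  pos : 0 < n
  normv : ∀ i < n, normV (tb i)
  act : ∀ r < 12, ∀ i < n, lgf r i < n ∧ (sgf r i = 1 ∨ sgf r i = 2) ∧
    mvE (TX.getD r []) (tb i) = smulL (sgf r i) (tb (lgf r i))
  codes_eq : codes = (List.range n).map (fun i => encL (tb i)) ++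
    (List.range n).map (fun i => encL (smulL 2 (tb i)))
  nodup : codes.Nodup

section Cert

variable {n : ℕ} {tb : ℕ → List ℕ} {lgf sgf : ℕ → ℕ → ℕ} {codes : List ℕ}

/-- The representatives. -/
def repP (n : ℕ) (tb : ℕ → List ℕ) (i : Fin n) : G2I → ZMod 3 := vecL (tb i)

/-- The points. -/
def SP (n : ℕ) (tb : ℕ → List ℕ) (v : G2I → ZMod 3) : Prop :=
  ∃ i : Fin n, ∃ c : ZMod 3, c ≠ 0 ∧ v = c • repP n tb i

theorem one_two_ne_zero (s : ℕ) (hs : s = 1 ∨ s = 2) : (s : ZMod 3) ≠ 0 := by
  rcases hs with rfl | rfl <;> decide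

theorem gens_act (c : PCert n tb lgf sgf codes) : ∀ g ∈ gensG3, ∀ i : Fin n, ∃ j : Fin n,
    ∃ d : ZMod 3, d ≠ 0 ∧
      (Units.coeHom (Matrix G2I G2I (ZMod 3)) g) *ᵥ repP n tb i = d • repP n tb j := by
  have hx : ∀ r : Fin 12, ∀ i : Fin n, ∃ j : Fin n, ∃ d : ZMod 3, d ≠ 0 ∧
      chevG2.xMat (ZMod 3) r 1 *ᵥ repP n tb i = d • repP n tb j := by
    intro r i
    obtain ⟨h1, h2, h3⟩ := c.act r r.2 i i.2
    refine ⟨⟨_, h1⟩, _, one_two_ne_zero _ h2, ?_⟩
    rw [TX_eq r]
    unfold repP
    rw [← vecL_mvE _ _ (TX_norm r) (c.normv i i.2), h3, vecL_smulL]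
  intro g hg i
  rcases gens_cases g hg with rfl | ⟨r, rfl | rfl⟩
  · exact ⟨i, 1, one_ne_zero, by
      show (1 : Matrix G2I G2I (ZMod 3)) *ᵥ _ = _
      rw [Matrix.one_mulVec, one_smul]⟩
  · exact hx r i
  · obtain ⟨j, d, hd, hj⟩ := hx r i
    obtain ⟨k, e, he, hk⟩ := hx r j
    refine ⟨k, d * e, mul_ne_zero hd he, ?_⟩
    show (chevG2.xMat (ZMod 3) r 1 * chevG2.xMat (ZMod 3) r 1) *ᵥ _ = _
    rw [← Matrix.mulVec_mulVec, hj, Matrix.mulVec_smul, hk, smul_smul]

theorem psys_of_cert (c : PCert n tb lgf sgf codes) : PSys rhoG3 (SP n tb) n (repP n tb) where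
  inv g v := by
    rintro ⟨i, d, hd, rfl⟩
    have hg : g.1 ∈ Subgroup.closure gensG3 := g.2
    obtain ⟨j, e, he, hj⟩ := closure_preserves_pts (Units.coeHom (Matrix G2I G2I (ZMod 3)))
      gensG3 (repP n tb) (gens_act c) g.1 hg i
    refine ⟨j, d * e, mul_ne_zero hd he, ?_⟩
    show (g.1 : Matrix G2I G2I (ZMod 3)) *ᵥ _ = _
    rw [Matrix.mulVec_smul]
    have hj' : (g.1 : Matrix G2I G2I (ZMod 3)) *ᵥ repP n tb i = e • repP n tb j := hj
    rw [hj', smul_smul]
  rep_mem i := ⟨i, 1, one_ne_zero, (one_smul _ _).symm⟩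
  cover v := by
    rintro ⟨i, d, hd, rfl⟩
    exact ⟨i, d, hd, rfl⟩
  uniq i j d hd h := by
    have hlen : codes.length = n + n := by
      rw [c.codes_eq, List.length_append, List.length_map, List.length_map, List.length_range]
    have hi := c.normv i i.2
    have hj := c.normv j j.2
    have hci : codes.getD i 0 = encL (tb i) := by
      rw [List.getD_eq_getElem _ _ (by rw [hlen]; omega)]
      simp only [c.codes_eq]
      rw [List.getElem_append_left (by rw [List.length_map, List.length_range]; exact i.2),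
        List.getElem_map, List.getElem_range]
    have hcj : codes.getD j 0 = encL (tb j) := by
      rw [List.getD_eq_getElem _ _ (by rw [hlen]; omega)]
      simp only [c.codes_eq]
      rw [List.getElem_append_left (by rw [List.length_map, List.length_range]; exact j.2),
        List.getElem_map, List.getElem_range]
    have hcj2 : codes.getD (n + j) 0 = encL (smulL 2 (tb j)) := by
      rw [List.getD_eq_getElem _ _ (by rw [hlen]; omega)]
      simp only [c.codes_eq]
      rw [List.getElem_append_right (by rw [List.length_map, List.length_range]; omega),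
        List.getElem_map, List.getElem_range]
      simp only [List.length_map, List.length_range, Nat.add_sub_cancel_left]
    have hinj : ∀ a b : ℕ, a < n + n → b < n + n → codes.getD a 0 = codes.getD b 0 → a = b := by
      intro a b ha hb hab
      rw [List.getD_eq_getElem _ _ (by rw [hlen]; exact ha),
        List.getD_eq_getElem _ _ (by rw [hlen]; exact hb)] at hab
      exact (List.Nodup.getElem_inj_iff c.nodup).1 hab
    rcases zmod3_cases d with rfl | rfl | rfl
    · exact absurd rfl hd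
    · rw [one_smul] at h
      have := vecL_inj _ _ hi hj h
      apply Fin.ext
      apply hinj _ _ (by omega) (by omega)
      rw [hci, hcj, this]
    · exfalso
      have h2 : repP n tb i = vecL (smulL 2 (tb j)) := by
        rw [vecL_smulL]
        exact h
      have := vecL_inj _ _ hi (normV_smulL 2 _ hj.1) h2
      have hab := hinj i (n + j) (by omega) (by omega) (by rw [hci, hcj2, this])
      omega

/-- The action on the points. -/
noncomputable def piP (c : PCert n tb lgf sgf codes) : ↥G23 →* Perm (Fin n) := (psys_of_cert c).hom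

/-- The action of an element given by its columns. -/
theorem piP_of_mvE (c : PCert n tb lgf sgf codes) (A : List ℕ) (hA : normE A) (g : GL G2I (ZMod 3))
    (hg : g ∈ G23) (hgA : (g : Matrix G2I G2I (ZMod 3)) = ofE A) (i j : Fin n) (s : ℕ)
    (hs : s = 1 ∨ s = 2) (h : mvE A (tb i) = smulL s (tb j)) :
    piP c ⟨g, hg⟩ i = j := by
  refine ((psys_of_cert c).hom_apply_eq_iff ⟨g, hg⟩ i j).2 ⟨(s : ZMod 3), one_two_ne_zero s hs, ?_⟩
  show (g : Matrix G2I G2I (ZMod 3)) *ᵥ _ = _
  rw [hgA]
  unfold repP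
  rw [← vecL_mvE _ _ hA (c.normv i i.2), h, vecL_smulL]

theorem piP_gen (c : PCert n tb lgf sgf codes) (r : Fin 12) (i : Fin n) :
    ((piP c ⟨xU r, xU_mem r⟩ i : Fin n) : ℕ) = lgf r i := by
  obtain ⟨h1, h2, h3⟩ := c.act r r.2 i i.2
  have := piP_of_mvE c (TX.getD r []) (TX_norm r) (xU r) (xU_mem r) (TX_eq r) i ⟨_, h1⟩ _ h2 h3
  rw [this]

/-- The points are one orbit. -/
theorem piP_trans (c : PCert n tb lgf sgf codes) (par gen : List ℕ)
    (hpar : ∀ i < n, 0 < i → par.getD i 0 < i ∧ gen.getD i 0 < 12 ∧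
      lgf (gen.getD i 0) (par.getD i 0) = i) :
    ∀ i : Fin n, ∃ g : ↥G23, piP c g ⟨0, c.pos⟩ = i := by
  intro i
  obtain ⟨i, hi⟩ := i
  induction i using Nat.strong_induction_on with
  | _ i ih =>
    rcases Nat.eq_zero_or_pos i with rfl | hpos
    · exact ⟨1, by rw [map_one]; rfl⟩
    · obtain ⟨h1, h2, h3⟩ := hpar i hi hpos
      obtain ⟨g, hg⟩ := ih _ h1 (by omega)
      refine ⟨⟨xU ⟨_, h2⟩, xU_mem _⟩ * g, ?_⟩
      rw [map_mul, Perm.mul_apply, hg]
      apply Fin.ext
      rw [piP_gen]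
      exact h3

/-- The stabilizer of the first point. -/
def stabP (c : PCert n tb lgf sgf codes) : Subgroup ↥G23 where
  carrier := {g | piP c g ⟨0, c.pos⟩ = ⟨0, c.pos⟩}
  mul_mem' {a b} ha hb := by
    show piP c (a * b) _ = _
    rw [map_mul, Perm.mul_apply, hb, ha]
  one_mem' := by
    show piP c 1 _ = _
    rw [map_one]
    rfl
  inv_mem' {a} ha := by
    show piP c a⁻¹ _ = _
    rw [map_inv, Perm.inv_eq_iff_eq]
    exact ha.symm

theorem mem_stabP (c : PCert n tb lgf sgf codes) (g : ↥G23) :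
    g ∈ stabP c ↔ piP c g ⟨0, c.pos⟩ = ⟨0, c.pos⟩ := Iff.rfl

theorem card_stabP (c : PCert n tb lgf sgf codes)
    (htr : ∀ i : Fin n, ∃ g : ↥G23, piP c g ⟨0, c.pos⟩ = i) :
    n * Nat.card ↥(stabP c) = Nat.card ↥G23 := by
  letI : MulAction ↥G23 (Fin n) := MulAction.compHom (Fin n) (piP c)
  have hsmul : ∀ (g : ↥G23) (i : Fin n), g • i = piP c g i := fun g i => rfl
  have hstab : MulAction.stabilizer ↥G23 (⟨0, c.pos⟩ : Fin n) = stabP c := by
    ext g
    rw [MulAction.mem_stabilizer_iff, hsmul]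
    rfl
  have horb : MulAction.orbit ↥G23 (⟨0, c.pos⟩ : Fin n) = Set.univ := by
    ext i
    simp only [Set.mem_univ, iff_true]
    obtain ⟨g, hg⟩ := htr i
    exact ⟨g, by show g • _ = _; rw [hsmul, hg]⟩
  have hidx := MulAction.index_stabilizer ↥G23 (⟨0, c.pos⟩ : Fin n)
  rw [horb, Set.ncard_univ, Nat.card_eq_fintype_card, Fintype.card_fin, hstab] at hidx
  have := Subgroup.index_mul_card (stabP c)
  rw [hidx] at this
  exact this

end Cert

end Cfsg.Agent.Helper37.G3
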