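import Mathlib

/-!
# Counting Sylow subgroups, normalizers and centralizers of elements of prime order
-/

set_option autoImplicit false
set_option linter.unusedSectionVars false
set_option linter.unusedVariables false

namespace Cfsg.Agent.Helper37.G3

section Abstract

variable {Γ : Type*} [Group Γ] [Finite Γ]

theorem factorization_of_card (p m N : ℕ) (hp : p.Prime) (hN : N = p * m) (hpm : ¬ p ∣ m)
    (hpos : 0 < N) : N.factorization p = 1 := by
  have hm : m ≠ 0 := by
    rintro rfl
    omega
  rw [hN, Nat.factorization_mul hp.ne_zero hm, Finsupp.add_apply, hp.factorization_self,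
    Nat.factorization_eq_zero_of_not_dvd hpm]

/-- With enough subgroups of order `p` in view, the index of the normalizer of a subgroup of order
`p` is determined by Sylow's congruence and divisibility. -/
theorem normalizer_index_of_count (p : ℕ) [Fact p.Prime] (y : Γ) (hy : orderOf y = p) (m : ℕ)
    (hcard : Nat.card Γ = p * m) (hpm : ¬ p ∣ m) (k : ℕ) (ys : Fin k → Γ)
    (hys : ∀ i, orderOf (ys i) = p)
    (hdist : ∀ i j, i < j → ys i ∉ Subgroup.zpowers (ys j) ∧ ys j ∉ Subgroup.zpowers (ys i))
    (D : ℕ) (hD : ∀ d, d ∣ m → d % p = 1 → k ≤ d → d = D) :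
    (Subgroup.normalizer (Subgroup.zpowers y : Set Γ)).index = D := by
  have hp : p.Prime := Fact.out
  have hfac : (Nat.card Γ).factorization p = 1 :=
    factorization_of_card p m _ hp hcard hpm Nat.card_pos
  have hz : ∀ z : Γ, orderOf z = p →
      Nat.card (Subgroup.zpowers z) = p ^ (Nat.card Γ).factorization p := by
    intro z hz
    rw [Nat.card_zpowers, hz, hfac, pow_one]
  let P : Sylow p Γ := Sylow.ofCard (Subgroup.zpowers y) (hz y hy)
  let Q : Fin k → Sylow p Γ := fun i => Sylow.ofCard (Subgroup.zpowers (ys i)) (hz _ (hys i))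
  have hQinj : Function.Injective Q := by
    intro i j hij
    by_contra hne
    have hsub : Subgroup.zpowers (ys i) = Subgroup.zpowers (ys j) :=
      congrArg (fun S : Sylow p Γ => (S : Subgroup Γ)) hij
    rcases lt_or_gt_of_ne hne with h | h
    · apply (hdist i j h).1
      rw [← hsub]
      exact Subgroup.mem_zpowers _
    · apply (hdist j i h).2
      rw [← hsub]
      exact Subgroup.mem_zpowers _
  have hk : k ≤ Nat.card (Sylow p Γ) := by
    have := Nat.card_le_card_of_injective Q hQinj
    rwa [Nat.card_eq_fintype_card, Fintype.card_fin] at this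
  have hmod := card_sylow_modEq_one p Γ
  have hdvd := P.card_dvd_index
  have hidx : (P : Subgroup Γ).index = m := by
    have h1 := Subgroup.index_mul_card (P : Subgroup Γ)
    have h2 : Nat.card (P : Subgroup Γ) = p := by
      show Nat.card (Subgroup.zpowers y) = p
      rw [Nat.card_zpowers, hy]
    rw [h2, hcard] at h1
    exact Nat.eq_of_mul_eq_mul_right hp.pos (by linarith)
  rw [hidx] at hdvd
  have hmod' : Nat.card (Sylow p Γ) % p = 1 := by
    have := hmod
    rw [Nat.ModEq, Nat.mod_eq_of_lt hp.one_lt] at this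
    exact this
  have := hD _ hdvd hmod' hk
  rw [← this]
  exact (P.card_eq_index_normalizer).symm

theorem mem_centralizer_singleton (y c : Γ) :
    c ∈ Subgroup.centralizer ({y} : Set Γ) ↔ c * y = y * c := by
  rw [Subgroup.mem_centralizer_iff]
  constructor
  · intro h
    exact (h y rfl).symm
  · intro h z hz
    rw [Set.mem_singleton_iff] at hz
    subst hz
    exact h.symm

theorem commute_zpowers (y c : Γ) (h : c * y = y * c) (z : Γ) (hz : z ∈ Subgroup.zpowers y) :
    c * z = z * c := by
  obtain ⟨k, rfl⟩ := hz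
  have : Commute c y := h
  exact (this.zpow_right k).eq

/-- If the normalizer of `⟨y⟩`, `y` of prime order `p`, has order `6p` and contains an element
inducing an automorphism of order 6, the centralizer of `y` is `⟨y⟩`. -/
theorem centralizer_card (p : ℕ) (hp : p.Prime) (y n : Γ) (hy : orderOf y = p)
    (hN : Nat.card (Subgroup.normalizer (Subgroup.zpowers y : Set Γ)) = 6 * p)
    (hn : n ∈ Subgroup.normalizer (Subgroup.zpowers y : Set Γ))
    (h1 : n * y ≠ y * n) (h2 : n ^ 2 * y ≠ y * n ^ 2) (h3 : n ^ 3 * y ≠ y * n ^ 3) :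
    Nat.card (Subgroup.centralizer ({y} : Set Γ)) = p := by
  set N := Subgroup.normalizer (Subgroup.zpowers y : Set Γ) with hNdef
  set C := Subgroup.centralizer ({y} : Set Γ) with hCdef
  have hCN : C ≤ N := by
    intro c hc
    rw [hCdef, mem_centralizer_singleton] at hc
    rw [hNdef, Subgroup.mem_normalizer_iff]
    intro h
    have hcinv : c⁻¹ * y = y * c⁻¹ := by
      have : Commute c y := hc
      exact this.inv_left.eq
    constructor
    · intro hh
      have := commute_zpowers y c hc h hh
      rw [this, mul_inv_cancel_right]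
      exact hh
    · intro hh
      have := commute_zpowers y c⁻¹ hcinv _ hh
      have e : h = c⁻¹ * (c * h * c⁻¹) * c⁻¹⁻¹ := by group
      rw [e, this, mul_inv_cancel_right]
      exact hh
  have hPC : Subgroup.zpowers y ≤ C := by
    intro z hz
    rw [hCdef, mem_centralizer_singleton]
    exact (commute_zpowers y y rfl z hz).symm
  have hnormal : (C.subgroupOf N).Normal := by
    constructor
    intro c hc x
    rw [Subgroup.mem_subgroupOf] at hc ⊢
    rw [hCdef, mem_centralizer_singleton] at hc ⊢
    have hx : (x : Γ)⁻¹ ∈ Subgroup.normalizer (Subgroup.zpowers y : Set Γ) := N.inv_mem x.2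
    rw [Subgroup.mem_normalizer_iff] at hx
    have hy' : (x : Γ)⁻¹ * y * (x : Γ)⁻¹⁻¹ ∈ Subgroup.zpowers y :=
      (hx y).1 (Subgroup.mem_zpowers y)
    have hc' := commute_zpowers y (c : Γ) hc _ hy'
    show (x : Γ) * (c : Γ) * (x : Γ)⁻¹ * y = y * ((x : Γ) * (c : Γ) * (x : Γ)⁻¹)
    have e1 : (x : Γ) * (c : Γ) * (x : Γ)⁻¹ * y =
        (x : Γ) * ((c : Γ) * ((x : Γ)⁻¹ * y * (x : Γ)⁻¹⁻¹)) * (x : Γ)⁻¹ := by group
    rw [e1, hc']
    group
  have hcardC' : Nat.card (C.subgroupOf N) = Nat.card C :=
    Nat.card_congr (Subgroup.subgroupOfEquivOfLe hCN).toEquiv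
  have hidx := Subgroup.index_mul_card (C.subgroupOf N)
  rw [hcardC', hN] at hidx
  have hpdvd : p ∣ Nat.card C := by
    have := Subgroup.card_dvd_of_le hPC
    rwa [Nat.card_zpowers, hy] at this
  obtain ⟨k, hk⟩ := hpdvd
  have hik : (C.subgroupOf N).index * k = 6 := by
    rw [hk] at hidx
    have : (C.subgroupOf N).index * k * p = 6 * p := by
      rw [← hidx]
      ring
    exact Nat.eq_of_mul_eq_mul_right hp.pos this
  have hpow := Subgroup.pow_index_mem (C.subgroupOf N) (⟨n, hn⟩ : ↥N)
  rw [Subgroup.mem_subgroupOf] at hpow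
  have hpow' : n ^ (C.subgroupOf N).index * y = y * n ^ (C.subgroupOf N).index := by
    have : ((⟨n, hn⟩ : ↥N) ^ (C.subgroupOf N).index : ↥N) = (n ^ (C.subgroupOf N).index : Γ) := by
      simp
    rw [this, hCdef, mem_centralizer_singleton] at hpow
    exact hpow
  have hdiv : (C.subgroupOf N).index ∣ 6 := ⟨k, hik.symm⟩
  have hle : (C.subgroupOf N).index ≤ 6 := Nat.le_of_dvd (by norm_num) hdiv
  have hcases : (C.subgroupOf N).index = 6 := by
    interval_cases h : (C.subgroupOf N).index
    · omega
    · rw [pow_one] at hpow'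
      exact absurd hpow' h1
    · exact absurd hpow' h2
    · exact absurd hpow' h3
    · omega
    · omega
    · rfl
  rw [hcases] at hik
  have : k = 1 := by omega
  rw [hk, this, mul_one]

/-- If the centralizer of an element `y` of prime order `p`, `p` dividing the order of the group
exactly once, has order `p`, no element has order `p s` for a prime `s ≠ p`. -/
theorem no_order_mul (p : ℕ) [Fact p.Prime] (H : Subgroup Γ) (y : Γ) (hyH : y ∈ H)
    (hy : orderOf y = p) (m : ℕ) (hcard : Nat.card Γ = p * m) (hpm : ¬ p ∣ m)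
    (hCH : ∀ c : Γ, c * y = y * c → c ∈ H)
    (hC : Nat.card (Subgroup.centralizer ({(⟨y, hyH⟩ : ↥H)} : Set ↥H)) = p)
    (x : Γ) (s : ℕ) (hs : s.Prime) (hsp : s ≠ p) : orderOf x ≠ p * s := by
  have hp : p.Prime := Fact.out
  intro hx
  have hfac : (Nat.card Γ).factorization p = 1 :=
    factorization_of_card p m _ hp hcard hpm Nat.card_pos
  have hz : ∀ z : Γ, orderOf z = p →
      Nat.card (Subgroup.zpowers z) = p ^ (Nat.card Γ).factorization p := by
    intro z hz
    rw [Nat.card_zpowers, hz, hfac, pow_one]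
  set z := x ^ s with hzdef
  have hzord : orderOf z = p := by
    rw [hzdef, orderOf_pow' x hs.ne_zero, hx, Nat.gcd_mul_left_left, Nat.mul_div_cancel _ hs.pos]
  let P : Sylow p Γ := Sylow.ofCard (Subgroup.zpowers y) (hz y hy)
  let Q : Sylow p Γ := Sylow.ofCard (Subgroup.zpowers z) (hz z hzord)
  obtain ⟨g, hg⟩ := MulAction.exists_smul_eq Γ Q P
  have hmem : g * z * g⁻¹ ∈ Subgroup.zpowers y := by
    have h1 : g * z * g⁻¹ ∈ ((g • Q : Sylow p Γ) : Set Γ) := by
      rw [Sylow.coe_smul]
      exact ⟨z, Subgroup.mem_zpowers z, rfl⟩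
    rw [hg] at h1
    exact h1
  set x' := g * x * g⁻¹ with hx'def
  have hz' : g * z * g⁻¹ = x' ^ s := by
    rw [hx'def, conj_pow]
  have hz'ord : orderOf (x' ^ s) = p := by
    rw [← hz']
    have : g * z * g⁻¹ = MulAut.conj g z := rfl
    rw [this, MulEquiv.orderOf_eq, hzord]
  have hzp : Subgroup.zpowers (x' ^ s) = Subgroup.zpowers y := by
    apply Subgroup.eq_of_le_of_card_ge
    · rw [Subgroup.zpowers_le]
      rw [← hz']
      exact hmem
    · rw [Nat.card_zpowers, Nat.card_zpowers, hy, hz'ord]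
  have hymem : y ∈ Subgroup.zpowers (x' ^ s) := by
    rw [hzp]
    exact Subgroup.mem_zpowers y
  obtain ⟨k, hk⟩ := hymem
  have hcomm : x' * y = y * x' := by
    have h1 : Commute x' (x' ^ s) := (Commute.refl x').pow_right s
    have h2 : Commute x' ((x' ^ s) ^ k) := h1.zpow_right k
    have hk' : (x' ^ s) ^ k = y := hk
    rw [hk'] at h2
    exact h2.eq
  have hx'H : x' ∈ H := hCH x' hcomm
  have hcen : (⟨x', hx'H⟩ : ↥H) ∈ Subgroup.centralizer ({(⟨y, hyH⟩ : ↥H)} : Set ↥H) := by
    rw [mem_centralizer_singleton]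
    exact Subtype.ext hcomm
  have hord := Subgroup.orderOf_dvd_natCard _ hcen
  rw [hC] at hord
  have hpw : (⟨x', hx'H⟩ : ↥H) ^ p = 1 := orderOf_dvd_iff_pow_eq_one.1 hord
  have hpw' : x' ^ p = 1 := by
    have := congrArg Subtype.val hpw
    simpa using this
  have hxp : x ^ p = 1 := by
    rw [hx'def, conj_pow] at hpw'
    have : g⁻¹ * (g * x ^ p * g⁻¹) * g = 1 := by rw [hpw']; group
    rw [← this]
    group
  have hdvd := orderOf_dvd_of_pow_eq_one hxp
  rw [hx] at hdvd
  have : p * s ≤ p := Nat.le_of_dvd hp.pos hdvd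
  have hs2 := hs.two_le
  nlinarith [hp.pos]

/-- An element conjugating `y` into `⟨y⟩` normalizes `⟨y⟩`. -/
theorem mem_normalizer_zpowers (y n : Γ) (h : n * y * n⁻¹ ∈ Subgroup.zpowers y) :
    n ∈ Subgroup.normalizer (Subgroup.zpowers y : Set Γ) := by
  rw [Subgroup.mem_normalizer_iff_map_conj_eq]
  have hmap : (Subgroup.zpowers y).map (MulAut.conj n).toMonoidHom =
      Subgroup.zpowers (n * y * n⁻¹) := by
    rw [MonoidHom.map_zpowers]
    rfl
  have hle : (Subgroup.zpowers y).map (MulAut.conj n).toMonoidHom ≤ Subgroup.zpowers y := by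
    rw [hmap, Subgroup.zpowers_le]
    exact h
  apply Subgroup.eq_of_le_of_card_ge hle
  rw [hmap, Nat.card_zpowers, Nat.card_zpowers]
  have : n * y * n⁻¹ = MulAut.conj n y := rfl
  rw [this, MulEquiv.orderOf_eq]

end Abstract

end Cfsg.Agent.Helper37.G3
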