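import Mathlib
import Cfsg.Agent.Lib.Helper37.G3C
import Cfsg.Agent.Lib.Helper37.G3D

/-!
# `G_2(3)`: from certificates to the absence of elements of order `p s`
-/

set_option autoImplicit false
set_option linter.unusedVariables false

namespace Cfsg.Agent.Helper37.G3

open Matrix Cfsg.Lie Equiv Cfsg.Agent.Helper37.Exc

instance finite_G23 : Finite ↥G23 := inferInstance

/-! ### Powers -/

/-- Powers, one factor at a time. -/
def powE (A : List ℕ) : ℕ → List ℕ
  | 0 => idE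
  | e + 1 => mulE (powE A e) A

theorem normE_idE : normE idE := by decide +kernel

theorem normE_powE (A : List ℕ) (hA : normE A) (e : ℕ) : normE (powE A e) := by
  cases e with
  | zero => exact normE_idE
  | succ e => exact normE_mulE _ _ hA.1

theorem ofE_powE (A : List ℕ) (hA : normE A) (e : ℕ) : ofE (powE A e) = ofE A ^ e := by
  induction e with
  | zero => rw [pow_zero]; exact ofE_idE
  | succ e ih =>
    show ofE (mulE (powE A e) A) = _
    rw [ofE_mulE _ _ (normE_powE A hA e) hA.1, ih, pow_succ]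

/-- The seventh power. -/
def pow7E (A : List ℕ) : List ℕ :=
  mulE (mulE (mulE (mulE A A) (mulE A A)) (mulE A A)) A

theorem ofE_pow7E (A : List ℕ) (hA : normE A) : ofE (pow7E A) = ofE A ^ 7 := by
  unfold pow7E
  have h2 : normE (mulE A A) := normE_mulE _ _ hA.1
  have h4 : normE (mulE (mulE A A) (mulE A A)) := normE_mulE _ _ h2.1
  have h6 : normE (mulE (mulE (mulE A A) (mulE A A)) (mulE A A)) := normE_mulE _ _ h2.1
  rw [ofE_mulE _ _ h6 hA.1, ofE_mulE _ _ h4 h2.1, ofE_mulE _ _ h2 h2.1, ofE_mulE _ _ hA hA.1]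
  noncomm_ring

/-- The thirteenth power. -/
def pow13E (A : List ℕ) : List ℕ :=
  mulE (mulE (mulE (mulE (mulE A A) (mulE A A)) (mulE (mulE A A) (mulE A A)))
    (mulE (mulE A A) (mulE A A))) A

theorem ofE_pow13E (A : List ℕ) (hA : normE A) : ofE (pow13E A) = ofE A ^ 13 := by
  unfold pow13E
  have h2 : normE (mulE A A) := normE_mulE _ _ hA.1
  have h4 : normE (mulE (mulE A A) (mulE A A)) := normE_mulE _ _ h2.1
  have h8 : normE (mulE (mulE (mulE A A) (mulE A A)) (mulE (mulE A A) (mulE A A))) :=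
    normE_mulE _ _ h4.1
  have h12 : normE (mulE (mulE (mulE (mulE A A) (mulE A A)) (mulE (mulE A A) (mulE A A)))
    (mulE (mulE A A) (mulE A A))) := normE_mulE _ _ h4.1
  rw [ofE_mulE _ _ h12 hA.1, ofE_mulE _ _ h8 h4.1, ofE_mulE _ _ h4 h4.1, ofE_mulE _ _ h2 h2.1,
    ofE_mulE _ _ hA hA.1]
  noncomm_ring

/-! ### Orbits of a test vector -/

theorem vecL_orbit (A : List ℕ) (hA : normE A) (u : List ℕ) (hu : normV u) (O : List (List ℕ))
    (p : ℕ) (h0 : O.getD 0 [] = u)
    (hstep : ∀ e, e + 1 < p → O.getD (e + 1) [] = mvE A (O.getD e [])) :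
    ∀ e < p, normV (O.getD e []) ∧ vecL (O.getD e []) = (ofE A ^ e) *ᵥ vecL u := by
  intro e
  induction e with
  | zero =>
    intro _
    rw [h0, pow_zero, Matrix.one_mulVec]
    exact ⟨hu, rfl⟩
  | succ e ih =>
    intro he
    obtain ⟨h1, h2⟩ := ih (by omega)
    rw [hstep e he]
    refine ⟨normV_mvE _ _, ?_⟩
    rw [vecL_mvE _ _ hA h1, h2, Matrix.mulVec_mulVec, ← pow_succ']

/-! ### From matrices to group elements -/

/-- An element of the group with given columns. -/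
noncomputable def eltOf {A : List ℕ} (h : IsElt A) : ↥G23 :=
  ⟨Classical.choose h.2, (Classical.choose_spec h.2).1⟩

theorem eltOf_coe {A : List ℕ} (h : IsElt A) :
    (((eltOf h : ↥G23) : GL G2I (ZMod 3)) : Matrix G2I G2I (ZMod 3)) = ofE A :=
  (Classical.choose_spec h.2).2

theorem coe_injective : Function.Injective
    (fun g : ↥G23 => ((g : GL G2I (ZMod 3)) : Matrix G2I G2I (ZMod 3))) := by
  intro a b h
  exact Subtype.ext (Units.ext h)

theorem coe_pow' (g : ↥G23) (e : ℕ) :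
    (((g ^ e : ↥G23) : GL G2I (ZMod 3)) : Matrix G2I G2I (ZMod 3)) =
      ((g : GL G2I (ZMod 3)) : Matrix G2I G2I (ZMod 3)) ^ e := by
  simp

theorem coe_mul' (g h : ↥G23) :
    (((g * h : ↥G23) : GL G2I (ZMod 3)) : Matrix G2I G2I (ZMod 3)) =
      ((g : GL G2I (ZMod 3)) : Matrix G2I G2I (ZMod 3)) *
        ((h : GL G2I (ZMod 3)) : Matrix G2I G2I (ZMod 3)) := by
  simp

theorem coe_one' :
    (((1 : ↥G23) : GL G2I (ZMod 3)) : Matrix G2I G2I (ZMod 3)) = 1 := by
  simp

theorem orderOf_eltOf {A : List ℕ} (h : IsElt A) (p : ℕ) (hp : p.Prime)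
    (hpow : ofE A ^ p = 1) (hne : ofE A ≠ 1) : orderOf (eltOf h) = p := by
  haveI : Fact p.Prime := ⟨hp⟩
  apply orderOf_eq_prime
  · apply coe_injective
    show (((eltOf h ^ p : ↥G23) : GL G2I (ZMod 3)) : Matrix G2I G2I (ZMod 3)) = _
    rw [coe_pow', eltOf_coe, hpow]
    exact coe_one'.symm
  · intro h1
    apply hne
    rw [← eltOf_coe h, h1, coe_one']

theorem not_mem_zpowers {A B : List ℕ} (hA : IsElt A) (hB : IsElt B) (p : ℕ) (hp : 0 < p)
    (hBp : ofE B ^ p = 1) (h : ∀ e < p, ofE A ≠ ofE B ^ e) :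
    eltOf hA ∉ Subgroup.zpowers (eltOf hB) := by
  rintro ⟨z, hz⟩
  have hz2 : eltOf hB ^ z = eltOf hA := hz
  have hBp' : eltOf hB ^ p = 1 := by
    apply coe_injective
    show (((eltOf hB ^ p : ↥G23) : GL G2I (ZMod 3)) : Matrix G2I G2I (ZMod 3)) = _
    rw [coe_pow', eltOf_coe, hBp]
    exact coe_one'.symm
  have hpz : (p : ℤ) ≠ 0 := by exact_mod_cast hp.ne'
  have hnn : 0 ≤ z % (p : ℤ) := Int.emod_nonneg _ hpz
  obtain ⟨m, hm⟩ := Int.eq_ofNat_of_zero_le hnn
  have hmlt : m < p := by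
    have := Int.emod_lt_of_pos z (by exact_mod_cast hp : (0 : ℤ) < p)
    omega
  have hpow : eltOf hB ^ m = eltOf hA := by
    rw [← hz2, ← zpow_natCast, ← hm]
    conv_rhs => rw [← Int.emod_add_mul_ediv z p]
    rw [_root_.zpow_add, _root_.zpow_mul, zpow_natCast, hBp', _root_.one_zpow, mul_one]
  apply h m hmlt
  have h3 : (((eltOf hB ^ m : ↥G23) : GL G2I (ZMod 3)) : Matrix G2I G2I (ZMod 3)) =
      (((eltOf hA : ↥G23) : GL G2I (ZMod 3)) : Matrix G2I G2I (ZMod 3)) := by rw [hpow]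
  rw [coe_pow', eltOf_coe, eltOf_coe] at h3
  exact h3.symm

end Cfsg.Agent.Helper37.G3
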