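import Mathlib
import Cfsg.Agent.Lib.Helper37.G3E

/-!
# `G_2(3)`: no elements of order `p s`, from a certificate for the prime `p`
-/

set_option autoImplicit false
set_option linter.unusedVariables false

namespace Cfsg.Agent.Helper37.G3

open Matrix Cfsg.Lie Equiv Cfsg.Agent.Helper37.Exc

theorem no_order_mul_of_cert (hG : Nat.card ↥G23 = 4245696)
    {n : ℕ} {tb : ℕ → List ℕ} {lgf sgf : ℕ → ℕ → ℕ} {codes : List ℕ}
    (c : PCert n tb lgf sgf codes)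
    (htr : ∀ i : Fin n, ∃ g : ↥G23, piP c g ⟨0, c.pos⟩ = i)
    (p : ℕ) [Fact p.Prime] (mH D : ℕ)
    (hcard : 4245696 = n * (p * mH)) (hpm : ¬ p ∣ n * mH)
    (hDm : p * mH = D * (6 * p))
    (k : ℕ) (hk : 0 < k) (Y : Fin k → List ℕ) (hY : ∀ j, IsElt (Y j))
    (hYp : ∀ j, ofE (Y j) ^ p = 1) (hY1 : ∀ j, ofE (Y j) ≠ 1)
    (hYfix : ∀ j, ∃ s, (s = 1 ∨ s = 2) ∧ mvE (Y j) (tb 0) = smulL s (tb 0))
    (hYdist : ∀ i j, i < j → ∀ e < p, ofE (Y i) ≠ ofE (Y j) ^ e ∧ ofE (Y j) ≠ ofE (Y i) ^ e)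
    (hD : ∀ d, d ∣ mH → d % p = 1 → k ≤ d → d = D)
    (hmove : ∀ i < n, 0 < i → ∃ j s, j < n ∧ j ≠ i ∧ (s = 1 ∨ s = 2) ∧
      mvE (Y ⟨0, hk⟩) (tb i) = smulL s (tb j))
    (Nn : List ℕ) (hNn : IsElt Nn)
    (hNfix : ∃ s, (s = 1 ∨ s = 2) ∧ mvE Nn (tb 0) = smulL s (tb 0))
    (e0 : ℕ) (hNy : ofE Nn * ofE (Y ⟨0, hk⟩) = ofE (Y ⟨0, hk⟩) ^ e0 * ofE Nn)
    (hN1 : ofE Nn * ofE (Y ⟨0, hk⟩) ≠ ofE (Y ⟨0, hk⟩) * ofE Nn)
    (hN2 : ofE Nn ^ 2 * ofE (Y ⟨0, hk⟩) ≠ ofE (Y ⟨0, hk⟩) * ofE Nn ^ 2)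
    (hN3 : ofE Nn ^ 3 * ofE (Y ⟨0, hk⟩) ≠ ofE (Y ⟨0, hk⟩) * ofE Nn ^ 3) :
    ∀ (x : ↥G23) (s : ℕ), s.Prime → s ≠ p → orderOf x ≠ p * s := by
  classical
  have hp : p.Prime := Fact.out
  set H := stabP c with hHdef
  have hn0 : 0 < n := c.pos
  -- the order of the stabilizer
  have hcardH : Nat.card ↥H = p * mH := by
    have h1 := card_stabP c htr
    rw [hG, hcard] at h1
    exact Nat.eq_of_mul_eq_mul_left hn0 h1
  have hpmH : ¬ p ∣ mH := fun h => hpm (Dvd.dvd.mul_left h n)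
  -- membership in the stabilizer
  have hfixmem : ∀ (A : List ℕ) (hA : IsElt A),
      (∃ s, (s = 1 ∨ s = 2) ∧ mvE A (tb 0) = smulL s (tb 0)) →
      eltOf hA ∈ H := by
    intro A hA ⟨s, hs, h⟩
    rw [hHdef, mem_stabP]
    exact piP_of_mvE c A hA.1 _ (eltOf hA).2 (eltOf_coe hA) ⟨0, hn0⟩ ⟨0, hn0⟩ s hs h
  set y : ↥G23 := eltOf (hY ⟨0, hk⟩) with hydef
  have hyH : y ∈ H := hfixmem _ _ (hYfix _)
  have hyord : orderOf y = p := orderOf_eltOf _ p hp (hYp _) (hY1 _)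
  -- the other elements of order `p`
  let ys : Fin k → ↥H := fun j => ⟨eltOf (hY j), hfixmem _ _ (hYfix j)⟩
  have hysord : ∀ j, orderOf (ys j) = p := by
    intro j
    show orderOf (⟨eltOf (hY j), _⟩ : ↥H) = p
    rw [Subgroup.orderOf_mk]
    exact orderOf_eltOf _ p hp (hYp _) (hY1 _)
  have hnotmem : ∀ i j : Fin k, (∀ e < p, ofE (Y i) ≠ ofE (Y j) ^ e) →
      ys i ∉ Subgroup.zpowers (ys j) := by
    intro i j h hmem
    apply not_mem_zpowers (hY i) (hY j) p hp.pos (hYp j) h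
    obtain ⟨z, hz⟩ := hmem
    refine ⟨z, ?_⟩
    have := congrArg (fun g : ↥H => (g : ↥G23)) hz
    simpa using this
  have hysdist : ∀ i j, i < j → ys i ∉ Subgroup.zpowers (ys j) ∧
      ys j ∉ Subgroup.zpowers (ys i) := by
    intro i j hij
    exact ⟨hnotmem i j (fun e he => (hYdist i j hij e he).1),
      hnotmem j i (fun e he => (hYdist i j hij e he).2)⟩
  set y' : ↥H := ⟨y, hyH⟩ with hy'def
  have hy'ord : orderOf y' = p := by
    rw [hy'def, Subgroup.orderOf_mk]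
    exact hyord
  haveI : Finite ↥H := Subtype.finite
  have hidx := normalizer_index_of_count (Γ := ↥H) p y' hy'ord mH hcardH hpmH k ys hysord
    hysdist D hD
  have hcardN : Nat.card (Subgroup.normalizer (Subgroup.zpowers y' : Set ↥H)) = 6 * p := by
    have h1 := Subgroup.index_mul_card (Subgroup.normalizer (Subgroup.zpowers y' : Set ↥H))
    rw [hidx, hcardH, hDm] at h1
    have hDpos : 0 < D := by
      rcases Nat.eq_zero_or_pos D with h0 | h0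
      · rw [h0, zero_mul] at hDm
        have := hp.pos
        have hmH : mH ≠ 0 := fun hm => hpmH (hm ▸ dvd_zero p)
        have : 0 < p * mH := Nat.mul_pos hp.pos (Nat.pos_of_ne_zero hmH)
        omega
      · exact h0
    exact Nat.eq_of_mul_eq_mul_left hDpos h1
  -- the element of the normalizer
  set nn : ↥G23 := eltOf hNn with hnndef
  have hnnH : nn ∈ H := hfixmem _ _ hNfix
  set n' : ↥H := ⟨nn, hnnH⟩ with hn'def
  have hcoe : ∀ a b : ↥G23, ((a : GL G2I (ZMod 3)) : Matrix G2I G2I (ZMod 3)) =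
      ((b : GL G2I (ZMod 3)) : Matrix G2I G2I (ZMod 3)) → a = b :=
    fun a b h => coe_injective h
  have hny : nn * y = y ^ e0 * nn := by
    apply hcoe
    rw [coe_mul', coe_mul', coe_pow', eltOf_coe, eltOf_coe]
    exact hNy
  have hn'norm : n' ∈ Subgroup.normalizer (Subgroup.zpowers y' : Set ↥H) := by
    apply mem_normalizer_zpowers
    refine ⟨(e0 : ℤ), ?_⟩
    apply Subtype.ext
    show ((y' ^ (e0 : ℤ) : ↥H) : ↥G23) = ((n' * y' * n'⁻¹ : ↥H) : ↥G23)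
    have : ((n' * y' * n'⁻¹ : ↥H) : ↥G23) = nn * y * nn⁻¹ := rfl
    rw [this, hny, mul_inv_cancel_right, zpow_natCast]
    rfl
  have hne : ∀ e : ℕ, ofE Nn ^ e * ofE (Y ⟨0, hk⟩) ≠ ofE (Y ⟨0, hk⟩) * ofE Nn ^ e →
      n' ^ e * y' ≠ y' * n' ^ e := by
    intro e h heq
    apply h
    have h2 : ((n' ^ e * y' : ↥H) : ↥G23) = nn ^ e * y := rfl
    have h3 : ((y' * n' ^ e : ↥H) : ↥G23) = y * nn ^ e := rfl
    have h1 : (((nn ^ e * y : ↥G23) : GL G2I (ZMod 3)) : Matrix G2I G2I (ZMod 3)) =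
        (((y * nn ^ e : ↥G23) : GL G2I (ZMod 3)) : Matrix G2I G2I (ZMod 3)) := by
      rw [← h2, ← h3, heq]
    rw [coe_mul', coe_mul', coe_pow', eltOf_coe, eltOf_coe] at h1
    exact h1
  have hC := centralizer_card (Γ := ↥H) p hp y' n' hy'ord hcardN hn'norm
    (by have := hne 1 (by rw [pow_one]; exact hN1); rwa [pow_one] at this)
    (hne 2 hN2) (hne 3 hN3)
  -- elements commuting with `y` fix the point
  have hCH : ∀ g : ↥G23, g * y = y * g → g ∈ H := by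
    intro g hg
    rw [hHdef, mem_stabP]
    set i := piP c g ⟨0, hn0⟩ with hidef
    have hy0 : piP c y ⟨0, hn0⟩ = ⟨0, hn0⟩ := (mem_stabP c y).1 hyH
    have hfix : piP c y i = i := by
      rw [hidef, ← Perm.mul_apply, ← map_mul, ← hg, map_mul, Perm.mul_apply, hy0]
    by_contra hi0
    have hipos : 0 < (i : ℕ) := by
      rcases Nat.eq_zero_or_pos (i : ℕ) with h | h
      · exact absurd (Fin.ext h) hi0
      · exact h
    obtain ⟨j, s, hj, hji, hs, hmv⟩ := hmove i i.2 hipos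
    have := piP_of_mvE c _ (hY ⟨0, hk⟩).1 _ (eltOf (hY ⟨0, hk⟩)).2 (eltOf_coe _) i ⟨j, hj⟩ s hs hmv
    have h2 : piP c y i = ⟨j, hj⟩ := this
    rw [hfix] at h2
    apply hji
    rw [h2]
  intro x s hs hsp
  exact no_order_mul (Γ := ↥G23) p H y hyH hyord (n * mH)
    (by rw [hG, hcard]; ring) (by rwa [mul_comm] at hpm ⊢ <;> exact hpm) hCH hC x s hs hsp

end Cfsg.Agent.Helper37.G3
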