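import Mathlib
import Cfsg.Agent.Lib.Helper37.G3F

/-!
# `G_2(3)`: helpers turning computations into the hypotheses of `no_order_mul_of_cert`
-/

set_option autoImplicit false
set_option linter.unusedVariables false

namespace Cfsg.Agent.Helper37.G3

open Matrix Cfsg.Lie Equiv Cfsg.Agent.Helper37.Exc

/-- Some entry differs. -/
def neE (A B : List ℕ) : Bool :=
  (List.range 14).any (fun j => (List.range 14).any (fun i =>
    dig (A.getD j 0) i % 3 != dig (B.getD j 0) i % 3))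

theorem ofE_ne_of_neE (A B : List ℕ) (h : neE A B = true) : ofE A ≠ ofE B := by
  unfold neE at h
  rw [List.any_eq_true] at h
  obtain ⟨j, hj, h⟩ := h
  rw [List.any_eq_true] at h
  obtain ⟨i, hi, h⟩ := h
  rw [List.mem_range] at hi hj
  exact ofE_ne A B i j hi hj (by simpa using h)

theorem ofE_ne_one_of_neE (A : List ℕ) (h : neE A idE = true) : ofE A ≠ 1 := by
  rw [← ofE_idE]
  exact ofE_ne_of_neE A idE h

theorem pow7_eq_one (A : List ℕ) (hA : normE A) (h : pow7E A = idE) : ofE A ^ 7 = 1 := by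
  rw [← ofE_pow7E A hA, h, ofE_idE]

theorem pow13_eq_one (A : List ℕ) (hA : normE A) (h : pow13E A = idE) : ofE A ^ 13 = 1 := by
  rw [← ofE_pow13E A hA, h, ofE_idE]

theorem mul_eq_pow_mul (N Y : List ℕ) (hN : normE N) (hY : normE Y) (e : ℕ)
    (h : mulE N Y = mulE (powE Y e) N) : ofE N * ofE Y = ofE Y ^ e * ofE N := by
  rw [← ofE_powE Y hY e, ← ofE_mulE _ _ hN hY.1, ← ofE_mulE _ _ (normE_powE Y hY e) hN.1, h]

theorem pow_mul_ne (N Y : List ℕ) (hN : normE N) (hY : normE Y) (e : ℕ)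
    (h : neE (mulE (powE N e) Y) (mulE Y (powE N e)) = true) :
    ofE N ^ e * ofE Y ≠ ofE Y * ofE N ^ e := by
  rw [← ofE_powE N hN e, ← ofE_mulE _ _ (normE_powE N hN e) hY.1,
    ← ofE_mulE _ _ hY (normE_powE N hN e).1]
  exact ofE_ne_of_neE _ _ h

theorem mul_ne (N Y : List ℕ) (hN : normE N) (hY : normE Y)
    (h : neE (mulE N Y) (mulE Y N) = true) : ofE N * ofE Y ≠ ofE Y * ofE N := by
  rw [← ofE_mulE _ _ hN hY.1, ← ofE_mulE _ _ hY hN.1]
  exact ofE_ne_of_neE _ _ h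

/-- Distinct subgroups, from the orbits of a test vector. -/
theorem dist_of_orbits (k p : ℕ) (hp : 1 < p) (Y : ℕ → List ℕ) (hY : ∀ j < k, normE (Y j))
    (u : List ℕ) (hu : normV u) (Ov : List (List (List ℕ))) (hlen : Ov.length = k)
    (h1 : ∀ j < k, (Ov.getD j []).getD 0 [] = u ∧
      ∀ e, e + 1 < p → (Ov.getD j []).getD (e + 1) [] = mvE (Y j) ((Ov.getD j []).getD e []))
    (h2 : Ov.Pairwise (fun a b => ∀ e < p, a.getD 1 [] ≠ b.getD e [] ∧ b.getD 1 [] ≠ a.getD e [])) :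
    ∀ i j, i < j → j < k → ∀ e < p,
      ofE (Y i) ≠ ofE (Y j) ^ e ∧ ofE (Y j) ≠ ofE (Y i) ^ e := by
  intro i j hij hj e he
  have hi : i < k := by omega
  have hOi := vecL_orbit (Y i) (hY i hi) u hu (Ov.getD i []) p (h1 i hi).1 (h1 i hi).2
  have hOj := vecL_orbit (Y j) (hY j hj) u hu (Ov.getD j []) p (h1 j hj).1 (h1 j hj).2
  rw [List.pairwise_iff_getElem] at h2
  have hR := h2 i j (by rw [hlen]; exact hi) (by rw [hlen]; exact hj) hij e he
  rw [← List.getD_eq_getElem _ [] (by rw [hlen]; exact hi),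
    ← List.getD_eq_getElem _ [] (by rw [hlen]; exact hj)] at hR
  constructor
  · intro heq
    apply hR.1
    apply vecL_inj _ _ (hOi 1 hp).1 (hOj e he).1
    rw [(hOi 1 hp).2, (hOj e he).2, pow_one, heq]
  · intro heq
    apply hR.2
    apply vecL_inj _ _ (hOj 1 hp).1 (hOi e he).1
    rw [(hOj 1 hp).2, (hOi e he).2, pow_one, heq]

end Cfsg.Agent.Helper37.G3
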