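import Mathlib
import Cfsg.Agent.Lib.Helper37.ExcB

/-!
# `PSL_2(13)`: element orders
-/

set_option autoImplicit false
set_option maxHeartbeats 400000

namespace Cfsg.Agent.Helper37.G3

open Matrix

/-- An isomorphism maps the centre onto the centre. -/
theorem map_center_equiv {G H : Type*} [Group G] [Group H] (e : G ≃* H) :
    (Subgroup.center G).map e.toMonoidHom = Subgroup.center H := by
  ext h
  rw [Subgroup.mem_map, Subgroup.mem_center_iff]
  constructor
  · rintro ⟨z, hz, rfl⟩ g
    rw [Subgroup.mem_center_iff] at hz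
    obtain ⟨g', rfl⟩ := e.surjective g
    show e g' * e z = e z * e g'
    rw [← map_mul, ← map_mul, hz g']
  · intro hh
    refine ⟨e.symm h, ?_, e.apply_symm_apply h⟩
    rw [Subgroup.mem_center_iff]
    intro g
    apply e.injective
    rw [map_mul, map_mul, e.apply_symm_apply]
    exact hh (e g)

/-- `PSL_n` along an isomorphism of fields. -/
noncomputable def pslCongr {F F' : Type*} [Field F] [Field F'] (n : ℕ) (e : F ≃+* F') :
    Matrix.ProjectiveSpecialLinearGroup (Fin n) F ≃*
      Matrix.ProjectiveSpecialLinearGroup (Fin n) F' :=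
  QuotientGroup.congr _ _ (Cfsg.Agent.Helper37.Exc.slCongr n e) (map_center_equiv _)

/-- The coefficients of the powers of a matrix of determinant one. -/
def chebP {R : Type*} [CommRing R] (t : R) : ℕ → R × R
  | 0 => (0, 1)
  | n + 1 => ((chebP t n).2, t * (chebP t n).2 - (chebP t n).1)

theorem sq_of_det_one {R : Type*} [CommRing R] (g : Matrix (Fin 2) (Fin 2) R) (hdet : g.det = 1) :
    g * g = g.trace • g - 1 := by
  rw [Matrix.det_fin_two] at hdet
  ext i j
  fin_cases i <;> fin_cases j <;>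
    simp [Matrix.mul_apply, Fin.sum_univ_two, Matrix.trace_fin_two] <;>
    first | ring1 | linear_combination hdet | linear_combination (-1 : R) * hdet

theorem pow_of_det_one {R : Type*} [CommRing R] (g : Matrix (Fin 2) (Fin 2) R) (hdet : g.det = 1)
    (n : ℕ) : g ^ (n + 1) = (chebP g.trace n).2 • g - (chebP g.trace n).1 • 1 := by
  induction n with
  | zero => simp [chebP]
  | succ n ih =>
    rw [pow_succ, ih, sub_mul, smul_mul_assoc, smul_mul_assoc, one_mul, sq_of_det_one g hdet]
    simp only [chebP]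
    module

theorem chebP_cases : ∀ t : ZMod 13,
    (chebP t 5).2 = 0 ∨ (chebP t 6).2 = 0 ∨ (chebP t 12).2 = 0 := by
  decide +kernel

/-- In `PSL_2`, the class of `g` has `(n+1)`-st power one if the coefficient vanishes. -/
theorem psl2_pow_eq_one {R : Type*} [CommRing R] (g : Matrix.SpecialLinearGroup (Fin 2) R) (n : ℕ)
    (hn : (chebP (g.1.trace) n).2 = 0) :
    (QuotientGroup.mk g : Matrix.ProjectiveSpecialLinearGroup (Fin 2) R) ^ (n + 1) = 1 := by
  rw [← QuotientGroup.mk_pow, QuotientGroup.eq_one_iff,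
    Matrix.SpecialLinearGroup.mem_center_iff]
  have hpow := pow_of_det_one g.1 g.2 n
  rw [hn, zero_smul, zero_sub] at hpow
  have hdet : (g.1 ^ (n + 1)).det = 1 := by rw [Matrix.det_pow, g.2, one_pow]
  refine ⟨-(chebP g.1.trace n).1, ?_, ?_⟩
  · rw [hpow] at hdet
    rw [Fintype.card_fin]
    rw [← neg_smul, Matrix.det_smul, Matrix.det_one, mul_one, Fintype.card_fin] at hdet
    exact hdet
  · rw [Matrix.SpecialLinearGroup.coe_pow, hpow, ← neg_smul]
    ext i j
    simp [Matrix.scalar_apply, Matrix.smul_apply, Matrix.one_apply, Matrix.diagonal_apply]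

theorem psl2_13_pow (y : Matrix.ProjectiveSpecialLinearGroup (Fin 2) (ZMod 13)) :
    y ^ 6 = 1 ∨ y ^ 7 = 1 ∨ y ^ 13 = 1 := by
  obtain ⟨g, rfl⟩ := QuotientGroup.mk_surjective y
  rcases chebP_cases g.1.trace with h | h | h
  · exact Or.inl (psl2_pow_eq_one g 5 h)
  · exact Or.inr (Or.inl (psl2_pow_eq_one g 6 h))
  · exact Or.inr (Or.inr (psl2_pow_eq_one g 12 h))

theorem det_g6 : (!![(2 : ZMod 13), 0; 0, 7]).det = 1 := by
  rw [Matrix.det_fin_two_of]
  decide

/-- An element of order six. -/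
def g6 : Matrix.SpecialLinearGroup (Fin 2) (ZMod 13) :=
  ⟨!![2, 0; 0, 7], det_g6⟩

theorem g6_pow (k : ℕ) : (g6 ^ k).1 = !![(2 : ZMod 13) ^ k, 0; 0, (7 : ZMod 13) ^ k] := by
  induction k with
  | zero =>
    rw [pow_zero]
    ext i j
    fin_cases i <;> fin_cases j <;> simp
  | succ k ih =>
    rw [pow_succ, Matrix.SpecialLinearGroup.coe_mul, ih]
    show _ * !![(2 : ZMod 13), 0; 0, 7] = _
    rw [Matrix.mul_fin_two]
    simp [pow_succ]

theorem g6_not_center (k : ℕ) (hk : (2 : ZMod 13) ^ k ≠ (7 : ZMod 13) ^ k) :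
    (QuotientGroup.mk g6 : Matrix.ProjectiveSpecialLinearGroup (Fin 2) (ZMod 13)) ^ k ≠ 1 := by
  rw [← QuotientGroup.mk_pow, Ne, QuotientGroup.eq_one_iff,
    Matrix.SpecialLinearGroup.mem_center_iff]
  rintro ⟨r, _, hr⟩
  apply hk
  rw [g6_pow] at hr
  have h1 := congrFun (congrFun hr 0) 0
  have h2 := congrFun (congrFun hr 1) 1
  simp at h1 h2
  rw [← h1, ← h2]

theorem psl2_13_order_six :
    ∃ y : Matrix.ProjectiveSpecialLinearGroup (Fin 2) (ZMod 13), orderOf y = 6 := by
  refine ⟨QuotientGroup.mk g6, ?_⟩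
  apply orderOf_eq_of_pow_and_pow_div_prime (by norm_num)
  · rw [← QuotientGroup.mk_pow, QuotientGroup.eq_one_iff,
      Matrix.SpecialLinearGroup.mem_center_iff]
    refine ⟨12, by decide, ?_⟩
    rw [g6_pow]
    ext i j
    fin_cases i <;> fin_cases j <;> simp <;> decide
  · intro p hp hp6
    have hp' : p = 2 ∨ p = 3 := by
      have hle : p ≤ 6 := Nat.le_of_dvd (by norm_num) hp6
      interval_cases p <;> simp_all (config := { decide := true })
    rcases hp' with rfl | rfl
    · exact g6_not_center 3 (by decide)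
    · exact g6_not_center 2 (by decide)

end Cfsg.Agent.Helper37.G3
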