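import Mathlib
import Cfsg.Agent.Lib.Helper37.G3G

/-!
# `G_2(3)`: an element of order six
-/

set_option autoImplicit false
set_option maxRecDepth 1000000

namespace Cfsg.Agent.Helper37.G3

open Matrix Cfsg.Lie Equiv Cfsg.Agent.Helper37.Exc

/-- An element of order six. -/
def X6 : List ℕ := mulE (mulE (TX.getD 0 []) (TX.getD 0 [])) (TX.getD 11 [])

theorem X6_elt : IsElt X6 :=
  isElt_mul (isElt_mul (isElt_gen 0) (isElt_gen 0)) (isElt_gen 11)

theorem X6_pow : powE X6 6 = idE := by decide +kernel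

theorem X6_ne2 : neE (powE X6 2) idE = true := by decide +kernel

theorem X6_ne3 : neE (powE X6 3) idE = true := by decide +kernel

theorem exists_order_six : ∃ x : ↥G23, orderOf x = 6 := by
  refine ⟨eltOf X6_elt, ?_⟩
  have hpow : ∀ e : ℕ, (((eltOf X6_elt ^ e : ↥G23) : GL G2I (ZMod 3)) :
      Matrix G2I G2I (ZMod 3)) = ofE (powE X6 e) := by
    intro e
    rw [coe_pow', eltOf_coe, ofE_powE X6 X6_elt.1 e]
  have hne : ∀ e : ℕ, neE (powE X6 e) idE = true → eltOf X6_elt ^ e ≠ 1 := by
    intro e h h1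
    apply ofE_ne_one_of_neE _ h
    rw [← hpow e, h1]
    exact coe_one'
  apply orderOf_eq_of_pow_and_pow_div_prime (by norm_num)
  · apply coe_injective
    show (((eltOf X6_elt ^ 6 : ↥G23) : GL G2I (ZMod 3)) : Matrix G2I G2I (ZMod 3)) = _
    rw [hpow 6, X6_pow, ofE_idE]
    exact coe_one'.symm
  · intro p hp hp6
    have hp' : p = 2 ∨ p = 3 := by
      have hle : p ≤ 6 := Nat.le_of_dvd (by norm_num) hp6
      interval_cases p <;> simp_all (config := { decide := true })
    rcases hp' with rfl | rfl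
    · exact hne 3 X6_ne3
    · exact hne 2 X6_ne2

end Cfsg.Agent.Helper37.G3
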