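import Mathlib
import Cfsg.Agent.Lib.Helper37.G3C

/-!
# `G_2(3)` on 378 points: the certificate
-/

set_option autoImplicit false
set_option maxRecDepth 1000000

namespace Cfsg.Agent.Helper37.G3

open Matrix Cfsg.Lie Equiv Cfsg.Agent.Helper37.Exc

/-- The points, as a tree. -/
def tblT13 : BT (List ℕ) :=
  (BT.node (BT.node (BT.node (BT.node (BT.node (BT.node (BT.node (BT.node (BT.node (BT.leaf [1, 0, 0, 0, 2, 0, 0, 0, 0, 1, 0, 0, 0, 0]) (BT.leaf [1, 0, 0, 0, 2, 2, 2, 0, 0, 2, 1, 0, 0, 0])) (BT.leaf [1, 0, 0, 0, 2, 1, 1, 0, 0, 2, 0, 2, 0, 0])) (BT.node (BT.node (BT.leaf [1, 0, 0, 0, 0, 0, 0, 0, 0, 0, 0, 0, 0, 0]) (BT.leaf [1, 0, 0, 0, 1, 1, 1, 0, 0, 2, 1, 0, 0, 0])) (BT.leaf [1, 0, 0, 0, 2, 2, 1, 0, 0, 2, 2, 0, 0, 0]))) (BT.node (BT.node (BT.node (BT.leaf [1, 0, 0, 0, 2, 2, 0, 0, 0, 0, 0, 0, 0, 0]) (BT.leaf [0, 0, 0, 0, 1, 2, 1, 0, 0, 1, 1, 1, 0, 0])) (BT.leaf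 [1, 0, 0, 0, 2, 2, 0, 0, 0, 0, 2, 1, 0, 0])) (BT.node (BT.node (BT.leaf [0, 0, 0, 0, 0, 1, 0, 0, 0, 2, 1, 2, 0, 0]) (BT.leaf [1, 0, 0, 0, 1, 0, 2, 0, 0, 0, 2, 0, 0, 0])) (BT.leaf [1, 0, 0, 0, 1, 1, 1, 0, 0, 2, 2, 2, 0, 0])))) (BT.node (BT.node (BT.node (BT.node (BT.leaf [1, 0, 0, 0, 0, 0, 0, 0, 0, 2, 0, 0, 0, 0]) (BT.leaf [0, 0, 0, 0, 1, 1, 0, 0, 0, 1, 1, 0, 0, 0])) (BT.leaf [1, 0, 0, 0, 1, 0, 2, 0, 0, 2, 2, 2, 0, 0])) (BT.node (BT.node (BT.leaf [1, 0, 0, 0, 0, 2, 1, 0, 0, 1, 1, 0, 0, 0]) (BT.leaf [0, 0, 0, 0, 0, 1, 1, 0, 0, 0, 1, 1, 0, 0])) (BT.leaf [0, 0, 0, 0, 1, 2, 1, 0, 0, 0, 1, 2, 0, 0]))) (BT.node (BT.node (BT.node (BT.leaf [1, 0, 0, 0, 2, 1, 2, 0, 0, 2, 2, 0, 0, 0]) (BT.leaf [1, 0, 0, 0, 0, 0, 1, 0, 0, 0, 0, 2, 0, 0])) (BT.leaf [1, 0, 0, 0, 2, 1, 1, 0, 0, 0, 2, 2, 0, 0])) (BT.node (BT.node (BT.leaf [0, 0, 0, 0, 1, 2, 2, 0, 0, 0, 0, 1, 0, 0]) (BT.leaf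 [1, 0, 0, 0, 2, 2, 0, 0, 0, 2, 1, 2, 0, 0])) (BT.leaf [1, 0, 0, 0, 1, 2, 1, 0, 0, 0, 1, 1, 0, 0]))))) (BT.node (BT.node (BT.node (BT.node (BT.node (BT.leaf [1, 0, 0, 0, 1, 0, 0, 0, 0, 2, 0, 0, 0, 0]) (BT.leaf [1, 0, 0, 0, 2, 1, 1, 0, 0, 1, 2, 0, 0, 0])) (BT.leaf [0, 0, 0, 0, 0, 1, 1, 0, 0, 2, 2, 0, 0, 0])) (BT.node (BT.node (BT.leaf [1, 0, 0, 0, 1, 0, 1, 0, 0, 1, 1, 2, 0, 0]) (BT.leaf [1, 0, 0, 0, 1, 2, 0, 0, 0, 1, 2, 2, 0, 0])) (BT.leaf [1, 0, 0, 0, 1, 0, 1, 0, 0, 1, 2, 2, 0, 0]))) (BT.node (BT.node (BT.node (BT.leaf [0, 0, 0, 0, 1, 0, 2, 0, 0, 2, 1, 0, 0, 0]) (BT.leaf [0, 0, 0, 0, 0, 1, 0, 0, 0, 2, 1, 0, 0, 0])) (BT.leaf [0, 0, 0, 0, 1, 1, 2, 0, 0, 0, 0, 1, 0, 0])) (BT.node (BT.node (BT.leaf [1, 0, 0, 0, 0, 0, 0, 0, 0, 1, 0, 1, 0, 0]) (BT.leaf [1, 0, 0, 0, 0, 0, 2, 0, 0, 0, 0, 2, 0, 0])) (BT.leaf [0, 0, 0, 0, 1, 0, 1, 0, 0, 2, 1, 2, 0, 0])))) (BT.node (BT.node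 (BT.node (BT.node (BT.leaf [1, 0, 0, 0, 0, 1, 0, 0, 0, 2, 0, 2, 0, 0]) (BT.leaf [1, 0, 0, 0, 0, 0, 0, 0, 0, 2, 0, 1, 0, 0])) (BT.leaf [1, 0, 0, 0, 1, 1, 2, 0, 0, 2, 0, 2, 0, 0])) (BT.node (BT.node (BT.leaf [0, 0, 0, 0, 0, 0, 1, 0, 0, 1, 2, 0, 0, 0]) (BT.leaf [1, 0, 0, 0, 0, 0, 0, 0, 0, 0, 0, 1, 0, 0])) (BT.leaf [0, 0, 0, 0, 1, 1, 0, 0, 0, 0, 0, 1, 0, 0]))) (BT.node (BT.node (BT.node (BT.leaf [0, 0, 0, 0, 1, 2, 1, 0, 0, 0, 2, 0, 0, 0]) (BT.leaf [1, 0, 0, 0, 0, 0, 0, 0, 0, 0, 2, 1, 0, 0])) (BT.leaf [1, 0, 0, 0, 2, 0, 1, 0, 0, 1, 1, 1, 0, 0])) (BT.node (BT.node (BT.leaf [1, 0, 0, 0, 0, 1, 2, 0, 0, 2, 2, 0, 0, 0]) (BT.leaf [1, 0, 0, 0, 0, 0, 2, 0, 0, 0, 1, 1, 0, 0])) (BT.leaf [0, 0, 0, 0, 1, 1, 2, 0, 0, 1, 0, 2, 0, 0])))))) (BT.node (BT.node (BT.node (BT.node (BT.node (BT.node (BT.leaf [0, 0, 0, 0, 1, 0, 2, 0, 0, 2, 0, 0, 0, 0]) (BT.leaf [1, 0, 0, 0, 2, 1, 2, 0,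 0, 0, 0, 0, 0, 0])) (BT.leaf [0, 0, 0, 0, 1, 1, 1, 0, 0, 1, 0, 0, 0, 0])) (BT.node (BT.node (BT.leaf [1, 0, 0, 0, 0, 0, 0, 0, 0, 1, 2, 0, 0, 0]) (BT.leaf [0, 0, 0, 0, 1, 1, 0, 0, 0, 0, 2, 2, 0, 0])) (BT.leaf [0, 0, 0, 0, 1, 2, 0, 0, 0, 0, 2, 0, 0, 0]))) (BT.node (BT.node (BT.node (BT.leaf [1, 0, 0, 0, 2, 1, 1, 0, 0, 0, 0, 0, 0, 0]) (BT.leaf [1, 0, 0, 0, 0, 2, 1, 0, 0, 1, 1, 2, 0, 0])) (BT.leaf [1, 0, 0, 0, 2, 2, 0, 0, 0, 1, 1, 2, 0, 0])) (BT.node (BT.node (BT.leaf [1, 0, 0, 0, 1, 0, 1, 0, 0, 1, 0, 2, 0, 0]) (BT.leaf [1, 0, 0, 0, 0, 1, 1, 0, 0, 0, 0, 1, 0, 0])) (BT.leaf [1, 0, 0, 0, 0, 2, 2, 0, 0, 2, 1, 2, 0, 0])))) (BT.node (BT.node (BT.node (BT.node (BT.leaf [0, 0, 0, 0, 1, 2, 2, 0, 0, 2, 0, 0, 0, 0]) (BT.leaf [1, 0, 0, 0, 2, 0, 1, 0, 0, 2, 2, 2, 0, 0])) (BT.leaf [1, 0, 0, 0, 2, 0, 0, 0, 0, 2, 2, 0, 0, 0])) (BT.node (BT.node (BT.leaf [1, 0, 0, 0, 0, 2, 0,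 0, 0, 1, 0, 1, 0, 0]) (BT.leaf [1, 0, 0, 0, 0, 1, 1, 0, 0, 1, 2, 1, 0, 0])) (BT.leaf [1, 0, 0, 0, 0, 0, 0, 0, 0, 0, 1, 0, 0, 0]))) (BT.node (BT.node (BT.node (BT.leaf [1, 0, 0, 0, 0, 1, 2, 0, 0, 1, 1, 2, 0, 0]) (BT.leaf [1, 0, 0, 0, 0, 0, 0, 0, 0, 0, 1, 2, 0, 0])) (BT.leaf [1, 0, 0, 0, 1, 2, 1, 0, 0, 1, 2, 1, 0, 0])) (BT.node (BT.node (BT.leaf [0, 0, 0, 0, 0, 1, 2, 0, 0, 0, 1, 1, 0, 0]) (BT.leaf [0, 0, 0, 0, 0, 1, 1, 0, 0, 0, 1, 2, 0, 0])) (BT.leaf [0, 0, 0, 0, 1, 2, 2, 0, 0, 2, 2, 2, 0, 0]))))) (BT.node (BT.node (BT.node (BT.node (BT.node (BT.leaf [1, 0, 0, 0, 1, 1, 0, 0, 0, 1, 0, 0, 0, 0]) (BT.leaf [1, 0, 0, 0, 0, 0, 0, 0, 0, 2, 2, 2, 0, 0])) (BT.leaf [0, 0, 0, 0, 0, 1, 2, 0, 0, 2, 0, 1, 0, 0])) (BT.node (BT.node (BT.leaf [1, 0, 0, 0, 2, 2, 2, 0, 0, 2, 0, 1, 0, 0]) (BT.leaf [0, 0, 0, 0, 0, 1, 2, 0, 0, 1, 2, 2, 0, 0])) (BT.leaf [1, 0, 0, 0, 2, 1, 0, 0, 0,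 1, 1, 1, 0, 0]))) (BT.node (BT.node (BT.node (BT.leaf [1, 0, 0, 0, 2, 0, 2, 0, 0, 1, 2, 2, 0, 0]) (BT.leaf [1, 0, 0, 0, 0, 0, 1, 0, 0, 0, 1, 1, 0, 0])) (BT.leaf [1, 0, 0, 0, 2, 0, 1, 0, 0, 1, 0, 1, 0, 0])) (BT.node (BT.node (BT.leaf [1, 0, 0, 0, 1, 2, 0, 0, 0, 1, 1, 1, 0, 0]) (BT.leaf [0, 0, 0, 0, 0, 1, 0, 0, 0, 0, 1, 0, 0, 0])) (BT.leaf [0, 0, 0, 0, 1, 2, 2, 0, 0, 0, 1, 2, 0, 0])))) (BT.node (BT.node (BT.node (BT.node (BT.leaf [1, 0, 0, 0, 2, 2, 1, 0, 0, 1, 1, 0, 0, 0]) (BT.leaf [0, 0, 0, 0, 1, 2, 2, 0, 0, 1, 1, 0, 0, 0])) (BT.leaf [0, 0, 0, 0, 1, 1, 0, 0, 0, 1, 0, 1, 0, 0])) (BT.node (BT.node (BT.leaf [1, 0, 0, 0, 0, 0, 0, 0, 0, 1, 2, 2, 0, 0]) (BT.leaf [1, 0, 0, 0, 1, 1, 1, 0, 0, 2, 0, 1, 0, 0])) (BT.leaf [1, 0, 0, 0, 2, 1, 2, 0, 0, 1, 2, 1, 0, 0]))) (BT.node (BT.node (BT.node (BT.leaf [1, 0, 0, 0, 2, 2, 0, 0, 0, 2, 0, 0, 0, 0]) (BT.leaf [0, 0, 0, 0, 0,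 0, 1, 0, 0, 1, 2, 1, 0, 0])) (BT.leaf [0, 0, 0, 0, 1, 0, 2, 0, 0, 1, 0, 2, 0, 0])) (BT.node (BT.leaf [1, 0, 0, 0, 0, 1, 0, 0, 0, 2, 0, 1, 0, 0]) (BT.leaf [0, 0, 0, 0, 1, 2, 0, 0, 0, 1, 0, 1, 0, 0]))))))) (BT.node (BT.node (BT.node (BT.node (BT.node (BT.node (BT.node (BT.leaf [1, 0, 0, 0, 0, 1, 0, 0, 0, 1, 0, 0, 0, 0]) (BT.leaf [1, 0, 0, 0, 0, 0, 2, 0, 0, 0, 0, 0, 0, 0])) (BT.leaf [1, 0, 0, 0, 0, 1, 0, 0, 0, 0, 0, 1, 0, 0])) (BT.node (BT.node (BT.leaf [1, 0, 0, 0, 2, 0, 0, 0, 0, 0, 2, 0, 0, 0]) (BT.leaf [0, 0, 0, 0, 1, 1, 1, 0, 0, 0, 2, 2, 0, 0])) (BT.leaf [0, 0, 0, 0, 1, 1, 0, 0, 0, 2, 2, 2, 0, 0]))) (BT.node (BT.node (BT.node (BT.leaf [0, 0, 0, 0, 1, 1, 2, 0, 0, 2, 0, 0, 0, 0]) (BT.leaf [1, 0, 0, 0, 0, 2, 2, 0, 0, 1, 2, 0, 0, 0])) (BT.leaf [1, 0, 0, 0, 0, 2, 2, 0, 0, 1, 2, 1, 0, 0])) (BT.node (BT.node (BT.leaf [1, 0, 0, 0, 0, 0, 0, 0, 0, 1, 2, 1, 0, 0]) (BT.leaf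 [1, 0, 0, 0, 1, 1, 2, 0, 0, 0, 1, 2, 0, 0])) (BT.leaf [0, 0, 0, 0, 1, 1, 2, 0, 0, 2, 2, 1, 0, 0])))) (BT.node (BT.node (BT.node (BT.node (BT.leaf [1, 0, 0, 0, 0, 0, 0, 0, 0, 1, 0, 2, 0, 0]) (BT.leaf [1, 0, 0, 0, 2, 1, 1, 0, 0, 1, 1, 2, 0, 0])) (BT.leaf [1, 0, 0, 0, 2, 2, 1, 0, 0, 0, 1, 2, 0, 0])) (BT.node (BT.node (BT.leaf [0, 0, 0, 0, 0, 1, 0, 0, 0, 2, 1, 1, 0, 0]) (BT.leaf [0, 0, 0, 0, 0, 1, 2, 0, 0, 1, 2, 1, 0, 0])) (BT.leaf [1, 0, 0, 0, 2, 0, 2, 0, 0, 0, 2, 0, 0, 0]))) (BT.node (BT.node (BT.node (BT.leaf [1, 0, 0, 0, 1, 2, 0, 0, 0, 0, 0, 0, 0, 0]) (BT.leaf [1, 0, 0, 0, 0, 0, 0, 0, 0, 0, 1, 1, 0, 0])) (BT.leaf [0, 0, 0, 0, 1, 0, 0, 0, 0, 0, 0, 1, 0, 0])) (BT.node (BT.node (BT.leaf [0, 0, 0, 0, 1, 1, 1, 0, 0, 2, 2, 0, 0, 0]) (BT.leaf [1, 0, 0, 0, 1, 1, 2, 0, 0, 0, 2, 1, 0, 0])) (BT.leaf [0, 0, 0, 0, 1, 2, 1, 0, 0, 0, 0, 1, 0, 0]))))) (BT.node (BT.node (BT.node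 (BT.node (BT.node (BT.leaf [1, 0, 0, 0, 2, 0, 0, 0, 0, 1, 2, 0, 0, 0]) (BT.leaf [1, 0, 0, 0, 1, 1, 1, 0, 0, 1, 2, 0, 0, 0])) (BT.leaf [1, 0, 0, 0, 0, 1, 2, 0, 0, 2, 2, 1, 0, 0])) (BT.node (BT.node (BT.leaf [0, 0, 0, 0, 0, 1, 1, 0, 0, 1, 0, 0, 0, 0]) (BT.leaf [1, 0, 0, 0, 2, 1, 0, 0, 0, 0, 2, 2, 0, 0])) (BT.leaf [1, 0, 0, 0, 2, 2, 0, 0, 0, 0, 1, 2, 0, 0]))) (BT.node (BT.node (BT.node (BT.leaf [1, 0, 0, 0, 2, 0, 0, 0, 0, 2, 1, 0, 0, 0]) (BT.leaf [1, 0, 0, 0, 1, 2, 2, 0, 0, 1, 0, 1, 0, 0])) (BT.leaf [1, 0, 0, 0, 2, 1, 1, 0, 0, 0, 1, 1, 0, 0])) (BT.node (BT.node (BT.leaf [0, 0, 0, 0, 1, 2, 1, 0, 0, 1, 2, 2, 0, 0]) (BT.leaf [0, 0, 0, 0, 1, 2, 0, 0, 0, 1, 1, 2, 0, 0])) (BT.leaf [1, 0, 0, 0, 1, 1, 2, 0, 0, 1, 0, 1, 0, 0])))) (BT.node (BT.node (BT.node (BT.node (BT.leaf [1, 0, 0, 0, 2, 1, 0, 0, 0, 1, 0, 0, 0, 0]) (BT.leaf [0, 0, 0, 0, 0, 1, 1, 0, 0, 2, 2, 1, 0, 0]))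 (BT.leaf [0, 0, 0, 0, 1, 1, 1, 0, 0, 0, 1, 0, 0, 0])) (BT.node (BT.node (BT.leaf [1, 0, 0, 0, 0, 0, 0, 0, 0, 2, 1, 0, 0, 0]) (BT.leaf [1, 0, 0, 0, 0, 2, 1, 0, 0, 0, 0, 1, 0, 0])) (BT.leaf [1, 0, 0, 0, 1, 2, 2, 0, 0, 1, 1, 2, 0, 0]))) (BT.node (BT.node (BT.node (BT.leaf [1, 0, 0, 0, 2, 0, 2, 0, 0, 0, 1, 0, 0, 0]) (BT.leaf [1, 0, 0, 0, 2, 0, 1, 0, 0, 2, 1, 2, 0, 0])) (BT.leaf [1, 0, 0, 0, 0, 0, 2, 0, 0, 0, 0, 1, 0, 0])) (BT.node (BT.leaf [1, 0, 0, 0, 0, 2, 0, 0, 0, 1, 0, 2, 0, 0]) (BT.leaf [1, 0, 0, 0, 2, 2, 0, 0, 0, 2, 2, 1, 0, 0])))))) (BT.node (BT.node (BT.node (BT.node (BT.node (BT.node (BT.leaf [1, 0, 0, 0, 2, 1, 0, 0, 0, 2, 0, 0, 0, 0]) (BT.leaf [1, 0, 0, 0, 2, 0, 2, 0, 0, 2, 0, 1, 0, 0])) (BT.leaf [1, 0, 0, 0, 1, 2, 1, 0, 0, 2, 0, 1, 0, 0])) (BT.node (BT.node (BT.leaf [0, 0, 0, 0, 1, 0, 1, 0, 0, 1, 0, 0, 0, 0]) (BT.leaf [1, 0, 0, 0, 2, 2, 2, 0, 0, 1, 1,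 1, 0, 0])) (BT.leaf [1, 0, 0, 0, 2, 0, 2, 0, 0, 2, 2, 1, 0, 0]))) (BT.node (BT.node (BT.node (BT.leaf [1, 0, 0, 0, 2, 0, 1, 0, 0, 1, 2, 1, 0, 0]) (BT.leaf [1, 0, 0, 0, 0, 2, 1, 0, 0, 2, 2, 0, 0, 0])) (BT.leaf [1, 0, 0, 0, 1, 1, 0, 0, 0, 2, 2, 1, 0, 0])) (BT.node (BT.node (BT.leaf [1, 0, 0, 0, 0, 2, 0, 0, 0, 2, 0, 2, 0, 0]) (BT.leaf [0, 0, 0, 0, 1, 1, 2, 0, 0, 0, 2, 2, 0, 0])) (BT.leaf [1, 0, 0, 0, 0, 2, 1, 0, 0, 2, 2, 2, 0, 0])))) (BT.node (BT.node (BT.node (BT.node (BT.leaf [1, 0, 0, 0, 0, 1, 0, 0, 0, 2, 0, 0, 0, 0]) (BT.leaf [0, 0, 0, 0, 1, 1, 2, 0, 0, 1, 1, 1, 0, 0])) (BT.leaf [0, 0, 0, 0, 1, 0, 2, 0, 0, 1, 2, 2, 0, 0])) (BT.node (BT.node (BT.leaf [1, 0, 0, 0, 0, 0, 1, 0, 0, 0, 0, 0, 0, 0]) (BT.leaf [1, 0, 0, 0, 0, 1, 2, 0, 0, 0, 0, 2, 0, 0])) (BT.leaf [1, 0, 0, 0, 1, 1, 2, 0, 0, 2, 2, 0, 0, 0]))) (BT.node (BT.node (BT.node (BT.leaf [0, 0, 0, 0, 1, 1, 2,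 0, 0, 2, 1, 2, 0, 0]) (BT.leaf [1, 0, 0, 0, 2, 0, 1, 0, 0, 2, 0, 2, 0, 0])) (BT.leaf [1, 0, 0, 0, 0, 0, 2, 0, 0, 0, 1, 2, 0, 0])) (BT.node (BT.node (BT.leaf [1, 0, 0, 0, 0, 1, 2, 0, 0, 2, 2, 2, 0, 0]) (BT.leaf [1, 0, 0, 0, 0, 0, 2, 0, 0, 0, 2, 0, 0, 0])) (BT.leaf [1, 0, 0, 0, 0, 0, 1, 0, 0, 0, 1, 0, 0, 0]))))) (BT.node (BT.node (BT.node (BT.node (BT.node (BT.leaf [0, 0, 0, 0, 0, 0, 1, 0, 0, 1, 0, 0, 0, 0]) (BT.leaf [1, 0, 0, 0, 0, 1, 1, 0, 0, 2, 1, 2, 0, 0])) (BT.leaf [1, 0, 0, 0, 2, 1, 1, 0, 0, 2, 1, 0, 0, 0])) (BT.node (BT.node (BT.leaf [1, 0, 0, 0, 1, 1, 0, 0, 0, 1, 1, 2, 0, 0]) (BT.leaf [0, 0, 0, 0, 0, 1, 1, 0, 0, 2, 2, 2, 0, 0])) (BT.leaf [0, 0, 0, 0, 1, 1, 0, 0, 0, 1, 2, 2, 0, 0]))) (BT.node (BT.node (BT.node (BT.leaf [1, 0, 0, 0, 2, 0, 0, 0, 0, 0, 1, 0, 0, 0]) (BT.leaf [1, 0, 0, 0, 1, 0, 1, 0, 0, 0, 0, 0, 0, 0])) (BT.leaf [1, 0, 0, 0, 0, 1, 1, 0, 0,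 0, 0, 0, 0, 0])) (BT.node (BT.node (BT.leaf [1, 0, 0, 0, 2, 1, 0, 0, 0, 1, 2, 2, 0, 0]) (BT.leaf [1, 0, 0, 0, 1, 0, 2, 0, 0, 0, 1, 0, 0, 0])) (BT.leaf [1, 0, 0, 0, 2, 2, 2, 0, 0, 0, 1, 2, 0, 0])))) (BT.node (BT.node (BT.node (BT.node (BT.leaf [0, 0, 0, 0, 1, 1, 1, 0, 0, 2, 1, 1, 0, 0]) (BT.leaf [1, 0, 0, 0, 2, 1, 2, 0, 0, 0, 1, 1, 0, 0])) (BT.leaf [1, 0, 0, 0, 0, 2, 0, 0, 0, 0, 0, 0, 0, 0])) (BT.node (BT.node (BT.leaf [1, 0, 0, 0, 0, 0, 0, 0, 0, 2, 0, 2, 0, 0]) (BT.leaf [0, 0, 0, 0, 0, 1, 1, 0, 0, 0, 1, 0, 0, 0])) (BT.leaf [1, 0, 0, 0, 1, 2, 0, 0, 0, 0, 1, 1, 0, 0]))) (BT.node (BT.node (BT.node (BT.leaf [1, 0, 0, 0, 1, 0, 0, 0, 0, 0, 0, 0, 0, 0]) (BT.leaf [1, 0, 0, 0, 1, 0, 2, 0, 0, 1, 0, 1, 0, 0])) (BT.leaf [0, 0, 0, 0, 1, 2, 1, 0, 0, 2, 1, 0, 0, 0])) (BT.node (BT.leaf [1, 0, 0, 0, 0, 2, 0, 0, 0, 0, 0, 1, 0, 0]) (BT.leaf [1, 0, 0, 0, 1, 0, 2, 0, 0, 0, 0, 0,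 0, 0])))))))) (BT.node (BT.node (BT.node (BT.node (BT.node (BT.node (BT.node (BT.node (BT.leaf [1, 0, 0, 0, 0, 0, 0, 0, 0, 1, 0, 0, 0, 0]) (BT.leaf [0, 0, 0, 0, 1, 1, 0, 0, 0, 2, 1, 0, 0, 0])) (BT.leaf [1, 0, 0, 0, 0, 0, 0, 0, 0, 0, 0, 2, 0, 0])) (BT.node (BT.node (BT.leaf [1, 0, 0, 0, 2, 0, 2, 0, 0, 0, 0, 0, 0, 0]) (BT.leaf [0, 0, 0, 0, 1, 2, 2, 0, 0, 1, 0, 2, 0, 0])) (BT.leaf [0, 0, 0, 0, 1, 2, 0, 0, 0, 1, 2, 0, 0, 0]))) (BT.node (BT.node (BT.node (BT.leaf [1, 0, 0, 0, 2, 2, 0, 0, 0, 1, 2, 1, 0, 0]) (BT.leaf [1, 0, 0, 0, 0, 1, 1, 0, 0, 2, 1, 0, 0, 0])) (BT.leaf [1, 0, 0, 0, 1, 1, 0, 0, 0, 1, 2, 1, 0, 0])) (BT.node (BT.node (BT.leaf [1, 0, 0, 0, 0, 0, 0, 0, 0, 2, 1, 2, 0, 0]) (BT.leaf [1, 0, 0, 0, 1, 0, 2, 0, 0, 2, 0, 2, 0, 0])) (BT.leaf [0, 0, 0, 0, 1, 0, 1, 0, 0, 2, 2, 2, 0, 0])))) (BT.node (BT.node (BT.node (BT.node (BT.leaf [1, 0, 0, 0, 0, 0, 0, 0, 0,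 1, 1, 2, 0, 0]) (BT.leaf [0, 0, 0, 0, 1, 0, 0, 0, 0, 1, 1, 1, 0, 0])) (BT.leaf [1, 0, 0, 0, 1, 1, 2, 0, 0, 0, 0, 0, 0, 0])) (BT.node (BT.node (BT.leaf [1, 0, 0, 0, 0, 2, 0, 0, 0, 2, 0, 0, 0, 0]) (BT.leaf [1, 0, 0, 0, 0, 1, 2, 0, 0, 0, 0, 1, 0, 0])) (BT.leaf [1, 0, 0, 0, 1, 0, 1, 0, 0, 2, 0, 1, 0, 0]))) (BT.node (BT.node (BT.node (BT.leaf [1, 0, 0, 0, 1, 2, 1, 0, 0, 1, 0, 2, 0, 0]) (BT.leaf [0, 0, 0, 0, 0, 0, 1, 0, 0, 1, 0, 1, 0, 0])) (BT.leaf [0, 0, 0, 0, 1, 0, 1, 0, 0, 2, 0, 2, 0, 0])) (BT.node (BT.node (BT.leaf [0, 0, 0, 0, 1, 2, 2, 0, 0, 2, 1, 1, 0, 0]) (BT.leaf [0, 0, 0, 0, 1, 1, 1, 0, 0, 0, 0, 1, 0, 0])) (BT.leaf [0, 0, 0, 0, 1, 2, 2, 0, 0, 0, 2, 0, 0, 0]))))) (BT.node (BT.node (BT.node (BT.node (BT.node (BT.leaf [1, 0, 0, 0, 2, 0, 0, 0, 0, 0, 0, 0, 0, 0]) (BT.leaf [0, 0, 0, 0, 1, 0, 0, 0, 0, 1, 2, 1, 0, 0])) (BT.leaf [1, 0, 0, 0, 0, 2, 1, 0, 0, 0, 0,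 0, 0, 0])) (BT.node (BT.node (BT.leaf [0, 0, 0, 0, 1, 0, 0, 0, 0, 1, 0, 1, 0, 0]) (BT.leaf [0, 0, 0, 0, 1, 1, 0, 0, 0, 0, 1, 0, 0, 0])) (BT.leaf [1, 0, 0, 0, 2, 1, 2, 0, 0, 2, 0, 1, 0, 0]))) (BT.node (BT.node (BT.node (BT.leaf [0, 0, 0, 0, 1, 2, 0, 0, 0, 2, 2, 0, 0, 0]) (BT.leaf [1, 0, 0, 0, 1, 2, 2, 0, 0, 0, 2, 2, 0, 0])) (BT.leaf [0, 0, 0, 0, 1, 1, 2, 0, 0, 1, 2, 0, 0, 0])) (BT.node (BT.node (BT.leaf [1, 0, 0, 0, 1, 2, 1, 0, 0, 1, 1, 0, 0, 0]) (BT.leaf [1, 0, 0, 0, 1, 1, 1, 0, 0, 0, 1, 2, 0, 0])) (BT.leaf [1, 0, 0, 0, 1, 0, 1, 0, 0, 0, 1, 0, 0, 0])))) (BT.node (BT.node (BT.node (BT.node (BT.leaf [1, 0, 0, 0, 0, 1, 0, 0, 0, 1, 0, 2, 0, 0]) (BT.leaf [1, 0, 0, 0, 0, 1, 1, 0, 0, 2, 1, 1, 0, 0])) (BT.leaf [1, 0, 0, 0, 2, 2, 2, 0, 0, 0, 0, 0, 0, 0])) (BT.node (BT.node (BT.leaf [0, 0, 0, 0, 0, 1, 0, 0, 0, 1, 1, 0, 0, 0]) (BT.leaf [1, 0, 0, 0, 1, 2, 2, 0, 0, 0, 1,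 1, 0, 0])) (BT.leaf [1, 0, 0, 0, 1, 1, 0, 0, 0, 2, 1, 2, 0, 0]))) (BT.node (BT.node (BT.node (BT.leaf [1, 0, 0, 0, 1, 0, 1, 0, 0, 2, 1, 1, 0, 0]) (BT.leaf [0, 0, 0, 0, 0, 1, 0, 0, 0, 0, 1, 2, 0, 0])) (BT.leaf [0, 0, 0, 0, 1, 0, 1, 0, 0, 0, 0, 1, 0, 0])) (BT.node (BT.node (BT.leaf [1, 0, 0, 0, 0, 1, 0, 0, 0, 0, 0, 0, 0, 0]) (BT.leaf [1, 0, 0, 0, 0, 2, 2, 0, 0, 0, 0, 2, 0, 0])) (BT.leaf [1, 0, 0, 0, 1, 2, 2, 0, 0, 2, 0, 2, 0, 0])))))) (BT.node (BT.node (BT.node (BT.node (BT.node (BT.node (BT.leaf [1, 0, 0, 0, 2, 0, 0, 0, 0, 1, 1, 0, 0, 0]) (BT.leaf [1, 0, 0, 0, 1, 0, 1, 0, 0, 0, 2, 0, 0, 0])) (BT.leaf [1, 0, 0, 0, 2, 1, 2, 0, 0, 1, 1, 0, 0, 0])) (BT.node (BT.node (BT.leaf [1, 0, 0, 0, 0, 1, 1, 0, 0, 1, 2, 0, 0, 0]) (BT.leaf [0, 0, 0, 0, 1, 2, 0, 0, 0, 0, 1, 2, 0, 0])) (BT.leaf [1, 0, 0, 0, 2, 1, 0, 0, 0, 0, 1, 1, 0, 0]))) (BT.node (BT.node (BT.node (BT.leaf [0,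 0, 0, 0, 1, 0, 0, 0, 0, 2, 0, 1, 0, 0]) (BT.leaf [1, 0, 0, 0, 0, 2, 1, 0, 0, 1, 1, 1, 0, 0])) (BT.leaf [1, 0, 0, 0, 2, 0, 1, 0, 0, 0, 0, 0, 0, 0])) (BT.node (BT.node (BT.leaf [0, 0, 0, 0, 1, 2, 0, 0, 0, 2, 0, 1, 0, 0]) (BT.leaf [1, 0, 0, 0, 2, 2, 1, 0, 0, 1, 2, 2, 0, 0])) (BT.leaf [1, 0, 0, 0, 0, 1, 1, 0, 0, 1, 2, 2, 0, 0])))) (BT.node (BT.node (BT.node (BT.node (BT.leaf [1, 0, 0, 0, 0, 1, 2, 0, 0, 1, 1, 0, 0, 0]) (BT.leaf [0, 0, 0, 0, 0, 1, 1, 0, 0, 1, 0, 2, 0, 0])) (BT.leaf [1, 0, 0, 0, 2, 0, 2, 0, 0, 2, 1, 1, 0, 0])) (BT.node (BT.node (BT.leaf [0, 0, 0, 0, 0, 0, 1, 0, 0, 1, 1, 0, 0, 0]) (BT.leaf [1, 0, 0, 0, 1, 1, 1, 0, 0, 1, 1, 1, 0, 0])) (BT.leaf [1, 0, 0, 0, 0, 0, 2, 0, 0, 0, 1, 0, 0, 0]))) (BT.node (BT.node (BT.node (BT.leaf [0, 0, 0, 0, 1, 1, 1, 0, 0, 1, 1, 2, 0, 0]) (BT.leaf [1, 0, 0, 0, 0, 0, 0, 0, 0, 0, 2, 2, 0, 0])) (BT.leaf [1, 0, 0, 0, 1, 2, 1,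 0, 0, 2, 1, 2, 0, 0])) (BT.node (BT.node (BT.leaf [1, 0, 0, 0, 0, 2, 1, 0, 0, 2, 2, 1, 0, 0]) (BT.leaf [1, 0, 0, 0, 1, 2, 1, 0, 0, 0, 2, 2, 0, 0])) (BT.leaf [1, 0, 0, 0, 1, 0, 1, 0, 0, 2, 2, 1, 0, 0]))))) (BT.node (BT.node (BT.node (BT.node (BT.node (BT.leaf [1, 0, 0, 0, 0, 2, 0, 0, 0, 1, 0, 0, 0, 0]) (BT.leaf [1, 0, 0, 0, 0, 2, 2, 0, 0, 2, 1, 1, 0, 0])) (BT.leaf [0, 0, 0, 0, 0, 1, 2, 0, 0, 2, 0, 2, 0, 0])) (BT.node (BT.node (BT.leaf [0, 0, 0, 0, 1, 1, 0, 0, 0, 2, 0, 1, 0, 0]) (BT.leaf [1, 0, 0, 0, 2, 2, 2, 0, 0, 0, 2, 1, 0, 0])) (BT.leaf [1, 0, 0, 0, 1, 1, 2, 0, 0, 1, 2, 2, 0, 0]))) (BT.node (BT.node (BT.node (BT.leaf [1, 0, 0, 0, 1, 0, 0, 0, 0, 2, 2, 0, 0, 0]) (BT.leaf [0, 0, 0, 0, 0, 0, 1, 0, 0, 1, 1, 2, 0, 0])) (BT.leaf [0, 0, 0, 0, 1, 0, 2, 0, 0, 0, 2, 1, 0, 0])) (BT.node (BT.node (BT.leaf [1, 0, 0, 0, 2, 2, 1, 0, 0, 0, 0, 0, 0, 0]) (BT.leaf [1, 0, 0,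 0, 0, 0, 2, 0, 0, 0, 2, 1, 0, 0])) (BT.leaf [0, 0, 0, 0, 1, 1, 1, 0, 0, 2, 0, 2, 0, 0])))) (BT.node (BT.node (BT.node (BT.node (BT.leaf [1, 0, 0, 0, 2, 0, 0, 0, 0, 2, 0, 0, 0, 0]) (BT.leaf [1, 0, 0, 0, 1, 1, 1, 0, 0, 0, 0, 0, 0, 0])) (BT.leaf [1, 0, 0, 0, 1, 1, 0, 0, 0, 0, 1, 2, 0, 0])) (BT.node (BT.node (BT.leaf [1, 0, 0, 0, 0, 0, 0, 0, 0, 2, 2, 0, 0, 0]) (BT.leaf [1, 0, 0, 0, 1, 2, 2, 0, 0, 2, 2, 1, 0, 0])) (BT.leaf [0, 0, 0, 0, 1, 2, 2, 0, 0, 1, 2, 1, 0, 0]))) (BT.node (BT.node (BT.node (BT.leaf [1, 0, 0, 0, 1, 2, 0, 0, 0, 2, 0, 0, 0, 0]) (BT.leaf [1, 0, 0, 0, 2, 2, 1, 0, 0, 2, 0, 2, 0, 0])) (BT.leaf [0, 0, 0, 0, 1, 0, 1, 0, 0, 1, 2, 0, 0, 0])) (BT.node (BT.leaf [1, 0, 0, 0, 0, 1, 0, 0, 0, 1, 0, 1, 0, 0]) (BT.leaf [1, 0, 0, 0, 1, 2, 0, 0, 0, 2, 1, 1, 0, 0]))))))) (BT.node (BT.node (BT.node (BT.node (BT.node (BT.node (BT.node (BT.leaf [1, 0, 0, 0, 2, 2, 0,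 0, 0, 1, 0, 0, 0, 0]) (BT.leaf [1, 0, 0, 0, 1, 2, 2, 0, 0, 0, 0, 0, 0, 0])) (BT.leaf [1, 0, 0, 0, 1, 1, 1, 0, 0, 1, 0, 2, 0, 0])) (BT.node (BT.node (BT.leaf [1, 0, 0, 0, 1, 0, 0, 0, 0, 1, 2, 0, 0, 0]) (BT.leaf [1, 0, 0, 0, 1, 1, 1, 0, 0, 0, 2, 1, 0, 0])) (BT.leaf [1, 0, 0, 0, 2, 1, 2, 0, 0, 1, 0, 2, 0, 0]))) (BT.node (BT.node (BT.node (BT.leaf [0, 0, 0, 0, 1, 0, 2, 0, 0, 2, 2, 0, 0, 0]) (BT.leaf [1, 0, 0, 0, 0, 2, 1, 0, 0, 0, 0, 2, 0, 0])) (BT.leaf [1, 0, 0, 0, 1, 0, 2, 0, 0, 2, 1, 2, 0, 0])) (BT.node (BT.node (BT.leaf [1, 0, 0, 0, 0, 0, 0, 0, 0, 1, 1, 1, 0, 0]) (BT.leaf [1, 0, 0, 0, 0, 0, 1, 0, 0, 0, 1, 2, 0, 0])) (BT.leaf [0, 0, 0, 0, 1, 1, 1, 0, 0, 1, 2, 1, 0, 0])))) (BT.node (BT.node (BT.node (BT.node (BT.leaf [1, 0, 0, 0, 1, 2, 0, 0, 0, 1, 0, 0, 0, 0]) (BT.leaf [0, 0, 0, 0, 0, 1, 0, 0, 0, 1, 1, 2, 0, 0])) (BT.leaf [1, 0, 0, 0, 2, 2, 1, 0, 0, 1, 0, 1, 0,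 0])) (BT.node (BT.node (BT.leaf [1, 0, 0, 0, 0, 2, 0, 0, 0, 0, 0, 2, 0, 0]) (BT.leaf [0, 0, 0, 0, 0, 1, 2, 0, 0, 0, 1, 2, 0, 0])) (BT.leaf [1, 0, 0, 0, 1, 0, 0, 0, 0, 0, 2, 0, 0, 0]))) (BT.node (BT.node (BT.node (BT.leaf [1, 0, 0, 0, 2, 1, 0, 0, 0, 2, 2, 2, 0, 0]) (BT.leaf [1, 0, 0, 0, 0, 0, 0, 0, 0, 2, 2, 1, 0, 0])) (BT.leaf [0, 0, 0, 0, 1, 0, 0, 0, 0, 2, 1, 1, 0, 0])) (BT.node (BT.node (BT.leaf [1, 0, 0, 0, 0, 2, 2, 0, 0, 2, 1, 0, 0, 0]) (BT.leaf [0, 0, 0, 0, 1, 0, 0, 0, 0, 0, 2, 1, 0, 0])) (BT.leaf [1, 0, 0, 0, 2, 2, 1, 0, 0, 2, 1, 1, 0, 0]))))) (BT.node (BT.node (BT.node (BT.node (BT.node (BT.leaf [1, 0, 0, 0, 1, 0, 0, 0, 0, 1, 0, 0, 0, 0]) (BT.leaf [1, 0, 0, 0, 0, 0, 0, 0, 0, 0, 2, 0, 0, 0])) (BT.leaf [0, 0, 0, 0, 0, 1, 2, 0, 0, 0, 1, 0, 0, 0])) (BT.node (BT.node (BT.leaf [1, 0, 0, 0, 1, 1, 2, 0, 0, 1, 1, 0, 0, 0]) (BT.leaf [1, 0, 0, 0, 0, 2, 2, 0, 0,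 0, 0, 1, 0, 0])) (BT.leaf [1, 0, 0, 0, 1, 2, 0, 0, 0, 0, 2, 2, 0, 0]))) (BT.node (BT.node (BT.node (BT.leaf [1, 0, 0, 0, 2, 1, 0, 0, 0, 2, 1, 1, 0, 0]) (BT.leaf [0, 0, 0, 0, 0, 1, 2, 0, 0, 1, 2, 0, 0, 0])) (BT.leaf [0, 0, 0, 0, 1, 0, 0, 0, 0, 2, 2, 1, 0, 0])) (BT.node (BT.node (BT.leaf [0, 0, 0, 0, 1, 2, 0, 0, 0, 0, 0, 1, 0, 0]) (BT.leaf [1, 0, 0, 0, 1, 1, 0, 0, 0, 0, 2, 1, 0, 0])) (BT.leaf [1, 0, 0, 0, 0, 0, 1, 0, 0, 0, 2, 1, 0, 0])))) (BT.node (BT.node (BT.node (BT.node (BT.leaf [0, 0, 0, 0, 0, 1, 2, 0, 0, 2, 0, 0, 0, 0]) (BT.leaf [0, 0, 0, 0, 1, 2, 0, 0, 0, 2, 1, 2, 0, 0])) (BT.leaf [1, 0, 0, 0, 0, 1, 2, 0, 0, 0, 0, 0, 0, 0])) (BT.node (BT.node (BT.leaf [1, 0, 0, 0, 0, 0, 0, 0, 0, 2, 1, 1, 0, 0]) (BT.leaf [1, 0, 0, 0, 0, 0, 2, 0, 0, 0, 2, 2, 0, 0])) (BT.leaf [1, 0, 0, 0, 1, 2, 1, 0, 0, 0, 0, 0, 0, 0]))) (BT.node (BT.node (BT.node (BT.leaf [1, 0, 0, 0, 2,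 0, 2, 0, 0, 1, 0, 2, 0, 0]) (BT.leaf [1, 0, 0, 0, 1, 0, 2, 0, 0, 1, 1, 1, 0, 0])) (BT.leaf [0, 0, 0, 0, 1, 0, 2, 0, 0, 0, 1, 1, 0, 0])) (BT.node (BT.leaf [1, 0, 0, 0, 0, 1, 0, 0, 0, 0, 0, 2, 0, 0]) (BT.leaf [1, 0, 0, 0, 1, 2, 1, 0, 0, 2, 2, 0, 0, 0])))))) (BT.node (BT.node (BT.node (BT.node (BT.node (BT.node (BT.leaf [1, 0, 0, 0, 2, 0, 2, 0, 0, 1, 1, 2, 0, 0]) (BT.leaf [1, 0, 0, 0, 0, 0, 1, 0, 0, 0, 2, 0, 0, 0])) (BT.leaf [1, 0, 0, 0, 2, 1, 0, 0, 0, 0, 0, 0, 0, 0])) (BT.node (BT.node (BT.leaf [1, 0, 0, 0, 1, 0, 0, 0, 0, 1, 1, 0, 0, 0]) (BT.leaf [0, 0, 0, 0, 1, 0, 0, 0, 0, 0, 1, 1, 0, 0])) (BT.leaf [1, 0, 0, 0, 1, 1, 2, 0, 0, 2, 1, 1, 0, 0]))) (BT.node (BT.node (BT.node (BT.leaf [0, 0, 0, 0, 1, 0, 2, 0, 0, 0, 0, 1, 0, 0]) (BT.leaf [0, 0, 0, 0, 0, 1, 0, 0, 0, 0, 1, 1, 0, 0])) (BT.leaf [1, 0, 0, 0, 2, 2, 1, 0, 0, 0, 2, 1, 0, 0])) (BT.node (BT.node (BT.leaf [0,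 0, 0, 0, 0, 0, 1, 0, 0, 1, 2, 2, 0, 0]) (BT.leaf [0, 0, 0, 0, 1, 0, 1, 0, 0, 0, 2, 1, 0, 0])) (BT.leaf [1, 0, 0, 0, 1, 0, 2, 0, 0, 1, 2, 1, 0, 0])))) (BT.node (BT.node (BT.node (BT.node (BT.leaf [1, 0, 0, 0, 0, 2, 0, 0, 0, 2, 0, 1, 0, 0]) (BT.leaf [1, 0, 0, 0, 2, 2, 2, 0, 0, 2, 2, 2, 0, 0])) (BT.leaf [0, 0, 0, 0, 1, 0, 1, 0, 0, 0, 1, 1, 0, 0])) (BT.node (BT.node (BT.leaf [0, 0, 0, 0, 0, 0, 1, 0, 0, 1, 0, 2, 0, 0]) (BT.leaf [1, 0, 0, 0, 0, 1, 1, 0, 0, 0, 0, 2, 0, 0])) (BT.leaf [1, 0, 0, 0, 2, 2, 2, 0, 0, 1, 0, 2, 0, 0]))) (BT.node (BT.node (BT.node (BT.leaf [1, 0, 0, 0, 2, 1, 2, 0, 0, 2, 1, 2, 0, 0]) (BT.leaf [1, 0, 0, 0, 2, 1, 1, 0, 0, 1, 0, 1, 0, 0])) (BT.leaf [1, 0, 0, 0, 2, 0, 1, 0, 0, 0, 2, 0, 0, 0])) (BT.node (BT.node (BT.leaf [1, 0, 0, 0, 0, 1, 2, 0, 0, 1, 1, 1, 0, 0]) (BT.leaf [1, 0, 0, 0, 0, 0, 1, 0, 0, 0, 0, 1, 0, 0])) (BT.leaf [1, 0, 0, 0, 2, 0, 1,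 0, 0, 0, 1, 0, 0, 0]))))) (BT.node (BT.node (BT.node (BT.node (BT.node (BT.leaf [1, 0, 0, 0, 0, 0, 0, 0, 0, 1, 1, 0, 0, 0]) (BT.leaf [0, 0, 0, 0, 1, 0, 1, 0, 0, 1, 1, 0, 0, 0])) (BT.leaf [1, 0, 0, 0, 2, 2, 2, 0, 0, 1, 2, 0, 0, 0])) (BT.node (BT.node (BT.leaf [0, 0, 0, 0, 1, 2, 1, 0, 0, 1, 0, 0, 0, 0]) (BT.leaf [1, 0, 0, 0, 0, 2, 2, 0, 0, 1, 2, 2, 0, 0])) (BT.leaf [1, 0, 0, 0, 2, 1, 2, 0, 0, 0, 2, 2, 0, 0]))) (BT.node (BT.node (BT.node (BT.leaf [1, 0, 0, 0, 1, 1, 0, 0, 0, 2, 0, 0, 0, 0]) (BT.leaf [1, 0, 0, 0, 0, 0, 1, 0, 0, 0, 2, 2, 0, 0])) (BT.leaf [1, 0, 0, 0, 1, 2, 2, 0, 0, 2, 1, 0, 0, 0])) (BT.node (BT.node (BT.leaf [1, 0, 0, 0, 2, 1, 1, 0, 0, 2, 2, 1, 0, 0]) (BT.leaf [0, 0, 0, 0, 1, 0, 2, 0, 0, 1, 1, 2, 0, 0])) (BT.leaf [1, 0, 0, 0, 1, 2, 2, 0, 0, 1, 2, 0, 0, 0])))) (BT.node (BT.node (BT.node (BT.node (BT.leaf [1, 0, 0, 0, 1, 1, 0, 0, 0, 0, 0, 0, 0, 0])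 (BT.leaf [0, 0, 0, 0, 1, 2, 1, 0, 0, 2, 0, 2, 0, 0])) (BT.leaf [1, 0, 0, 0, 0, 2, 2, 0, 0, 0, 0, 0, 0, 0])) (BT.node (BT.node (BT.leaf [0, 0, 0, 0, 1, 2, 1, 0, 0, 2, 2, 1, 0, 0]) (BT.leaf [0, 0, 0, 0, 0, 1, 1, 0, 0, 1, 0, 1, 0, 0])) (BT.leaf [1, 0, 0, 0, 1, 2, 0, 0, 0, 2, 2, 2, 0, 0]))) (BT.node (BT.node (BT.node (BT.leaf [1, 0, 0, 0, 1, 0, 0, 0, 0, 2, 1, 0, 0, 0]) (BT.leaf [0, 0, 0, 0, 0, 0, 1, 0, 0, 1, 1, 1, 0, 0])) (BT.leaf [0, 0, 0, 0, 1, 1, 2, 0, 0, 0, 1, 0, 0, 0])) (BT.node (BT.leaf [0, 0, 0, 0, 0, 1, 0, 0, 0, 1, 1, 1, 0, 0]) (BT.leaf [1, 0, 0, 0, 1, 0, 0, 0, 0, 0, 1, 0, 0, 0])))))))))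

/-- The points. -/
def tb13 (i : ℕ) : List ℕ := tblT13.look i

/-- The permutations of the root elements, as trees. -/
def lgT13 : List (BT ℕ) :=
  [(BT.node (BT.node (BT.node (BT.node (BT.node (BT.node (BT.node (BT.node (BT.node (BT.leaf 0) (BT.leaf 115)) (BT.leaf 317)) (BT.node (BT.node (BT.leaf 64) (BT.leaf 142)) (BT.leaf 251))) (BT.node (BT.node (BT.node (BT.leaf 32) (BT.leaf 244)) (BT.leaf 363)) (BT.node (BT.node (BT.leaf 283) (BT.leaf 374)) (BT.leaf 230)))) (BT.node (BT.node (BT.node (BT.node (BT.leaf 16) (BT.leaf 41)) (BT.leaf 118)) (BT.node (BT.node (BT.leaf 105) (BT.leaf 151)) (BT.leaf 173))) (BT.node (BT.node (BT.node (BT.leaf 214) (BT.leaf 343)) (BT.leaf 373)) (BT.node (BT.node (BT.leaf 168) (BT.leaf 97)) (BT.leaf 170))))) (BT.node (BT.node (BT.node (BT.node (BT.node (BT.leaf 8) (BT.leaf 266)) (BT.leaf 284)) (BT.node (BT.node (BT.leaf 274) (BT.leaf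 92)) (BT.leaf 229))) (BT.node (BT.node (BT.node (BT.leaf 189) (BT.leaf 257)) (BT.leaf 39)) (BT.node (BT.node (BT.leaf 84) (BT.leaf 342)) (BT.leaf 221)))) (BT.node (BT.node (BT.node (BT.node (BT.leaf 102) (BT.leaf 23)) (BT.leaf 249)) (BT.node (BT.node (BT.leaf 40) (BT.leaf 126)) (BT.leaf 178))) (BT.node (BT.node (BT.node (BT.leaf 139) (BT.leaf 160)) (BT.leaf 293)) (BT.node (BT.node (BT.leaf 48) (BT.leaf 345)) (BT.leaf 321)))))) (BT.node (BT.node (BT.node (BT.node (BT.node (BT.node (BT.leaf 4) (BT.leaf 260)) (BT.leaf 132)) (BT.node (BT.node (BT.leaf 10) (BT.leaf 295)) (BT.leaf 364))) (BT.node (BT.node (BT.node (BT.leaf 36) (BT.leaf 72)) (BT.leaf 17)) (BT.node (BT.node (BT.leaf 131) (BT.leaf 375)) (BT.leaf 163)))) (BT.node (BT.node (BT.node (BT.node (BT.leaf 20) (BT.leaf 224)) (BT.leaf 45)) (BT.node (BT.node (BT.leaf 125) (BT.leaf 38)) (BT.leaf 255))) (BT.node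 (BT.node (BT.node (BT.leaf 218) (BT.leaf 157)) (BT.leaf 340)) (BT.node (BT.node (BT.leaf 187) (BT.leaf 208)) (BT.leaf 319))))) (BT.node (BT.node (BT.node (BT.node (BT.node (BT.leaf 12) (BT.leaf 51)) (BT.leaf 87)) (BT.node (BT.node (BT.leaf 201) (BT.leaf 30)) (BT.leaf 99))) (BT.node (BT.node (BT.node (BT.leaf 205) (BT.leaf 240)) (BT.leaf 147)) (BT.node (BT.node (BT.leaf 204) (BT.leaf 329)) (BT.leaf 359)))) (BT.node (BT.node (BT.node (BT.node (BT.leaf 80) (BT.leaf 114)) (BT.leaf 73)) (BT.node (BT.node (BT.leaf 110) (BT.leaf 209)) (BT.leaf 231))) (BT.node (BT.node (BT.node (BT.leaf 60) (BT.leaf 54)) (BT.leaf 248)) (BT.node (BT.leaf 280) (BT.leaf 156))))))) (BT.node (BT.node (BT.node (BT.node (BT.node (BT.node (BT.node (BT.leaf 2) (BT.leaf 258)) (BT.leaf 344)) (BT.node (BT.node (BT.leaf 211) (BT.leaf 116)) (BT.leaf 127))) (BT.node (BT.node (BT.node (BT.leaf 34)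 (BT.leaf 143)) (BT.leaf 220)) (BT.node (BT.node (BT.leaf 33) (BT.leaf 238)) (BT.leaf 301)))) (BT.node (BT.node (BT.node (BT.node (BT.leaf 25) (BT.leaf 292)) (BT.leaf 355)) (BT.node (BT.node (BT.leaf 179) (BT.leaf 232)) (BT.leaf 352))) (BT.node (BT.node (BT.node (BT.leaf 50) (BT.leaf 222)) (BT.leaf 107)) (BT.node (BT.node (BT.leaf 136) (BT.leaf 365)) (BT.leaf 369))))) (BT.node (BT.node (BT.node (BT.node (BT.node (BT.leaf 67) (BT.leaf 69)) (BT.leaf 198)) (BT.node (BT.node (BT.leaf 74) (BT.leaf 203)) (BT.leaf 308))) (BT.node (BT.node (BT.node (BT.leaf 90) (BT.leaf 234)) (BT.leaf 300)) (BT.node (BT.node (BT.leaf 103) (BT.leaf 171)) (BT.leaf 318)))) (BT.node (BT.node (BT.node (BT.node (BT.leaf 26) (BT.leaf 367)) (BT.leaf 241)) (BT.node (BT.node (BT.leaf 63) (BT.leaf 356)) (BT.leaf 7))) (BT.node (BT.node (BT.node (BT.leaf 213) (BT.leaf 270)) (BT.leaf 331)) (BT.node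 (BT.leaf 18) (BT.leaf 166)))))) (BT.node (BT.node (BT.node (BT.node (BT.node (BT.node (BT.leaf 6) (BT.leaf 76)) (BT.leaf 348)) (BT.node (BT.node (BT.leaf 70) (BT.leaf 119)) (BT.leaf 349))) (BT.node (BT.node (BT.node (BT.leaf 180) (BT.leaf 192)) (BT.leaf 307)) (BT.node (BT.node (BT.leaf 94) (BT.leaf 336)) (BT.leaf 276)))) (BT.node (BT.node (BT.node (BT.node (BT.leaf 22) (BT.leaf 225)) (BT.leaf 332)) (BT.node (BT.node (BT.leaf 86) (BT.leaf 377)) (BT.leaf 120))) (BT.node (BT.node (BT.node (BT.leaf 227) (BT.leaf 128)) (BT.leaf 354)) (BT.node (BT.node (BT.leaf 279) (BT.leaf 210)) (BT.leaf 233))))) (BT.node (BT.node (BT.node (BT.node (BT.node (BT.leaf 14) (BT.leaf 181)) (BT.leaf 289)) (BT.node (BT.node (BT.leaf 164) (BT.leaf 278)) (BT.leaf 82))) (BT.node (BT.node (BT.node (BT.leaf 212) (BT.leaf 302)) (BT.leaf 174)) (BT.node (BT.node (BT.leaf 328) (BT.leaf 58)) (BT.leaf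 182)))) (BT.node (BT.node (BT.node (BT.node (BT.leaf 150) (BT.leaf 376)) (BT.leaf 158)) (BT.node (BT.node (BT.leaf 24) (BT.leaf 154)) (BT.leaf 197))) (BT.node (BT.node (BT.node (BT.leaf 62) (BT.leaf 298)) (BT.leaf 169)) (BT.node (BT.leaf 130) (BT.leaf 254)))))))) (BT.node (BT.node (BT.node (BT.node (BT.node (BT.node (BT.node (BT.node (BT.leaf 1) (BT.leaf 193)) (BT.leaf 123)) (BT.node (BT.node (BT.leaf 65) (BT.leaf 188)) (BT.leaf 296))) (BT.node (BT.node (BT.node (BT.leaf 161) (BT.leaf 320)) (BT.leaf 98)) (BT.node (BT.node (BT.leaf 217) (BT.leaf 152)) (BT.leaf 334)))) (BT.node (BT.node (BT.node (BT.node (BT.leaf 78) (BT.leaf 194)) (BT.leaf 145)) (BT.node (BT.node (BT.leaf 81) (BT.leaf 186)) (BT.leaf 134))) (BT.node (BT.node (BT.node (BT.leaf 100) (BT.leaf 141)) (BT.leaf 237)) (BT.node (BT.node (BT.leaf 106) (BT.leaf 185)) (BT.leaf 350))))) (BT.node (BT.node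 (BT.node (BT.node (BT.node (BT.leaf 9) (BT.leaf 96)) (BT.leaf 137)) (BT.node (BT.node (BT.leaf 252) (BT.leaf 196)) (BT.leaf 262))) (BT.node (BT.node (BT.node (BT.leaf 89) (BT.leaf 347)) (BT.leaf 299)) (BT.node (BT.node (BT.leaf 28) (BT.leaf 146)) (BT.leaf 247)))) (BT.node (BT.node (BT.node (BT.node (BT.leaf 122) (BT.leaf 57)) (BT.leaf 153)) (BT.node (BT.node (BT.leaf 272) (BT.leaf 286)) (BT.leaf 368))) (BT.node (BT.node (BT.node (BT.leaf 243) (BT.leaf 325)) (BT.leaf 242)) (BT.node (BT.node (BT.leaf 121) (BT.leaf 360)) (BT.leaf 353)))))) (BT.node (BT.node (BT.node (BT.node (BT.node (BT.node (BT.leaf 15) (BT.leaf 263)) (BT.leaf 21)) (BT.node (BT.node (BT.leaf 264) (BT.leaf 371)) (BT.leaf 306))) (BT.node (BT.node (BT.node (BT.leaf 101) (BT.leaf 341)) (BT.leaf 165)) (BT.node (BT.node (BT.leaf 77) (BT.leaf 200)) (BT.leaf 357)))) (BT.node (BT.node (BT.node (BT.node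 (BT.leaf 75) (BT.leaf 140)) (BT.leaf 269)) (BT.node (BT.node (BT.leaf 271) (BT.leaf 184)) (BT.leaf 366))) (BT.node (BT.node (BT.node (BT.leaf 226) (BT.leaf 330)) (BT.leaf 314)) (BT.node (BT.node (BT.leaf 111) (BT.leaf 303)) (BT.leaf 117))))) (BT.node (BT.node (BT.node (BT.node (BT.node (BT.leaf 13) (BT.leaf 199)) (BT.leaf 351)) (BT.node (BT.node (BT.leaf 37) (BT.leaf 370)) (BT.leaf 335))) (BT.node (BT.node (BT.node (BT.leaf 93) (BT.leaf 53)) (BT.leaf 372)) (BT.node (BT.node (BT.leaf 109) (BT.leaf 333)) (BT.leaf 287)))) (BT.node (BT.node (BT.node (BT.node (BT.leaf 29) (BT.leaf 285)) (BT.leaf 202)) (BT.node (BT.node (BT.leaf 148) (BT.leaf 138)) (BT.leaf 338))) (BT.node (BT.node (BT.node (BT.leaf 61) (BT.leaf 310)) (BT.leaf 88)) (BT.node (BT.leaf 104) (BT.leaf 43))))))) (BT.node (BT.node (BT.node (BT.node (BT.node (BT.node (BT.node (BT.leaf 3) (BT.leaf 259)) (BT.leaf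 49)) (BT.node (BT.node (BT.leaf 68) (BT.leaf 235)) (BT.leaf 215))) (BT.node (BT.node (BT.node (BT.leaf 85) (BT.leaf 304)) (BT.leaf 55)) (BT.node (BT.node (BT.leaf 108) (BT.leaf 361)) (BT.leaf 316)))) (BT.node (BT.node (BT.node (BT.node (BT.leaf 19) (BT.leaf 362)) (BT.leaf 311)) (BT.node (BT.node (BT.leaf 129) (BT.leaf 236)) (BT.leaf 267))) (BT.node (BT.node (BT.node (BT.leaf 223) (BT.leaf 250)) (BT.leaf 206)) (BT.node (BT.node (BT.leaf 175) (BT.leaf 313)) (BT.leaf 281))))) (BT.node (BT.node (BT.node (BT.node (BT.node (BT.leaf 11) (BT.leaf 66)) (BT.leaf 191)) (BT.node (BT.node (BT.leaf 133) (BT.leaf 337)) (BT.leaf 309))) (BT.node (BT.node (BT.node (BT.leaf 91) (BT.leaf 190)) (BT.leaf 275)) (BT.node (BT.node (BT.leaf 216) (BT.leaf 312)) (BT.leaf 167)))) (BT.node (BT.node (BT.node (BT.node (BT.leaf 27) (BT.leaf 265)) (BT.leaf 155)) (BT.node (BT.node (BT.leaf 253)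 (BT.leaf 207)) (BT.leaf 219))) (BT.node (BT.node (BT.node (BT.leaf 195) (BT.leaf 326)) (BT.leaf 322)) (BT.node (BT.leaf 83) (BT.leaf 294)))))) (BT.node (BT.node (BT.node (BT.node (BT.node (BT.node (BT.leaf 52) (BT.leaf 183)) (BT.leaf 135)) (BT.node (BT.node (BT.leaf 5) (BT.leaf 324)) (BT.leaf 149))) (BT.node (BT.node (BT.node (BT.leaf 112) (BT.leaf 327)) (BT.leaf 323)) (BT.node (BT.node (BT.leaf 113) (BT.leaf 339)) (BT.leaf 162)))) (BT.node (BT.node (BT.node (BT.node (BT.leaf 124) (BT.leaf 144)) (BT.leaf 358)) (BT.node (BT.node (BT.leaf 277) (BT.leaf 291)) (BT.leaf 59))) (BT.node (BT.node (BT.node (BT.leaf 228) (BT.leaf 172)) (BT.leaf 261)) (BT.node (BT.node (BT.leaf 315) (BT.leaf 346)) (BT.leaf 246))))) (BT.node (BT.node (BT.node (BT.node (BT.node (BT.leaf 71) (BT.leaf 35)) (BT.leaf 239)) (BT.node (BT.node (BT.leaf 79) (BT.leaf 44)) (BT.leaf 297))) (BT.node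 (BT.node (BT.node (BT.leaf 47) (BT.leaf 176)) (BT.leaf 256)) (BT.node (BT.node (BT.leaf 245) (BT.leaf 95)) (BT.leaf 290)))) (BT.node (BT.node (BT.node (BT.node (BT.leaf 31) (BT.leaf 177)) (BT.leaf 159)) (BT.node (BT.node (BT.leaf 282) (BT.leaf 305)) (BT.leaf 268))) (BT.node (BT.node (BT.node (BT.leaf 42) (BT.leaf 288)) (BT.leaf 56)) (BT.node (BT.leaf 273) (BT.leaf 46))))))))),
  (BT.node (BT.node (BT.node (BT.node (BT.node (BT.node (BT.node (BT.node (BT.node (BT.leaf 1) (BT.leaf 175)) (BT.leaf 152)) (BT.node (BT.node (BT.leaf 64) (BT.leaf 289)) (BT.leaf 251))) (BT.node (BT.node (BT.node (BT.leaf 32) (BT.leaf 194)) (BT.leaf 333)) (BT.node (BT.node (BT.leaf 221) (BT.leaf 352)) (BT.leaf 118)))) (BT.node (BT.node (BT.node (BT.node (BT.leaf 29) (BT.leaf 41)) (BT.leaf 268)) (BT.node (BT.node (BT.leaf 105) (BT.leaf 295)) (BT.leaf 236))) (BT.node (BT.node (BT.node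 (BT.leaf 214) (BT.leaf 360)) (BT.leaf 207)) (BT.node (BT.node (BT.leaf 242) (BT.leaf 181)) (BT.leaf 222))))) (BT.node (BT.node (BT.node (BT.node (BT.node (BT.leaf 16) (BT.leaf 69)) (BT.leaf 284)) (BT.node (BT.node (BT.leaf 7) (BT.leaf 357)) (BT.leaf 44))) (BT.node (BT.node (BT.node (BT.leaf 88) (BT.leaf 193)) (BT.leaf 369)) (BT.node (BT.node (BT.leaf 318) (BT.leaf 129)) (BT.leaf 316)))) (BT.node (BT.node (BT.node (BT.node (BT.leaf 128) (BT.leaf 262)) (BT.leaf 24)) (BT.node (BT.node (BT.leaf 189) (BT.leaf 186)) (BT.leaf 168))) (BT.node (BT.node (BT.node (BT.leaf 56) (BT.leaf 365)) (BT.leaf 99)) (BT.node (BT.node (BT.leaf 48) (BT.leaf 300)) (BT.leaf 101)))))) (BT.node (BT.node (BT.node (BT.node (BT.node (BT.node (BT.leaf 14) (BT.leaf 260)) (BT.leaf 20)) (BT.node (BT.node (BT.leaf 67) (BT.leaf 322)) (BT.leaf 196))) (BT.node (BT.node (BT.node (BT.leaf 36) (BT.leaf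 218)) (BT.leaf 292)) (BT.node (BT.node (BT.leaf 59) (BT.leaf 130)) (BT.leaf 368)))) (BT.node (BT.node (BT.node (BT.node (BT.leaf 74) (BT.leaf 144)) (BT.leaf 45)) (BT.node (BT.node (BT.leaf 298) (BT.leaf 161)) (BT.leaf 212))) (BT.node (BT.node (BT.node (BT.leaf 78) (BT.leaf 355)) (BT.leaf 33)) (BT.node (BT.node (BT.leaf 336) (BT.leaf 339)) (BT.leaf 127))))) (BT.node (BT.node (BT.node (BT.node (BT.node (BT.leaf 26) (BT.leaf 276)) (BT.leaf 321)) (BT.node (BT.node (BT.leaf 134) (BT.leaf 206)) (BT.leaf 119))) (BT.node (BT.node (BT.node (BT.leaf 92) (BT.leaf 306)) (BT.leaf 104)) (BT.node (BT.node (BT.leaf 326) (BT.leaf 364)) (BT.leaf 325)))) (BT.node (BT.node (BT.node (BT.node (BT.leaf 80) (BT.leaf 114)) (BT.leaf 287)) (BT.node (BT.node (BT.leaf 200) (BT.leaf 124)) (BT.leaf 340))) (BT.node (BT.node (BT.node (BT.leaf 61) (BT.leaf 265)) (BT.leaf 37)) (BT.node (BT.leaf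 201) (BT.leaf 237))))))) (BT.node (BT.node (BT.node (BT.node (BT.node (BT.node (BT.node (BT.leaf 12) (BT.leaf 258)) (BT.leaf 337)) (BT.node (BT.node (BT.leaf 66) (BT.leaf 358)) (BT.leaf 334))) (BT.node (BT.node (BT.node (BT.leaf 27) (BT.leaf 239)) (BT.leaf 180)) (BT.node (BT.node (BT.leaf 231) (BT.leaf 157)) (BT.leaf 282)))) (BT.node (BT.node (BT.node (BT.node (BT.leaf 100) (BT.leaf 52)) (BT.leaf 238)) (BT.node (BT.node (BT.leaf 106) (BT.leaf 227)) (BT.leaf 210))) (BT.node (BT.node (BT.node (BT.leaf 50) (BT.leaf 376)) (BT.leaf 39)) (BT.node (BT.node (BT.leaf 136) (BT.leaf 323)) (BT.leaf 107))))) (BT.node (BT.node (BT.node (BT.node (BT.node (BT.leaf 68) (BT.leaf 264)) (BT.leaf 111)) (BT.node (BT.node (BT.leaf 132) (BT.leaf 176)) (BT.leaf 146))) (BT.node (BT.node (BT.node (BT.leaf 63) (BT.leaf 147)) (BT.leaf 197)) (BT.node (BT.node (BT.leaf 30) (BT.leaf 226))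 (BT.leaf 311)))) (BT.node (BT.node (BT.node (BT.node (BT.leaf 2) (BT.leaf 362)) (BT.leaf 154)) (BT.node (BT.node (BT.leaf 42) (BT.leaf 126)) (BT.leaf 164))) (BT.node (BT.node (BT.node (BT.leaf 58) (BT.leaf 163)) (BT.leaf 375)) (BT.node (BT.leaf 49) (BT.leaf 349)))))) (BT.node (BT.node (BT.node (BT.node (BT.node (BT.node (BT.leaf 47) (BT.leaf 209)) (BT.leaf 23)) (BT.node (BT.node (BT.leaf 4) (BT.leaf 293)) (BT.leaf 245))) (BT.node (BT.node (BT.node (BT.leaf 98) (BT.leaf 192)) (BT.leaf 138)) (BT.node (BT.node (BT.leaf 317) (BT.leaf 324)) (BT.leaf 279)))) (BT.node (BT.node (BT.node (BT.node (BT.leaf 6) (BT.leaf 244)) (BT.leaf 179)) (BT.node (BT.node (BT.leaf 86) (BT.leaf 123)) (BT.leaf 120))) (BT.node (BT.node (BT.node (BT.leaf 96) (BT.leaf 353)) (BT.leaf 308)) (BT.node (BT.node (BT.leaf 51) (BT.leaf 374)) (BT.leaf 246))))) (BT.node (BT.node (BT.node (BT.node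 (BT.node (BT.leaf 70) (BT.leaf 55)) (BT.leaf 320)) (BT.node (BT.node (BT.leaf 274) (BT.leaf 288)) (BT.leaf 113))) (BT.node (BT.node (BT.node (BT.leaf 46) (BT.leaf 302)) (BT.leaf 174)) (BT.node (BT.node (BT.leaf 229) (BT.leaf 366)) (BT.leaf 202)))) (BT.node (BT.node (BT.node (BT.node (BT.leaf 82) (BT.leaf 170)) (BT.leaf 158)) (BT.node (BT.node (BT.leaf 310) (BT.leaf 350)) (BT.leaf 345))) (BT.node (BT.node (BT.node (BT.leaf 62) (BT.leaf 172)) (BT.leaf 299)) (BT.node (BT.leaf 331) (BT.leaf 254)))))))) (BT.node (BT.node (BT.node (BT.node (BT.node (BT.node (BT.node (BT.node (BT.leaf 11) (BT.leaf 296)) (BT.leaf 304)) (BT.node (BT.node (BT.leaf 65) (BT.leaf 77)) (BT.leaf 257))) (BT.node (BT.node (BT.node (BT.leaf 162) (BT.leaf 142)) (BT.leaf 220)) (BT.node (BT.node (BT.leaf 314) (BT.leaf 94)) (BT.leaf 319)))) (BT.node (BT.node (BT.node (BT.node (BT.leaf 72) (BT.leaf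 225)) (BT.leaf 145)) (BT.node (BT.node (BT.leaf 60) (BT.leaf 356)) (BT.leaf 280))) (BT.node (BT.node (BT.node (BT.leaf 215) (BT.leaf 73)) (BT.leaf 305)) (BT.node (BT.node (BT.leaf 332) (BT.leaf 216)) (BT.leaf 241))))) (BT.node (BT.node (BT.node (BT.node (BT.node (BT.leaf 9) (BT.leaf 232)) (BT.leaf 137)) (BT.node (BT.node (BT.leaf 177) (BT.leaf 329)) (BT.leaf 348))) (BT.node (BT.node (BT.node (BT.leaf 89) (BT.leaf 203)) (BT.leaf 190)) (BT.node (BT.node (BT.leaf 28) (BT.leaf 354)) (BT.leaf 233)))) (BT.node (BT.node (BT.node (BT.node (BT.leaf 131) (BT.leaf 43)) (BT.leaf 153)) (BT.node (BT.node (BT.leaf 272) (BT.leaf 240)) (BT.leaf 270))) (BT.node (BT.node (BT.node (BT.leaf 91) (BT.leaf 372)) (BT.leaf 178)) (BT.node (BT.node (BT.leaf 121) (BT.leaf 83)) (BT.leaf 102)))))) (BT.node (BT.node (BT.node (BT.node (BT.node (BT.node (BT.leaf 15) (BT.leaf 261)) (BT.leaf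 21)) (BT.node (BT.node (BT.leaf 266) (BT.leaf 208)) (BT.leaf 286))) (BT.node (BT.node (BT.node (BT.leaf 87) (BT.leaf 108)) (BT.leaf 165)) (BT.node (BT.node (BT.leaf 277) (BT.leaf 335)) (BT.leaf 205)))) (BT.node (BT.node (BT.node (BT.node (BT.leaf 75) (BT.leaf 248)) (BT.leaf 57)) (BT.node (BT.node (BT.leaf 271) (BT.leaf 204)) (BT.leaf 213))) (BT.node (BT.node (BT.node (BT.leaf 95) (BT.leaf 303)) (BT.leaf 228)) (BT.node (BT.node (BT.leaf 250) (BT.leaf 297)) (BT.leaf 307))))) (BT.node (BT.node (BT.node (BT.node (BT.node (BT.leaf 19) (BT.leaf 243)) (BT.leaf 252)) (BT.node (BT.node (BT.leaf 140) (BT.leaf 167)) (BT.leaf 110))) (BT.node (BT.node (BT.node (BT.leaf 93) (BT.leaf 367)) (BT.leaf 359)) (BT.node (BT.node (BT.leaf 109) (BT.leaf 235)) (BT.leaf 141)))) (BT.node (BT.node (BT.node (BT.node (BT.leaf 8) (BT.leaf 285)) (BT.leaf 361)) (BT.node (BT.node (BT.leaf 148)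 (BT.leaf 117)) (BT.leaf 54))) (BT.node (BT.node (BT.node (BT.leaf 81) (BT.leaf 249)) (BT.leaf 40)) (BT.node (BT.leaf 234) (BT.leaf 269))))))) (BT.node (BT.node (BT.node (BT.node (BT.node (BT.node (BT.node (BT.leaf 13) (BT.leaf 259)) (BT.leaf 195)) (BT.node (BT.node (BT.leaf 10) (BT.leaf 363)) (BT.leaf 25))) (BT.node (BT.node (BT.node (BT.leaf 85) (BT.leaf 377)) (BT.leaf 97)) (BT.node (BT.node (BT.leaf 315) (BT.leaf 182)) (BT.leaf 283)))) (BT.node (BT.node (BT.node (BT.node (BT.leaf 3) (BT.leaf 53)) (BT.leaf 84)) (BT.node (BT.node (BT.leaf 291) (BT.leaf 313)) (BT.leaf 211))) (BT.node (BT.node (BT.node (BT.leaf 224) (BT.leaf 198)) (BT.leaf 103)) (BT.node (BT.node (BT.leaf 256) (BT.leaf 173)) (BT.leaf 253))))) (BT.node (BT.node (BT.node (BT.node (BT.node (BT.leaf 0) (BT.leaf 267)) (BT.leaf 139)) (BT.node (BT.node (BT.leaf 133) (BT.leaf 346)) (BT.leaf 373))) (BT.node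 (BT.node (BT.node (BT.leaf 199) (BT.leaf 169)) (BT.leaf 301)) (BT.node (BT.node (BT.leaf 112) (BT.leaf 370)) (BT.leaf 312)))) (BT.node (BT.node (BT.node (BT.node (BT.leaf 79) (BT.leaf 338)) (BT.leaf 155)) (BT.node (BT.node (BT.leaf 149) (BT.leaf 309)) (BT.leaf 219))) (BT.node (BT.node (BT.node (BT.leaf 18) (BT.leaf 184)) (BT.leaf 151)) (BT.node (BT.leaf 343) (BT.leaf 294)))))) (BT.node (BT.node (BT.node (BT.node (BT.node (BT.node (BT.leaf 17) (BT.leaf 263)) (BT.leaf 135)) (BT.node (BT.node (BT.leaf 5) (BT.leaf 187)) (BT.leaf 281))) (BT.node (BT.node (BT.node (BT.leaf 185) (BT.leaf 116)) (BT.leaf 160)) (BT.node (BT.node (BT.leaf 150) (BT.leaf 371)) (BT.leaf 38)))) (BT.node (BT.node (BT.node (BT.node (BT.leaf 76) (BT.leaf 223)) (BT.leaf 327)) (BT.node (BT.node (BT.leaf 188) (BT.leaf 342)) (BT.leaf 122))) (BT.node (BT.node (BT.node (BT.leaf 217) (BT.leaf 125))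 (BT.leaf 183)) (BT.node (BT.node (BT.leaf 341) (BT.leaf 344)) (BT.leaf 247))))) (BT.node (BT.node (BT.node (BT.node (BT.node (BT.leaf 71) (BT.leaf 35)) (BT.leaf 290)) (BT.node (BT.node (BT.leaf 34) (BT.leaf 328)) (BT.leaf 330))) (BT.node (BT.node (BT.node (BT.leaf 22) (BT.leaf 347)) (BT.leaf 115)) (BT.node (BT.node (BT.leaf 166) (BT.leaf 171)) (BT.leaf 143)))) (BT.node (BT.node (BT.node (BT.node (BT.leaf 31) (BT.leaf 351)) (BT.leaf 159)) (BT.node (BT.node (BT.leaf 275) (BT.leaf 156)) (BT.leaf 230))) (BT.node (BT.node (BT.node (BT.leaf 90) (BT.leaf 273)) (BT.leaf 191)) (BT.node (BT.leaf 278) (BT.leaf 255))))))))),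
  (BT.node (BT.node (BT.node (BT.node (BT.node (BT.node (BT.node (BT.node (BT.node (BT.leaf 2) (BT.leaf 289)) (BT.leaf 177)) (BT.node (BT.node (BT.leaf 62) (BT.leaf 42)) (BT.leaf 120))) (BT.node (BT.node (BT.node (BT.leaf 158) (BT.leaf 99)) (BT.leaf 354)) (BT.node (BT.node (BT.leaf 38) (BT.leaf 66)) (BT.leaf 319)))) (BT.node (BT.node (BT.node (BT.node (BT.leaf 61) (BT.leaf 284)) (BT.leaf 127)) (BT.node (BT.node (BT.leaf 71) (BT.leaf 197)) (BT.leaf 363))) (BT.node (BT.node (BT.node (BT.leaf 93) (BT.leaf 39)) (BT.leaf 358)) (BT.node (BT.node (BT.leaf 331) (BT.leaf 54)) (BT.leaf 330))))) (BT.node (BT.node (BT.node (BT.node (BT.node (BT.leaf 60) (BT.leaf 290)) (BT.leaf 85)) (BT.node (BT.node (BT.leaf 275) (BT.leaf 103)) (BT.leaf 332))) (BT.node (BT.node (BT.node (BT.leaf 190) (BT.leaf 88)) (BT.leaf 337)) (BT.node (BT.node (BT.leaf 102) (BT.leaf 185)) (BT.leaf 161))))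 (BT.node (BT.node (BT.node (BT.node (BT.leaf 73) (BT.leaf 25)) (BT.leaf 305)) (BT.node (BT.node (BT.leaf 299) (BT.leaf 129)) (BT.leaf 130))) (BT.node (BT.node (BT.node (BT.leaf 241) (BT.leaf 182)) (BT.leaf 223)) (BT.node (BT.node (BT.leaf 45) (BT.leaf 347)) (BT.leaf 348)))))) (BT.node (BT.node (BT.node (BT.node (BT.node (BT.node (BT.leaf 20) (BT.leaf 155)) (BT.leaf 79)) (BT.node (BT.node (BT.leaf 266) (BT.leaf 345)) (BT.leaf 56))) (BT.node (BT.node (BT.node (BT.leaf 174) (BT.leaf 171)) (BT.leaf 367)) (BT.node (BT.node (BT.leaf 277) (BT.leaf 377)) (BT.leaf 221)))) (BT.node (BT.node (BT.node (BT.node (BT.leaf 34) (BT.leaf 244)) (BT.leaf 294)) (BT.node (BT.node (BT.leaf 94) (BT.leaf 270)) (BT.leaf 366))) (BT.node (BT.node (BT.node (BT.leaf 226) (BT.leaf 359)) (BT.leaf 314)) (BT.node (BT.node (BT.leaf 170) (BT.leaf 160)) (BT.leaf 108))))) (BT.node (BT.node (BT.node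 (BT.node (BT.node (BT.leaf 3) (BT.leaf 278)) (BT.leaf 262)) (BT.node (BT.node (BT.leaf 49) (BT.leaf 43)) (BT.leaf 224))) (BT.node (BT.node (BT.node (BT.leaf 206) (BT.leaf 309)) (BT.leaf 249)) (BT.node (BT.node (BT.leaf 276) (BT.leaf 139)) (BT.leaf 370)))) (BT.node (BT.node (BT.node (BT.node (BT.leaf 15) (BT.leaf 271)) (BT.leaf 84)) (BT.node (BT.node (BT.leaf 113) (BT.leaf 59)) (BT.leaf 217))) (BT.node (BT.node (BT.node (BT.leaf 22) (BT.leaf 220)) (BT.leaf 134)) (BT.node (BT.leaf 18) (BT.leaf 104))))))) (BT.node (BT.node (BT.node (BT.node (BT.node (BT.node (BT.node (BT.leaf 19) (BT.leaf 254)) (BT.leaf 83)) (BT.node (BT.node (BT.leaf 263) (BT.leaf 240)) (BT.leaf 315))) (BT.node (BT.node (BT.node (BT.leaf 4) (BT.leaf 67)) (BT.leaf 97)) (BT.node (BT.node (BT.leaf 228) (BT.leaf 372)) (BT.leaf 307)))) (BT.node (BT.node (BT.node (BT.node (BT.leaf 101) (BT.leaf 362))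 (BT.leaf 325)) (BT.node (BT.node (BT.leaf 149) (BT.leaf 33)) (BT.leaf 267))) (BT.node (BT.node (BT.node (BT.leaf 32) (BT.leaf 303)) (BT.leaf 344)) (BT.node (BT.node (BT.leaf 35) (BT.leaf 202)) (BT.leaf 346))))) (BT.node (BT.node (BT.node (BT.node (BT.node (BT.leaf 69) (BT.leaf 143)) (BT.leaf 17)) (BT.node (BT.node (BT.leaf 27) (BT.leaf 322)) (BT.leaf 236))) (BT.node (BT.node (BT.node (BT.leaf 115) (BT.leaf 310)) (BT.leaf 203)) (BT.node (BT.node (BT.leaf 57) (BT.leaf 245)) (BT.leaf 128)))) (BT.node (BT.node (BT.node (BT.node (BT.leaf 13) (BT.leaf 198)) (BT.leaf 329)) (BT.node (BT.node (BT.leaf 175) (BT.leaf 342)) (BT.leaf 301))) (BT.node (BT.node (BT.node (BT.leaf 246) (BT.leaf 283)) (BT.leaf 304)) (BT.node (BT.leaf 37) (BT.leaf 218)))))) (BT.node (BT.node (BT.node (BT.node (BT.node (BT.node (BT.leaf 16) (BT.leaf 131)) (BT.leaf 215)) (BT.node (BT.node (BT.leaf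 132) (BT.leaf 144)) (BT.leaf 78))) (BT.node (BT.node (BT.node (BT.leaf 181) (BT.leaf 214)) (BT.leaf 7)) (BT.node (BT.node (BT.leaf 252) (BT.leaf 222)) (BT.leaf 288)))) (BT.node (BT.node (BT.node (BT.node (BT.leaf 8) (BT.leaf 293)) (BT.leaf 253)) (BT.node (BT.node (BT.leaf 302) (BT.leaf 242)) (BT.leaf 148))) (BT.node (BT.node (BT.node (BT.leaf 231) (BT.leaf 287)) (BT.leaf 173)) (BT.node (BT.node (BT.leaf 273) (BT.leaf 211)) (BT.leaf 255))))) (BT.node (BT.node (BT.node (BT.node (BT.node (BT.leaf 74) (BT.leaf 265)) (BT.leaf 90)) (BT.node (BT.node (BT.leaf 282) (BT.leaf 184)) (BT.leaf 199))) (BT.node (BT.node (BT.node (BT.leaf 213) (BT.leaf 165)) (BT.leaf 285)) (BT.node (BT.node (BT.leaf 106) (BT.leaf 247)) (BT.leaf 208)))) (BT.node (BT.node (BT.node (BT.node (BT.leaf 91) (BT.leaf 297)) (BT.leaf 50)) (BT.node (BT.node (BT.leaf 156) (BT.leaf 364)) (BT.leaf 176)))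 (BT.node (BT.node (BT.node (BT.leaf 9) (BT.leaf 317)) (BT.leaf 257)) (BT.node (BT.leaf 123) (BT.leaf 65)))))))) (BT.node (BT.node (BT.node (BT.node (BT.node (BT.node (BT.node (BT.node (BT.leaf 12) (BT.leaf 40)) (BT.leaf 178)) (BT.node (BT.node (BT.leaf 258) (BT.leaf 209)) (BT.leaf 189))) (BT.node (BT.node (BT.node (BT.leaf 163) (BT.leaf 63)) (BT.leaf 55)) (BT.node (BT.node (BT.leaf 227) (BT.leaf 351)) (BT.leaf 341)))) (BT.node (BT.node (BT.node (BT.node (BT.leaf 95) (BT.leaf 119)) (BT.leaf 260)) (BT.node (BT.node (BT.leaf 47) (BT.leaf 291)) (BT.leaf 195))) (BT.node (BT.node (BT.node (BT.leaf 87) (BT.leaf 311)) (BT.leaf 234)) (BT.node (BT.node (BT.leaf 281) (BT.leaf 356)) (BT.leaf 196))))) (BT.node (BT.node (BT.node (BT.node (BT.node (BT.leaf 64) (BT.leaf 340)) (BT.leaf 219)) (BT.node (BT.node (BT.leaf 125) (BT.leaf 191)) (BT.leaf 100))) (BT.node (BT.node (BT.node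 (BT.leaf 114) (BT.leaf 295)) (BT.leaf 193)) (BT.node (BT.node (BT.leaf 5) (BT.leaf 313)) (BT.leaf 46)))) (BT.node (BT.node (BT.node (BT.node (BT.leaf 77) (BT.leaf 92)) (BT.leaf 159)) (BT.node (BT.node (BT.leaf 136) (BT.leaf 207)) (BT.leaf 316))) (BT.node (BT.node (BT.node (BT.leaf 110) (BT.leaf 167)) (BT.leaf 375)) (BT.node (BT.node (BT.leaf 31) (BT.leaf 369)) (BT.leaf 141)))))) (BT.node (BT.node (BT.node (BT.node (BT.node (BT.node (BT.leaf 21) (BT.leaf 210)) (BT.leaf 80)) (BT.node (BT.node (BT.leaf 239) (BT.leaf 323)) (BT.leaf 373))) (BT.node (BT.node (BT.node (BT.leaf 23) (BT.leaf 268)) (BT.leaf 86)) (BT.node (BT.node (BT.leaf 124) (BT.leaf 150)) (BT.leaf 30)))) (BT.node (BT.node (BT.node (BT.node (BT.leaf 105) (BT.leaf 201)) (BT.leaf 205)) (BT.node (BT.node (BT.leaf 89) (BT.leaf 51)) (BT.leaf 233))) (BT.node (BT.node (BT.node (BT.leaf 166) (BT.leaf 187))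 (BT.leaf 96)) (BT.node (BT.node (BT.leaf 292) (BT.leaf 336)) (BT.leaf 274))))) (BT.node (BT.node (BT.node (BT.node (BT.node (BT.leaf 11) (BT.leaf 335)) (BT.leaf 172)) (BT.node (BT.node (BT.leaf 280) (BT.leaf 157)) (BT.leaf 82))) (BT.node (BT.node (BT.node (BT.leaf 192) (BT.leaf 250)) (BT.leaf 312)) (BT.node (BT.node (BT.leaf 137) (BT.leaf 308)) (BT.leaf 318)))) (BT.node (BT.node (BT.node (BT.node (BT.leaf 81) (BT.leaf 36)) (BT.leaf 339)) (BT.node (BT.node (BT.leaf 251) (BT.leaf 164)) (BT.leaf 98))) (BT.node (BT.node (BT.node (BT.leaf 6) (BT.leaf 237)) (BT.leaf 169)) (BT.node (BT.leaf 24) (BT.leaf 357))))))) (BT.node (BT.node (BT.node (BT.node (BT.node (BT.node (BT.node (BT.leaf 1) (BT.leaf 153)) (BT.leaf 140)) (BT.node (BT.node (BT.leaf 264) (BT.leaf 146)) (BT.leaf 321))) (BT.node (BT.node (BT.node (BT.leaf 41) (BT.leaf 168)) (BT.leaf 338)) (BT.node (BT.node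 (BT.leaf 230) (BT.leaf 371)) (BT.leaf 162)))) (BT.node (BT.node (BT.node (BT.node (BT.leaf 0) (BT.leaf 111)) (BT.leaf 353)) (BT.node (BT.node (BT.leaf 216) (BT.leaf 333)) (BT.leaf 183))) (BT.node (BT.node (BT.node (BT.leaf 225) (BT.leaf 52)) (BT.leaf 269)) (BT.node (BT.node (BT.leaf 320) (BT.leaf 235)) (BT.leaf 328))))) (BT.node (BT.node (BT.node (BT.node (BT.node (BT.leaf 26) (BT.leaf 261)) (BT.leaf 350)) (BT.node (BT.node (BT.leaf 28) (BT.leaf 343)) (BT.leaf 116))) (BT.node (BT.node (BT.node (BT.leaf 200) (BT.leaf 296)) (BT.leaf 117)) (BT.node (BT.node (BT.leaf 126) (BT.leaf 238)) (BT.leaf 355)))) (BT.node (BT.node (BT.node (BT.node (BT.leaf 14) (BT.leaf 180)) (BT.leaf 145)) (BT.node (BT.node (BT.leaf 229) (BT.leaf 327)) (BT.leaf 109))) (BT.node (BT.node (BT.node (BT.leaf 248) (BT.leaf 279)) (BT.leaf 300)) (BT.node (BT.leaf 107) (BT.leaf 48)))))) (BT.node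 (BT.node (BT.node (BT.node (BT.node (BT.node (BT.leaf 53) (BT.leaf 352)) (BT.leaf 121)) (BT.node (BT.node (BT.leaf 133) (BT.leaf 376)) (BT.leaf 44))) (BT.node (BT.node (BT.node (BT.leaf 186) (BT.leaf 286)) (BT.leaf 361)) (BT.node (BT.node (BT.leaf 243) (BT.leaf 365)) (BT.leaf 368)))) (BT.node (BT.node (BT.node (BT.node (BT.leaf 122) (BT.leaf 194)) (BT.leaf 306)) (BT.node (BT.node (BT.leaf 76) (BT.leaf 112)) (BT.leaf 188))) (BT.node (BT.node (BT.node (BT.leaf 232) (BT.leaf 152)) (BT.leaf 374)) (BT.node (BT.node (BT.leaf 118) (BT.leaf 360)) (BT.leaf 212))))) (BT.node (BT.node (BT.node (BT.node (BT.node (BT.leaf 75) (BT.leaf 272)) (BT.leaf 68)) (BT.node (BT.node (BT.leaf 70) (BT.leaf 179)) (BT.leaf 324))) (BT.node (BT.node (BT.node (BT.leaf 29) (BT.leaf 151)) (BT.leaf 142)) (BT.node (BT.node (BT.leaf 72) (BT.leaf 349)) (BT.leaf 10)))) (BT.node (BT.node (BT.node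 (BT.node (BT.leaf 135) (BT.leaf 298)) (BT.leaf 259)) (BT.node (BT.node (BT.leaf 138) (BT.leaf 147)) (BT.leaf 334))) (BT.node (BT.node (BT.node (BT.leaf 256) (BT.leaf 204)) (BT.leaf 154)) (BT.node (BT.leaf 326) (BT.leaf 58))))))))),
  (BT.node (BT.node (BT.node (BT.node (BT.node (BT.node (BT.node (BT.node (BT.node (BT.leaf 3) (BT.leaf 40)) (BT.leaf 304)) (BT.node (BT.node (BT.leaf 158) (BT.leaf 169)) (BT.leaf 21))) (BT.node (BT.node (BT.node (BT.leaf 135) (BT.leaf 297)) (BT.leaf 78)) (BT.node (BT.node (BT.leaf 312) (BT.leaf 246)) (BT.leaf 345)))) (BT.node (BT.node (BT.node (BT.node (BT.leaf 81) (BT.leaf 148)) (BT.leaf 300)) (BT.node (BT.node (BT.leaf 271) (BT.leaf 44)) (BT.leaf 349))) (BT.node (BT.node (BT.node (BT.leaf 28) (BT.leaf 49)) (BT.leaf 269)) (BT.node (BT.node (BT.leaf 277) (BT.leaf 371)) (BT.leaf 150))))) (BT.node (BT.node (BT.node (BT.node (BT.node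 (BT.leaf 61) (BT.leaf 115)) (BT.leaf 251)) (BT.node (BT.node (BT.leaf 221) (BT.leaf 204)) (BT.leaf 315))) (BT.node (BT.node (BT.node (BT.leaf 69) (BT.leaf 68)) (BT.leaf 140)) (BT.node (BT.node (BT.leaf 126) (BT.leaf 215)) (BT.leaf 370)))) (BT.node (BT.node (BT.node (BT.node (BT.leaf 129) (BT.leaf 84)) (BT.leaf 360)) (BT.node (BT.node (BT.leaf 266) (BT.leaf 23)) (BT.leaf 77))) (BT.node (BT.node (BT.node (BT.leaf 183) (BT.leaf 17)) (BT.leaf 336)) (BT.node (BT.node (BT.leaf 105) (BT.leaf 106)) (BT.leaf 141)))))) (BT.node (BT.node (BT.node (BT.node (BT.node (BT.node (BT.leaf 14) (BT.leaf 254)) (BT.leaf 20)) (BT.node (BT.node (BT.leaf 90) (BT.leaf 328)) (BT.leaf 211))) (BT.node (BT.node (BT.node (BT.leaf 86) (BT.leaf 232)) (BT.leaf 265)) (BT.node (BT.node (BT.leaf 317) (BT.leaf 209)) (BT.leaf 359)))) (BT.node (BT.node (BT.node (BT.node (BT.leaf 74) (BT.leaf 376))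 (BT.leaf 71)) (BT.node (BT.node (BT.leaf 130) (BT.leaf 238)) (BT.leaf 364))) (BT.node (BT.node (BT.node (BT.leaf 227) (BT.leaf 275)) (BT.leaf 354)) (BT.node (BT.node (BT.leaf 200) (BT.leaf 198)) (BT.leaf 347))))) (BT.node (BT.node (BT.node (BT.node (BT.node (BT.leaf 11) (BT.leaf 306)) (BT.leaf 287)) (BT.node (BT.node (BT.leaf 234) (BT.leaf 279)) (BT.leaf 324))) (BT.node (BT.node (BT.node (BT.leaf 184) (BT.leaf 30)) (BT.leaf 346)) (BT.node (BT.node (BT.leaf 327) (BT.leaf 267)) (BT.leaf 117)))) (BT.node (BT.node (BT.node (BT.node (BT.leaf 85) (BT.leaf 294)) (BT.leaf 216)) (BT.node (BT.node (BT.leaf 99) (BT.leaf 172)) (BT.leaf 146))) (BT.node (BT.node (BT.node (BT.leaf 6) (BT.leaf 323)) (BT.leaf 305)) (BT.node (BT.leaf 104) (BT.leaf 107))))))) (BT.node (BT.node (BT.node (BT.node (BT.node (BT.node (BT.node (BT.leaf 1) (BT.leaf 153)) (BT.leaf 280)) (BT.node (BT.node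 (BT.leaf 255) (BT.leaf 357)) (BT.leaf 203))) (BT.node (BT.node (BT.node (BT.leaf 27) (BT.leaf 320)) (BT.leaf 361)) (BT.node (BT.node (BT.leaf 308) (BT.leaf 282)) (BT.leaf 162)))) (BT.node (BT.node (BT.node (BT.node (BT.leaf 102) (BT.leaf 338)) (BT.leaf 301)) (BT.node (BT.node (BT.leaf 268) (BT.leaf 333)) (BT.leaf 247))) (BT.node (BT.node (BT.node (BT.leaf 31) (BT.leaf 82)) (BT.leaf 37)) (BT.node (BT.node (BT.leaf 192) (BT.leaf 292)) (BT.leaf 248))))) (BT.node (BT.node (BT.node (BT.node (BT.node (BT.leaf 63) (BT.leaf 175)) (BT.leaf 181)) (BT.node (BT.node (BT.leaf 132) (BT.leaf 253)) (BT.leaf 171))) (BT.node (BT.node (BT.node (BT.leaf 193) (BT.leaf 337)) (BT.leaf 332)) (BT.node (BT.node (BT.leaf 276) (BT.leaf 33)) (BT.leaf 186)))) (BT.node (BT.node (BT.node (BT.node (BT.leaf 0) (BT.leaf 180)) (BT.leaf 352)) (BT.node (BT.node (BT.leaf 296) (BT.leaf 348)) (BT.leaf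 316))) (BT.node (BT.node (BT.node (BT.leaf 191) (BT.leaf 372)) (BT.leaf 76)) (BT.node (BT.leaf 24) (BT.leaf 217)))))) (BT.node (BT.node (BT.node (BT.node (BT.node (BT.node (BT.leaf 29) (BT.leaf 298)) (BT.leaf 311)) (BT.node (BT.node (BT.leaf 4) (BT.leaf 187)) (BT.leaf 314))) (BT.node (BT.node (BT.node (BT.leaf 182) (BT.leaf 133)) (BT.leaf 368)) (BT.node (BT.node (BT.leaf 123) (BT.leaf 335)) (BT.leaf 286)))) (BT.node (BT.node (BT.node (BT.node (BT.leaf 16) (BT.leaf 303)) (BT.leaf 118)) (BT.node (BT.node (BT.leaf 219) (BT.leaf 59)) (BT.leaf 80))) (BT.node (BT.node (BT.node (BT.leaf 235) (BT.leaf 291)) (BT.leaf 95)) (BT.node (BT.node (BT.leaf 240) (BT.leaf 233)) (BT.leaf 154))))) (BT.node (BT.node (BT.node (BT.node (BT.node (BT.leaf 70) (BT.leaf 208)) (BT.leaf 299)) (BT.node (BT.node (BT.leaf 283) (BT.leaf 373)) (BT.leaf 223))) (BT.node (BT.node (BT.node (BT.leaf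 196) (BT.leaf 109)) (BT.leaf 302)) (BT.node (BT.node (BT.leaf 108) (BT.leaf 139)) (BT.leaf 367)))) (BT.node (BT.node (BT.node (BT.node (BT.leaf 144) (BT.leaf 113)) (BT.leaf 121)) (BT.node (BT.node (BT.leaf 83) (BT.leaf 210)) (BT.leaf 179))) (BT.node (BT.node (BT.node (BT.leaf 50) (BT.leaf 331)) (BT.leaf 239)) (BT.node (BT.leaf 124) (BT.leaf 159)))))))) (BT.node (BT.node (BT.node (BT.node (BT.node (BT.node (BT.node (BT.node (BT.leaf 13) (BT.leaf 10)) (BT.leaf 122)) (BT.node (BT.node (BT.leaf 259) (BT.leaf 351)) (BT.leaf 67))) (BT.node (BT.node (BT.node (BT.leaf 157) (BT.leaf 190)) (BT.leaf 202)) (BT.node (BT.node (BT.leaf 313) (BT.leaf 377)) (BT.leaf 176)))) (BT.node (BT.node (BT.node (BT.node (BT.leaf 96) (BT.leaf 330)) (BT.leaf 258)) (BT.node (BT.node (BT.leaf 22) (BT.leaf 262)) (BT.leaf 147))) (BT.node (BT.node (BT.node (BT.leaf 128) (BT.leaf 185)) (BT.leaf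 39)) (BT.node (BT.node (BT.leaf 230) (BT.leaf 321)) (BT.leaf 374))))) (BT.node (BT.node (BT.node (BT.node (BT.node (BT.leaf 32) (BT.leaf 363)) (BT.leaf 285)) (BT.node (BT.node (BT.leaf 178) (BT.leaf 66)) (BT.leaf 318))) (BT.node (BT.node (BT.node (BT.leaf 45) (BT.leaf 281)) (BT.leaf 290)) (BT.node (BT.node (BT.leaf 35) (BT.leaf 226)) (BT.leaf 241)))) (BT.node (BT.node (BT.node (BT.node (BT.leaf 94) (BT.leaf 288)) (BT.leaf 145)) (BT.node (BT.node (BT.leaf 93) (BT.leaf 103)) (BT.leaf 325))) (BT.node (BT.node (BT.node (BT.leaf 244) (BT.leaf 307)) (BT.leaf 188)) (BT.node (BT.node (BT.leaf 64) (BT.leaf 195)) (BT.leaf 342)))))) (BT.node (BT.node (BT.node (BT.node (BT.node (BT.node (BT.leaf 41) (BT.leaf 366)) (BT.leaf 284)) (BT.node (BT.node (BT.leaf 256) (BT.leaf 250)) (BT.leaf 206))) (BT.node (BT.node (BT.node (BT.leaf 73) (BT.leaf 151)) (BT.leaf 137)) (BT.node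 (BT.node (BT.leaf 252) (BT.leaf 119)) (BT.leaf 326)))) (BT.node (BT.node (BT.node (BT.node (BT.leaf 114) (BT.leaf 237)) (BT.leaf 278)) (BT.node (BT.node (BT.leaf 48) (BT.leaf 358)) (BT.leaf 56))) (BT.node (BT.node (BT.node (BT.leaf 231) (BT.leaf 91)) (BT.leaf 173)) (BT.node (BT.node (BT.leaf 55) (BT.leaf 199)) (BT.leaf 163))))) (BT.node (BT.node (BT.node (BT.node (BT.node (BT.leaf 2) (BT.leaf 225)) (BT.leaf 242)) (BT.node (BT.node (BT.leaf 156) (BT.leaf 274)) (BT.leaf 293))) (BT.node (BT.node (BT.node (BT.leaf 5) (BT.leaf 220)) (BT.leaf 138)) (BT.node (BT.node (BT.leaf 174) (BT.leaf 72)) (BT.leaf 112)))) (BT.node (BT.node (BT.node (BT.node (BT.leaf 60) (BT.leaf 165)) (BT.leaf 362)) (BT.node (BT.node (BT.leaf 15) (BT.leaf 270)) (BT.leaf 365))) (BT.node (BT.node (BT.node (BT.leaf 47) (BT.leaf 343)) (BT.leaf 264)) (BT.node (BT.leaf 344) (BT.leaf 273))))))) (BT.node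 (BT.node (BT.node (BT.node (BT.node (BT.node (BT.node (BT.leaf 26) (BT.leaf 155)) (BT.leaf 310)) (BT.node (BT.node (BT.leaf 42) (BT.leaf 218)) (BT.leaf 353))) (BT.node (BT.node (BT.node (BT.leaf 120) (BT.leaf 131)) (BT.leaf 339)) (BT.node (BT.node (BT.leaf 295) (BT.leaf 53)) (BT.leaf 167)))) (BT.node (BT.node (BT.node (BT.node (BT.leaf 12) (BT.leaf 98)) (BT.leaf 356)) (BT.node (BT.node (BT.leaf 25) (BT.leaf 245)) (BT.leaf 46))) (BT.node (BT.node (BT.node (BT.leaf 222) (BT.leaf 97)) (BT.leaf 51)) (BT.node (BT.node (BT.leaf 189) (BT.leaf 166)) (BT.leaf 319))))) (BT.node (BT.node (BT.node (BT.node (BT.node (BT.leaf 19) (BT.leaf 212)) (BT.leaf 261)) (BT.node (BT.node (BT.leaf 136) (BT.leaf 201)) (BT.leaf 43))) (BT.node (BT.node (BT.node (BT.leaf 194) (BT.leaf 143)) (BT.leaf 161)) (BT.node (BT.node (BT.leaf 101) (BT.leaf 164)) (BT.leaf 7)))) (BT.node (BT.node (BT.node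 (BT.node (BT.leaf 79) (BT.leaf 160)) (BT.leaf 65)) (BT.node (BT.node (BT.leaf 127) (BT.leaf 57)) (BT.leaf 36))) (BT.node (BT.node (BT.node (BT.leaf 249) (BT.leaf 116)) (BT.leaf 229)) (BT.node (BT.leaf 18) (BT.leaf 75)))))) (BT.node (BT.node (BT.node (BT.node (BT.node (BT.node (BT.leaf 54) (BT.leaf 58)) (BT.leaf 9)) (BT.node (BT.node (BT.leaf 272) (BT.leaf 110)) (BT.leaf 334))) (BT.node (BT.node (BT.node (BT.leaf 87) (BT.leaf 92)) (BT.leaf 52)) (BT.node (BT.node (BT.leaf 224) (BT.leaf 111)) (BT.leaf 355)))) (BT.node (BT.node (BT.node (BT.node (BT.leaf 125) (BT.leaf 170)) (BT.leaf 205)) (BT.node (BT.node (BT.leaf 177) (BT.leaf 100)) (BT.leaf 152))) (BT.node (BT.node (BT.node (BT.leaf 236) (BT.leaf 375)) (BT.leaf 213)) (BT.node (BT.node (BT.leaf 322) (BT.leaf 134)) (BT.leaf 350))))) (BT.node (BT.node (BT.node (BT.node (BT.node (BT.leaf 89) (BT.leaf 214)) (BT.leaf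 142)) (BT.node (BT.node (BT.leaf 34) (BT.leaf 341)) (BT.leaf 243))) (BT.node (BT.node (BT.node (BT.leaf 8) (BT.leaf 149)) (BT.leaf 88)) (BT.node (BT.node (BT.leaf 228) (BT.leaf 340)) (BT.leaf 289)))) (BT.node (BT.node (BT.node (BT.node (BT.leaf 62) (BT.leaf 168)) (BT.leaf 260)) (BT.node (BT.node (BT.leaf 38) (BT.leaf 369)) (BT.leaf 197))) (BT.node (BT.node (BT.node (BT.leaf 257) (BT.leaf 207)) (BT.leaf 263)) (BT.node (BT.leaf 309) (BT.leaf 329))))))))),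
  (BT.node (BT.node (BT.node (BT.node (BT.node (BT.node (BT.node (BT.node (BT.node (BT.leaf 4) (BT.leaf 69)) (BT.leaf 326)) (BT.node (BT.node (BT.leaf 258) (BT.leaf 290)) (BT.leaf 21))) (BT.node (BT.node (BT.node (BT.leaf 159) (BT.leaf 217)) (BT.leaf 331)) (BT.node (BT.node (BT.leaf 128) (BT.leaf 261)) (BT.leaf 162)))) (BT.node (BT.node (BT.node (BT.node (BT.leaf 1) (BT.leaf 294)) (BT.leaf 38)) (BT.node (BT.node (BT.leaf 284) (BT.leaf 236)) (BT.leaf 168))) (BT.node (BT.node (BT.node (BT.leaf 28) (BT.leaf 309)) (BT.leaf 157)) (BT.node (BT.node (BT.leaf 322) (BT.leaf 125)) (BT.leaf 160))))) (BT.node (BT.node (BT.node (BT.node (BT.node (BT.leaf 0) (BT.leaf 169)) (BT.leaf 48)) (BT.node (BT.node (BT.leaf 188) (BT.leaf 226)) (BT.leaf 367))) (BT.node (BT.node (BT.node (BT.leaf 63) (BT.leaf 142)) (BT.leaf 116)) (BT.node (BT.node (BT.leaf 319) (BT.leaf 303)) (BT.leaf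 353)))) (BT.node (BT.node (BT.node (BT.node (BT.leaf 108) (BT.leaf 92)) (BT.leaf 293)) (BT.node (BT.node (BT.leaf 90) (BT.leaf 376)) (BT.leaf 295))) (BT.node (BT.node (BT.node (BT.leaf 191) (BT.leaf 186)) (BT.leaf 232)) (BT.node (BT.node (BT.leaf 105) (BT.leaf 235)) (BT.leaf 269)))))) (BT.node (BT.node (BT.node (BT.node (BT.node (BT.node (BT.leaf 8) (BT.leaf 285)) (BT.leaf 81)) (BT.node (BT.node (BT.leaf 88) (BT.leaf 313)) (BT.leaf 329))) (BT.node (BT.node (BT.node (BT.leaf 31) (BT.leaf 321)) (BT.leaf 140)) (BT.node (BT.node (BT.leaf 150) (BT.leaf 197)) (BT.leaf 311)))) (BT.node (BT.node (BT.node (BT.node (BT.leaf 60) (BT.leaf 231)) (BT.leaf 71)) (BT.node (BT.node (BT.leaf 288) (BT.leaf 287)) (BT.leaf 213))) (BT.node (BT.node (BT.node (BT.leaf 101) (BT.leaf 360)) (BT.leaf 237)) (BT.node (BT.node (BT.leaf 208) (BT.leaf 112)) (BT.leaf 368))))) (BT.node (BT.node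 (BT.node (BT.node (BT.node (BT.leaf 74) (BT.leaf 98)) (BT.leaf 43)) (BT.node (BT.node (BT.leaf 229) (BT.leaf 349)) (BT.leaf 227))) (BT.node (BT.node (BT.node (BT.leaf 171) (BT.leaf 312)) (BT.leaf 225)) (BT.node (BT.node (BT.leaf 54) (BT.leaf 196)) (BT.leaf 369)))) (BT.node (BT.node (BT.node (BT.node (BT.leaf 136) (BT.leaf 214)) (BT.leaf 230)) (BT.node (BT.node (BT.leaf 301) (BT.leaf 335)) (BT.leaf 156))) (BT.node (BT.node (BT.node (BT.leaf 2) (BT.leaf 94)) (BT.leaf 149)) (BT.node (BT.leaf 328) (BT.leaf 224))))))) (BT.node (BT.node (BT.node (BT.node (BT.node (BT.node (BT.node (BT.leaf 20) (BT.leaf 86)) (BT.leaf 286)) (BT.node (BT.node (BT.leaf 210) (BT.leaf 372)) (BT.leaf 270))) (BT.node (BT.node (BT.node (BT.leaf 22) (BT.leaf 193)) (BT.leaf 252)) (BT.node (BT.node (BT.leaf 305) (BT.leaf 343)) (BT.leaf 124)))) (BT.node (BT.node (BT.node (BT.node (BT.leaf 103)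 (BT.leaf 248)) (BT.leaf 83)) (BT.node (BT.node (BT.leaf 111) (BT.leaf 249)) (BT.leaf 183))) (BT.node (BT.node (BT.node (BT.leaf 153) (BT.leaf 365)) (BT.leaf 327)) (BT.node (BT.node (BT.leaf 120) (BT.leaf 356)) (BT.leaf 358))))) (BT.node (BT.node (BT.node (BT.node (BT.node (BT.leaf 40) (BT.leaf 299)) (BT.leaf 49)) (BT.node (BT.node (BT.leaf 61) (BT.leaf 354)) (BT.leaf 377))) (BT.node (BT.node (BT.node (BT.leaf 67) (BT.leaf 194)) (BT.leaf 363)) (BT.node (BT.node (BT.leaf 166) (BT.leaf 348)) (BT.leaf 127)))) (BT.node (BT.node (BT.node (BT.node (BT.leaf 132) (BT.leaf 201)) (BT.leaf 350)) (BT.node (BT.node (BT.leaf 68) (BT.leaf 222)) (BT.leaf 77))) (BT.node (BT.node (BT.node (BT.leaf 247) (BT.leaf 318)) (BT.leaf 300)) (BT.node (BT.leaf 106) (BT.leaf 25)))))) (BT.node (BT.node (BT.node (BT.node (BT.node (BT.node (BT.leaf 3) (BT.leaf 200)) (BT.leaf 205)) (BT.node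 (BT.node (BT.leaf 29) (BT.leaf 96)) (BT.leaf 100))) (BT.node (BT.node (BT.node (BT.leaf 177) (BT.leaf 133)) (BT.leaf 122)) (BT.node (BT.node (BT.leaf 204) (BT.leaf 339)) (BT.leaf 220)))) (BT.node (BT.node (BT.node (BT.node (BT.leaf 19) (BT.leaf 228)) (BT.leaf 198)) (BT.node (BT.node (BT.leaf 64) (BT.leaf 176)) (BT.leaf 80))) (BT.node (BT.node (BT.node (BT.leaf 24) (BT.leaf 315)) (BT.leaf 304)) (BT.node (BT.node (BT.leaf 180) (BT.leaf 263)) (BT.leaf 212))))) (BT.node (BT.node (BT.node (BT.node (BT.node (BT.leaf 16) (BT.leaf 298)) (BT.leaf 143)) (BT.node (BT.node (BT.leaf 277) (BT.leaf 55)) (BT.leaf 117))) (BT.node (BT.node (BT.node (BT.leaf 58) (BT.leaf 62)) (BT.leaf 135)) (BT.node (BT.node (BT.leaf 53) (BT.leaf 233)) (BT.leaf 291)))) (BT.node (BT.node (BT.node (BT.node (BT.leaf 138) (BT.leaf 323)) (BT.leaf 259)) (BT.node (BT.node (BT.leaf 99) (BT.leaf 241))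 (BT.leaf 333))) (BT.node (BT.node (BT.node (BT.leaf 254) (BT.leaf 273)) (BT.leaf 256)) (BT.node (BT.leaf 345) (BT.leaf 302)))))))) (BT.node (BT.node (BT.node (BT.node (BT.node (BT.node (BT.node (BT.node (BT.leaf 14) (BT.leaf 289)) (BT.leaf 347)) (BT.node (BT.node (BT.leaf 165) (BT.leaf 199)) (BT.leaf 320))) (BT.node (BT.node (BT.node (BT.leaf 141) (BT.leaf 239)) (BT.leaf 351)) (BT.node (BT.node (BT.leaf 104) (BT.leaf 184)) (BT.leaf 163)))) (BT.node (BT.node (BT.node (BT.node (BT.leaf 87) (BT.leaf 314)) (BT.leaf 174)) (BT.node (BT.node (BT.leaf 26) (BT.leaf 170)) (BT.leaf 44))) (BT.node (BT.node (BT.node (BT.leaf 30) (BT.leaf 268)) (BT.leaf 144)) (BT.node (BT.node (BT.leaf 250) (BT.leaf 336)) (BT.leaf 154))))) (BT.node (BT.node (BT.node (BT.node (BT.node (BT.leaf 65) (BT.leaf 310)) (BT.leaf 50)) (BT.node (BT.node (BT.leaf 276) (BT.leaf 364)) (BT.leaf 357)))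 (BT.node (BT.node (BT.node (BT.leaf 192) (BT.leaf 146)) (BT.leaf 115)) (BT.node (BT.node (BT.leaf 114) (BT.leaf 123)) (BT.leaf 255)))) (BT.node (BT.node (BT.node (BT.node (BT.leaf 113) (BT.leaf 218)) (BT.leaf 137)) (BT.node (BT.node (BT.leaf 251) (BT.leaf 167)) (BT.leaf 84))) (BT.node (BT.node (BT.node (BT.leaf 7) (BT.leaf 107)) (BT.leaf 151)) (BT.node (BT.node (BT.leaf 260) (BT.leaf 373)) (BT.leaf 341)))))) (BT.node (BT.node (BT.node (BT.node (BT.node (BT.node (BT.leaf 35) (BT.leaf 211)) (BT.leaf 272)) (BT.node (BT.node (BT.leaf 190) (BT.leaf 216)) (BT.leaf 370))) (BT.node (BT.node (BT.node (BT.leaf 57) (BT.leaf 221)) (BT.leaf 9)) (BT.node (BT.node (BT.leaf 243) (BT.leaf 282)) (BT.leaf 95)))) (BT.node (BT.node (BT.node (BT.node (BT.leaf 41) (BT.leaf 253)) (BT.leaf 72)) (BT.node (BT.node (BT.leaf 93) (BT.leaf 338)) (BT.leaf 246))) (BT.node (BT.node (BT.node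 (BT.leaf 23) (BT.leaf 182)) (BT.leaf 234)) (BT.node (BT.node (BT.leaf 195) (BT.leaf 202)) (BT.leaf 59))))) (BT.node (BT.node (BT.node (BT.node (BT.node (BT.leaf 79) (BT.leaf 274)) (BT.leaf 51)) (BT.node (BT.node (BT.leaf 281) (BT.leaf 346)) (BT.leaf 275))) (BT.node (BT.node (BT.node (BT.leaf 5) (BT.leaf 280)) (BT.leaf 39)) (BT.node (BT.node (BT.leaf 158) (BT.leaf 375)) (BT.leaf 118)))) (BT.node (BT.node (BT.node (BT.node (BT.leaf 11) (BT.leaf 121)) (BT.leaf 342)) (BT.node (BT.node (BT.leaf 15) (BT.leaf 131)) (BT.leaf 152))) (BT.node (BT.node (BT.node (BT.leaf 12) (BT.leaf 119)) (BT.leaf 42)) (BT.node (BT.leaf 244) (BT.leaf 78))))))) (BT.node (BT.node (BT.node (BT.node (BT.node (BT.node (BT.node (BT.leaf 27) (BT.leaf 109)) (BT.leaf 332)) (BT.node (BT.node (BT.leaf 189) (BT.leaf 130)) (BT.leaf 206))) (BT.node (BT.node (BT.node (BT.leaf 45) (BT.leaf 203)) (BT.leaf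 172)) (BT.node (BT.node (BT.leaf 316) (BT.leaf 129)) (BT.leaf 102)))) (BT.node (BT.node (BT.node (BT.node (BT.leaf 34) (BT.leaf 134)) (BT.leaf 334)) (BT.node (BT.node (BT.leaf 297) (BT.leaf 242)) (BT.leaf 352))) (BT.node (BT.node (BT.node (BT.leaf 33) (BT.leaf 18)) (BT.leaf 245)) (BT.node (BT.node (BT.leaf 264) (BT.leaf 178)) (BT.leaf 52))))) (BT.node (BT.node (BT.node (BT.node (BT.node (BT.leaf 70) (BT.leaf 374)) (BT.leaf 56)) (BT.node (BT.node (BT.leaf 89) (BT.leaf 240)) (BT.leaf 238))) (BT.node (BT.node (BT.node (BT.leaf 164) (BT.leaf 175)) (BT.leaf 209)) (BT.node (BT.node (BT.leaf 324) (BT.leaf 337)) (BT.leaf 344)))) (BT.node (BT.node (BT.node (BT.node (BT.leaf 6) (BT.leaf 317)) (BT.leaf 36)) (BT.node (BT.node (BT.leaf 17) (BT.leaf 355)) (BT.leaf 32))) (BT.node (BT.node (BT.node (BT.leaf 179) (BT.leaf 265)) (BT.leaf 173)) (BT.node (BT.leaf 207) (BT.leaf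 75)))))) (BT.node (BT.node (BT.node (BT.node (BT.node (BT.node (BT.leaf 37) (BT.leaf 267)) (BT.leaf 145)) (BT.node (BT.node (BT.leaf 271) (BT.leaf 371)) (BT.leaf 292))) (BT.node (BT.node (BT.node (BT.leaf 187) (BT.leaf 325)) (BT.leaf 126)) (BT.node (BT.node (BT.leaf 307) (BT.leaf 185)) (BT.leaf 73)))) (BT.node (BT.node (BT.node (BT.node (BT.leaf 110) (BT.leaf 340)) (BT.leaf 359)) (BT.node (BT.node (BT.leaf 91) (BT.leaf 330)) (BT.leaf 82))) (BT.node (BT.node (BT.node (BT.leaf 147) (BT.leaf 278)) (BT.leaf 66)) (BT.node (BT.node (BT.leaf 283) (BT.leaf 306)) (BT.leaf 46))))) (BT.node (BT.node (BT.node (BT.node (BT.node (BT.leaf 85) (BT.leaf 148)) (BT.leaf 296)) (BT.node (BT.node (BT.leaf 47) (BT.leaf 362)) (BT.leaf 361))) (BT.node (BT.node (BT.node (BT.leaf 13) (BT.leaf 308)) (BT.leaf 266)) (BT.node (BT.node (BT.leaf 215) (BT.leaf 262)) (BT.leaf 257)))) (BT.node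 (BT.node (BT.node (BT.node (BT.leaf 155) (BT.leaf 279)) (BT.leaf 219)) (BT.node (BT.node (BT.leaf 76) (BT.leaf 223)) (BT.leaf 161))) (BT.node (BT.node (BT.node (BT.leaf 10) (BT.leaf 97)) (BT.leaf 139)) (BT.node (BT.leaf 181) (BT.leaf 366))))))))),
  (BT.node (BT.node (BT.node (BT.node (BT.node (BT.node (BT.node (BT.node (BT.node (BT.leaf 0) (BT.leaf 58)) (BT.leaf 310)) (BT.node (BT.node (BT.leaf 64) (BT.leaf 233)) (BT.leaf 264))) (BT.node (BT.node (BT.node (BT.leaf 32) (BT.leaf 30)) (BT.leaf 250)) (BT.node (BT.node (BT.leaf 313) (BT.leaf 214)) (BT.leaf 200)))) (BT.node (BT.node (BT.node (BT.node (BT.leaf 16) (BT.leaf 257)) (BT.leaf 205)) (BT.node (BT.node (BT.leaf 289) (BT.leaf 319)) (BT.leaf 53))) (BT.node (BT.node (BT.node (BT.leaf 143) (BT.leaf 291)) (BT.leaf 276)) (BT.node (BT.node (BT.leaf 39) (BT.leaf 202)) (BT.leaf 341))))) (BT.node (BT.node (BT.node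 (BT.node (BT.node (BT.leaf 8) (BT.leaf 183)) (BT.leaf 88)) (BT.node (BT.node (BT.leaf 181) (BT.leaf 203)) (BT.leaf 373))) (BT.node (BT.node (BT.node (BT.leaf 191) (BT.leaf 364)) (BT.leaf 112)) (BT.node (BT.node (BT.leaf 104) (BT.leaf 342)) (BT.leaf 208)))) (BT.node (BT.node (BT.node (BT.node (BT.leaf 24) (BT.leaf 280)) (BT.leaf 249)) (BT.node (BT.node (BT.leaf 139) (BT.leaf 344)) (BT.leaf 216))) (BT.node (BT.node (BT.node (BT.leaf 114) (BT.leaf 307)) (BT.leaf 243)) (BT.node (BT.node (BT.leaf 290) (BT.leaf 119)) (BT.leaf 321)))))) (BT.node (BT.node (BT.node (BT.node (BT.node (BT.node (BT.leaf 34) (BT.leaf 153)) (BT.leaf 70)) (BT.node (BT.node (BT.leaf 267) (BT.leaf 194)) (BT.leaf 41))) (BT.node (BT.node (BT.node (BT.leaf 165) (BT.leaf 270)) (BT.leaf 368)) (BT.node (BT.node (BT.leaf 49) (BT.leaf 375)) (BT.leaf 182)))) (BT.node (BT.node (BT.node (BT.node (BT.leaf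 4) (BT.leaf 357)) (BT.leaf 10)) (BT.node (BT.node (BT.leaf 84) (BT.leaf 235)) (BT.leaf 15))) (BT.node (BT.node (BT.node (BT.leaf 228) (BT.leaf 17)) (BT.leaf 323)) (BT.node (BT.node (BT.leaf 334) (BT.leaf 301)) (BT.leaf 150))))) (BT.node (BT.node (BT.node (BT.node (BT.node (BT.leaf 12) (BT.leaf 92)) (BT.leaf 277)) (BT.node (BT.node (BT.leaf 262) (BT.leaf 336)) (BT.leaf 43))) (BT.node (BT.node (BT.node (BT.leaf 207) (BT.leaf 293)) (BT.leaf 147)) (BT.node (BT.node (BT.leaf 253) (BT.leaf 89)) (BT.leaf 367)))) (BT.node (BT.node (BT.node (BT.node (BT.leaf 142) (BT.leaf 40)) (BT.leaf 156)) (BT.node (BT.node (BT.leaf 309) (BT.leaf 209)) (BT.leaf 333))) (BT.node (BT.node (BT.node (BT.leaf 60) (BT.leaf 339)) (BT.leaf 248)) (BT.node (BT.leaf 124) (BT.leaf 252))))))) (BT.node (BT.node (BT.node (BT.node (BT.node (BT.node (BT.node (BT.leaf 2) (BT.leaf 155)) (BT.leaf 130))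 (BT.node (BT.node (BT.leaf 148) (BT.leaf 225)) (BT.leaf 206))) (BT.node (BT.node (BT.node (BT.leaf 20) (BT.leaf 374)) (BT.leaf 365)) (BT.node (BT.node (BT.leaf 312) (BT.leaf 218)) (BT.leaf 221)))) (BT.node (BT.node (BT.node (BT.node (BT.leaf 18) (BT.leaf 314)) (BT.leaf 274)) (BT.node (BT.node (BT.leaf 295) (BT.leaf 372)) (BT.leaf 48))) (BT.node (BT.node (BT.node (BT.leaf 50) (BT.leaf 99)) (BT.leaf 178)) (BT.node (BT.node (BT.leaf 189) (BT.leaf 349)) (BT.leaf 369))))) (BT.node (BT.node (BT.node (BT.node (BT.node (BT.leaf 66) (BT.leaf 261)) (BT.leaf 162)) (BT.node (BT.node (BT.leaf 14) (BT.leaf 51)) (BT.leaf 164))) (BT.node (BT.node (BT.node (BT.leaf 46) (BT.leaf 318)) (BT.leaf 184)) (BT.node (BT.node (BT.leaf 322) (BT.leaf 283)) (BT.leaf 298)))) (BT.node (BT.node (BT.node (BT.node (BT.leaf 26) (BT.leaf 316)) (BT.leaf 271)) (BT.node (BT.node (BT.leaf 212) (BT.leaf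 356)) (BT.leaf 163))) (BT.node (BT.node (BT.node (BT.leaf 133) (BT.leaf 146)) (BT.leaf 337)) (BT.node (BT.leaf 122) (BT.leaf 33)))))) (BT.node (BT.node (BT.node (BT.node (BT.node (BT.node (BT.leaf 6) (BT.leaf 201)) (BT.leaf 348)) (BT.node (BT.node (BT.leaf 79) (BT.leaf 149)) (BT.leaf 220))) (BT.node (BT.node (BT.node (BT.leaf 167) (BT.leaf 69)) (BT.leaf 161)) (BT.node (BT.node (BT.leaf 102) (BT.leaf 244)) (BT.leaf 229)))) (BT.node (BT.node (BT.node (BT.node (BT.leaf 22) (BT.leaf 113)) (BT.leaf 358)) (BT.node (BT.node (BT.leaf 137) (BT.leaf 377)) (BT.leaf 239))) (BT.node (BT.node (BT.node (BT.leaf 236) (BT.leaf 317)) (BT.leaf 52)) (BT.node (BT.node (BT.leaf 335) (BT.leaf 120)) (BT.leaf 80))))) (BT.node (BT.node (BT.node (BT.node (BT.node (BT.leaf 27) (BT.leaf 355)) (BT.leaf 247)) (BT.node (BT.node (BT.leaf 217) (BT.leaf 103)) (BT.leaf 324))) (BT.node (BT.node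 (BT.node (BT.leaf 5) (BT.leaf 219)) (BT.leaf 86)) (BT.node (BT.node (BT.leaf 330) (BT.leaf 75)) (BT.leaf 7)))) (BT.node (BT.node (BT.node (BT.node (BT.leaf 151) (BT.leaf 326)) (BT.leaf 158)) (BT.node (BT.node (BT.leaf 94) (BT.leaf 85)) (BT.leaf 108))) (BT.node (BT.node (BT.node (BT.leaf 62) (BT.leaf 234)) (BT.leaf 154)) (BT.node (BT.leaf 126) (BT.leaf 145)))))))) (BT.node (BT.node (BT.node (BT.node (BT.node (BT.node (BT.node (BT.node (BT.leaf 1) (BT.leaf 329)) (BT.leaf 129)) (BT.node (BT.node (BT.leaf 260) (BT.leaf 188)) (BT.leaf 196))) (BT.node (BT.node (BT.node (BT.leaf 160) (BT.leaf 246)) (BT.leaf 363)) (BT.node (BT.node (BT.leaf 308) (BT.leaf 152)) (BT.leaf 106)))) (BT.node (BT.node (BT.node (BT.node (BT.leaf 97) (BT.leaf 179)) (BT.leaf 259)) (BT.node (BT.node (BT.leaf 81) (BT.leaf 331)) (BT.leaf 134))) (BT.node (BT.node (BT.node (BT.leaf 131) (BT.leaf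 141)) (BT.leaf 287)) (BT.node (BT.node (BT.leaf 187) (BT.leaf 185)) (BT.leaf 35))))) (BT.node (BT.node (BT.node (BT.node (BT.node (BT.leaf 9) (BT.leaf 371)) (BT.leaf 174)) (BT.node (BT.node (BT.leaf 73) (BT.leaf 272)) (BT.leaf 76))) (BT.node (BT.node (BT.node (BT.leaf 193) (BT.leaf 144)) (BT.leaf 241)) (BT.node (BT.node (BT.leaf 320) (BT.leaf 72)) (BT.leaf 105)))) (BT.node (BT.node (BT.node (BT.node (BT.leaf 25) (BT.leaf 300)) (BT.leaf 65)) (BT.node (BT.node (BT.leaf 296) (BT.leaf 315)) (BT.leaf 157))) (BT.node (BT.node (BT.node (BT.leaf 240) (BT.leaf 275)) (BT.leaf 242)) (BT.node (BT.node (BT.leaf 121) (BT.leaf 360)) (BT.leaf 353)))))) (BT.node (BT.node (BT.node (BT.node (BT.node (BT.node (BT.leaf 42) (BT.leaf 251)) (BT.leaf 256)) (BT.node (BT.node (BT.leaf 263) (BT.leaf 362)) (BT.leaf 204))) (BT.node (BT.node (BT.node (BT.leaf 37) (BT.leaf 281)) (BT.leaf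 109)) (BT.node (BT.node (BT.leaf 101) (BT.leaf 176)) (BT.leaf 303)))) (BT.node (BT.node (BT.node (BT.node (BT.leaf 115) (BT.leaf 87)) (BT.leaf 286)) (BT.node (BT.node (BT.leaf 299) (BT.leaf 57)) (BT.leaf 21))) (BT.node (BT.node (BT.node (BT.leaf 232) (BT.leaf 268)) (BT.leaf 361)) (BT.node (BT.node (BT.leaf 340) (BT.leaf 224)) (BT.leaf 180))))) (BT.node (BT.node (BT.node (BT.node (BT.node (BT.leaf 13) (BT.leaf 376)) (BT.leaf 351)) (BT.node (BT.node (BT.leaf 77) (BT.leaf 198)) (BT.leaf 297))) (BT.node (BT.node (BT.node (BT.leaf 67) (BT.leaf 338)) (BT.leaf 226)) (BT.node (BT.node (BT.leaf 36) (BT.leaf 138)) (BT.leaf 177)))) (BT.node (BT.node (BT.node (BT.node (BT.leaf 29) (BT.leaf 302)) (BT.leaf 78)) (BT.node (BT.node (BT.leaf 68) (BT.leaf 231)) (BT.leaf 173))) (BT.node (BT.node (BT.node (BT.leaf 61) (BT.leaf 128)) (BT.leaf 56)) (BT.node (BT.leaf 125) (BT.leaf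 222))))))) (BT.node (BT.node (BT.node (BT.node (BT.node (BT.node (BT.node (BT.leaf 3) (BT.leaf 254)) (BT.leaf 100)) (BT.node (BT.node (BT.leaf 211) (BT.leaf 245)) (BT.leaf 215))) (BT.node (BT.node (BT.node (BT.leaf 169) (BT.leaf 343)) (BT.leaf 354)) (BT.node (BT.node (BT.leaf 91) (BT.leaf 292)) (BT.leaf 359)))) (BT.node (BT.node (BT.node (BT.node (BT.leaf 19) (BT.leaf 96)) (BT.leaf 311)) (BT.node (BT.node (BT.leaf 83) (BT.leaf 282)) (BT.leaf 45))) (BT.node (BT.node (BT.node (BT.leaf 110) (BT.leaf 98)) (BT.leaf 327)) (BT.node (BT.node (BT.leaf 213) (BT.leaf 171)) (BT.leaf 170))))) (BT.node (BT.node (BT.node (BT.node (BT.node (BT.leaf 11) (BT.leaf 93)) (BT.leaf 136)) (BT.node (BT.node (BT.leaf 175) (BT.leaf 186)) (BT.leaf 223))) (BT.node (BT.node (BT.node (BT.leaf 197) (BT.leaf 350)) (BT.leaf 265)) (BT.node (BT.node (BT.leaf 107) (BT.leaf 166)) (BT.leaf 117))))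 (BT.node (BT.node (BT.node (BT.node (BT.leaf 74) (BT.leaf 325)) (BT.leaf 159)) (BT.node (BT.node (BT.leaf 306) (BT.leaf 118)) (BT.leaf 285))) (BT.node (BT.node (BT.node (BT.leaf 195) (BT.leaf 199)) (BT.leaf 278)) (BT.node (BT.leaf 123) (BT.leaf 266)))))) (BT.node (BT.node (BT.node (BT.node (BT.node (BT.node (BT.leaf 55) (BT.leaf 294)) (BT.leaf 135)) (BT.node (BT.node (BT.leaf 63) (BT.leaf 273)) (BT.leaf 345))) (BT.node (BT.node (BT.node (BT.leaf 168) (BT.leaf 127)) (BT.leaf 111)) (BT.node (BT.node (BT.leaf 116) (BT.leaf 95)) (BT.leaf 370)))) (BT.node (BT.node (BT.node (BT.node (BT.leaf 23) (BT.leaf 44)) (BT.leaf 288)) (BT.node (BT.node (BT.leaf 140) (BT.leaf 304)) (BT.leaf 59))) (BT.node (BT.node (BT.node (BT.leaf 238) (BT.leaf 172)) (BT.leaf 192)) (BT.node (BT.node (BT.leaf 269) (BT.leaf 346)) (BT.leaf 28))))) (BT.node (BT.node (BT.node (BT.node (BT.node (BT.leaf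 90) (BT.leaf 190)) (BT.leaf 210)) (BT.node (BT.node (BT.leaf 132) (BT.leaf 347)) (BT.leaf 279))) (BT.node (BT.node (BT.node (BT.leaf 47) (BT.leaf 230)) (BT.leaf 366)) (BT.node (BT.node (BT.leaf 38) (BT.leaf 54)) (BT.leaf 352)))) (BT.node (BT.node (BT.node (BT.node (BT.leaf 31) (BT.leaf 237)) (BT.leaf 258)) (BT.node (BT.node (BT.leaf 227) (BT.leaf 305)) (BT.leaf 328))) (BT.node (BT.node (BT.node (BT.leaf 255) (BT.leaf 332)) (BT.leaf 284)) (BT.node (BT.leaf 82) (BT.leaf 71))))))))),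
  (BT.node (BT.node (BT.node (BT.node (BT.node (BT.node (BT.node (BT.node (BT.node (BT.leaf 5) (BT.leaf 60)) (BT.leaf 51)) (BT.node (BT.node (BT.leaf 64) (BT.leaf 47)) (BT.leaf 256))) (BT.node (BT.node (BT.node (BT.leaf 109) (BT.leaf 221)) (BT.leaf 167)) (BT.node (BT.node (BT.leaf 141) (BT.leaf 352)) (BT.leaf 217)))) (BT.node (BT.node (BT.node (BT.node (BT.leaf 93) (BT.leaf 169)) (BT.leaf 163)) (BT.node (BT.node (BT.leaf 290) (BT.leaf 295)) (BT.leaf 236))) (BT.node (BT.node (BT.node (BT.leaf 142) (BT.leaf 304)) (BT.leaf 330)) (BT.node (BT.node (BT.leaf 107) (BT.leaf 317)) (BT.leaf 345))))) (BT.node (BT.node (BT.node (BT.node (BT.node (BT.leaf 45) (BT.leaf 26)) (BT.leaf 296)) (BT.node (BT.node (BT.leaf 200) (BT.leaf 49)) (BT.leaf 100))) (BT.node (BT.node (BT.node (BT.leaf 4) (BT.leaf 27)) (BT.leaf 369)) (BT.node (BT.node (BT.leaf 99) (BT.leaf 360)) (BT.leaf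 177)))) (BT.node (BT.node (BT.node (BT.node (BT.leaf 118) (BT.leaf 307)) (BT.leaf 224)) (BT.node (BT.node (BT.leaf 14) (BT.leaf 344)) (BT.leaf 168))) (BT.node (BT.node (BT.node (BT.leaf 241) (BT.leaf 312)) (BT.leaf 38)) (BT.node (BT.node (BT.leaf 289) (BT.leaf 376)) (BT.leaf 53)))))) (BT.node (BT.node (BT.node (BT.node (BT.node (BT.node (BT.leaf 35) (BT.leaf 36)) (BT.leaf 272)) (BT.node (BT.node (BT.leaf 1) (BT.leaf 358)) (BT.leaf 56))) (BT.node (BT.node (BT.node (BT.leaf 135) (BT.leaf 335)) (BT.leaf 357)) (BT.node (BT.node (BT.leaf 72) (BT.leaf 130)) (BT.leaf 102)))) (BT.node (BT.node (BT.node (BT.node (BT.leaf 41) (BT.leaf 314)) (BT.leaf 42)) (BT.node (BT.node (BT.leaf 293) (BT.leaf 125)) (BT.leaf 212))) (BT.node (BT.node (BT.node (BT.leaf 229) (BT.leaf 308)) (BT.leaf 298)) (BT.node (BT.node (BT.leaf 336) (BT.leaf 313)) (BT.leaf 283))))) (BT.node (BT.node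 (BT.node (BT.node (BT.node (BT.leaf 75) (BT.leaf 97)) (BT.leaf 282)) (BT.node (BT.node (BT.leaf 250) (BT.leaf 277)) (BT.leaf 220))) (BT.node (BT.node (BT.node (BT.leaf 59) (BT.leaf 300)) (BT.leaf 184)) (BT.node (BT.node (BT.leaf 180) (BT.leaf 139)) (BT.leaf 325)))) (BT.node (BT.node (BT.node (BT.node (BT.leaf 143) (BT.leaf 193)) (BT.leaf 278)) (BT.node (BT.node (BT.leaf 18) (BT.leaf 166)) (BT.leaf 311))) (BT.node (BT.node (BT.node (BT.leaf 192) (BT.leaf 305)) (BT.leaf 367)) (BT.node (BT.leaf 138) (BT.leaf 288))))))) (BT.node (BT.node (BT.node (BT.node (BT.node (BT.node (BT.node (BT.leaf 21) (BT.leaf 258)) (BT.leaf 337)) (BT.node (BT.node (BT.leaf 66) (BT.leaf 324)) (BT.leaf 54))) (BT.node (BT.node (BT.node (BT.leaf 114) (BT.leaf 13)) (BT.leaf 84)) (BT.node (BT.node (BT.leaf 104) (BT.leaf 361)) (BT.leaf 30)))) (BT.node (BT.node (BT.node (BT.node (BT.leaf 17)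 (BT.leaf 110)) (BT.leaf 238)) (BT.node (BT.node (BT.leaf 140) (BT.leaf 351)) (BT.leaf 210))) (BT.node (BT.node (BT.node (BT.leaf 219) (BT.leaf 306)) (BT.leaf 178)) (BT.node (BT.node (BT.leaf 257) (BT.leaf 323)) (BT.leaf 112))))) (BT.node (BT.node (BT.node (BT.node (BT.node (BT.leaf 0) (BT.leaf 12)) (BT.leaf 281)) (BT.node (BT.node (BT.leaf 89) (BT.leaf 207)) (BT.leaf 146))) (BT.node (BT.node (BT.node (BT.leaf 29) (BT.leaf 108)) (BT.leaf 197)) (BT.node (BT.node (BT.leaf 321) (BT.leaf 106)) (BT.leaf 341)))) (BT.node (BT.node (BT.node (BT.node (BT.leaf 133) (BT.leaf 82)) (BT.leaf 329)) (BT.node (BT.node (BT.leaf 16) (BT.leaf 331)) (BT.leaf 328))) (BT.node (BT.node (BT.node (BT.leaf 58) (BT.leaf 310)) (BT.leaf 186)) (BT.node (BT.leaf 292) (BT.leaf 243)))))) (BT.node (BT.node (BT.node (BT.node (BT.node (BT.node (BT.leaf 48) (BT.leaf 198)) (BT.leaf 349)) (BT.node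 (BT.node (BT.leaf 271) (BT.leaf 33)) (BT.leaf 149))) (BT.node (BT.node (BT.node (BT.leaf 172) (BT.leaf 115)) (BT.leaf 199)) (BT.node (BT.node (BT.leaf 230) (BT.leaf 322)) (BT.leaf 228)))) (BT.node (BT.node (BT.node (BT.node (BT.leaf 120) (BT.leaf 227)) (BT.leaf 188)) (BT.node (BT.node (BT.leaf 86) (BT.leaf 343)) (BT.leaf 320))) (BT.node (BT.node (BT.node (BT.leaf 237) (BT.leaf 276)) (BT.leaf 182)) (BT.node (BT.node (BT.leaf 270) (BT.leaf 374)) (BT.leaf 246))))) (BT.node (BT.node (BT.node (BT.node (BT.node (BT.leaf 85) (BT.leaf 24)) (BT.leaf 6)) (BT.node (BT.node (BT.leaf 205) (BT.leaf 96)) (BT.leaf 248))) (BT.node (BT.node (BT.node (BT.leaf 46) (BT.leaf 302)) (BT.leaf 121)) (BT.node (BT.node (BT.leaf 195) (BT.leaf 366)) (BT.leaf 202)))) (BT.node (BT.node (BT.node (BT.node (BT.leaf 77) (BT.leaf 170)) (BT.leaf 137)) (BT.node (BT.node (BT.leaf 268) (BT.leaf 364))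 (BT.leaf 240))) (BT.node (BT.node (BT.node (BT.leaf 62) (BT.leaf 315)) (BT.leaf 20)) (BT.node (BT.leaf 346) (BT.leaf 254)))))))) (BT.node (BT.node (BT.node (BT.node (BT.node (BT.node (BT.node (BT.node (BT.leaf 15) (BT.leaf 34)) (BT.leaf 129)) (BT.node (BT.node (BT.leaf 65) (BT.leaf 362)) (BT.leaf 79))) (BT.node (BT.node (BT.node (BT.leaf 147) (BT.leaf 22)) (BT.leaf 234)) (BT.node (BT.node (BT.leaf 94) (BT.leaf 144)) (BT.leaf 232)))) (BT.node (BT.node (BT.node (BT.node (BT.leaf 92) (BT.leaf 265)) (BT.leaf 285)) (BT.node (BT.node (BT.leaf 294) (BT.leaf 356)) (BT.leaf 245))) (BT.node (BT.node (BT.node (BT.leaf 218) (BT.leaf 319)) (BT.leaf 225)) (BT.node (BT.node (BT.leaf 101) (BT.leaf 216)) (BT.leaf 196))))) (BT.node (BT.node (BT.node (BT.node (BT.node (BT.leaf 9) (BT.leaf 73)) (BT.leaf 159)) (BT.node (BT.node (BT.leaf 273) (BT.leaf 191)) (BT.leaf 111))) (BT.node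 (BT.node (BT.node (BT.leaf 190) (BT.leaf 203)) (BT.leaf 132)) (BT.node (BT.node (BT.leaf 239) (BT.leaf 157)) (BT.leaf 233)))) (BT.node (BT.node (BT.node (BT.node (BT.leaf 52) (BT.leaf 124)) (BT.leaf 32)) (BT.node (BT.node (BT.leaf 299) (BT.leaf 222)) (BT.leaf 152))) (BT.node (BT.node (BT.node (BT.leaf 209) (BT.leaf 339)) (BT.leaf 185)) (BT.node (BT.node (BT.leaf 155) (BT.leaf 83)) (BT.leaf 223)))))) (BT.node (BT.node (BT.node (BT.node (BT.node (BT.node (BT.leaf 10) (BT.leaf 261)) (BT.leaf 264)) (BT.node (BT.node (BT.leaf 2) (BT.leaf 208)) (BT.leaf 286))) (BT.node (BT.node (BT.node (BT.leaf 171) (BT.leaf 162)) (BT.leaf 165)) (BT.node (BT.node (BT.leaf 95) (BT.leaf 215)) (BT.leaf 25)))) (BT.node (BT.node (BT.node (BT.node (BT.leaf 69) (BT.leaf 275)) (BT.leaf 262)) (BT.node (BT.node (BT.leaf 88) (BT.leaf 161)) (BT.leaf 213))) (BT.node (BT.node (BT.node (BT.leaf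 206) (BT.leaf 309)) (BT.leaf 249)) (BT.node (BT.node (BT.leaf 269) (BT.leaf 297)) (BT.leaf 57))))) (BT.node (BT.node (BT.node (BT.node (BT.node (BT.leaf 80) (BT.leaf 23)) (BT.leaf 334)) (BT.node (BT.node (BT.leaf 226) (BT.leaf 160)) (BT.leaf 131))) (BT.node (BT.node (BT.node (BT.leaf 63) (BT.leaf 103)) (BT.leaf 173)) (BT.node (BT.node (BT.leaf 153) (BT.leaf 365)) (BT.leaf 194)))) (BT.node (BT.node (BT.node (BT.node (BT.leaf 148) (BT.leaf 31)) (BT.leaf 354)) (BT.node (BT.node (BT.leaf 90) (BT.leaf 253)) (BT.leaf 252))) (BT.node (BT.node (BT.node (BT.leaf 251) (BT.leaf 279)) (BT.leaf 70)) (BT.node (BT.leaf 119) (BT.leaf 134))))))) (BT.node (BT.node (BT.node (BT.node (BT.node (BT.node (BT.node (BT.leaf 28) (BT.leaf 50)) (BT.leaf 78)) (BT.node (BT.node (BT.leaf 11) (BT.leaf 363)) (BT.leaf 274))) (BT.node (BT.node (BT.node (BT.leaf 40) (BT.leaf 377)) (BT.leaf 353))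 (BT.node (BT.node (BT.leaf 98) (BT.leaf 355)) (BT.leaf 156)))) (BT.node (BT.node (BT.node (BT.node (BT.leaf 105) (BT.leaf 332)) (BT.leaf 326)) (BT.node (BT.node (BT.leaf 291) (BT.leaf 372)) (BT.leaf 211))) (BT.node (BT.node (BT.node (BT.leaf 55) (BT.leaf 91)) (BT.leaf 37)) (BT.node (BT.node (BT.leaf 81) (BT.leaf 371)) (BT.leaf 76))))) (BT.node (BT.node (BT.node (BT.node (BT.node (BT.leaf 71) (BT.leaf 267)) (BT.leaf 350)) (BT.node (BT.node (BT.leaf 266) (BT.leaf 126)) (BT.leaf 373))) (BT.node (BT.node (BT.node (BT.leaf 201) (BT.leaf 74)) (BT.leaf 179)) (BT.node (BT.node (BT.leaf 242) (BT.leaf 370)) (BT.leaf 235)))) (BT.node (BT.node (BT.node (BT.node (BT.leaf 136) (BT.leaf 287)) (BT.leaf 174)) (BT.node (BT.node (BT.leaf 280) (BT.leaf 347)) (BT.leaf 259))) (BT.node (BT.node (BT.node (BT.leaf 7) (BT.leaf 231)) (BT.leaf 187)) (BT.node (BT.leaf 342) (BT.leaf 175))))))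 (BT.node (BT.node (BT.node (BT.node (BT.node (BT.node (BT.leaf 44) (BT.leaf 263)) (BT.leaf 260)) (BT.node (BT.node (BT.leaf 67) (BT.leaf 327)) (BT.leaf 348))) (BT.node (BT.node (BT.node (BT.leaf 39) (BT.leaf 116)) (BT.leaf 333)) (BT.node (BT.node (BT.leaf 87) (BT.leaf 359)) (BT.leaf 318)))) (BT.node (BT.node (BT.node (BT.node (BT.leaf 117) (BT.leaf 368)) (BT.leaf 151)) (BT.node (BT.node (BT.leaf 301) (BT.leaf 123)) (BT.leaf 164))) (BT.node (BT.node (BT.node (BT.leaf 128) (BT.leaf 204)) (BT.leaf 183)) (BT.node (BT.node (BT.leaf 340) (BT.leaf 375)) (BT.leaf 247))))) (BT.node (BT.node (BT.node (BT.node (BT.node (BT.leaf 68) (BT.leaf 189)) (BT.leaf 3)) (BT.node (BT.node (BT.leaf 284) (BT.leaf 122)) (BT.leaf 176))) (BT.node (BT.node (BT.node (BT.leaf 214) (BT.leaf 303)) (BT.leaf 61)) (BT.node (BT.node (BT.leaf 43) (BT.leaf 150)) (BT.leaf 19)))) (BT.node (BT.node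 (BT.node (BT.node (BT.leaf 145) (BT.leaf 244)) (BT.leaf 158)) (BT.node (BT.node (BT.leaf 113) (BT.leaf 127)) (BT.leaf 181))) (BT.node (BT.node (BT.node (BT.leaf 8) (BT.leaf 316)) (BT.leaf 154)) (BT.node (BT.leaf 338) (BT.leaf 255))))))))),
  (BT.node (BT.node (BT.node (BT.node (BT.node (BT.node (BT.node (BT.node (BT.node (BT.leaf 6) (BT.leaf 225)) (BT.leaf 234)) (BT.node (BT.node (BT.leaf 1) (BT.leaf 44)) (BT.leaf 315))) (BT.node (BT.node (BT.node (BT.leaf 0) (BT.leaf 361)) (BT.leaf 10)) (BT.node (BT.node (BT.leaf 296) (BT.leaf 244)) (BT.leaf 7)))) (BT.node (BT.node (BT.node (BT.node (BT.leaf 64) (BT.leaf 273)) (BT.leaf 221)) (BT.node (BT.node (BT.leaf 118) (BT.leaf 270)) (BT.leaf 320))) (BT.node (BT.node (BT.node (BT.leaf 30) (BT.leaf 186)) (BT.leaf 354)) (BT.node (BT.node (BT.leaf 317) (BT.leaf 46)) (BT.leaf 333))))) (BT.node (BT.node (BT.node (BT.node (BT.node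 (BT.leaf 50) (BT.leaf 199)) (BT.leaf 229)) (BT.node (BT.node (BT.leaf 48) (BT.leaf 166)) (BT.leaf 55))) (BT.node (BT.node (BT.node (BT.leaf 176) (BT.leaf 82)) (BT.leaf 310)) (BT.node (BT.node (BT.leaf 280) (BT.leaf 305)) (BT.leaf 105)))) (BT.node (BT.node (BT.node (BT.node (BT.leaf 123) (BT.leaf 344)) (BT.leaf 188)) (BT.node (BT.node (BT.leaf 303) (BT.leaf 104)) (BT.leaf 178))) (BT.node (BT.node (BT.node (BT.leaf 224) (BT.leaf 68)) (BT.leaf 349)) (BT.node (BT.node (BT.leaf 332) (BT.leaf 316)) (BT.leaf 172)))))) (BT.node (BT.node (BT.node (BT.node (BT.node (BT.node (BT.leaf 36) (BT.leaf 132)) (BT.leaf 302)) (BT.node (BT.node (BT.leaf 268) (BT.leaf 371)) (BT.leaf 324))) (BT.node (BT.node (BT.node (BT.leaf 145) (BT.leaf 120)) (BT.leaf 42)) (BT.node (BT.node (BT.leaf 201) (BT.leaf 377)) (BT.leaf 136)))) (BT.node (BT.node (BT.node (BT.node (BT.leaf 109) (BT.leaf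 218)) (BT.leaf 330)) (BT.node (BT.node (BT.leaf 23) (BT.leaf 115)) (BT.leaf 99))) (BT.node (BT.node (BT.node (BT.leaf 139) (BT.leaf 15)) (BT.leaf 256)) (BT.node (BT.node (BT.leaf 117) (BT.leaf 289)) (BT.leaf 146))))) (BT.node (BT.node (BT.node (BT.node (BT.node (BT.leaf 8) (BT.leaf 312)) (BT.leaf 291)) (BT.node (BT.node (BT.leaf 177) (BT.leaf 292)) (BT.leaf 368))) (BT.node (BT.node (BT.node (BT.leaf 208) (BT.leaf 365)) (BT.leaf 249)) (BT.node (BT.node (BT.leaf 217) (BT.leaf 295)) (BT.leaf 192)))) (BT.node (BT.node (BT.node (BT.node (BT.leaf 144) (BT.leaf 357)) (BT.leaf 73)) (BT.node (BT.node (BT.leaf 307) (BT.leaf 59)) (BT.leaf 154))) (BT.node (BT.node (BT.node (BT.leaf 9) (BT.leaf 263)) (BT.leaf 311)) (BT.node (BT.leaf 130) (BT.leaf 156))))))) (BT.node (BT.node (BT.node (BT.node (BT.node (BT.node (BT.node (BT.leaf 22) (BT.leaf 14)) (BT.leaf 125)) (BT.node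 (BT.node (BT.leaf 110) (BT.leaf 245)) (BT.leaf 171))) (BT.node (BT.node (BT.node (BT.leaf 165) (BT.leaf 336)) (BT.leaf 350)) (BT.node (BT.node (BT.leaf 93) (BT.leaf 40)) (BT.leaf 247)))) (BT.node (BT.node (BT.node (BT.node (BT.leaf 94) (BT.leaf 214)) (BT.leaf 352)) (BT.node (BT.node (BT.leaf 96) (BT.leaf 80)) (BT.leaf 288))) (BT.node (BT.node (BT.node (BT.leaf 12) (BT.leaf 17)) (BT.leaf 107)) (BT.node (BT.node (BT.leaf 200) (BT.leaf 35)) (BT.leaf 348))))) (BT.node (BT.node (BT.node (BT.node (BT.node (BT.leaf 51) (BT.leaf 149)) (BT.leaf 299)) (BT.node (BT.node (BT.leaf 174) (BT.leaf 33)) (BT.leaf 5))) (BT.node (BT.node (BT.node (BT.leaf 197) (BT.leaf 168)) (BT.leaf 370)) (BT.node (BT.node (BT.leaf 323) (BT.leaf 272)) (BT.leaf 39)))) (BT.node (BT.node (BT.node (BT.node (BT.leaf 60) (BT.leaf 69)) (BT.leaf 57)) (BT.node (BT.node (BT.leaf 306) (BT.leaf 342)) (BT.leaf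 191))) (BT.node (BT.node (BT.node (BT.leaf 106) (BT.leaf 239)) (BT.leaf 87)) (BT.node (BT.leaf 102) (BT.leaf 66)))))) (BT.node (BT.node (BT.node (BT.node (BT.node (BT.node (BT.leaf 32) (BT.leaf 287)) (BT.leaf 215)) (BT.node (BT.node (BT.leaf 219) (BT.leaf 359)) (BT.leaf 190))) (BT.node (BT.node (BT.node (BT.leaf 175) (BT.leaf 119)) (BT.leaf 211)) (BT.node (BT.node (BT.leaf 83) (BT.leaf 314)) (BT.leaf 52)))) (BT.node (BT.node (BT.node (BT.node (BT.leaf 121) (BT.leaf 38)) (BT.leaf 274)) (BT.node (BT.node (BT.leaf 258) (BT.leaf 141)) (BT.leaf 150))) (BT.node (BT.node (BT.node (BT.leaf 183) (BT.leaf 298)) (BT.leaf 88)) (BT.node (BT.node (BT.leaf 338) (BT.leaf 319)) (BT.leaf 347))))) (BT.node (BT.node (BT.node (BT.node (BT.node (BT.leaf 86) (BT.leaf 290)) (BT.leaf 205)) (BT.node (BT.node (BT.leaf 63) (BT.leaf 340)) (BT.leaf 265))) (BT.node (BT.node (BT.node (BT.leaf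 204) (BT.leaf 260)) (BT.leaf 159)) (BT.node (BT.node (BT.leaf 250) (BT.leaf 113)) (BT.leaf 189)))) (BT.node (BT.node (BT.node (BT.node (BT.leaf 72) (BT.leaf 227)) (BT.leaf 13)) (BT.node (BT.node (BT.leaf 129) (BT.leaf 281)) (BT.leaf 78))) (BT.node (BT.node (BT.node (BT.leaf 19) (BT.leaf 112)) (BT.leaf 341)) (BT.node (BT.leaf 84) (BT.leaf 20)))))))) (BT.node (BT.node (BT.node (BT.node (BT.node (BT.node (BT.node (BT.node (BT.leaf 16) (BT.leaf 179)) (BT.leaf 18)) (BT.node (BT.node (BT.leaf 79) (BT.leaf 147)) (BT.leaf 206))) (BT.node (BT.node (BT.node (BT.leaf 148) (BT.leaf 335)) (BT.leaf 45)) (BT.node (BT.node (BT.leaf 212) (BT.leaf 321)) (BT.leaf 180)))) (BT.node (BT.node (BT.node (BT.node (BT.leaf 90) (BT.leaf 362)) (BT.leaf 4)) (BT.node (BT.node (BT.leaf 158) (BT.leaf 140)) (BT.leaf 195))) (BT.node (BT.node (BT.node (BT.leaf 76) (BT.leaf 375)) (BT.leaf 49))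 (BT.node (BT.node (BT.leaf 167) (BT.leaf 209)) (BT.leaf 243))))) (BT.node (BT.node (BT.node (BT.node (BT.node (BT.leaf 26) (BT.leaf 193)) (BT.leaf 155)) (BT.node (BT.node (BT.leaf 252) (BT.leaf 327)) (BT.leaf 237))) (BT.node (BT.node (BT.node (BT.leaf 194) (BT.leaf 226)) (BT.leaf 184)) (BT.node (BT.node (BT.leaf 279) (BT.leaf 210)) (BT.leaf 207)))) (BT.node (BT.node (BT.node (BT.node (BT.leaf 24) (BT.leaf 162)) (BT.leaf 70)) (BT.node (BT.node (BT.leaf 127) (BT.leaf 54)) (BT.leaf 255))) (BT.node (BT.node (BT.node (BT.leaf 220) (BT.leaf 364)) (BT.leaf 134)) (BT.node (BT.node (BT.leaf 2) (BT.leaf 351)) (BT.leaf 248)))))) (BT.node (BT.node (BT.node (BT.node (BT.node (BT.node (BT.leaf 43) (BT.leaf 286)) (BT.leaf 322)) (BT.node (BT.node (BT.leaf 269) (BT.leaf 329)) (BT.leaf 164))) (BT.node (BT.node (BT.node (BT.leaf 101) (BT.leaf 138)) (BT.leaf 259)) (BT.node (BT.node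 (BT.leaf 77) (BT.leaf 163)) (BT.leaf 228)))) (BT.node (BT.node (BT.node (BT.node (BT.leaf 116) (BT.leaf 343)) (BT.leaf 95)) (BT.node (BT.node (BT.leaf 300) (BT.leaf 198)) (BT.leaf 103))) (BT.node (BT.node (BT.node (BT.leaf 233) (BT.leaf 98)) (BT.leaf 143)) (BT.node (BT.node (BT.leaf 21) (BT.leaf 238)) (BT.leaf 133))))) (BT.node (BT.node (BT.node (BT.node (BT.node (BT.leaf 81) (BT.leaf 282)) (BT.leaf 346)) (BT.node (BT.node (BT.leaf 37) (BT.leaf 271)) (BT.leaf 173))) (BT.node (BT.node (BT.node (BT.leaf 203) (BT.leaf 246)) (BT.leaf 142)) (BT.node (BT.node (BT.leaf 254) (BT.leaf 85)) (BT.leaf 100)))) (BT.node (BT.node (BT.node (BT.node (BT.leaf 135) (BT.leaf 65)) (BT.leaf 71)) (BT.node (BT.node (BT.leaf 309) (BT.leaf 169)) (BT.leaf 28))) (BT.node (BT.node (BT.node (BT.leaf 31) (BT.leaf 318)) (BT.leaf 373)) (BT.node (BT.leaf 124) (BT.leaf 157))))))) (BT.node (BT.node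 (BT.node (BT.node (BT.node (BT.node (BT.node (BT.leaf 29) (BT.leaf 34)) (BT.leaf 262)) (BT.node (BT.node (BT.leaf 223) (BT.leaf 58)) (BT.leaf 369))) (BT.node (BT.node (BT.node (BT.leaf 170) (BT.leaf 337)) (BT.leaf 284)) (BT.node (BT.node (BT.leaf 97) (BT.leaf 374)) (BT.leaf 261)))) (BT.node (BT.node (BT.node (BT.node (BT.leaf 47) (BT.leaf 89)) (BT.leaf 353)) (BT.node (BT.node (BT.leaf 122) (BT.leaf 294)) (BT.leaf 328))) (BT.node (BT.node (BT.node (BT.leaf 160) (BT.leaf 267)) (BT.leaf 283)) (BT.node (BT.node (BT.leaf 334) (BT.leaf 196)) (BT.leaf 231))))) (BT.node (BT.node (BT.node (BT.node (BT.node (BT.leaf 61) (BT.leaf 92)) (BT.leaf 230)) (BT.node (BT.node (BT.leaf 187) (BT.leaf 277)) (BT.leaf 161))) (BT.node (BT.node (BT.node (BT.leaf 202) (BT.leaf 293)) (BT.leaf 41)) (BT.node (BT.node (BT.leaf 216) (BT.leaf 67)) (BT.leaf 213)))) (BT.node (BT.node (BT.node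 (BT.node (BT.leaf 137) (BT.leaf 257)) (BT.leaf 27)) (BT.node (BT.node (BT.leaf 308) (BT.leaf 301)) (BT.leaf 153))) (BT.node (BT.node (BT.node (BT.leaf 242) (BT.leaf 236)) (BT.leaf 111)) (BT.node (BT.leaf 25) (BT.leaf 326)))))) (BT.node (BT.node (BT.node (BT.node (BT.node (BT.node (BT.leaf 56) (BT.leaf 376)) (BT.leaf 3)) (BT.node (BT.node (BT.leaf 253) (BT.leaf 325)) (BT.leaf 367))) (BT.node (BT.node (BT.node (BT.leaf 128) (BT.leaf 313)) (BT.leaf 366)) (BT.node (BT.node (BT.leaf 235) (BT.leaf 251)) (BT.leaf 241)))) (BT.node (BT.node (BT.node (BT.node (BT.leaf 126) (BT.leaf 232)) (BT.leaf 181)) (BT.node (BT.node (BT.leaf 304) (BT.leaf 331)) (BT.leaf 185))) (BT.node (BT.node (BT.node (BT.leaf 114) (BT.leaf 152)) (BT.leaf 345)) (BT.node (BT.node (BT.leaf 339) (BT.leaf 360)) (BT.leaf 297))))) (BT.node (BT.node (BT.node (BT.node (BT.node (BT.leaf 91) (BT.leaf 240))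 (BT.leaf 151)) (BT.node (BT.node (BT.leaf 285) (BT.leaf 372)) (BT.leaf 53))) (BT.node (BT.node (BT.node (BT.leaf 62) (BT.leaf 182)) (BT.leaf 278)) (BT.node (BT.node (BT.leaf 75) (BT.leaf 264)) (BT.leaf 358)))) (BT.node (BT.node (BT.node (BT.node (BT.leaf 11) (BT.leaf 131)) (BT.leaf 74)) (BT.node (BT.node (BT.leaf 266) (BT.leaf 356)) (BT.leaf 363))) (BT.node (BT.node (BT.node (BT.leaf 222) (BT.leaf 355)) (BT.leaf 276)) (BT.node (BT.leaf 275) (BT.leaf 108))))))))),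
  (BT.node (BT.node (BT.node (BT.node (BT.node (BT.node (BT.node (BT.node (BT.node (BT.leaf 7) (BT.leaf 248)) (BT.leaf 19)) (BT.node (BT.node (BT.leaf 212) (BT.leaf 357)) (BT.leaf 206))) (BT.node (BT.node (BT.node (BT.leaf 154) (BT.leaf 142)) (BT.leaf 322)) (BT.node (BT.node (BT.leaf 22) (BT.leaf 62)) (BT.leaf 28)))) (BT.node (BT.node (BT.node (BT.node (BT.leaf 91) (BT.leaf 131)) (BT.leaf 8)) (BT.node (BT.node (BT.leaf 140) (BT.leaf 356)) (BT.leaf 170))) (BT.node (BT.node (BT.node (BT.leaf 218) (BT.leaf 355)) (BT.leaf 222)) (BT.node (BT.node (BT.leaf 330) (BT.leaf 132)) (BT.leaf 112))))) (BT.node (BT.node (BT.node (BT.node (BT.node (BT.leaf 57) (BT.leaf 253)) (BT.leaf 281)) (BT.node (BT.node (BT.leaf 231) (BT.leaf 288)) (BT.leaf 318))) (BT.node (BT.node (BT.node (BT.leaf 179) (BT.leaf 124)) (BT.leaf 363)) (BT.node (BT.node (BT.leaf 15) (BT.leaf 182)) (BT.leaf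 40)))) (BT.node (BT.node (BT.node (BT.node (BT.leaf 13) (BT.leaf 97)) (BT.leaf 3)) (BT.node (BT.node (BT.leaf 103) (BT.leaf 306)) (BT.leaf 323))) (BT.node (BT.node (BT.node (BT.leaf 36) (BT.leaf 344)) (BT.leaf 10)) (BT.node (BT.node (BT.leaf 292) (BT.leaf 365)) (BT.leaf 161)))))) (BT.node (BT.node (BT.node (BT.node (BT.node (BT.node (BT.leaf 37) (BT.leaf 259)) (BT.leaf 205)) (BT.node (BT.node (BT.leaf 18) (BT.leaf 361)) (BT.leaf 260))) (BT.node (BT.node (BT.node (BT.leaf 50) (BT.leaf 141)) (BT.leaf 237)) (BT.node (BT.node (BT.leaf 315) (BT.leaf 377)) (BT.leaf 74)))) (BT.node (BT.node (BT.node (BT.node (BT.leaf 110) (BT.leaf 29)) (BT.leaf 262)) (BT.node (BT.node (BT.leaf 296) (BT.leaf 115)) (BT.leaf 267))) (BT.node (BT.node (BT.node (BT.leaf 230) (BT.leaf 309)) (BT.leaf 284)) (BT.node (BT.node (BT.leaf 337) (BT.leaf 343)) (BT.leaf 26))))) (BT.node (BT.node (BT.node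 (BT.node (BT.node (BT.leaf 76) (BT.leaf 16)) (BT.leaf 118)) (BT.node (BT.node (BT.leaf 278) (BT.leaf 119)) (BT.leaf 251))) (BT.node (BT.node (BT.node (BT.leaf 172) (BT.leaf 235)) (BT.leaf 5)) (BT.node (BT.node (BT.leaf 79) (BT.leaf 121)) (BT.leaf 197)))) (BT.node (BT.node (BT.node (BT.node (BT.leaf 77) (BT.leaf 43)) (BT.leaf 266)) (BT.node (BT.node (BT.leaf 104) (BT.leaf 147)) (BT.leaf 175))) (BT.node (BT.node (BT.node (BT.leaf 53) (BT.leaf 88)) (BT.leaf 73)) (BT.node (BT.leaf 84) (BT.leaf 48))))))) (BT.node (BT.node (BT.node (BT.node (BT.node (BT.node (BT.node (BT.leaf 23) (BT.leaf 213)) (BT.leaf 83)) (BT.node (BT.node (BT.leaf 65) (BT.leaf 354)) (BT.leaf 320))) (BT.node (BT.node (BT.node (BT.leaf 166) (BT.leaf 282)) (BT.leaf 136)) (BT.node (BT.node (BT.leaf 1) (BT.leaf 160)) (BT.leaf 217)))) (BT.node (BT.node (BT.node (BT.node (BT.leaf 99) (BT.leaf 223))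 (BT.leaf 216)) (BT.node (BT.node (BT.leaf 24) (BT.leaf 21)) (BT.leaf 165))) (BT.node (BT.node (BT.node (BT.leaf 56) (BT.leaf 312)) (BT.leaf 185)) (BT.node (BT.node (BT.leaf 199) (BT.leaf 202)) (BT.leaf 176))))) (BT.node (BT.node (BT.node (BT.node (BT.node (BT.leaf 59) (BT.leaf 243)) (BT.leaf 293)) (BT.node (BT.node (BT.leaf 229) (BT.leaf 240)) (BT.leaf 369))) (BT.node (BT.node (BT.node (BT.leaf 198) (BT.leaf 193)) (BT.leaf 203)) (BT.node (BT.node (BT.leaf 128) (BT.leaf 55)) (BT.leaf 60)))) (BT.node (BT.node (BT.node (BT.node (BT.leaf 134) (BT.leaf 270)) (BT.leaf 145)) (BT.node (BT.node (BT.leaf 307) (BT.leaf 339)) (BT.leaf 252))) (BT.node (BT.node (BT.node (BT.leaf 183) (BT.leaf 148)) (BT.leaf 376)) (BT.node (BT.leaf 96) (BT.leaf 227)))))) (BT.node (BT.node (BT.node (BT.node (BT.node (BT.node (BT.leaf 49) (BT.leaf 314)) (BT.leaf 244)) (BT.node (BT.node (BT.leaf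 188) (BT.leaf 34)) (BT.leaf 310))) (BT.node (BT.node (BT.node (BT.leaf 0) (BT.leaf 332)) (BT.leaf 326)) (BT.node (BT.node (BT.leaf 89) (BT.leaf 157)) (BT.leaf 299)))) (BT.node (BT.node (BT.node (BT.node (BT.leaf 122) (BT.leaf 12)) (BT.leaf 265)) (BT.node (BT.node (BT.leaf 246) (BT.leaf 346)) (BT.leaf 164))) (BT.node (BT.node (BT.node (BT.leaf 47) (BT.leaf 42)) (BT.leaf 347)) (BT.node (BT.node (BT.leaf 80) (BT.leaf 258)) (BT.leaf 263))))) (BT.node (BT.node (BT.node (BT.node (BT.node (BT.leaf 87) (BT.leaf 290)) (BT.leaf 328)) (BT.node (BT.node (BT.leaf 279) (BT.leaf 289)) (BT.leaf 341))) (BT.node (BT.node (BT.node (BT.leaf 210) (BT.leaf 366)) (BT.leaf 159)) (BT.node (BT.node (BT.leaf 181) (BT.leaf 211)) (BT.leaf 168)))) (BT.node (BT.node (BT.node (BT.node (BT.leaf 152) (BT.leaf 297)) (BT.leaf 364)) (BT.node (BT.node (BT.leaf 90) (BT.leaf 174)) (BT.leaf 242)))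 (BT.node (BT.node (BT.node (BT.leaf 233) (BT.leaf 71)) (BT.leaf 274)) (BT.node (BT.leaf 313) (BT.leaf 255)))))))) (BT.node (BT.node (BT.node (BT.node (BT.node (BT.node (BT.node (BT.node (BT.leaf 17) (BT.leaf 348)) (BT.leaf 308)) (BT.node (BT.node (BT.leaf 247) (BT.leaf 51)) (BT.leaf 201))) (BT.node (BT.node (BT.node (BT.leaf 114) (BT.leaf 335)) (BT.leaf 256)) (BT.node (BT.node (BT.leaf 93) (BT.leaf 63)) (BT.leaf 35)))) (BT.node (BT.node (BT.node (BT.node (BT.leaf 98) (BT.leaf 271)) (BT.leaf 32)) (BT.node (BT.node (BT.leaf 275) (BT.leaf 291)) (BT.leaf 163))) (BT.node (BT.node (BT.node (BT.leaf 221) (BT.leaf 14)) (BT.leaf 4)) (BT.node (BT.node (BT.leaf 204) (BT.leaf 370)) (BT.leaf 135))))) (BT.node (BT.node (BT.node (BT.node (BT.node (BT.leaf 58) (BT.leaf 189)) (BT.leaf 139)) (BT.node (BT.node (BT.leaf 70) (BT.leaf 285)) (BT.leaf 298))) (BT.node (BT.node (BT.node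 (BT.leaf 195) (BT.leaf 325)) (BT.leaf 78)) (BT.node (BT.node (BT.leaf 321) (BT.leaf 167)) (BT.leaf 352)))) (BT.node (BT.node (BT.node (BT.node (BT.leaf 102) (BT.leaf 162)) (BT.leaf 191)) (BT.node (BT.node (BT.leaf 25) (BT.leaf 107)) (BT.leaf 143))) (BT.node (BT.node (BT.node (BT.leaf 144) (BT.leaf 123)) (BT.leaf 39)) (BT.node (BT.node (BT.leaf 158) (BT.leaf 336)) (BT.leaf 41)))))) (BT.node (BT.node (BT.node (BT.node (BT.node (BT.node (BT.leaf 44) (BT.leaf 254)) (BT.leaf 349)) (BT.node (BT.node (BT.leaf 269) (BT.leaf 286)) (BT.leaf 373))) (BT.node (BT.node (BT.node (BT.leaf 177) (BT.leaf 27)) (BT.leaf 46)) (BT.node (BT.node (BT.leaf 220) (BT.leaf 194)) (BT.leaf 228)))) (BT.node (BT.node (BT.node (BT.node (BT.leaf 117) (BT.leaf 340)) (BT.leaf 276)) (BT.node (BT.node (BT.leaf 301) (BT.leaf 192)) (BT.leaf 374))) (BT.node (BT.node (BT.node (BT.leaf 234) (BT.leaf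 129)) (BT.leaf 20)) (BT.node (BT.node (BT.leaf 338) (BT.leaf 236)) (BT.leaf 353))))) (BT.node (BT.node (BT.node (BT.node (BT.node (BT.leaf 82) (BT.leaf 351)) (BT.leaf 120)) (BT.node (BT.node (BT.leaf 224) (BT.leaf 358)) (BT.leaf 368))) (BT.node (BT.node (BT.node (BT.leaf 209) (BT.leaf 319)) (BT.leaf 371)) (BT.node (BT.node (BT.leaf 329) (BT.leaf 186)) (BT.leaf 214)))) (BT.node (BT.node (BT.node (BT.node (BT.leaf 149) (BT.leaf 109)) (BT.leaf 333)) (BT.node (BT.node (BT.leaf 280) (BT.leaf 283)) (BT.leaf 6))) (BT.node (BT.node (BT.node (BT.leaf 95) (BT.leaf 272)) (BT.leaf 150)) (BT.node (BT.leaf 81) (BT.leaf 287))))))) (BT.node (BT.node (BT.node (BT.node (BT.node (BT.node (BT.node (BT.leaf 30) (BT.leaf 196)) (BT.leaf 317)) (BT.node (BT.node (BT.leaf 100) (BT.leaf 146)) (BT.leaf 249))) (BT.node (BT.node (BT.node (BT.leaf 171) (BT.leaf 116)) (BT.leaf 45)) (BT.node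 (BT.node (BT.leaf 68) (BT.leaf 303)) (BT.leaf 75)))) (BT.node (BT.node (BT.node (BT.node (BT.leaf 106) (BT.leaf 125)) (BT.leaf 257)) (BT.node (BT.node (BT.leaf 295) (BT.leaf 342)) (BT.leaf 302))) (BT.node (BT.node (BT.node (BT.leaf 105) (BT.leaf 94)) (BT.leaf 232)) (BT.node (BT.node (BT.leaf 277) (BT.leaf 359)) (BT.leaf 156))))) (BT.node (BT.node (BT.node (BT.node (BT.node (BT.leaf 72) (BT.leaf 64)) (BT.leaf 155)) (BT.node (BT.node (BT.leaf 250) (BT.leaf 372)) (BT.leaf 208))) (BT.node (BT.node (BT.node (BT.leaf 180) (BT.leaf 52)) (BT.leaf 225)) (BT.node (BT.node (BT.leaf 207) (BT.leaf 238)) (BT.leaf 375)))) (BT.node (BT.node (BT.node (BT.node (BT.leaf 138) (BT.leaf 133)) (BT.leaf 137)) (BT.node (BT.node (BT.leaf 268) (BT.leaf 360)) (BT.leaf 241))) (BT.node (BT.node (BT.node (BT.leaf 184) (BT.leaf 67)) (BT.leaf 327)) (BT.node (BT.leaf 126) (BT.leaf 113))))))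 (BT.node (BT.node (BT.node (BT.node (BT.node (BT.node (BT.leaf 38) (BT.leaf 86)) (BT.leaf 219)) (BT.node (BT.node (BT.leaf 200) (BT.leaf 151)) (BT.leaf 33))) (BT.node (BT.node (BT.node (BT.leaf 178) (BT.leaf 130)) (BT.leaf 324)) (BT.node (BT.node (BT.leaf 316) (BT.leaf 173)) (BT.leaf 11)))) (BT.node (BT.node (BT.node (BT.node (BT.leaf 127) (BT.leaf 169)) (BT.leaf 187)) (BT.node (BT.node (BT.leaf 305) (BT.leaf 331)) (BT.leaf 54))) (BT.node (BT.node (BT.node (BT.leaf 239) (BT.leaf 61)) (BT.leaf 9)) (BT.node (BT.node (BT.leaf 294) (BT.leaf 300)) (BT.leaf 66))))) (BT.node (BT.node (BT.node (BT.node (BT.node (BT.leaf 92) (BT.leaf 367)) (BT.leaf 226)) (BT.node (BT.node (BT.leaf 111) (BT.leaf 334)) (BT.leaf 345))) (BT.node (BT.node (BT.node (BT.leaf 215) (BT.leaf 304)) (BT.leaf 101)) (BT.node (BT.node (BT.leaf 108) (BT.leaf 273)) (BT.leaf 362)))) (BT.node (BT.node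 (BT.node (BT.node (BT.leaf 153) (BT.leaf 264)) (BT.leaf 350)) (BT.node (BT.node (BT.leaf 311) (BT.leaf 69)) (BT.leaf 190))) (BT.node (BT.node (BT.node (BT.leaf 245) (BT.leaf 85)) (BT.leaf 31)) (BT.node (BT.leaf 2) (BT.leaf 261))))))))),
  (BT.node (BT.node (BT.node (BT.node (BT.node (BT.node (BT.node (BT.node (BT.node (BT.leaf 8) (BT.leaf 320)) (BT.leaf 345)) (BT.node (BT.node (BT.leaf 129) (BT.leaf 369)) (BT.leaf 214))) (BT.node (BT.node (BT.node (BT.leaf 12) (BT.leaf 260)) (BT.leaf 78)) (BT.node (BT.node (BT.leaf 313) (BT.leaf 39)) (BT.leaf 154)))) (BT.node (BT.node (BT.node (BT.node (BT.leaf 94) (BT.leaf 33)) (BT.leaf 4)) (BT.node (BT.node (BT.leaf 291) (BT.leaf 351)) (BT.leaf 195))) (BT.node (BT.node (BT.node (BT.leaf 219) (BT.leaf 235)) (BT.leaf 349)) (BT.node (BT.node (BT.leaf 264) (BT.leaf 166)) (BT.leaf 287))))) (BT.node (BT.node (BT.node (BT.node (BT.node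 (BT.leaf 37) (BT.leaf 239)) (BT.leaf 350)) (BT.node (BT.node (BT.leaf 70) (BT.leaf 196)) (BT.leaf 271))) (BT.node (BT.node (BT.node (BT.leaf 184) (BT.leaf 364)) (BT.leaf 192)) (BT.node (BT.node (BT.leaf 1) (BT.leaf 376)) (BT.leaf 59)))) (BT.node (BT.node (BT.node (BT.node (BT.leaf 130) (BT.leaf 16)) (BT.leaf 191)) (BT.node (BT.node (BT.leaf 85) (BT.leaf 64)) (BT.leaf 60))) (BT.node (BT.node (BT.node (BT.leaf 220) (BT.leaf 267)) (BT.leaf 353)) (BT.node (BT.node (BT.leaf 342) (BT.leaf 374)) (BT.leaf 357)))))) (BT.node (BT.node (BT.node (BT.node (BT.node (BT.node (BT.leaf 38) (BT.leaf 251)) (BT.leaf 326)) (BT.node (BT.node (BT.leaf 92) (BT.leaf 368)) (BT.leaf 204))) (BT.node (BT.node (BT.node (BT.leaf 175) (BT.leaf 346)) (BT.leaf 363)) (BT.node (BT.node (BT.leaf 189) (BT.leaf 69)) (BT.leaf 162)))) (BT.node (BT.node (BT.node (BT.node (BT.leaf 111) (BT.leaf 231))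 (BT.leaf 71)) (BT.node (BT.node (BT.leaf 158) (BT.leaf 289)) (BT.leaf 308))) (BT.node (BT.node (BT.node (BT.leaf 138) (BT.leaf 306)) (BT.leaf 208)) (BT.node (BT.node (BT.leaf 338) (BT.leaf 277)) (BT.leaf 128))))) (BT.node (BT.node (BT.node (BT.node (BT.node (BT.leaf 77) (BT.leaf 307)) (BT.leaf 116)) (BT.node (BT.node (BT.leaf 224) (BT.leaf 141)) (BT.leaf 328))) (BT.node (BT.node (BT.node (BT.leaf 209) (BT.leaf 86)) (BT.leaf 163)) (BT.node (BT.node (BT.leaf 325) (BT.leaf 89)) (BT.leaf 274)))) (BT.node (BT.node (BT.node (BT.node (BT.leaf 145) (BT.leaf 170)) (BT.leaf 3)) (BT.node (BT.node (BT.leaf 98) (BT.leaf 322)) (BT.leaf 49))) (BT.node (BT.node (BT.node (BT.leaf 47) (BT.leaf 319)) (BT.leaf 276)) (BT.node (BT.leaf 121) (BT.leaf 135))))))) (BT.node (BT.node (BT.node (BT.node (BT.node (BT.node (BT.node (BT.leaf 24) (BT.leaf 182)) (BT.leaf 2)) (BT.node (BT.node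 (BT.leaf 255) (BT.leaf 279)) (BT.leaf 202))) (BT.node (BT.node (BT.node (BT.leaf 167) (BT.leaf 377)) (BT.leaf 159)) (BT.node (BT.node (BT.leaf 68) (BT.leaf 169)) (BT.leaf 109)))) (BT.node (BT.node (BT.node (BT.node (BT.leaf 104) (BT.leaf 298)) (BT.leaf 234)) (BT.node (BT.node (BT.leaf 295) (BT.leaf 140)) (BT.leaf 302))) (BT.node (BT.node (BT.node (BT.leaf 101) (BT.leaf 212)) (BT.leaf 9)) (BT.node (BT.node (BT.leaf 333) (BT.leaf 248)) (BT.leaf 133))))) (BT.node (BT.node (BT.node (BT.node (BT.node (BT.leaf 63) (BT.leaf 30)) (BT.leaf 155)) (BT.node (BT.node (BT.leaf 136) (BT.leaf 253)) (BT.leaf 161))) (BT.node (BT.node (BT.node (BT.leaf 67) (BT.leaf 236)) (BT.leaf 249)) (BT.node (BT.node (BT.leaf 207) (BT.leaf 330)) (BT.leaf 54)))) (BT.node (BT.node (BT.node (BT.node (BT.leaf 19) (BT.leaf 336)) (BT.leaf 76)) (BT.node (BT.node (BT.leaf 97) (BT.leaf 294)) (BT.leaf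 241))) (BT.node (BT.node (BT.node (BT.leaf 233) (BT.leaf 318)) (BT.leaf 213)) (BT.node (BT.leaf 126) (BT.leaf 217)))))) (BT.node (BT.node (BT.node (BT.node (BT.node (BT.node (BT.leaf 50) (BT.leaf 200)) (BT.leaf 106)) (BT.node (BT.node (BT.leaf 149) (BT.leaf 361)) (BT.leaf 100))) (BT.node (BT.node (BT.node (BT.leaf 144) (BT.leaf 292)) (BT.leaf 324)) (BT.node (BT.node (BT.leaf 84) (BT.leaf 317)) (BT.leaf 293)))) (BT.node (BT.node (BT.node (BT.node (BT.leaf 123) (BT.leaf 28)) (BT.leaf 310)) (BT.node (BT.node (BT.leaf 303) (BT.leaf 119)) (BT.leaf 168))) (BT.node (BT.node (BT.node (BT.leaf 146) (BT.leaf 315)) (BT.leaf 365)) (BT.node (BT.node (BT.leaf 337) (BT.leaf 360)) (BT.leaf 304))))) (BT.node (BT.node (BT.node (BT.node (BT.node (BT.leaf 88) (BT.leaf 356)) (BT.leaf 259)) (BT.node (BT.node (BT.leaf 257) (BT.leaf 372)) (BT.leaf 164))) (BT.node (BT.node (BT.node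 (BT.leaf 211) (BT.leaf 359)) (BT.leaf 229)) (BT.node (BT.node (BT.leaf 108) (BT.leaf 173)) (BT.leaf 341)))) (BT.node (BT.node (BT.node (BT.node (BT.leaf 153) (BT.leaf 181)) (BT.leaf 102)) (BT.node (BT.node (BT.leaf 280) (BT.leaf 74)) (BT.leaf 283))) (BT.node (BT.node (BT.node (BT.leaf 178) (BT.leaf 367)) (BT.leaf 201)) (BT.node (BT.leaf 81) (BT.leaf 187)))))))) (BT.node (BT.node (BT.node (BT.node (BT.node (BT.node (BT.node (BT.node (BT.leaf 18) (BT.leaf 160)) (BT.leaf 344)) (BT.node (BT.node (BT.leaf 261) (BT.leaf 176)) (BT.leaf 197))) (BT.node (BT.node (BT.node (BT.leaf 157) (BT.leaf 343)) (BT.leaf 194)) (BT.node (BT.node (BT.leaf 91) (BT.leaf 40)) (BT.leaf 44)))) (BT.node (BT.node (BT.node (BT.node (BT.leaf 99) (BT.leaf 148)) (BT.leaf 278)) (BT.node (BT.node (BT.leaf 122) (BT.leaf 21)) (BT.leaf 225))) (BT.node (BT.node (BT.node (BT.leaf 56) (BT.leaf 316))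 (BT.leaf 7)) (BT.node (BT.node (BT.leaf 142) (BT.leaf 256)) (BT.leaf 311))))) (BT.node (BT.node (BT.node (BT.node (BT.node (BT.leaf 62) (BT.leaf 42)) (BT.leaf 230)) (BT.node (BT.node (BT.leaf 29) (BT.leaf 250)) (BT.leaf 373))) (BT.node (BT.node (BT.node (BT.leaf 43) (BT.leaf 20)) (BT.leaf 147)) (BT.node (BT.node (BT.leaf 242) (BT.leaf 132)) (BT.leaf 185)))) (BT.node (BT.node (BT.node (BT.node (BT.leaf 124) (BT.leaf 174)) (BT.leaf 266)) (BT.node (BT.node (BT.leaf 296) (BT.leaf 244)) (BT.leaf 329))) (BT.node (BT.node (BT.node (BT.leaf 177) (BT.leaf 275)) (BT.leaf 58)) (BT.node (BT.node (BT.leaf 25) (BT.leaf 269)) (BT.leaf 284)))))) (BT.node (BT.node (BT.node (BT.node (BT.node (BT.node (BT.leaf 45) (BT.leaf 151)) (BT.leaf 105)) (BT.node (BT.node (BT.leaf 270) (BT.leaf 110)) (BT.leaf 223))) (BT.node (BT.node (BT.node (BT.leaf 0) (BT.leaf 137)) (BT.leaf 366)) (BT.node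 (BT.node (BT.leaf 6) (BT.leaf 370)) (BT.leaf 281)))) (BT.node (BT.node (BT.node (BT.node (BT.leaf 118) (BT.leaf 334)) (BT.leaf 72)) (BT.node (BT.node (BT.leaf 14) (BT.leaf 237)) (BT.leaf 347))) (BT.node (BT.node (BT.node (BT.leaf 215) (BT.leaf 312)) (BT.leaf 79)) (BT.node (BT.node (BT.leaf 80) (BT.leaf 190)) (BT.leaf 232))))) (BT.node (BT.node (BT.node (BT.node (BT.node (BT.leaf 83) (BT.leaf 290)) (BT.leaf 339)) (BT.node (BT.node (BT.leaf 32) (BT.leaf 131)) (BT.leaf 34))) (BT.node (BT.node (BT.node (BT.leaf 171) (BT.leaf 87)) (BT.leaf 165)) (BT.node (BT.node (BT.leaf 75) (BT.leaf 258)) (BT.leaf 238)))) (BT.node (BT.node (BT.node (BT.node (BT.leaf 11) (BT.leaf 227)) (BT.leaf 272)) (BT.node (BT.node (BT.leaf 268) (BT.leaf 321)) (BT.leaf 36))) (BT.node (BT.node (BT.node (BT.leaf 252) (BT.leaf 199)) (BT.leaf 198)) (BT.node (BT.leaf 22) (BT.leaf 362))))))) (BT.node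 (BT.node (BT.node (BT.node (BT.node (BT.node (BT.node (BT.leaf 31) (BT.leaf 113)) (BT.leaf 114)) (BT.node (BT.node (BT.leaf 265) (BT.leaf 53)) (BT.leaf 180))) (BT.node (BT.node (BT.node (BT.leaf 172) (BT.leaf 117)) (BT.leaf 35)) (BT.node (BT.node (BT.leaf 15) (BT.leaf 375)) (BT.leaf 143)))) (BT.node (BT.node (BT.node (BT.node (BT.leaf 107) (BT.leaf 96)) (BT.leaf 354)) (BT.node (BT.node (BT.leaf 23) (BT.leaf 332)) (BT.leaf 371))) (BT.node (BT.node (BT.node (BT.leaf 222) (BT.leaf 93)) (BT.leaf 10)) (BT.node (BT.node (BT.leaf 335) (BT.leaf 46)) (BT.leaf 152))))) (BT.node (BT.node (BT.node (BT.node (BT.node (BT.leaf 73) (BT.leaf 309)) (BT.leaf 299)) (BT.node (BT.node (BT.leaf 226) (BT.leaf 115)) (BT.leaf 41))) (BT.node (BT.node (BT.node (BT.leaf 203) (BT.leaf 27)) (BT.leaf 5)) (BT.node (BT.node (BT.leaf 26) (BT.leaf 206)) (BT.leaf 246)))) (BT.node (BT.node (BT.node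 (BT.node (BT.leaf 139) (BT.leaf 51)) (BT.leaf 52)) (BT.node (BT.node (BT.leaf 90) (BT.leaf 186)) (BT.leaf 95))) (BT.node (BT.node (BT.node (BT.leaf 245) (BT.leaf 150)) (BT.leaf 247)) (BT.node (BT.leaf 125) (BT.leaf 288)))))) (BT.node (BT.node (BT.node (BT.node (BT.node (BT.node (BT.leaf 57) (BT.leaf 355)) (BT.leaf 61)) (BT.node (BT.node (BT.leaf 273) (BT.leaf 66)) (BT.leaf 358))) (BT.node (BT.node (BT.node (BT.leaf 183) (BT.leaf 127)) (BT.leaf 205)) (BT.node (BT.node (BT.leaf 301) (BT.leaf 210)) (BT.leaf 188)))) (BT.node (BT.node (BT.node (BT.node (BT.leaf 13) (BT.leaf 348)) (BT.leaf 65)) (BT.node (BT.node (BT.leaf 103) (BT.leaf 340)) (BT.leaf 323))) (BT.node (BT.node (BT.node (BT.leaf 240) (BT.leaf 218)) (BT.leaf 352)) (BT.node (BT.node (BT.leaf 120) (BT.leaf 263)) (BT.leaf 254))))) (BT.node (BT.node (BT.node (BT.node (BT.node (BT.leaf 17) (BT.leaf 262)) (BT.leaf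 285)) (BT.node (BT.node (BT.leaf 286) (BT.leaf 331)) (BT.leaf 134))) (BT.node (BT.node (BT.node (BT.leaf 216) (BT.leaf 300)) (BT.leaf 221)) (BT.node (BT.node (BT.leaf 297) (BT.leaf 314)) (BT.leaf 112)))) (BT.node (BT.node (BT.node (BT.node (BT.leaf 156) (BT.leaf 55)) (BT.leaf 228)) (BT.node (BT.node (BT.leaf 48) (BT.leaf 282)) (BT.leaf 193))) (BT.node (BT.node (BT.node (BT.leaf 179) (BT.leaf 305)) (BT.leaf 243)) (BT.node (BT.leaf 82) (BT.leaf 327))))))))),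
  (BT.node (BT.node (BT.node (BT.node (BT.node (BT.node (BT.node (BT.node (BT.node (BT.leaf 9) (BT.leaf 326)) (BT.leaf 311)) (BT.node (BT.node (BT.leaf 64) (BT.leaf 361)) (BT.leaf 357))) (BT.node (BT.node (BT.node (BT.leaf 60) (BT.leaf 190)) (BT.leaf 250)) (BT.node (BT.node (BT.leaf 96) (BT.leaf 231)) (BT.leaf 323)))) (BT.node (BT.node (BT.node (BT.node (BT.leaf 16) (BT.leaf 257)) (BT.leaf 352)) (BT.node (BT.node (BT.leaf 292) (BT.leaf 350)) (BT.leaf 288))) (BT.node (BT.node (BT.node (BT.leaf 220) (BT.leaf 375)) (BT.leaf 111)) (BT.node (BT.node (BT.leaf 321) (BT.leaf 164)) (BT.leaf 105))))) (BT.node (BT.node (BT.node (BT.node (BT.node (BT.leaf 62) (BT.leaf 176)) (BT.leaf 334)) (BT.node (BT.node (BT.leaf 57) (BT.leaf 223)) (BT.leaf 245))) (BT.node (BT.node (BT.node (BT.leaf 187) (BT.leaf 296)) (BT.leaf 248)) (BT.node (BT.node (BT.leaf 104) (BT.leaf 258)) (BT.leaf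 151)))) (BT.node (BT.node (BT.node (BT.node (BT.leaf 24) (BT.leaf 280)) (BT.leaf 145)) (BT.node (BT.node (BT.leaf 103) (BT.leaf 344)) (BT.leaf 156))) (BT.node (BT.node (BT.node (BT.leaf 106) (BT.leaf 312)) (BT.leaf 247)) (BT.node (BT.node (BT.leaf 138) (BT.leaf 182)) (BT.leaf 34)))))) (BT.node (BT.node (BT.node (BT.node (BT.node (BT.node (BT.leaf 39) (BT.leaf 201)) (BT.leaf 237)) (BT.node (BT.node (BT.leaf 68) (BT.leaf 206)) (BT.leaf 193))) (BT.node (BT.node (BT.node (BT.leaf 128) (BT.leaf 293)) (BT.leaf 202)) (BT.node (BT.node (BT.leaf 209) (BT.leaf 174)) (BT.leaf 115)))) (BT.node (BT.node (BT.node (BT.node (BT.leaf 112) (BT.leaf 38)) (BT.leaf 10)) (BT.node (BT.node (BT.leaf 84) (BT.leaf 69)) (BT.leaf 212))) (BT.node (BT.node (BT.node (BT.leaf 21) (BT.leaf 308)) (BT.leaf 251)) (BT.node (BT.node (BT.leaf 339) (BT.leaf 336)) (BT.leaf 241))))) (BT.node (BT.node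 (BT.node (BT.node (BT.node (BT.leaf 47) (BT.leaf 268)) (BT.leaf 141)) (BT.node (BT.node (BT.leaf 215) (BT.leaf 299)) (BT.leaf 197))) (BT.node (BT.node (BT.node (BT.leaf 210) (BT.leaf 246)) (BT.leaf 165)) (BT.node (BT.node (BT.leaf 253) (BT.leaf 364)) (BT.leaf 284)))) (BT.node (BT.node (BT.node (BT.node (BT.leaf 146) (BT.leaf 113)) (BT.leaf 77)) (BT.node (BT.node (BT.leaf 92) (BT.leaf 285)) (BT.leaf 207))) (BT.node (BT.node (BT.node (BT.leaf 3) (BT.leaf 88)) (BT.leaf 4)) (BT.node (BT.leaf 124) (BT.leaf 101))))))) (BT.node (BT.node (BT.node (BT.node (BT.node (BT.node (BT.node (BT.leaf 2) (BT.leaf 186)) (BT.leaf 130)) (BT.node (BT.node (BT.leaf 148) (BT.leaf 227)) (BT.leaf 324))) (BT.node (BT.node (BT.node (BT.leaf 168) (BT.leaf 162)) (BT.leaf 335)) (BT.node (BT.node (BT.leaf 98) (BT.leaf 75)) (BT.leaf 358)))) (BT.node (BT.node (BT.node (BT.node (BT.leaf 18) (BT.leaf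 170)) (BT.leaf 243)) (BT.node (BT.node (BT.leaf 82) (BT.leaf 332)) (BT.leaf 198))) (BT.node (BT.node (BT.node (BT.leaf 19) (BT.leaf 306)) (BT.leaf 73)) (BT.node (BT.node (BT.leaf 322) (BT.leaf 205)) (BT.leaf 79))))) (BT.node (BT.node (BT.node (BT.node (BT.node (BT.leaf 66) (BT.leaf 224)) (BT.leaf 118)) (BT.node (BT.node (BT.leaf 277) (BT.leaf 51)) (BT.leaf 368))) (BT.node (BT.node (BT.node (BT.leaf 5) (BT.leaf 249)) (BT.leaf 142)) (BT.node (BT.node (BT.leaf 95) (BT.leaf 283)) (BT.leaf 152)))) (BT.node (BT.node (BT.node (BT.node (BT.leaf 135) (BT.leaf 136)) (BT.leaf 53)) (BT.node (BT.node (BT.leaf 90) (BT.leaf 137)) (BT.leaf 175))) (BT.node (BT.node (BT.node (BT.leaf 149) (BT.leaf 184)) (BT.leaf 360)) (BT.node (BT.leaf 122) (BT.leaf 33)))))) (BT.node (BT.node (BT.node (BT.node (BT.node (BT.node (BT.leaf 26) (BT.leaf 59)) (BT.leaf 219)) (BT.node (BT.node (BT.leaf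 177) (BT.leaf 238)) (BT.leaf 44))) (BT.node (BT.node (BT.node (BT.leaf 183) (BT.leaf 230)) (BT.leaf 363)) (BT.node (BT.node (BT.leaf 102) (BT.leaf 169)) (BT.leaf 117)))) (BT.node (BT.node (BT.node (BT.node (BT.leaf 22) (BT.leaf 54)) (BT.leaf 35)) (BT.node (BT.node (BT.leaf 304) (BT.leaf 155)) (BT.leaf 370))) (BT.node (BT.node (BT.node (BT.leaf 191) (BT.leaf 172)) (BT.leaf 213)) (BT.node (BT.node (BT.leaf 120) (BT.leaf 365)) (BT.leaf 355))))) (BT.node (BT.node (BT.node (BT.node (BT.node (BT.leaf 87) (BT.leaf 281)) (BT.leaf 274)) (BT.node (BT.node (BT.leaf 217) (BT.leaf 282)) (BT.leaf 194))) (BT.node (BT.node (BT.node (BT.leaf 42) (BT.leaf 100)) (BT.leaf 343)) (BT.node (BT.node (BT.leaf 330) (BT.leaf 315)) (BT.leaf 256)))) (BT.node (BT.node (BT.node (BT.node (BT.leaf 154) (BT.leaf 55)) (BT.leaf 158)) (BT.node (BT.node (BT.leaf 94) (BT.leaf 372)) (BT.leaf 108)))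 (BT.node (BT.node (BT.node (BT.leaf 11) (BT.leaf 353)) (BT.leaf 208)) (BT.node (BT.leaf 126) (BT.leaf 318)))))))) (BT.node (BT.node (BT.node (BT.node (BT.node (BT.node (BT.node (BT.node (BT.leaf 1) (BT.leaf 329)) (BT.leaf 129)) (BT.node (BT.node (BT.leaf 262) (BT.leaf 20)) (BT.leaf 41))) (BT.node (BT.node (BT.node (BT.leaf 160) (BT.leaf 270)) (BT.leaf 166)) (BT.node (BT.node (BT.leaf 97) (BT.leaf 254)) (BT.leaf 359)))) (BT.node (BT.node (BT.node (BT.node (BT.leaf 17) (BT.leaf 179)) (BT.leaf 234)) (BT.node (BT.node (BT.leaf 81) (BT.leaf 342)) (BT.leaf 302))) (BT.node (BT.node (BT.node (BT.leaf 134) (BT.leaf 14)) (BT.leaf 185)) (BT.node (BT.node (BT.leaf 236) (BT.leaf 132)) (BT.leaf 221))))) (BT.node (BT.node (BT.node (BT.node (BT.node (BT.leaf 29) (BT.leaf 171)) (BT.leaf 291)) (BT.node (BT.node (BT.leaf 37) (BT.leaf 272)) (BT.leaf 195))) (BT.node (BT.node (BT.node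 (BT.leaf 196) (BT.leaf 239)) (BT.leaf 226)) (BT.node (BT.node (BT.leaf 181) (BT.leaf 341)) (BT.leaf 72)))) (BT.node (BT.node (BT.node (BT.node (BT.leaf 25) (BT.leaf 289)) (BT.leaf 76)) (BT.node (BT.node (BT.leaf 89) (BT.leaf 218)) (BT.leaf 157))) (BT.node (BT.node (BT.node (BT.leaf 233) (BT.leaf 313)) (BT.leaf 70)) (BT.node (BT.node (BT.leaf 121) (BT.leaf 159)) (BT.leaf 259)))))) (BT.node (BT.node (BT.node (BT.node (BT.node (BT.node (BT.leaf 46) (BT.leaf 200)) (BT.leaf 286)) (BT.node (BT.node (BT.leaf 229) (BT.leaf 362)) (BT.leaf 43))) (BT.node (BT.node (BT.node (BT.leaf 178) (BT.leaf 80)) (BT.leaf 310)) (BT.node (BT.node (BT.leaf 107) (BT.leaf 167)) (BT.leaf 340)))) (BT.node (BT.node (BT.node (BT.node (BT.leaf 119) (BT.leaf 351)) (BT.leaf 7)) (BT.node (BT.node (BT.leaf 301) (BT.leaf 320)) (BT.leaf 376))) (BT.node (BT.node (BT.node (BT.leaf 30) (BT.leaf 309))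 (BT.leaf 240)) (BT.node (BT.node (BT.leaf 294) (BT.leaf 180)) (BT.leaf 261))))) (BT.node (BT.node (BT.node (BT.node (BT.node (BT.leaf 13) (BT.leaf 228)) (BT.leaf 27)) (BT.node (BT.node (BT.leaf 216) (BT.leaf 279)) (BT.leaf 214))) (BT.node (BT.node (BT.node (BT.leaf 211) (BT.leaf 319)) (BT.leaf 150)) (BT.node (BT.node (BT.leaf 317) (BT.leaf 347)) (BT.leaf 369)))) (BT.node (BT.node (BT.node (BT.node (BT.leaf 0) (BT.leaf 131)) (BT.leaf 78)) (BT.node (BT.node (BT.leaf 93) (BT.leaf 297)) (BT.leaf 244))) (BT.node (BT.node (BT.node (BT.leaf 50) (BT.leaf 147)) (BT.leaf 225)) (BT.node (BT.leaf 125) (BT.leaf 222))))))) (BT.node (BT.node (BT.node (BT.node (BT.node (BT.node (BT.node (BT.leaf 32) (BT.leaf 298)) (BT.leaf 348)) (BT.node (BT.node (BT.leaf 45) (BT.leaf 266)) (BT.leaf 260))) (BT.node (BT.node (BT.node (BT.leaf 173) (BT.leaf 346)) (BT.leaf 366)) (BT.node (BT.node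 (BT.leaf 99) (BT.leaf 300)) (BT.leaf 114)))) (BT.node (BT.node (BT.node (BT.node (BT.leaf 61) (BT.leaf 275)) (BT.leaf 109)) (BT.node (BT.node (BT.leaf 83) (BT.leaf 139)) (BT.leaf 67))) (BT.node (BT.node (BT.node (BT.leaf 110) (BT.leaf 307)) (BT.leaf 327)) (BT.node (BT.node (BT.leaf 269) (BT.leaf 265)) (BT.leaf 28))))) (BT.node (BT.node (BT.node (BT.node (BT.node (BT.leaf 8) (BT.leaf 267)) (BT.leaf 116)) (BT.node (BT.node (BT.leaf 199) (BT.leaf 377)) (BT.leaf 328))) (BT.node (BT.node (BT.node (BT.leaf 204) (BT.leaf 338)) (BT.leaf 371)) (BT.node (BT.node (BT.leaf 252) (BT.leaf 161)) (BT.leaf 263)))) (BT.node (BT.node (BT.node (BT.node (BT.leaf 140) (BT.leaf 325)) (BT.leaf 337)) (BT.node (BT.node (BT.leaf 91) (BT.leaf 374)) (BT.leaf 49))) (BT.node (BT.node (BT.node (BT.leaf 65) (BT.leaf 163)) (BT.leaf 367)) (BT.node (BT.leaf 123) (BT.leaf 373)))))) (BT.node (BT.node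 (BT.node (BT.node (BT.node (BT.node (BT.leaf 58) (BT.leaf 303)) (BT.leaf 6)) (BT.node (BT.node (BT.leaf 63) (BT.leaf 273)) (BT.leaf 354))) (BT.node (BT.node (BT.node (BT.leaf 188) (BT.leaf 295)) (BT.leaf 192)) (BT.node (BT.node (BT.leaf 316) (BT.leaf 189)) (BT.leaf 144)))) (BT.node (BT.node (BT.node (BT.node (BT.leaf 23) (BT.leaf 143)) (BT.leaf 271)) (BT.node (BT.node (BT.leaf 305) (BT.leaf 356)) (BT.leaf 153))) (BT.node (BT.node (BT.node (BT.leaf 133) (BT.leaf 36)) (BT.leaf 276)) (BT.node (BT.node (BT.leaf 52) (BT.leaf 86)) (BT.leaf 314))))) (BT.node (BT.node (BT.node (BT.node (BT.node (BT.leaf 15) (BT.leaf 232)) (BT.leaf 333)) (BT.node (BT.node (BT.leaf 287) (BT.leaf 290)) (BT.leaf 48))) (BT.node (BT.node (BT.node (BT.leaf 31) (BT.leaf 235)) (BT.leaf 345)) (BT.node (BT.node (BT.leaf 264) (BT.leaf 40)) (BT.leaf 349)))) (BT.node (BT.node (BT.node (BT.node (BT.leaf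 12) (BT.leaf 242)) (BT.leaf 331)) (BT.node (BT.node (BT.leaf 56) (BT.leaf 74)) (BT.leaf 203))) (BT.node (BT.node (BT.node (BT.leaf 255) (BT.leaf 85)) (BT.leaf 278)) (BT.node (BT.leaf 127) (BT.leaf 71))))))))),
  (BT.node (BT.node (BT.node (BT.node (BT.node (BT.node (BT.node (BT.node (BT.node (BT.leaf 10) (BT.leaf 76)) (BT.leaf 111)) (BT.node (BT.node (BT.leaf 64) (BT.leaf 224)) (BT.leaf 243))) (BT.node (BT.node (BT.node (BT.leaf 160) (BT.leaf 106)) (BT.leaf 202)) (BT.node (BT.node (BT.leaf 82) (BT.leaf 254)) (BT.leaf 348)))) (BT.node (BT.node (BT.node (BT.node (BT.leaf 16) (BT.leaf 206)) (BT.leaf 353)) (BT.node (BT.node (BT.leaf 293) (BT.leaf 350)) (BT.leaf 56))) (BT.node (BT.node (BT.node (BT.leaf 55) (BT.leaf 304)) (BT.leaf 170)) (BT.node (BT.node (BT.leaf 236) (BT.leaf 60)) (BT.leaf 373))))) (BT.node (BT.node (BT.node (BT.node (BT.node (BT.leaf 63) (BT.leaf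 274)) (BT.leaf 334)) (BT.node (BT.node (BT.leaf 200) (BT.leaf 19)) (BT.leaf 100))) (BT.node (BT.node (BT.node (BT.leaf 35) (BT.leaf 96)) (BT.leaf 191)) (BT.node (BT.node (BT.leaf 104) (BT.leaf 360)) (BT.leaf 225)))) (BT.node (BT.node (BT.node (BT.node (BT.leaf 124) (BT.leaf 280)) (BT.leaf 199)) (BT.node (BT.node (BT.leaf 88) (BT.leaf 344)) (BT.leaf 329))) (BT.node (BT.node (BT.node (BT.leaf 242) (BT.leaf 312)) (BT.leaf 172)) (BT.node (BT.node (BT.leaf 118) (BT.leaf 376)) (BT.leaf 278)))))) (BT.node (BT.node (BT.node (BT.node (BT.node (BT.node (BT.leaf 40) (BT.leaf 207)) (BT.leaf 53)) (BT.node (BT.node (BT.leaf 68) (BT.leaf 216)) (BT.leaf 107))) (BT.node (BT.node (BT.node (BT.leaf 176) (BT.leaf 80)) (BT.leaf 3)) (BT.node (BT.node (BT.leaf 72) (BT.leaf 174)) (BT.leaf 115)))) (BT.node (BT.node (BT.node (BT.node (BT.leaf 113) (BT.leaf 314)) (BT.leaf 42)) (BT.node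 (BT.node (BT.leaf 122) (BT.leaf 69)) (BT.leaf 212))) (BT.node (BT.node (BT.node (BT.leaf 119) (BT.leaf 308)) (BT.leaf 49)) (BT.node (BT.node (BT.leaf 139) (BT.leaf 336)) (BT.leaf 20))))) (BT.node (BT.node (BT.node (BT.node (BT.node (BT.leaf 78) (BT.leaf 268)) (BT.leaf 27)) (BT.node (BT.node (BT.leaf 279) (BT.leaf 338)) (BT.leaf 26))) (BT.node (BT.node (BT.node (BT.leaf 7) (BT.leaf 300)) (BT.leaf 38)) (BT.node (BT.node (BT.leaf 328) (BT.leaf 313)) (BT.leaf 241)))) (BT.node (BT.node (BT.node (BT.node (BT.leaf 147) (BT.leaf 221)) (BT.leaf 272)) (BT.node (BT.node (BT.leaf 92) (BT.leaf 320)) (BT.leaf 133))) (BT.node (BT.node (BT.node (BT.leaf 250) (BT.leaf 316)) (BT.leaf 367)) (BT.node (BT.leaf 22) (BT.leaf 362))))))) (BT.node (BT.node (BT.node (BT.node (BT.node (BT.node (BT.node (BT.leaf 25) (BT.leaf 258)) (BT.leaf 121)) (BT.node (BT.node (BT.leaf 46) (BT.leaf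 369)) (BT.leaf 77))) (BT.node (BT.node (BT.node (BT.leaf 54) (BT.leaf 162)) (BT.leaf 335)) (BT.node (BT.node (BT.leaf 98) (BT.leaf 370)) (BT.leaf 34)))) (BT.node (BT.node (BT.node (BT.node (BT.leaf 18) (BT.leaf 311)) (BT.leaf 109)) (BT.node (BT.node (BT.leaf 296) (BT.leaf 299)) (BT.leaf 58))) (BT.node (BT.node (BT.node (BT.leaf 222) (BT.leaf 306)) (BT.leaf 327)) (BT.node (BT.node (BT.leaf 237) (BT.leaf 145)) (BT.leaf 208))))) (BT.node (BT.node (BT.node (BT.node (BT.node (BT.leaf 5) (BT.leaf 131)) (BT.leaf 120)) (BT.node (BT.node (BT.leaf 277) (BT.leaf 197)) (BT.leaf 32))) (BT.node (BT.node (BT.node (BT.leaf 29) (BT.leaf 218)) (BT.leaf 36)) (BT.node (BT.node (BT.leaf 79) (BT.leaf 193)) (BT.leaf 75)))) (BT.node (BT.node (BT.node (BT.node (BT.leaf 110) (BT.leaf 136)) (BT.leaf 322)) (BT.node (BT.node (BT.leaf 90) (BT.leaf 291)) (BT.leaf 239))) (BT.node (BT.node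 (BT.node (BT.leaf 65) (BT.leaf 310)) (BT.leaf 186)) (BT.node (BT.leaf 13) (BT.leaf 368)))))) (BT.node (BT.node (BT.node (BT.node (BT.node (BT.node (BT.leaf 51) (BT.leaf 198)) (BT.leaf 181)) (BT.node (BT.node (BT.leaf 271) (BT.leaf 215)) (BT.leaf 149))) (BT.node (BT.node (BT.node (BT.leaf 184) (BT.leaf 117)) (BT.leaf 47)) (BT.node (BT.node (BT.leaf 81) (BT.leaf 168)) (BT.leaf 294)))) (BT.node (BT.node (BT.node (BT.node (BT.leaf 24) (BT.leaf 169)) (BT.leaf 188)) (BT.node (BT.node (BT.leaf 86) (BT.leaf 337)) (BT.leaf 152))) (BT.node (BT.node (BT.node (BT.leaf 226) (BT.leaf 276)) (BT.leaf 182)) (BT.node (BT.node (BT.leaf 138) (BT.leaf 374)) (BT.leaf 246))))) (BT.node (BT.node (BT.node (BT.node (BT.node (BT.leaf 14) (BT.leaf 281)) (BT.leaf 128)) (BT.node (BT.node (BT.leaf 161) (BT.leaf 282)) (BT.leaf 156))) (BT.node (BT.node (BT.node (BT.leaf 9) (BT.leaf 233)) (BT.leaf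 343)) (BT.node (BT.node (BT.leaf 204) (BT.leaf 352)) (BT.leaf 153)))) (BT.node (BT.node (BT.node (BT.node (BT.leaf 114) (BT.leaf 260)) (BT.leaf 126)) (BT.node (BT.node (BT.leaf 94) (BT.leaf 372)) (BT.leaf 203))) (BT.node (BT.node (BT.node (BT.leaf 255) (BT.leaf 315)) (BT.leaf 95)) (BT.node (BT.leaf 83) (BT.leaf 366)))))))) (BT.node (BT.node (BT.node (BT.node (BT.node (BT.node (BT.node (BT.node (BT.leaf 1) (BT.leaf 194)) (BT.leaf 129)) (BT.node (BT.node (BT.leaf 210) (BT.leaf 284)) (BT.leaf 252))) (BT.node (BT.node (BT.node (BT.leaf 164) (BT.leaf 270)) (BT.leaf 12)) (BT.node (BT.node (BT.leaf 97) (BT.leaf 163)) (BT.leaf 177)))) (BT.node (BT.node (BT.node (BT.node (BT.leaf 17) (BT.leaf 265)) (BT.leaf 354)) (BT.node (BT.node (BT.leaf 23) (BT.leaf 155)) (BT.leaf 57))) (BT.node (BT.node (BT.node (BT.leaf 105) (BT.leaf 305)) (BT.leaf 232)) (BT.node (BT.node (BT.leaf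 244) (BT.leaf 154)) (BT.leaf 112))))) (BT.node (BT.node (BT.node (BT.node (BT.node (BT.leaf 66) (BT.leaf 73)) (BT.leaf 346)) (BT.node (BT.node (BT.leaf 273) (BT.leaf 324)) (BT.leaf 48))) (BT.node (BT.node (BT.node (BT.leaf 101) (BT.leaf 259)) (BT.leaf 248)) (BT.node (BT.node (BT.leaf 180) (BT.leaf 323)) (BT.leaf 261)))) (BT.node (BT.node (BT.node (BT.node (BT.leaf 125) (BT.leaf 289)) (BT.leaf 333)) (BT.node (BT.node (BT.leaf 275) (BT.leaf 297)) (BT.leaf 166))) (BT.node (BT.node (BT.node (BT.leaf 245) (BT.leaf 295)) (BT.leaf 151)) (BT.node (BT.node (BT.leaf 123) (BT.leaf 159)) (BT.leaf 175)))))) (BT.node (BT.node (BT.node (BT.node (BT.node (BT.node (BT.leaf 0) (BT.leaf 302)) (BT.leaf 195)) (BT.node (BT.node (BT.leaf 229) (BT.leaf 196)) (BT.leaf 135))) (BT.node (BT.node (BT.node (BT.leaf 179) (BT.leaf 292)) (BT.leaf 183)) (BT.node (BT.node (BT.leaf 283) (BT.leaf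 28)) (BT.leaf 340)))) (BT.node (BT.node (BT.node (BT.node (BT.leaf 52) (BT.leaf 351)) (BT.leaf 262)) (BT.node (BT.node (BT.leaf 85) (BT.leaf 266)) (BT.leaf 213))) (BT.node (BT.node (BT.node (BT.leaf 227) (BT.leaf 309)) (BT.leaf 251)) (BT.node (BT.node (BT.leaf 230) (BT.leaf 219)) (BT.leaf 209))))) (BT.node (BT.node (BT.node (BT.node (BT.node (BT.leaf 84) (BT.leaf 228)) (BT.leaf 140)) (BT.node (BT.node (BT.leaf 257) (BT.leaf 238)) (BT.leaf 234))) (BT.node (BT.node (BT.node (BT.leaf 8) (BT.leaf 301)) (BT.leaf 39)) (BT.node (BT.node (BT.leaf 167) (BT.leaf 365)) (BT.leaf 30)))) (BT.node (BT.node (BT.node (BT.node (BT.leaf 148) (BT.leaf 361)) (BT.leaf 363)) (BT.node (BT.node (BT.leaf 93) (BT.leaf 249)) (BT.leaf 321))) (BT.node (BT.node (BT.node (BT.leaf 253) (BT.leaf 192)) (BT.leaf 70)) (BT.node (BT.leaf 2) (BT.leaf 223))))))) (BT.node (BT.node (BT.node (BT.node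 (BT.node (BT.node (BT.node (BT.leaf 33) (BT.leaf 345)) (BT.leaf 341)) (BT.node (BT.node (BT.leaf 11) (BT.leaf 285)) (BT.leaf 220))) (BT.node (BT.node (BT.node (BT.leaf 4) (BT.leaf 137)) (BT.leaf 144)) (BT.node (BT.node (BT.leaf 99) (BT.leaf 355)) (BT.leaf 132)))) (BT.node (BT.node (BT.node (BT.node (BT.leaf 108) (BT.leaf 127)) (BT.leaf 357)) (BT.node (BT.node (BT.leaf 158) (BT.leaf 116)) (BT.leaf 62))) (BT.node (BT.node (BT.node (BT.leaf 43) (BT.leaf 307)) (BT.leaf 171)) (BT.node (BT.node (BT.leaf 269) (BT.leaf 178)) (BT.leaf 317))))) (BT.node (BT.node (BT.node (BT.node (BT.node (BT.leaf 71) (BT.leaf 267)) (BT.leaf 339)) (BT.node (BT.node (BT.leaf 205) (BT.leaf 377)) (BT.leaf 50))) (BT.node (BT.node (BT.node (BT.leaf 6) (BT.leaf 332)) (BT.leaf 37)) (BT.node (BT.node (BT.leaf 325) (BT.leaf 31)) (BT.leaf 235)))) (BT.node (BT.node (BT.node (BT.node (BT.leaf 141)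 (BT.leaf 41)) (BT.leaf 342)) (BT.node (BT.node (BT.leaf 91) (BT.leaf 347)) (BT.leaf 240))) (BT.node (BT.node (BT.node (BT.leaf 44) (BT.leaf 231)) (BT.leaf 173)) (BT.node (BT.leaf 130) (BT.leaf 134)))))) (BT.node (BT.node (BT.node (BT.node (BT.node (BT.node (BT.leaf 59) (BT.leaf 263)) (BT.leaf 330)) (BT.node (BT.node (BT.leaf 67) (BT.leaf 371)) (BT.leaf 214))) (BT.node (BT.node (BT.node (BT.leaf 187) (BT.leaf 364)) (BT.leaf 146)) (BT.node (BT.node (BT.leaf 103) (BT.leaf 185)) (BT.leaf 318)))) (BT.node (BT.node (BT.node (BT.node (BT.leaf 102) (BT.leaf 256)) (BT.leaf 359)) (BT.node (BT.node (BT.leaf 87) (BT.leaf 356)) (BT.leaf 143))) (BT.node (BT.node (BT.node (BT.leaf 201) (BT.leaf 264)) (BT.leaf 247)) (BT.node (BT.node (BT.leaf 21) (BT.leaf 375)) (BT.leaf 165))))) (BT.node (BT.node (BT.node (BT.node (BT.node (BT.leaf 15) (BT.leaf 189)) (BT.leaf 326)) (BT.node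 (BT.node (BT.leaf 288) (BT.leaf 290)) (BT.leaf 286))) (BT.node (BT.node (BT.node (BT.leaf 217) (BT.leaf 303)) (BT.leaf 349)) (BT.node (BT.node (BT.leaf 142) (BT.leaf 150)) (BT.leaf 298)))) (BT.node (BT.node (BT.node (BT.node (BT.leaf 157) (BT.leaf 190)) (BT.leaf 331)) (BT.node (BT.node (BT.leaf 287) (BT.leaf 74)) (BT.leaf 61))) (BT.node (BT.node (BT.node (BT.leaf 45) (BT.leaf 319)) (BT.leaf 358)) (BT.node (BT.leaf 89) (BT.leaf 211)))))))))]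

/-- The permutations of the root elements. -/
def lgf13 (r i : ℕ) : ℕ := (lgT13.getD r (BT.leaf 0)).look i

/-- The scalars, as trees. -/
def sgT13 : List (BT ℕ) :=
  [(BT.node (BT.node (BT.node (BT.node (BT.node (BT.node (BT.node (BT.node (BT.node (BT.leaf 1) (BT.leaf 1)) (BT.leaf 1)) (BT.node (BT.node (BT.leaf 1) (BT.leaf 1)) (BT.leaf 1))) (BT.node (BT.node (BT.node (BT.leaf 1) (BT.leaf 2)) (BT.leaf 1)) (BT.node (BT.node (BT.leaf 1) (BT.leaf 1)) (BT.leaf 1)))) (BT.node (BT.node (BT.node (BT.node (BT.leaf 1) (BT.leaf 2)) (BT.leaf 1)) (BT.node (BT.node (BT.leaf 1) (BT.leaf 1)) (BT.leaf 2))) (BT.node (BT.node (BT.node (BT.leaf 1) (BT.leaf 1)) (BT.leaf 1)) (BT.node (BT.node (BT.leaf 1) (BT.leaf 1)) (BT.leaf 1))))) (BT.node (BT.node (BT.node (BT.node (BT.node (BT.leaf 1) (BT.leaf 1)) (BT.leaf 2)) (BT.node (BT.node (BT.leaf 1) (BT.leaf 1)) (BT.leaf 1))) (BT.node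 (BT.node (BT.node (BT.leaf 2) (BT.leaf 1)) (BT.leaf 1)) (BT.node (BT.node (BT.leaf 1) (BT.leaf 1)) (BT.leaf 2)))) (BT.node (BT.node (BT.node (BT.node (BT.leaf 1) (BT.leaf 1)) (BT.leaf 1)) (BT.node (BT.node (BT.leaf 2) (BT.leaf 1)) (BT.leaf 1))) (BT.node (BT.node (BT.node (BT.leaf 2) (BT.leaf 1)) (BT.leaf 1)) (BT.node (BT.node (BT.leaf 1) (BT.leaf 1)) (BT.leaf 1)))))) (BT.node (BT.node (BT.node (BT.node (BT.node (BT.node (BT.leaf 1) (BT.leaf 1)) (BT.leaf 1)) (BT.node (BT.node (BT.leaf 1) (BT.leaf 2)) (BT.leaf 2))) (BT.node (BT.node (BT.node (BT.leaf 1) (BT.leaf 1)) (BT.leaf 1)) (BT.node (BT.node (BT.leaf 1) (BT.leaf 1)) (BT.leaf 1)))) (BT.node (BT.node (BT.node (BT.node (BT.leaf 1) (BT.leaf 1)) (BT.leaf 1)) (BT.node (BT.node (BT.leaf 1) (BT.leaf 1)) (BT.leaf 1))) (BT.node (BT.node (BT.node (BT.leaf 1) (BT.leaf 1)) (BT.leaf 1)) (BT.node (BT.node (BT.leaf 1) (BT.leaf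 1)) (BT.leaf 2))))) (BT.node (BT.node (BT.node (BT.node (BT.node (BT.leaf 1) (BT.leaf 1)) (BT.leaf 2)) (BT.node (BT.node (BT.leaf 1) (BT.leaf 2)) (BT.leaf 1))) (BT.node (BT.node (BT.node (BT.leaf 1) (BT.leaf 1)) (BT.leaf 1)) (BT.node (BT.node (BT.leaf 1) (BT.leaf 1)) (BT.leaf 2)))) (BT.node (BT.node (BT.node (BT.node (BT.leaf 1) (BT.leaf 2)) (BT.leaf 1)) (BT.node (BT.node (BT.leaf 1) (BT.leaf 1)) (BT.leaf 1))) (BT.node (BT.node (BT.node (BT.leaf 1) (BT.leaf 2)) (BT.leaf 1)) (BT.node (BT.leaf 1) (BT.leaf 1))))))) (BT.node (BT.node (BT.node (BT.node (BT.node (BT.node (BT.node (BT.leaf 1) (BT.leaf 1)) (BT.leaf 1)) (BT.node (BT.node (BT.leaf 1) (BT.leaf 2)) (BT.leaf 2))) (BT.node (BT.node (BT.node (BT.leaf 1) (BT.leaf 1)) (BT.leaf 1)) (BT.node (BT.node (BT.leaf 1) (BT.leaf 1)) (BT.leaf 2)))) (BT.node (BT.node (BT.node (BT.node (BT.leaf 1) (BT.leaf 1)) (BT.leaf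 1)) (BT.node (BT.node (BT.leaf 1) (BT.leaf 2)) (BT.leaf 1))) (BT.node (BT.node (BT.node (BT.leaf 1) (BT.leaf 1)) (BT.leaf 1)) (BT.node (BT.node (BT.leaf 1) (BT.leaf 1)) (BT.leaf 1))))) (BT.node (BT.node (BT.node (BT.node (BT.node (BT.leaf 1) (BT.leaf 1)) (BT.leaf 1)) (BT.node (BT.node (BT.leaf 1) (BT.leaf 1)) (BT.leaf 1))) (BT.node (BT.node (BT.node (BT.leaf 1) (BT.leaf 1)) (BT.leaf 1)) (BT.node (BT.node (BT.leaf 1) (BT.leaf 2)) (BT.leaf 1)))) (BT.node (BT.node (BT.node (BT.node (BT.leaf 1) (BT.leaf 2)) (BT.leaf 2)) (BT.node (BT.node (BT.leaf 1) (BT.leaf 1)) (BT.leaf 1))) (BT.node (BT.node (BT.node (BT.leaf 1) (BT.leaf 1)) (BT.leaf 1)) (BT.node (BT.leaf 1) (BT.leaf 1)))))) (BT.node (BT.node (BT.node (BT.node (BT.node (BT.node (BT.leaf 1) (BT.leaf 1)) (BT.leaf 1)) (BT.node (BT.node (BT.leaf 1) (BT.leaf 1)) (BT.leaf 1))) (BT.node (BT.node (BT.node (BT.leaf 1)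 (BT.leaf 1)) (BT.leaf 1)) (BT.node (BT.node (BT.leaf 1) (BT.leaf 2)) (BT.leaf 1)))) (BT.node (BT.node (BT.node (BT.node (BT.leaf 1) (BT.leaf 2)) (BT.leaf 1)) (BT.node (BT.node (BT.leaf 1) (BT.leaf 1)) (BT.leaf 1))) (BT.node (BT.node (BT.node (BT.leaf 2) (BT.leaf 1)) (BT.leaf 1)) (BT.node (BT.node (BT.leaf 1) (BT.leaf 1)) (BT.leaf 1))))) (BT.node (BT.node (BT.node (BT.node (BT.node (BT.leaf 1) (BT.leaf 1)) (BT.leaf 1)) (BT.node (BT.node (BT.leaf 1) (BT.leaf 2)) (BT.leaf 2))) (BT.node (BT.node (BT.node (BT.leaf 1) (BT.leaf 1)) (BT.leaf 1)) (BT.node (BT.node (BT.leaf 1) (BT.leaf 1)) (BT.leaf 1)))) (BT.node (BT.node (BT.node (BT.node (BT.leaf 2) (BT.leaf 1)) (BT.leaf 1)) (BT.node (BT.node (BT.leaf 1) (BT.leaf 1)) (BT.leaf 1))) (BT.node (BT.node (BT.node (BT.leaf 1) (BT.leaf 1)) (BT.leaf 2)) (BT.node (BT.leaf 1) (BT.leaf 1)))))))) (BT.node (BT.node (BT.node (BT.node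 (BT.node (BT.node (BT.node (BT.node (BT.leaf 1) (BT.leaf 2)) (BT.leaf 1)) (BT.node (BT.node (BT.leaf 1) (BT.leaf 1)) (BT.leaf 2))) (BT.node (BT.node (BT.node (BT.leaf 1) (BT.leaf 1)) (BT.leaf 1)) (BT.node (BT.node (BT.leaf 1) (BT.leaf 1)) (BT.leaf 1)))) (BT.node (BT.node (BT.node (BT.node (BT.leaf 1) (BT.leaf 2)) (BT.leaf 1)) (BT.node (BT.node (BT.leaf 1) (BT.leaf 1)) (BT.leaf 1))) (BT.node (BT.node (BT.node (BT.leaf 1) (BT.leaf 2)) (BT.leaf 1)) (BT.node (BT.node (BT.leaf 2) (BT.leaf 1)) (BT.leaf 2))))) (BT.node (BT.node (BT.node (BT.node (BT.node (BT.leaf 1) (BT.leaf 2)) (BT.leaf 1)) (BT.node (BT.node (BT.leaf 1) (BT.leaf 2)) (BT.leaf 1))) (BT.node (BT.node (BT.node (BT.leaf 2) (BT.leaf 1)) (BT.leaf 1)) (BT.node (BT.node (BT.leaf 1) (BT.leaf 1)) (BT.leaf 1)))) (BT.node (BT.node (BT.node (BT.node (BT.leaf 1) (BT.leaf 1)) (BT.leaf 1)) (BT.node (BT.node (BT.leaf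 1) (BT.leaf 1)) (BT.leaf 1))) (BT.node (BT.node (BT.node (BT.leaf 1) (BT.leaf 1)) (BT.leaf 1)) (BT.node (BT.node (BT.leaf 1) (BT.leaf 1)) (BT.leaf 1)))))) (BT.node (BT.node (BT.node (BT.node (BT.node (BT.node (BT.leaf 1) (BT.leaf 1)) (BT.leaf 1)) (BT.node (BT.node (BT.leaf 1) (BT.leaf 2)) (BT.leaf 1))) (BT.node (BT.node (BT.node (BT.leaf 1) (BT.leaf 1)) (BT.leaf 1)) (BT.node (BT.node (BT.leaf 1) (BT.leaf 1)) (BT.leaf 1)))) (BT.node (BT.node (BT.node (BT.node (BT.leaf 1) (BT.leaf 2)) (BT.leaf 1)) (BT.node (BT.node (BT.leaf 1) (BT.leaf 1)) (BT.leaf 1))) (BT.node (BT.node (BT.node (BT.leaf 2) (BT.leaf 1)) (BT.leaf 1)) (BT.node (BT.node (BT.leaf 1) (BT.leaf 1)) (BT.leaf 1))))) (BT.node (BT.node (BT.node (BT.node (BT.node (BT.leaf 1) (BT.leaf 1)) (BT.leaf 2)) (BT.node (BT.node (BT.leaf 1) (BT.leaf 1)) (BT.leaf 1))) (BT.node (BT.node (BT.node (BT.leaf 1) (BT.leaf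 1)) (BT.leaf 2)) (BT.node (BT.node (BT.leaf 1) (BT.leaf 1)) (BT.leaf 1)))) (BT.node (BT.node (BT.node (BT.node (BT.leaf 1) (BT.leaf 1)) (BT.leaf 1)) (BT.node (BT.node (BT.leaf 1) (BT.leaf 1)) (BT.leaf 1))) (BT.node (BT.node (BT.node (BT.leaf 1) (BT.leaf 1)) (BT.leaf 1)) (BT.node (BT.leaf 1) (BT.leaf 1))))))) (BT.node (BT.node (BT.node (BT.node (BT.node (BT.node (BT.node (BT.leaf 1) (BT.leaf 1)) (BT.leaf 1)) (BT.node (BT.node (BT.leaf 1) (BT.leaf 1)) (BT.leaf 1))) (BT.node (BT.node (BT.node (BT.leaf 2) (BT.leaf 1)) (BT.leaf 1)) (BT.node (BT.node (BT.leaf 1) (BT.leaf 1)) (BT.leaf 1)))) (BT.node (BT.node (BT.node (BT.node (BT.leaf 1) (BT.leaf 1)) (BT.leaf 1)) (BT.node (BT.node (BT.leaf 1) (BT.leaf 1)) (BT.leaf 1))) (BT.node (BT.node (BT.node (BT.leaf 1) (BT.leaf 1)) (BT.leaf 2)) (BT.node (BT.node (BT.leaf 1) (BT.leaf 2)) (BT.leaf 1))))) (BT.node (BT.node (BT.node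 (BT.node (BT.node (BT.leaf 1) (BT.leaf 1)) (BT.leaf 1)) (BT.node (BT.node (BT.leaf 1) (BT.leaf 1)) (BT.leaf 1))) (BT.node (BT.node (BT.node (BT.leaf 1) (BT.leaf 2)) (BT.leaf 2)) (BT.node (BT.node (BT.leaf 1) (BT.leaf 1)) (BT.leaf 1)))) (BT.node (BT.node (BT.node (BT.node (BT.leaf 1) (BT.leaf 2)) (BT.leaf 1)) (BT.node (BT.node (BT.leaf 1) (BT.leaf 1)) (BT.leaf 1))) (BT.node (BT.node (BT.node (BT.leaf 1) (BT.leaf 1)) (BT.leaf 2)) (BT.node (BT.leaf 1) (BT.leaf 1)))))) (BT.node (BT.node (BT.node (BT.node (BT.node (BT.node (BT.leaf 1) (BT.leaf 1)) (BT.leaf 1)) (BT.node (BT.node (BT.leaf 1) (BT.leaf 2)) (BT.leaf 1))) (BT.node (BT.node (BT.node (BT.leaf 1) (BT.leaf 1)) (BT.leaf 1)) (BT.node (BT.node (BT.leaf 2) (BT.leaf 2)) (BT.leaf 1)))) (BT.node (BT.node (BT.node (BT.node (BT.leaf 1) (BT.leaf 1)) (BT.leaf 2)) (BT.node (BT.node (BT.leaf 1) (BT.leaf 1)) (BT.leaf 1)))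 (BT.node (BT.node (BT.node (BT.leaf 1) (BT.leaf 1)) (BT.leaf 1)) (BT.node (BT.node (BT.leaf 1) (BT.leaf 1)) (BT.leaf 1))))) (BT.node (BT.node (BT.node (BT.node (BT.node (BT.leaf 1) (BT.leaf 2)) (BT.leaf 1)) (BT.node (BT.node (BT.leaf 1) (BT.leaf 1)) (BT.leaf 1))) (BT.node (BT.node (BT.node (BT.leaf 1) (BT.leaf 1)) (BT.leaf 1)) (BT.node (BT.node (BT.leaf 1) (BT.leaf 2)) (BT.leaf 1)))) (BT.node (BT.node (BT.node (BT.node (BT.leaf 1) (BT.leaf 1)) (BT.leaf 1)) (BT.node (BT.node (BT.leaf 1) (BT.leaf 1)) (BT.leaf 1))) (BT.node (BT.node (BT.node (BT.leaf 1) (BT.leaf 1)) (BT.leaf 2)) (BT.node (BT.leaf 1) (BT.leaf 1))))))))),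
  (BT.node (BT.node (BT.node (BT.node (BT.node (BT.node (BT.node (BT.node (BT.node (BT.leaf 1) (BT.leaf 1)) (BT.leaf 1)) (BT.node (BT.node (BT.leaf 1) (BT.leaf 1)) (BT.leaf 1))) (BT.node (BT.node (BT.node (BT.leaf 1) (BT.leaf 2)) (BT.leaf 1)) (BT.node (BT.node (BT.leaf 2) (BT.leaf 1)) (BT.leaf 1)))) (BT.node (BT.node (BT.node (BT.node (BT.leaf 1) (BT.leaf 2)) (BT.leaf 1)) (BT.node (BT.node (BT.leaf 1) (BT.leaf 1)) (BT.leaf 1))) (BT.node (BT.node (BT.node (BT.leaf 1) (BT.leaf 1)) (BT.leaf 1)) (BT.node (BT.node (BT.leaf 1) (BT.leaf 1)) (BT.leaf 1))))) (BT.node (BT.node (BT.node (BT.node (BT.node (BT.leaf 1) (BT.leaf 1)) (BT.leaf 2)) (BT.node (BT.node (BT.leaf 1) (BT.leaf 1)) (BT.leaf 1))) (BT.node (BT.node (BT.node (BT.leaf 2) (BT.leaf 2)) (BT.leaf 1)) (BT.node (BT.node (BT.leaf 1) (BT.leaf 1)) (BT.leaf 2)))) (BT.node (BT.node (BT.node (BT.node (BT.leaf 1) (BT.leaf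 1)) (BT.leaf 1)) (BT.node (BT.node (BT.leaf 1) (BT.leaf 1)) (BT.leaf 1))) (BT.node (BT.node (BT.node (BT.leaf 1) (BT.leaf 1)) (BT.leaf 1)) (BT.node (BT.node (BT.leaf 1) (BT.leaf 1)) (BT.leaf 2)))))) (BT.node (BT.node (BT.node (BT.node (BT.node (BT.node (BT.leaf 2) (BT.leaf 1)) (BT.leaf 2)) (BT.node (BT.node (BT.leaf 1) (BT.leaf 1)) (BT.leaf 1))) (BT.node (BT.node (BT.node (BT.leaf 1) (BT.leaf 1)) (BT.leaf 1)) (BT.node (BT.node (BT.leaf 1) (BT.leaf 1)) (BT.leaf 1)))) (BT.node (BT.node (BT.node (BT.node (BT.leaf 2) (BT.leaf 1)) (BT.leaf 1)) (BT.node (BT.node (BT.leaf 1) (BT.leaf 1)) (BT.leaf 1))) (BT.node (BT.node (BT.node (BT.leaf 1) (BT.leaf 1)) (BT.leaf 1)) (BT.node (BT.node (BT.leaf 1) (BT.leaf 1)) (BT.leaf 2))))) (BT.node (BT.node (BT.node (BT.node (BT.node (BT.leaf 1) (BT.leaf 1)) (BT.leaf 2)) (BT.node (BT.node (BT.leaf 1) (BT.leaf 1)) (BT.leaf 1))) (BT.node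 (BT.node (BT.node (BT.leaf 1) (BT.leaf 1)) (BT.leaf 1)) (BT.node (BT.node (BT.leaf 1) (BT.leaf 1)) (BT.leaf 1)))) (BT.node (BT.node (BT.node (BT.node (BT.leaf 1) (BT.leaf 2)) (BT.leaf 2)) (BT.node (BT.node (BT.leaf 1) (BT.leaf 1)) (BT.leaf 1))) (BT.node (BT.node (BT.node (BT.leaf 1) (BT.leaf 1)) (BT.leaf 2)) (BT.node (BT.leaf 1) (BT.leaf 2))))))) (BT.node (BT.node (BT.node (BT.node (BT.node (BT.node (BT.node (BT.leaf 1) (BT.leaf 1)) (BT.leaf 1)) (BT.node (BT.node (BT.leaf 1) (BT.leaf 1)) (BT.leaf 1))) (BT.node (BT.node (BT.node (BT.leaf 1) (BT.leaf 1)) (BT.leaf 1)) (BT.node (BT.node (BT.leaf 1) (BT.leaf 1)) (BT.leaf 1)))) (BT.node (BT.node (BT.node (BT.node (BT.leaf 1) (BT.leaf 1)) (BT.leaf 1)) (BT.node (BT.node (BT.leaf 2) (BT.leaf 1)) (BT.leaf 1))) (BT.node (BT.node (BT.node (BT.leaf 1) (BT.leaf 1)) (BT.leaf 1)) (BT.node (BT.node (BT.leaf 1) (BT.leaf 1))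 (BT.leaf 1))))) (BT.node (BT.node (BT.node (BT.node (BT.node (BT.leaf 1) (BT.leaf 1)) (BT.leaf 1)) (BT.node (BT.node (BT.leaf 1) (BT.leaf 1)) (BT.leaf 1))) (BT.node (BT.node (BT.node (BT.leaf 1) (BT.leaf 1)) (BT.leaf 1)) (BT.node (BT.node (BT.leaf 2) (BT.leaf 2)) (BT.leaf 1)))) (BT.node (BT.node (BT.node (BT.node (BT.leaf 1) (BT.leaf 2)) (BT.leaf 1)) (BT.node (BT.node (BT.leaf 1) (BT.leaf 1)) (BT.leaf 1))) (BT.node (BT.node (BT.node (BT.leaf 1) (BT.leaf 1)) (BT.leaf 1)) (BT.node (BT.leaf 1) (BT.leaf 1)))))) (BT.node (BT.node (BT.node (BT.node (BT.node (BT.node (BT.leaf 1) (BT.leaf 1)) (BT.leaf 1)) (BT.node (BT.node (BT.leaf 2) (BT.leaf 1)) (BT.leaf 1))) (BT.node (BT.node (BT.node (BT.leaf 1) (BT.leaf 1)) (BT.leaf 1)) (BT.node (BT.node (BT.leaf 1) (BT.leaf 1)) (BT.leaf 1)))) (BT.node (BT.node (BT.node (BT.node (BT.leaf 1) (BT.leaf 2)) (BT.leaf 2)) (BT.node (BT.node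 (BT.leaf 1) (BT.leaf 1)) (BT.leaf 1))) (BT.node (BT.node (BT.node (BT.leaf 1) (BT.leaf 1)) (BT.leaf 1)) (BT.node (BT.node (BT.leaf 1) (BT.leaf 1)) (BT.leaf 1))))) (BT.node (BT.node (BT.node (BT.node (BT.node (BT.leaf 1) (BT.leaf 1)) (BT.leaf 1)) (BT.node (BT.node (BT.leaf 1) (BT.leaf 2)) (BT.leaf 2))) (BT.node (BT.node (BT.node (BT.leaf 1) (BT.leaf 1)) (BT.leaf 1)) (BT.node (BT.node (BT.leaf 1) (BT.leaf 1)) (BT.leaf 1)))) (BT.node (BT.node (BT.node (BT.node (BT.leaf 1) (BT.leaf 1)) (BT.leaf 1)) (BT.node (BT.node (BT.leaf 1) (BT.leaf 1)) (BT.leaf 1))) (BT.node (BT.node (BT.node (BT.leaf 1) (BT.leaf 1)) (BT.leaf 2)) (BT.node (BT.leaf 1) (BT.leaf 1)))))))) (BT.node (BT.node (BT.node (BT.node (BT.node (BT.node (BT.node (BT.node (BT.leaf 1) (BT.leaf 1)) (BT.leaf 1)) (BT.node (BT.node (BT.leaf 1) (BT.leaf 2)) (BT.leaf 2))) (BT.node (BT.node (BT.node (BT.leaf 1) (BT.leaf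 1)) (BT.leaf 1)) (BT.node (BT.node (BT.leaf 1) (BT.leaf 1)) (BT.leaf 2)))) (BT.node (BT.node (BT.node (BT.node (BT.leaf 1) (BT.leaf 2)) (BT.leaf 1)) (BT.node (BT.node (BT.leaf 1) (BT.leaf 1)) (BT.leaf 1))) (BT.node (BT.node (BT.node (BT.leaf 1) (BT.leaf 1)) (BT.leaf 2)) (BT.node (BT.node (BT.leaf 2) (BT.leaf 1)) (BT.leaf 1))))) (BT.node (BT.node (BT.node (BT.node (BT.node (BT.leaf 1) (BT.leaf 2)) (BT.leaf 1)) (BT.node (BT.node (BT.leaf 2) (BT.leaf 1)) (BT.leaf 1))) (BT.node (BT.node (BT.node (BT.leaf 2) (BT.leaf 1)) (BT.leaf 2)) (BT.node (BT.node (BT.leaf 1) (BT.leaf 1)) (BT.leaf 1)))) (BT.node (BT.node (BT.node (BT.node (BT.leaf 1) (BT.leaf 1)) (BT.leaf 1)) (BT.node (BT.node (BT.leaf 1) (BT.leaf 1)) (BT.leaf 1))) (BT.node (BT.node (BT.node (BT.leaf 1) (BT.leaf 1)) (BT.leaf 1)) (BT.node (BT.node (BT.leaf 1) (BT.leaf 1)) (BT.leaf 1)))))) (BT.node (BT.node (BT.node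 (BT.node (BT.node (BT.node (BT.leaf 1) (BT.leaf 1)) (BT.leaf 1)) (BT.node (BT.node (BT.leaf 1) (BT.leaf 1)) (BT.leaf 1))) (BT.node (BT.node (BT.node (BT.leaf 2) (BT.leaf 1)) (BT.leaf 1)) (BT.node (BT.node (BT.leaf 2) (BT.leaf 1)) (BT.leaf 1)))) (BT.node (BT.node (BT.node (BT.node (BT.leaf 1) (BT.leaf 1)) (BT.leaf 1)) (BT.node (BT.node (BT.leaf 1) (BT.leaf 1)) (BT.leaf 1))) (BT.node (BT.node (BT.node (BT.leaf 2) (BT.leaf 1)) (BT.leaf 1)) (BT.node (BT.node (BT.leaf 1) (BT.leaf 1)) (BT.leaf 1))))) (BT.node (BT.node (BT.node (BT.node (BT.node (BT.leaf 1) (BT.leaf 1)) (BT.leaf 2)) (BT.node (BT.node (BT.leaf 1) (BT.leaf 1)) (BT.leaf 1))) (BT.node (BT.node (BT.node (BT.leaf 1) (BT.leaf 1)) (BT.leaf 1)) (BT.node (BT.node (BT.leaf 1) (BT.leaf 1)) (BT.leaf 1)))) (BT.node (BT.node (BT.node (BT.node (BT.leaf 1) (BT.leaf 1)) (BT.leaf 1)) (BT.node (BT.node (BT.leaf 1) (BT.leaf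 1)) (BT.leaf 2))) (BT.node (BT.node (BT.node (BT.leaf 1) (BT.leaf 1)) (BT.leaf 2)) (BT.node (BT.leaf 1) (BT.leaf 1))))))) (BT.node (BT.node (BT.node (BT.node (BT.node (BT.node (BT.node (BT.leaf 1) (BT.leaf 1)) (BT.leaf 1)) (BT.node (BT.node (BT.leaf 1) (BT.leaf 1)) (BT.leaf 1))) (BT.node (BT.node (BT.node (BT.leaf 2) (BT.leaf 1)) (BT.leaf 1)) (BT.node (BT.node (BT.leaf 1) (BT.leaf 1)) (BT.leaf 2)))) (BT.node (BT.node (BT.node (BT.node (BT.leaf 1) (BT.leaf 1)) (BT.leaf 1)) (BT.node (BT.node (BT.leaf 1) (BT.leaf 1)) (BT.leaf 1))) (BT.node (BT.node (BT.node (BT.leaf 1) (BT.leaf 1)) (BT.leaf 2)) (BT.node (BT.node (BT.leaf 1) (BT.leaf 1)) (BT.leaf 1))))) (BT.node (BT.node (BT.node (BT.node (BT.node (BT.leaf 1) (BT.leaf 1)) (BT.leaf 1)) (BT.node (BT.node (BT.leaf 1) (BT.leaf 1)) (BT.leaf 1))) (BT.node (BT.node (BT.node (BT.leaf 1) (BT.leaf 1)) (BT.leaf 2)) (BT.node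 (BT.node (BT.leaf 1) (BT.leaf 1)) (BT.leaf 1)))) (BT.node (BT.node (BT.node (BT.node (BT.leaf 2) (BT.leaf 2)) (BT.leaf 1)) (BT.node (BT.node (BT.leaf 1) (BT.leaf 1)) (BT.leaf 1))) (BT.node (BT.node (BT.node (BT.leaf 1) (BT.leaf 1)) (BT.leaf 1)) (BT.node (BT.leaf 1) (BT.leaf 1)))))) (BT.node (BT.node (BT.node (BT.node (BT.node (BT.node (BT.leaf 1) (BT.leaf 1)) (BT.leaf 1)) (BT.node (BT.node (BT.leaf 1) (BT.leaf 1)) (BT.leaf 1))) (BT.node (BT.node (BT.node (BT.leaf 1) (BT.leaf 1)) (BT.leaf 1)) (BT.node (BT.node (BT.leaf 1) (BT.leaf 1)) (BT.leaf 1)))) (BT.node (BT.node (BT.node (BT.node (BT.leaf 1) (BT.leaf 1)) (BT.leaf 1)) (BT.node (BT.node (BT.leaf 1) (BT.leaf 1)) (BT.leaf 1))) (BT.node (BT.node (BT.node (BT.leaf 1) (BT.leaf 1)) (BT.leaf 1)) (BT.node (BT.node (BT.leaf 1) (BT.leaf 1)) (BT.leaf 1))))) (BT.node (BT.node (BT.node (BT.node (BT.node (BT.leaf 1) (BT.leaf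 2)) (BT.leaf 1)) (BT.node (BT.node (BT.leaf 2) (BT.leaf 1)) (BT.leaf 1))) (BT.node (BT.node (BT.node (BT.leaf 1) (BT.leaf 1)) (BT.leaf 1)) (BT.node (BT.node (BT.leaf 1) (BT.leaf 2)) (BT.leaf 1)))) (BT.node (BT.node (BT.node (BT.node (BT.leaf 1) (BT.leaf 2)) (BT.leaf 1)) (BT.node (BT.node (BT.leaf 2) (BT.leaf 1)) (BT.leaf 1))) (BT.node (BT.node (BT.node (BT.leaf 1) (BT.leaf 1)) (BT.leaf 1)) (BT.node (BT.leaf 1) (BT.leaf 1))))))))),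
  (BT.node (BT.node (BT.node (BT.node (BT.node (BT.node (BT.node (BT.node (BT.node (BT.leaf 1) (BT.leaf 1)) (BT.leaf 1)) (BT.node (BT.node (BT.leaf 1) (BT.leaf 1)) (BT.leaf 1))) (BT.node (BT.node (BT.node (BT.leaf 1) (BT.leaf 1)) (BT.leaf 2)) (BT.node (BT.node (BT.leaf 2) (BT.leaf 1)) (BT.leaf 2)))) (BT.node (BT.node (BT.node (BT.node (BT.leaf 1) (BT.leaf 1)) (BT.leaf 2)) (BT.node (BT.node (BT.leaf 1) (BT.leaf 1)) (BT.leaf 2))) (BT.node (BT.node (BT.node (BT.leaf 1) (BT.leaf 2)) (BT.leaf 1)) (BT.node (BT.node (BT.leaf 1) (BT.leaf 1)) (BT.leaf 2))))) (BT.node (BT.node (BT.node (BT.node (BT.node (BT.leaf 1) (BT.leaf 1)) (BT.leaf 2)) (BT.node (BT.node (BT.leaf 1) (BT.leaf 1)) (BT.leaf 1))) (BT.node (BT.node (BT.node (BT.leaf 1) (BT.leaf 2)) (BT.leaf 1)) (BT.node (BT.node (BT.leaf 2) (BT.leaf 2)) (BT.leaf 2)))) (BT.node (BT.node (BT.node (BT.node (BT.leaf 2) (BT.leaf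 2)) (BT.leaf 2)) (BT.node (BT.node (BT.leaf 1) (BT.leaf 2)) (BT.leaf 1))) (BT.node (BT.node (BT.node (BT.leaf 1) (BT.leaf 2)) (BT.leaf 2)) (BT.node (BT.node (BT.leaf 1) (BT.leaf 2)) (BT.leaf 2)))))) (BT.node (BT.node (BT.node (BT.node (BT.node (BT.node (BT.leaf 1) (BT.leaf 1)) (BT.leaf 1)) (BT.node (BT.node (BT.leaf 1) (BT.leaf 2)) (BT.leaf 1))) (BT.node (BT.node (BT.node (BT.leaf 1) (BT.leaf 2)) (BT.leaf 1)) (BT.node (BT.node (BT.leaf 1) (BT.leaf 2)) (BT.leaf 2)))) (BT.node (BT.node (BT.node (BT.node (BT.leaf 1) (BT.leaf 1)) (BT.leaf 1)) (BT.node (BT.node (BT.leaf 2) (BT.leaf 2)) (BT.leaf 1))) (BT.node (BT.node (BT.node (BT.leaf 2) (BT.leaf 2)) (BT.leaf 2)) (BT.node (BT.node (BT.leaf 1) (BT.leaf 2)) (BT.leaf 2))))) (BT.node (BT.node (BT.node (BT.node (BT.node (BT.leaf 1) (BT.leaf 2)) (BT.leaf 1)) (BT.node (BT.node (BT.leaf 2) (BT.leaf 2)) (BT.leaf 2))) (BT.node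 (BT.node (BT.node (BT.leaf 1) (BT.leaf 2)) (BT.leaf 2)) (BT.node (BT.node (BT.leaf 2) (BT.leaf 1)) (BT.leaf 2)))) (BT.node (BT.node (BT.node (BT.node (BT.leaf 1) (BT.leaf 1)) (BT.leaf 1)) (BT.node (BT.node (BT.leaf 2) (BT.leaf 2)) (BT.leaf 2))) (BT.node (BT.node (BT.node (BT.leaf 1) (BT.leaf 1)) (BT.leaf 2)) (BT.node (BT.leaf 2) (BT.leaf 1))))))) (BT.node (BT.node (BT.node (BT.node (BT.node (BT.node (BT.node (BT.leaf 1) (BT.leaf 1)) (BT.leaf 2)) (BT.node (BT.node (BT.leaf 1) (BT.leaf 2)) (BT.leaf 2))) (BT.node (BT.node (BT.node (BT.leaf 1) (BT.leaf 1)) (BT.leaf 2)) (BT.node (BT.node (BT.leaf 2) (BT.leaf 1)) (BT.leaf 1)))) (BT.node (BT.node (BT.node (BT.node (BT.leaf 2) (BT.leaf 1)) (BT.leaf 1)) (BT.node (BT.node (BT.leaf 1) (BT.leaf 1)) (BT.leaf 1))) (BT.node (BT.node (BT.node (BT.leaf 1) (BT.leaf 2)) (BT.leaf 1)) (BT.node (BT.node (BT.leaf 1) (BT.leaf 2))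 (BT.leaf 1))))) (BT.node (BT.node (BT.node (BT.node (BT.node (BT.leaf 1) (BT.leaf 1)) (BT.leaf 2)) (BT.node (BT.node (BT.leaf 2) (BT.leaf 1)) (BT.leaf 1))) (BT.node (BT.node (BT.node (BT.leaf 1) (BT.leaf 2)) (BT.leaf 2)) (BT.node (BT.node (BT.leaf 2) (BT.leaf 2)) (BT.leaf 2)))) (BT.node (BT.node (BT.node (BT.node (BT.leaf 1) (BT.leaf 1)) (BT.leaf 1)) (BT.node (BT.node (BT.leaf 1) (BT.leaf 2)) (BT.leaf 1))) (BT.node (BT.node (BT.node (BT.leaf 1) (BT.leaf 1)) (BT.leaf 2)) (BT.node (BT.leaf 2) (BT.leaf 2)))))) (BT.node (BT.node (BT.node (BT.node (BT.node (BT.node (BT.leaf 1) (BT.leaf 2)) (BT.leaf 2)) (BT.node (BT.node (BT.leaf 1) (BT.leaf 2)) (BT.leaf 2))) (BT.node (BT.node (BT.node (BT.leaf 2) (BT.leaf 1)) (BT.leaf 2)) (BT.node (BT.node (BT.leaf 2) (BT.leaf 2)) (BT.leaf 2)))) (BT.node (BT.node (BT.node (BT.node (BT.leaf 1) (BT.leaf 1)) (BT.leaf 2)) (BT.node (BT.node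 (BT.leaf 1) (BT.leaf 2)) (BT.leaf 1))) (BT.node (BT.node (BT.node (BT.leaf 2) (BT.leaf 1)) (BT.leaf 2)) (BT.node (BT.node (BT.leaf 2) (BT.leaf 1)) (BT.leaf 1))))) (BT.node (BT.node (BT.node (BT.node (BT.node (BT.leaf 1) (BT.leaf 2)) (BT.leaf 1)) (BT.node (BT.node (BT.leaf 2) (BT.leaf 2)) (BT.leaf 2))) (BT.node (BT.node (BT.node (BT.leaf 1) (BT.leaf 1)) (BT.leaf 1)) (BT.node (BT.node (BT.leaf 1) (BT.leaf 1)) (BT.leaf 1)))) (BT.node (BT.node (BT.node (BT.node (BT.leaf 1) (BT.leaf 2)) (BT.leaf 1)) (BT.node (BT.node (BT.leaf 2) (BT.leaf 1)) (BT.leaf 2))) (BT.node (BT.node (BT.node (BT.leaf 1) (BT.leaf 2)) (BT.leaf 1)) (BT.node (BT.leaf 2) (BT.leaf 1)))))))) (BT.node (BT.node (BT.node (BT.node (BT.node (BT.node (BT.node (BT.node (BT.leaf 1) (BT.leaf 1)) (BT.leaf 2)) (BT.node (BT.node (BT.leaf 1) (BT.leaf 2)) (BT.leaf 1))) (BT.node (BT.node (BT.node (BT.leaf 2) (BT.leaf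 1)) (BT.leaf 2)) (BT.node (BT.node (BT.leaf 2) (BT.leaf 2)) (BT.leaf 2)))) (BT.node (BT.node (BT.node (BT.node (BT.leaf 2) (BT.leaf 1)) (BT.leaf 1)) (BT.node (BT.node (BT.leaf 1) (BT.leaf 2)) (BT.leaf 2))) (BT.node (BT.node (BT.node (BT.leaf 1) (BT.leaf 1)) (BT.leaf 2)) (BT.node (BT.node (BT.leaf 1) (BT.leaf 1)) (BT.leaf 1))))) (BT.node (BT.node (BT.node (BT.node (BT.node (BT.leaf 1) (BT.leaf 1)) (BT.leaf 1)) (BT.node (BT.node (BT.leaf 1) (BT.leaf 1)) (BT.leaf 2))) (BT.node (BT.node (BT.node (BT.leaf 1) (BT.leaf 2)) (BT.leaf 1)) (BT.node (BT.node (BT.leaf 1) (BT.leaf 1)) (BT.leaf 1)))) (BT.node (BT.node (BT.node (BT.node (BT.leaf 2) (BT.leaf 2)) (BT.leaf 1)) (BT.node (BT.node (BT.leaf 2) (BT.leaf 2)) (BT.leaf 2))) (BT.node (BT.node (BT.node (BT.leaf 2) (BT.leaf 2)) (BT.leaf 1)) (BT.node (BT.node (BT.leaf 1) (BT.leaf 2)) (BT.leaf 1)))))) (BT.node (BT.node (BT.node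 (BT.node (BT.node (BT.node (BT.leaf 1) (BT.leaf 1)) (BT.leaf 1)) (BT.node (BT.node (BT.leaf 1) (BT.leaf 2)) (BT.leaf 2))) (BT.node (BT.node (BT.node (BT.leaf 1) (BT.leaf 2)) (BT.leaf 1)) (BT.node (BT.node (BT.leaf 1) (BT.leaf 1)) (BT.leaf 2)))) (BT.node (BT.node (BT.node (BT.node (BT.leaf 1) (BT.leaf 2)) (BT.leaf 2)) (BT.node (BT.node (BT.leaf 1) (BT.leaf 2)) (BT.leaf 1))) (BT.node (BT.node (BT.node (BT.leaf 2) (BT.leaf 2)) (BT.leaf 1)) (BT.node (BT.node (BT.leaf 2) (BT.leaf 2)) (BT.leaf 2))))) (BT.node (BT.node (BT.node (BT.node (BT.node (BT.leaf 1) (BT.leaf 2)) (BT.leaf 2)) (BT.node (BT.node (BT.leaf 1) (BT.leaf 2)) (BT.leaf 2))) (BT.node (BT.node (BT.node (BT.leaf 1) (BT.leaf 2)) (BT.leaf 1)) (BT.node (BT.node (BT.leaf 1) (BT.leaf 2)) (BT.leaf 2)))) (BT.node (BT.node (BT.node (BT.node (BT.leaf 1) (BT.leaf 1)) (BT.leaf 1)) (BT.node (BT.node (BT.leaf 1) (BT.leaf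 2)) (BT.leaf 1))) (BT.node (BT.node (BT.node (BT.leaf 1) (BT.leaf 1)) (BT.leaf 1)) (BT.node (BT.leaf 2) (BT.leaf 2))))))) (BT.node (BT.node (BT.node (BT.node (BT.node (BT.node (BT.node (BT.leaf 1) (BT.leaf 1)) (BT.leaf 2)) (BT.node (BT.node (BT.leaf 1) (BT.leaf 2)) (BT.leaf 1))) (BT.node (BT.node (BT.node (BT.leaf 1) (BT.leaf 2)) (BT.leaf 2)) (BT.node (BT.node (BT.leaf 2) (BT.leaf 2)) (BT.leaf 1)))) (BT.node (BT.node (BT.node (BT.node (BT.leaf 1) (BT.leaf 2)) (BT.leaf 2)) (BT.node (BT.node (BT.leaf 2) (BT.leaf 2)) (BT.leaf 1))) (BT.node (BT.node (BT.node (BT.leaf 1) (BT.leaf 2)) (BT.leaf 1)) (BT.node (BT.node (BT.leaf 1) (BT.leaf 1)) (BT.leaf 2))))) (BT.node (BT.node (BT.node (BT.node (BT.node (BT.leaf 1) (BT.leaf 1)) (BT.leaf 1)) (BT.node (BT.node (BT.leaf 1) (BT.leaf 2)) (BT.leaf 2))) (BT.node (BT.node (BT.node (BT.leaf 2) (BT.leaf 2)) (BT.leaf 1)) (BT.node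 (BT.node (BT.leaf 1) (BT.leaf 2)) (BT.leaf 2)))) (BT.node (BT.node (BT.node (BT.node (BT.leaf 2) (BT.leaf 2)) (BT.leaf 1)) (BT.node (BT.node (BT.leaf 2) (BT.leaf 2)) (BT.leaf 1))) (BT.node (BT.node (BT.node (BT.leaf 1) (BT.leaf 2)) (BT.leaf 1)) (BT.node (BT.leaf 2) (BT.leaf 1)))))) (BT.node (BT.node (BT.node (BT.node (BT.node (BT.node (BT.leaf 1) (BT.leaf 1)) (BT.leaf 1)) (BT.node (BT.node (BT.leaf 1) (BT.leaf 1)) (BT.leaf 2))) (BT.node (BT.node (BT.node (BT.leaf 1) (BT.leaf 1)) (BT.leaf 2)) (BT.node (BT.node (BT.leaf 2) (BT.leaf 1)) (BT.leaf 2)))) (BT.node (BT.node (BT.node (BT.node (BT.leaf 2) (BT.leaf 1)) (BT.leaf 1)) (BT.node (BT.node (BT.leaf 2) (BT.leaf 2)) (BT.leaf 1))) (BT.node (BT.node (BT.node (BT.leaf 1) (BT.leaf 2)) (BT.leaf 1)) (BT.node (BT.node (BT.leaf 2) (BT.leaf 2)) (BT.leaf 1))))) (BT.node (BT.node (BT.node (BT.node (BT.node (BT.leaf 1) (BT.leaf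 1)) (BT.leaf 1)) (BT.node (BT.node (BT.leaf 1) (BT.leaf 2)) (BT.leaf 1))) (BT.node (BT.node (BT.node (BT.leaf 1) (BT.leaf 2)) (BT.leaf 1)) (BT.node (BT.node (BT.leaf 2) (BT.leaf 2)) (BT.leaf 1)))) (BT.node (BT.node (BT.node (BT.node (BT.leaf 1) (BT.leaf 2)) (BT.leaf 1)) (BT.node (BT.node (BT.leaf 1) (BT.leaf 1)) (BT.leaf 1))) (BT.node (BT.node (BT.node (BT.leaf 1) (BT.leaf 1)) (BT.leaf 1)) (BT.node (BT.leaf 1) (BT.leaf 1))))))))),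
  (BT.node (BT.node (BT.node (BT.node (BT.node (BT.node (BT.node (BT.node (BT.node (BT.leaf 1) (BT.leaf 1)) (BT.leaf 1)) (BT.node (BT.node (BT.leaf 1) (BT.leaf 2)) (BT.leaf 2))) (BT.node (BT.node (BT.node (BT.leaf 1) (BT.leaf 2)) (BT.leaf 2)) (BT.node (BT.node (BT.leaf 2) (BT.leaf 2)) (BT.leaf 2)))) (BT.node (BT.node (BT.node (BT.node (BT.leaf 1) (BT.leaf 2)) (BT.leaf 2)) (BT.node (BT.node (BT.leaf 1) (BT.leaf 2)) (BT.leaf 2))) (BT.node (BT.node (BT.node (BT.leaf 2) (BT.leaf 1)) (BT.leaf 2)) (BT.node (BT.node (BT.leaf 2) (BT.leaf 2)) (BT.leaf 2))))) (BT.node (BT.node (BT.node (BT.node (BT.node (BT.leaf 1) (BT.leaf 2)) (BT.leaf 1)) (BT.node (BT.node (BT.leaf 2) (BT.leaf 2)) (BT.leaf 2))) (BT.node (BT.node (BT.node (BT.leaf 2) (BT.leaf 2)) (BT.leaf 1)) (BT.node (BT.node (BT.leaf 1) (BT.leaf 1)) (BT.leaf 2)))) (BT.node (BT.node (BT.node (BT.node (BT.leaf 1) (BT.leaf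 1)) (BT.leaf 1)) (BT.node (BT.node (BT.leaf 1) (BT.leaf 1)) (BT.leaf 1))) (BT.node (BT.node (BT.node (BT.leaf 1) (BT.leaf 2)) (BT.leaf 1)) (BT.node (BT.node (BT.leaf 2) (BT.leaf 2)) (BT.leaf 1)))))) (BT.node (BT.node (BT.node (BT.node (BT.node (BT.node (BT.leaf 2) (BT.leaf 1)) (BT.leaf 2)) (BT.node (BT.node (BT.leaf 2) (BT.leaf 1)) (BT.leaf 1))) (BT.node (BT.node (BT.node (BT.leaf 1) (BT.leaf 1)) (BT.leaf 2)) (BT.node (BT.node (BT.leaf 1) (BT.leaf 1)) (BT.leaf 2)))) (BT.node (BT.node (BT.node (BT.node (BT.leaf 2) (BT.leaf 2)) (BT.leaf 2)) (BT.node (BT.node (BT.leaf 1) (BT.leaf 2)) (BT.leaf 1))) (BT.node (BT.node (BT.node (BT.leaf 2) (BT.leaf 1)) (BT.leaf 2)) (BT.node (BT.node (BT.leaf 2) (BT.leaf 2)) (BT.leaf 1))))) (BT.node (BT.node (BT.node (BT.node (BT.node (BT.leaf 1) (BT.leaf 2)) (BT.leaf 2)) (BT.node (BT.node (BT.leaf 1) (BT.leaf 1)) (BT.leaf 2))) (BT.node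 (BT.node (BT.node (BT.leaf 2) (BT.leaf 1)) (BT.leaf 1)) (BT.node (BT.node (BT.leaf 1) (BT.leaf 2)) (BT.leaf 2)))) (BT.node (BT.node (BT.node (BT.node (BT.leaf 1) (BT.leaf 2)) (BT.leaf 1)) (BT.node (BT.node (BT.leaf 2) (BT.leaf 1)) (BT.leaf 2))) (BT.node (BT.node (BT.node (BT.leaf 1) (BT.leaf 1)) (BT.leaf 2)) (BT.node (BT.leaf 1) (BT.leaf 1))))))) (BT.node (BT.node (BT.node (BT.node (BT.node (BT.node (BT.node (BT.leaf 1) (BT.leaf 1)) (BT.leaf 1)) (BT.node (BT.node (BT.leaf 2) (BT.leaf 1)) (BT.leaf 1))) (BT.node (BT.node (BT.node (BT.leaf 1) (BT.leaf 2)) (BT.leaf 2)) (BT.node (BT.node (BT.leaf 2) (BT.leaf 2)) (BT.leaf 1)))) (BT.node (BT.node (BT.node (BT.node (BT.leaf 1) (BT.leaf 2)) (BT.leaf 1)) (BT.node (BT.node (BT.leaf 2) (BT.leaf 1)) (BT.leaf 2))) (BT.node (BT.node (BT.node (BT.leaf 1) (BT.leaf 1)) (BT.leaf 1)) (BT.node (BT.node (BT.leaf 1) (BT.leaf 2))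 (BT.leaf 2))))) (BT.node (BT.node (BT.node (BT.node (BT.node (BT.leaf 2) (BT.leaf 2)) (BT.leaf 2)) (BT.node (BT.node (BT.leaf 1) (BT.leaf 2)) (BT.leaf 2))) (BT.node (BT.node (BT.node (BT.leaf 2) (BT.leaf 1)) (BT.leaf 2)) (BT.node (BT.node (BT.leaf 1) (BT.leaf 2)) (BT.leaf 1)))) (BT.node (BT.node (BT.node (BT.node (BT.leaf 1) (BT.leaf 1)) (BT.leaf 2)) (BT.node (BT.node (BT.leaf 1) (BT.leaf 1)) (BT.leaf 2))) (BT.node (BT.node (BT.node (BT.leaf 1) (BT.leaf 1)) (BT.leaf 1)) (BT.node (BT.leaf 1) (BT.leaf 2)))))) (BT.node (BT.node (BT.node (BT.node (BT.node (BT.node (BT.leaf 1) (BT.leaf 1)) (BT.leaf 1)) (BT.node (BT.node (BT.leaf 2) (BT.leaf 1)) (BT.leaf 2))) (BT.node (BT.node (BT.node (BT.leaf 2) (BT.leaf 2)) (BT.leaf 2)) (BT.node (BT.node (BT.leaf 1) (BT.leaf 1)) (BT.leaf 2)))) (BT.node (BT.node (BT.node (BT.node (BT.leaf 1) (BT.leaf 2)) (BT.leaf 1)) (BT.node (BT.node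 (BT.leaf 1) (BT.leaf 1)) (BT.leaf 2))) (BT.node (BT.node (BT.node (BT.leaf 2) (BT.leaf 1)) (BT.leaf 2)) (BT.node (BT.node (BT.leaf 2) (BT.leaf 2)) (BT.leaf 1))))) (BT.node (BT.node (BT.node (BT.node (BT.node (BT.leaf 1) (BT.leaf 1)) (BT.leaf 2)) (BT.node (BT.node (BT.leaf 1) (BT.leaf 1)) (BT.leaf 1))) (BT.node (BT.node (BT.node (BT.leaf 2) (BT.leaf 1)) (BT.leaf 1)) (BT.node (BT.node (BT.leaf 2) (BT.leaf 1)) (BT.leaf 1)))) (BT.node (BT.node (BT.node (BT.node (BT.leaf 2) (BT.leaf 1)) (BT.leaf 1)) (BT.node (BT.node (BT.leaf 1) (BT.leaf 2)) (BT.leaf 1))) (BT.node (BT.node (BT.node (BT.leaf 1) (BT.leaf 1)) (BT.leaf 2)) (BT.node (BT.leaf 1) (BT.leaf 1)))))))) (BT.node (BT.node (BT.node (BT.node (BT.node (BT.node (BT.node (BT.node (BT.leaf 1) (BT.leaf 2)) (BT.leaf 1)) (BT.node (BT.node (BT.leaf 1) (BT.leaf 2)) (BT.leaf 1))) (BT.node (BT.node (BT.node (BT.leaf 2) (BT.leaf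 1)) (BT.leaf 2)) (BT.node (BT.node (BT.leaf 1) (BT.leaf 1)) (BT.leaf 1)))) (BT.node (BT.node (BT.node (BT.node (BT.leaf 1) (BT.leaf 2)) (BT.leaf 1)) (BT.node (BT.node (BT.leaf 1) (BT.leaf 1)) (BT.leaf 1))) (BT.node (BT.node (BT.node (BT.leaf 1) (BT.leaf 1)) (BT.leaf 2)) (BT.node (BT.node (BT.leaf 2) (BT.leaf 2)) (BT.leaf 1))))) (BT.node (BT.node (BT.node (BT.node (BT.node (BT.leaf 1) (BT.leaf 1)) (BT.leaf 1)) (BT.node (BT.node (BT.leaf 1) (BT.leaf 2)) (BT.leaf 1))) (BT.node (BT.node (BT.node (BT.leaf 1) (BT.leaf 2)) (BT.leaf 1)) (BT.node (BT.node (BT.leaf 2) (BT.leaf 2)) (BT.leaf 2)))) (BT.node (BT.node (BT.node (BT.node (BT.leaf 1) (BT.leaf 1)) (BT.leaf 1)) (BT.node (BT.node (BT.leaf 2) (BT.leaf 2)) (BT.leaf 1))) (BT.node (BT.node (BT.node (BT.leaf 2) (BT.leaf 2)) (BT.leaf 2)) (BT.node (BT.node (BT.leaf 1) (BT.leaf 1)) (BT.leaf 1)))))) (BT.node (BT.node (BT.node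 (BT.node (BT.node (BT.node (BT.leaf 2) (BT.leaf 2)) (BT.leaf 1)) (BT.node (BT.node (BT.leaf 2) (BT.leaf 2)) (BT.leaf 2))) (BT.node (BT.node (BT.node (BT.leaf 1) (BT.leaf 1)) (BT.leaf 1)) (BT.node (BT.node (BT.leaf 1) (BT.leaf 2)) (BT.leaf 2)))) (BT.node (BT.node (BT.node (BT.node (BT.leaf 2) (BT.leaf 1)) (BT.leaf 1)) (BT.node (BT.node (BT.leaf 2) (BT.leaf 2)) (BT.leaf 2))) (BT.node (BT.node (BT.node (BT.leaf 2) (BT.leaf 2)) (BT.leaf 2)) (BT.node (BT.node (BT.leaf 2) (BT.leaf 2)) (BT.leaf 2))))) (BT.node (BT.node (BT.node (BT.node (BT.node (BT.leaf 1) (BT.leaf 2)) (BT.leaf 2)) (BT.node (BT.node (BT.leaf 1) (BT.leaf 2)) (BT.leaf 2))) (BT.node (BT.node (BT.node (BT.leaf 2) (BT.leaf 2)) (BT.leaf 1)) (BT.node (BT.node (BT.leaf 1) (BT.leaf 2)) (BT.leaf 2)))) (BT.node (BT.node (BT.node (BT.node (BT.leaf 1) (BT.leaf 1)) (BT.leaf 1)) (BT.node (BT.node (BT.leaf 2) (BT.leaf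 2)) (BT.leaf 1))) (BT.node (BT.node (BT.node (BT.leaf 1) (BT.leaf 1)) (BT.leaf 1)) (BT.node (BT.leaf 1) (BT.leaf 1))))))) (BT.node (BT.node (BT.node (BT.node (BT.node (BT.node (BT.node (BT.leaf 1) (BT.leaf 1)) (BT.leaf 1)) (BT.node (BT.node (BT.leaf 2) (BT.leaf 2)) (BT.leaf 1))) (BT.node (BT.node (BT.node (BT.leaf 1) (BT.leaf 1)) (BT.leaf 1)) (BT.node (BT.node (BT.leaf 1) (BT.leaf 1)) (BT.leaf 1)))) (BT.node (BT.node (BT.node (BT.node (BT.leaf 1) (BT.leaf 2)) (BT.leaf 1)) (BT.node (BT.node (BT.leaf 1) (BT.leaf 2)) (BT.leaf 2))) (BT.node (BT.node (BT.node (BT.leaf 2) (BT.leaf 2)) (BT.leaf 2)) (BT.node (BT.node (BT.leaf 2) (BT.leaf 1)) (BT.leaf 1))))) (BT.node (BT.node (BT.node (BT.node (BT.node (BT.leaf 1) (BT.leaf 2)) (BT.leaf 2)) (BT.node (BT.node (BT.leaf 2) (BT.leaf 1)) (BT.leaf 2))) (BT.node (BT.node (BT.node (BT.leaf 2) (BT.leaf 1)) (BT.leaf 1)) (BT.node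 (BT.node (BT.leaf 1) (BT.leaf 2)) (BT.leaf 2)))) (BT.node (BT.node (BT.node (BT.node (BT.leaf 2) (BT.leaf 2)) (BT.leaf 1)) (BT.node (BT.node (BT.leaf 1) (BT.leaf 2)) (BT.leaf 1))) (BT.node (BT.node (BT.node (BT.leaf 1) (BT.leaf 1)) (BT.leaf 2)) (BT.node (BT.leaf 1) (BT.leaf 2)))))) (BT.node (BT.node (BT.node (BT.node (BT.node (BT.node (BT.leaf 1) (BT.leaf 2)) (BT.leaf 1)) (BT.node (BT.node (BT.leaf 1) (BT.leaf 2)) (BT.leaf 2))) (BT.node (BT.node (BT.node (BT.leaf 2) (BT.leaf 2)) (BT.leaf 2)) (BT.node (BT.node (BT.leaf 1) (BT.leaf 1)) (BT.leaf 2)))) (BT.node (BT.node (BT.node (BT.node (BT.leaf 1) (BT.leaf 2)) (BT.leaf 2)) (BT.node (BT.node (BT.leaf 1) (BT.leaf 1)) (BT.leaf 1))) (BT.node (BT.node (BT.node (BT.leaf 1) (BT.leaf 1)) (BT.leaf 2)) (BT.node (BT.node (BT.leaf 2) (BT.leaf 1)) (BT.leaf 1))))) (BT.node (BT.node (BT.node (BT.node (BT.node (BT.leaf 1) (BT.leaf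 2)) (BT.leaf 2)) (BT.node (BT.node (BT.leaf 2) (BT.leaf 2)) (BT.leaf 2))) (BT.node (BT.node (BT.node (BT.leaf 1) (BT.leaf 2)) (BT.leaf 2)) (BT.node (BT.node (BT.leaf 2) (BT.leaf 2)) (BT.leaf 2)))) (BT.node (BT.node (BT.node (BT.node (BT.leaf 1) (BT.leaf 2)) (BT.leaf 1)) (BT.node (BT.node (BT.leaf 1) (BT.leaf 1)) (BT.leaf 2))) (BT.node (BT.node (BT.node (BT.leaf 1) (BT.leaf 2)) (BT.leaf 2)) (BT.node (BT.leaf 2) (BT.leaf 1))))))))),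
  (BT.node (BT.node (BT.node (BT.node (BT.node (BT.node (BT.node (BT.node (BT.node (BT.leaf 2) (BT.leaf 2)) (BT.leaf 2)) (BT.node (BT.node (BT.leaf 1) (BT.leaf 2)) (BT.leaf 2))) (BT.node (BT.node (BT.node (BT.leaf 1) (BT.leaf 2)) (BT.leaf 1)) (BT.node (BT.node (BT.leaf 1) (BT.leaf 1)) (BT.leaf 2)))) (BT.node (BT.node (BT.node (BT.node (BT.leaf 2) (BT.leaf 2)) (BT.leaf 2)) (BT.node (BT.node (BT.leaf 1) (BT.leaf 2)) (BT.leaf 2))) (BT.node (BT.node (BT.node (BT.leaf 2) (BT.leaf 1)) (BT.leaf 1)) (BT.node (BT.node (BT.leaf 2) (BT.leaf 2)) (BT.leaf 1))))) (BT.node (BT.node (BT.node (BT.node (BT.node (BT.leaf 2) (BT.leaf 1)) (BT.leaf 1)) (BT.node (BT.node (BT.leaf 1) (BT.leaf 2)) (BT.leaf 1))) (BT.node (BT.node (BT.node (BT.leaf 1) (BT.leaf 1)) (BT.leaf 1)) (BT.node (BT.node (BT.leaf 1) (BT.leaf 1)) (BT.leaf 1)))) (BT.node (BT.node (BT.node (BT.node (BT.leaf 2) (BT.leaf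 2)) (BT.leaf 2)) (BT.node (BT.node (BT.leaf 2) (BT.leaf 1)) (BT.leaf 1))) (BT.node (BT.node (BT.node (BT.leaf 2) (BT.leaf 1)) (BT.leaf 2)) (BT.node (BT.node (BT.leaf 2) (BT.leaf 1)) (BT.leaf 2)))))) (BT.node (BT.node (BT.node (BT.node (BT.node (BT.node (BT.leaf 1) (BT.leaf 1)) (BT.leaf 2)) (BT.node (BT.node (BT.leaf 1) (BT.leaf 1)) (BT.leaf 2))) (BT.node (BT.node (BT.node (BT.leaf 1) (BT.leaf 1)) (BT.leaf 2)) (BT.node (BT.node (BT.leaf 1) (BT.leaf 1)) (BT.leaf 2)))) (BT.node (BT.node (BT.node (BT.node (BT.leaf 1) (BT.leaf 2)) (BT.leaf 2)) (BT.node (BT.node (BT.leaf 1) (BT.leaf 2)) (BT.leaf 1))) (BT.node (BT.node (BT.node (BT.leaf 2) (BT.leaf 1)) (BT.leaf 2)) (BT.node (BT.node (BT.leaf 2) (BT.leaf 2)) (BT.leaf 1))))) (BT.node (BT.node (BT.node (BT.node (BT.node (BT.leaf 1) (BT.leaf 2)) (BT.leaf 1)) (BT.node (BT.node (BT.leaf 2) (BT.leaf 2)) (BT.leaf 1))) (BT.node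 (BT.node (BT.node (BT.leaf 2) (BT.leaf 1)) (BT.leaf 2)) (BT.node (BT.node (BT.leaf 2) (BT.leaf 2)) (BT.leaf 2)))) (BT.node (BT.node (BT.node (BT.node (BT.leaf 2) (BT.leaf 2)) (BT.leaf 2)) (BT.node (BT.node (BT.leaf 1) (BT.leaf 2)) (BT.leaf 1))) (BT.node (BT.node (BT.node (BT.leaf 2) (BT.leaf 2)) (BT.leaf 2)) (BT.node (BT.leaf 2) (BT.leaf 2))))))) (BT.node (BT.node (BT.node (BT.node (BT.node (BT.node (BT.node (BT.leaf 2) (BT.leaf 1)) (BT.leaf 1)) (BT.node (BT.node (BT.leaf 1) (BT.leaf 1)) (BT.leaf 1))) (BT.node (BT.node (BT.node (BT.leaf 1) (BT.leaf 1)) (BT.leaf 1)) (BT.node (BT.node (BT.leaf 1) (BT.leaf 1)) (BT.leaf 1)))) (BT.node (BT.node (BT.node (BT.node (BT.leaf 1) (BT.leaf 1)) (BT.leaf 1)) (BT.node (BT.node (BT.leaf 1) (BT.leaf 2)) (BT.leaf 1))) (BT.node (BT.node (BT.node (BT.leaf 1) (BT.leaf 1)) (BT.leaf 1)) (BT.node (BT.node (BT.leaf 1) (BT.leaf 1))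 (BT.leaf 2))))) (BT.node (BT.node (BT.node (BT.node (BT.node (BT.leaf 2) (BT.leaf 1)) (BT.leaf 2)) (BT.node (BT.node (BT.leaf 2) (BT.leaf 1)) (BT.leaf 1))) (BT.node (BT.node (BT.node (BT.leaf 2) (BT.leaf 2)) (BT.leaf 1)) (BT.node (BT.node (BT.leaf 2) (BT.leaf 2)) (BT.leaf 1)))) (BT.node (BT.node (BT.node (BT.node (BT.leaf 1) (BT.leaf 1)) (BT.leaf 1)) (BT.node (BT.node (BT.leaf 2) (BT.leaf 1)) (BT.leaf 2))) (BT.node (BT.node (BT.node (BT.leaf 1) (BT.leaf 2)) (BT.leaf 1)) (BT.node (BT.leaf 1) (BT.leaf 2)))))) (BT.node (BT.node (BT.node (BT.node (BT.node (BT.node (BT.leaf 2) (BT.leaf 2)) (BT.leaf 2)) (BT.node (BT.node (BT.leaf 2) (BT.leaf 2)) (BT.leaf 2))) (BT.node (BT.node (BT.node (BT.leaf 2) (BT.leaf 2)) (BT.leaf 2)) (BT.node (BT.node (BT.leaf 2) (BT.leaf 1)) (BT.leaf 2)))) (BT.node (BT.node (BT.node (BT.node (BT.leaf 2) (BT.leaf 2)) (BT.leaf 2)) (BT.node (BT.node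 (BT.leaf 1) (BT.leaf 1)) (BT.leaf 2))) (BT.node (BT.node (BT.node (BT.leaf 1) (BT.leaf 2)) (BT.leaf 1)) (BT.node (BT.node (BT.leaf 2) (BT.leaf 1)) (BT.leaf 1))))) (BT.node (BT.node (BT.node (BT.node (BT.node (BT.leaf 2) (BT.leaf 2)) (BT.leaf 2)) (BT.node (BT.node (BT.leaf 1) (BT.leaf 1)) (BT.leaf 2))) (BT.node (BT.node (BT.node (BT.leaf 1) (BT.leaf 1)) (BT.leaf 1)) (BT.node (BT.node (BT.leaf 1) (BT.leaf 1)) (BT.leaf 1)))) (BT.node (BT.node (BT.node (BT.node (BT.leaf 1) (BT.leaf 1)) (BT.leaf 1)) (BT.node (BT.node (BT.leaf 2) (BT.leaf 2)) (BT.leaf 1))) (BT.node (BT.node (BT.node (BT.leaf 1) (BT.leaf 1)) (BT.leaf 1)) (BT.node (BT.leaf 1) (BT.leaf 1)))))))) (BT.node (BT.node (BT.node (BT.node (BT.node (BT.node (BT.node (BT.node (BT.leaf 1) (BT.leaf 1)) (BT.leaf 1)) (BT.node (BT.node (BT.leaf 1) (BT.leaf 2)) (BT.leaf 2))) (BT.node (BT.node (BT.node (BT.leaf 2) (BT.leaf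 2)) (BT.leaf 1)) (BT.node (BT.node (BT.leaf 2) (BT.leaf 2)) (BT.leaf 1)))) (BT.node (BT.node (BT.node (BT.node (BT.leaf 1) (BT.leaf 2)) (BT.leaf 1)) (BT.node (BT.node (BT.leaf 2) (BT.leaf 1)) (BT.leaf 2))) (BT.node (BT.node (BT.node (BT.leaf 2) (BT.leaf 2)) (BT.leaf 1)) (BT.node (BT.node (BT.leaf 1) (BT.leaf 1)) (BT.leaf 2))))) (BT.node (BT.node (BT.node (BT.node (BT.node (BT.leaf 1) (BT.leaf 2)) (BT.leaf 1)) (BT.node (BT.node (BT.leaf 2) (BT.leaf 1)) (BT.leaf 2))) (BT.node (BT.node (BT.node (BT.leaf 1) (BT.leaf 1)) (BT.leaf 2)) (BT.node (BT.node (BT.leaf 2) (BT.leaf 1)) (BT.leaf 1)))) (BT.node (BT.node (BT.node (BT.node (BT.leaf 2) (BT.leaf 2)) (BT.leaf 1)) (BT.node (BT.node (BT.leaf 2) (BT.leaf 1)) (BT.leaf 2))) (BT.node (BT.node (BT.node (BT.leaf 2) (BT.leaf 2)) (BT.leaf 1)) (BT.node (BT.node (BT.leaf 1) (BT.leaf 1)) (BT.leaf 2)))))) (BT.node (BT.node (BT.node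 (BT.node (BT.node (BT.node (BT.leaf 2) (BT.leaf 1)) (BT.leaf 1)) (BT.node (BT.node (BT.leaf 2) (BT.leaf 2)) (BT.leaf 1))) (BT.node (BT.node (BT.node (BT.leaf 1) (BT.leaf 1)) (BT.leaf 1)) (BT.node (BT.node (BT.leaf 1) (BT.leaf 2)) (BT.leaf 2)))) (BT.node (BT.node (BT.node (BT.node (BT.leaf 2) (BT.leaf 2)) (BT.leaf 2)) (BT.node (BT.node (BT.leaf 2) (BT.leaf 1)) (BT.leaf 1))) (BT.node (BT.node (BT.node (BT.leaf 2) (BT.leaf 1)) (BT.leaf 2)) (BT.node (BT.node (BT.leaf 2) (BT.leaf 1)) (BT.leaf 2))))) (BT.node (BT.node (BT.node (BT.node (BT.node (BT.leaf 1) (BT.leaf 2)) (BT.leaf 1)) (BT.node (BT.node (BT.leaf 1) (BT.leaf 1)) (BT.leaf 1))) (BT.node (BT.node (BT.node (BT.leaf 2) (BT.leaf 2)) (BT.leaf 1)) (BT.node (BT.node (BT.leaf 1) (BT.leaf 1)) (BT.leaf 1)))) (BT.node (BT.node (BT.node (BT.node (BT.leaf 2) (BT.leaf 1)) (BT.leaf 1)) (BT.node (BT.node (BT.leaf 2) (BT.leaf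 2)) (BT.leaf 2))) (BT.node (BT.node (BT.node (BT.leaf 2) (BT.leaf 2)) (BT.leaf 2)) (BT.node (BT.leaf 2) (BT.leaf 2))))))) (BT.node (BT.node (BT.node (BT.node (BT.node (BT.node (BT.node (BT.leaf 2) (BT.leaf 1)) (BT.leaf 1)) (BT.node (BT.node (BT.leaf 1) (BT.leaf 1)) (BT.leaf 1))) (BT.node (BT.node (BT.node (BT.leaf 1) (BT.leaf 1)) (BT.leaf 2)) (BT.node (BT.node (BT.leaf 1) (BT.leaf 1)) (BT.leaf 2)))) (BT.node (BT.node (BT.node (BT.node (BT.leaf 2) (BT.leaf 2)) (BT.leaf 2)) (BT.node (BT.node (BT.leaf 1) (BT.leaf 2)) (BT.leaf 1))) (BT.node (BT.node (BT.node (BT.leaf 2) (BT.leaf 2)) (BT.leaf 1)) (BT.node (BT.node (BT.leaf 2) (BT.leaf 1)) (BT.leaf 2))))) (BT.node (BT.node (BT.node (BT.node (BT.node (BT.leaf 1) (BT.leaf 1)) (BT.leaf 2)) (BT.node (BT.node (BT.leaf 1) (BT.leaf 1)) (BT.leaf 1))) (BT.node (BT.node (BT.node (BT.leaf 2) (BT.leaf 2)) (BT.leaf 1)) (BT.node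 (BT.node (BT.leaf 2) (BT.leaf 1)) (BT.leaf 1)))) (BT.node (BT.node (BT.node (BT.node (BT.leaf 1) (BT.leaf 1)) (BT.leaf 1)) (BT.node (BT.node (BT.leaf 2) (BT.leaf 1)) (BT.leaf 1))) (BT.node (BT.node (BT.node (BT.leaf 2) (BT.leaf 1)) (BT.leaf 1)) (BT.node (BT.leaf 1) (BT.leaf 2)))))) (BT.node (BT.node (BT.node (BT.node (BT.node (BT.node (BT.leaf 2) (BT.leaf 1)) (BT.leaf 1)) (BT.node (BT.node (BT.leaf 1) (BT.leaf 1)) (BT.leaf 2))) (BT.node (BT.node (BT.node (BT.leaf 1) (BT.leaf 2)) (BT.leaf 1)) (BT.node (BT.node (BT.leaf 2) (BT.leaf 1)) (BT.leaf 1)))) (BT.node (BT.node (BT.node (BT.node (BT.leaf 2) (BT.leaf 2)) (BT.leaf 1)) (BT.node (BT.node (BT.leaf 2) (BT.leaf 1)) (BT.leaf 2))) (BT.node (BT.node (BT.node (BT.leaf 2) (BT.leaf 1)) (BT.leaf 1)) (BT.node (BT.node (BT.leaf 2) (BT.leaf 1)) (BT.leaf 1))))) (BT.node (BT.node (BT.node (BT.node (BT.node (BT.leaf 1) (BT.leaf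 2)) (BT.leaf 2)) (BT.node (BT.node (BT.leaf 2) (BT.leaf 1)) (BT.leaf 1))) (BT.node (BT.node (BT.node (BT.leaf 2) (BT.leaf 1)) (BT.leaf 2)) (BT.node (BT.node (BT.leaf 2) (BT.leaf 2)) (BT.leaf 2)))) (BT.node (BT.node (BT.node (BT.node (BT.leaf 1) (BT.leaf 1)) (BT.leaf 1)) (BT.node (BT.node (BT.leaf 1) (BT.leaf 2)) (BT.leaf 2))) (BT.node (BT.node (BT.node (BT.leaf 2) (BT.leaf 2)) (BT.leaf 1)) (BT.node (BT.leaf 2) (BT.leaf 1))))))))),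
  (BT.node (BT.node (BT.node (BT.node (BT.node (BT.node (BT.node (BT.node (BT.node (BT.leaf 1) (BT.leaf 1)) (BT.leaf 1)) (BT.node (BT.node (BT.leaf 1) (BT.leaf 1)) (BT.leaf 1))) (BT.node (BT.node (BT.node (BT.leaf 1) (BT.leaf 1)) (BT.leaf 1)) (BT.node (BT.node (BT.leaf 1) (BT.leaf 1)) (BT.leaf 1)))) (BT.node (BT.node (BT.node (BT.node (BT.leaf 1) (BT.leaf 1)) (BT.leaf 1)) (BT.node (BT.node (BT.leaf 1) (BT.leaf 1)) (BT.leaf 1))) (BT.node (BT.node (BT.node (BT.leaf 1) (BT.leaf 1)) (BT.leaf 1)) (BT.node (BT.node (BT.leaf 1) (BT.leaf 1)) (BT.leaf 1))))) (BT.node (BT.node (BT.node (BT.node (BT.node (BT.leaf 1) (BT.leaf 1)) (BT.leaf 1)) (BT.node (BT.node (BT.leaf 1) (BT.leaf 1)) (BT.leaf 1))) (BT.node (BT.node (BT.node (BT.leaf 1) (BT.leaf 1)) (BT.leaf 1)) (BT.node (BT.node (BT.leaf 1) (BT.leaf 1)) (BT.leaf 1)))) (BT.node (BT.node (BT.node (BT.node (BT.leaf 1) (BT.leaf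 1)) (BT.leaf 1)) (BT.node (BT.node (BT.leaf 2) (BT.leaf 1)) (BT.leaf 1))) (BT.node (BT.node (BT.node (BT.leaf 1) (BT.leaf 1)) (BT.leaf 1)) (BT.node (BT.node (BT.leaf 1) (BT.leaf 1)) (BT.leaf 1)))))) (BT.node (BT.node (BT.node (BT.node (BT.node (BT.node (BT.leaf 1) (BT.leaf 1)) (BT.leaf 1)) (BT.node (BT.node (BT.leaf 1) (BT.leaf 1)) (BT.leaf 1))) (BT.node (BT.node (BT.node (BT.leaf 1) (BT.leaf 1)) (BT.leaf 1)) (BT.node (BT.node (BT.leaf 1) (BT.leaf 1)) (BT.leaf 1)))) (BT.node (BT.node (BT.node (BT.node (BT.leaf 1) (BT.leaf 1)) (BT.leaf 1)) (BT.node (BT.node (BT.leaf 1) (BT.leaf 1)) (BT.leaf 1))) (BT.node (BT.node (BT.node (BT.leaf 1) (BT.leaf 1)) (BT.leaf 1)) (BT.node (BT.node (BT.leaf 2) (BT.leaf 1)) (BT.leaf 1))))) (BT.node (BT.node (BT.node (BT.node (BT.node (BT.leaf 1) (BT.leaf 1)) (BT.leaf 2)) (BT.node (BT.node (BT.leaf 1) (BT.leaf 2)) (BT.leaf 1))) (BT.node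 (BT.node (BT.node (BT.leaf 1) (BT.leaf 1)) (BT.leaf 1)) (BT.node (BT.node (BT.leaf 1) (BT.leaf 1)) (BT.leaf 1)))) (BT.node (BT.node (BT.node (BT.node (BT.leaf 1) (BT.leaf 1)) (BT.leaf 1)) (BT.node (BT.node (BT.leaf 1) (BT.leaf 1)) (BT.leaf 1))) (BT.node (BT.node (BT.node (BT.leaf 1) (BT.leaf 2)) (BT.leaf 1)) (BT.node (BT.leaf 1) (BT.leaf 1))))))) (BT.node (BT.node (BT.node (BT.node (BT.node (BT.node (BT.node (BT.leaf 1) (BT.leaf 1)) (BT.leaf 1)) (BT.node (BT.node (BT.leaf 1) (BT.leaf 1)) (BT.leaf 1))) (BT.node (BT.node (BT.node (BT.leaf 1) (BT.leaf 1)) (BT.leaf 1)) (BT.node (BT.node (BT.leaf 1) (BT.leaf 1)) (BT.leaf 1)))) (BT.node (BT.node (BT.node (BT.node (BT.leaf 1) (BT.leaf 1)) (BT.leaf 1)) (BT.node (BT.node (BT.leaf 1) (BT.leaf 2)) (BT.leaf 1))) (BT.node (BT.node (BT.node (BT.leaf 1) (BT.leaf 1)) (BT.leaf 1)) (BT.node (BT.node (BT.leaf 1) (BT.leaf 1))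 (BT.leaf 1))))) (BT.node (BT.node (BT.node (BT.node (BT.node (BT.leaf 1) (BT.leaf 1)) (BT.leaf 1)) (BT.node (BT.node (BT.leaf 1) (BT.leaf 1)) (BT.leaf 1))) (BT.node (BT.node (BT.node (BT.leaf 1) (BT.leaf 1)) (BT.leaf 1)) (BT.node (BT.node (BT.leaf 1) (BT.leaf 1)) (BT.leaf 1)))) (BT.node (BT.node (BT.node (BT.node (BT.leaf 1) (BT.leaf 1)) (BT.leaf 1)) (BT.node (BT.node (BT.leaf 1) (BT.leaf 1)) (BT.leaf 1))) (BT.node (BT.node (BT.node (BT.leaf 1) (BT.leaf 1)) (BT.leaf 1)) (BT.node (BT.leaf 1) (BT.leaf 1)))))) (BT.node (BT.node (BT.node (BT.node (BT.node (BT.node (BT.leaf 1) (BT.leaf 1)) (BT.leaf 1)) (BT.node (BT.node (BT.leaf 1) (BT.leaf 1)) (BT.leaf 1))) (BT.node (BT.node (BT.node (BT.leaf 1) (BT.leaf 1)) (BT.leaf 1)) (BT.node (BT.node (BT.leaf 1) (BT.leaf 1)) (BT.leaf 1)))) (BT.node (BT.node (BT.node (BT.node (BT.leaf 1) (BT.leaf 1)) (BT.leaf 1)) (BT.node (BT.node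 (BT.leaf 1) (BT.leaf 1)) (BT.leaf 1))) (BT.node (BT.node (BT.node (BT.leaf 1) (BT.leaf 1)) (BT.leaf 1)) (BT.node (BT.node (BT.leaf 1) (BT.leaf 1)) (BT.leaf 1))))) (BT.node (BT.node (BT.node (BT.node (BT.node (BT.leaf 2) (BT.leaf 1)) (BT.leaf 1)) (BT.node (BT.node (BT.leaf 1) (BT.leaf 1)) (BT.leaf 1))) (BT.node (BT.node (BT.node (BT.leaf 1) (BT.leaf 1)) (BT.leaf 1)) (BT.node (BT.node (BT.leaf 1) (BT.leaf 1)) (BT.leaf 1)))) (BT.node (BT.node (BT.node (BT.node (BT.leaf 1) (BT.leaf 1)) (BT.leaf 1)) (BT.node (BT.node (BT.leaf 1) (BT.leaf 1)) (BT.leaf 1))) (BT.node (BT.node (BT.node (BT.leaf 1) (BT.leaf 1)) (BT.leaf 1)) (BT.node (BT.leaf 1) (BT.leaf 1)))))))) (BT.node (BT.node (BT.node (BT.node (BT.node (BT.node (BT.node (BT.node (BT.leaf 1) (BT.leaf 1)) (BT.leaf 1)) (BT.node (BT.node (BT.leaf 1) (BT.leaf 1)) (BT.leaf 1))) (BT.node (BT.node (BT.node (BT.leaf 1) (BT.leaf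 1)) (BT.leaf 1)) (BT.node (BT.node (BT.leaf 1) (BT.leaf 1)) (BT.leaf 1)))) (BT.node (BT.node (BT.node (BT.node (BT.leaf 1) (BT.leaf 1)) (BT.leaf 1)) (BT.node (BT.node (BT.leaf 1) (BT.leaf 1)) (BT.leaf 1))) (BT.node (BT.node (BT.node (BT.leaf 1) (BT.leaf 2)) (BT.leaf 1)) (BT.node (BT.node (BT.leaf 1) (BT.leaf 1)) (BT.leaf 1))))) (BT.node (BT.node (BT.node (BT.node (BT.node (BT.leaf 1) (BT.leaf 1)) (BT.leaf 1)) (BT.node (BT.node (BT.leaf 1) (BT.leaf 1)) (BT.leaf 1))) (BT.node (BT.node (BT.node (BT.leaf 1) (BT.leaf 1)) (BT.leaf 1)) (BT.node (BT.node (BT.leaf 1) (BT.leaf 1)) (BT.leaf 1)))) (BT.node (BT.node (BT.node (BT.node (BT.leaf 1) (BT.leaf 1)) (BT.leaf 1)) (BT.node (BT.node (BT.leaf 1) (BT.leaf 1)) (BT.leaf 1))) (BT.node (BT.node (BT.node (BT.leaf 1) (BT.leaf 1)) (BT.leaf 1)) (BT.node (BT.node (BT.leaf 1) (BT.leaf 1)) (BT.leaf 1)))))) (BT.node (BT.node (BT.node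 (BT.node (BT.node (BT.node (BT.leaf 1) (BT.leaf 1)) (BT.leaf 1)) (BT.node (BT.node (BT.leaf 1) (BT.leaf 1)) (BT.leaf 1))) (BT.node (BT.node (BT.node (BT.leaf 1) (BT.leaf 1)) (BT.leaf 1)) (BT.node (BT.node (BT.leaf 1) (BT.leaf 1)) (BT.leaf 1)))) (BT.node (BT.node (BT.node (BT.node (BT.leaf 1) (BT.leaf 1)) (BT.leaf 1)) (BT.node (BT.node (BT.leaf 2) (BT.leaf 1)) (BT.leaf 1))) (BT.node (BT.node (BT.node (BT.leaf 1) (BT.leaf 1)) (BT.leaf 1)) (BT.node (BT.node (BT.leaf 1) (BT.leaf 1)) (BT.leaf 1))))) (BT.node (BT.node (BT.node (BT.node (BT.node (BT.leaf 1) (BT.leaf 1)) (BT.leaf 2)) (BT.node (BT.node (BT.leaf 1) (BT.leaf 1)) (BT.leaf 1))) (BT.node (BT.node (BT.node (BT.leaf 1) (BT.leaf 2)) (BT.leaf 1)) (BT.node (BT.node (BT.leaf 1) (BT.leaf 1)) (BT.leaf 1)))) (BT.node (BT.node (BT.node (BT.node (BT.leaf 1) (BT.leaf 1)) (BT.leaf 1)) (BT.node (BT.node (BT.leaf 1) (BT.leaf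 1)) (BT.leaf 1))) (BT.node (BT.node (BT.node (BT.leaf 1) (BT.leaf 1)) (BT.leaf 1)) (BT.node (BT.leaf 1) (BT.leaf 1))))))) (BT.node (BT.node (BT.node (BT.node (BT.node (BT.node (BT.node (BT.leaf 1) (BT.leaf 1)) (BT.leaf 1)) (BT.node (BT.node (BT.leaf 1) (BT.leaf 1)) (BT.leaf 1))) (BT.node (BT.node (BT.node (BT.leaf 1) (BT.leaf 1)) (BT.leaf 1)) (BT.node (BT.node (BT.leaf 1) (BT.leaf 1)) (BT.leaf 1)))) (BT.node (BT.node (BT.node (BT.node (BT.leaf 1) (BT.leaf 1)) (BT.leaf 1)) (BT.node (BT.node (BT.leaf 1) (BT.leaf 2)) (BT.leaf 1))) (BT.node (BT.node (BT.node (BT.leaf 1) (BT.leaf 1)) (BT.leaf 1)) (BT.node (BT.node (BT.leaf 1) (BT.leaf 1)) (BT.leaf 1))))) (BT.node (BT.node (BT.node (BT.node (BT.node (BT.leaf 1) (BT.leaf 1)) (BT.leaf 2)) (BT.node (BT.node (BT.leaf 1) (BT.leaf 1)) (BT.leaf 1))) (BT.node (BT.node (BT.node (BT.leaf 1) (BT.leaf 2)) (BT.leaf 1)) (BT.node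 (BT.node (BT.leaf 1) (BT.leaf 1)) (BT.leaf 1)))) (BT.node (BT.node (BT.node (BT.node (BT.leaf 2) (BT.leaf 1)) (BT.leaf 1)) (BT.node (BT.node (BT.leaf 1) (BT.leaf 1)) (BT.leaf 1))) (BT.node (BT.node (BT.node (BT.leaf 1) (BT.leaf 1)) (BT.leaf 1)) (BT.node (BT.leaf 1) (BT.leaf 1)))))) (BT.node (BT.node (BT.node (BT.node (BT.node (BT.node (BT.leaf 1) (BT.leaf 1)) (BT.leaf 1)) (BT.node (BT.node (BT.leaf 1) (BT.leaf 1)) (BT.leaf 1))) (BT.node (BT.node (BT.node (BT.leaf 1) (BT.leaf 1)) (BT.leaf 1)) (BT.node (BT.node (BT.leaf 2) (BT.leaf 1)) (BT.leaf 1)))) (BT.node (BT.node (BT.node (BT.node (BT.leaf 1) (BT.leaf 1)) (BT.leaf 1)) (BT.node (BT.node (BT.leaf 2) (BT.leaf 1)) (BT.leaf 1))) (BT.node (BT.node (BT.node (BT.leaf 1) (BT.leaf 1)) (BT.leaf 1)) (BT.node (BT.node (BT.leaf 1) (BT.leaf 1)) (BT.leaf 1))))) (BT.node (BT.node (BT.node (BT.node (BT.node (BT.leaf 1) (BT.leaf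 1)) (BT.leaf 1)) (BT.node (BT.node (BT.leaf 1) (BT.leaf 1)) (BT.leaf 1))) (BT.node (BT.node (BT.node (BT.leaf 1) (BT.leaf 1)) (BT.leaf 1)) (BT.node (BT.node (BT.leaf 1) (BT.leaf 1)) (BT.leaf 1)))) (BT.node (BT.node (BT.node (BT.node (BT.leaf 1) (BT.leaf 1)) (BT.leaf 1)) (BT.node (BT.node (BT.leaf 1) (BT.leaf 1)) (BT.leaf 1))) (BT.node (BT.node (BT.node (BT.leaf 1) (BT.leaf 2)) (BT.leaf 1)) (BT.node (BT.leaf 1) (BT.leaf 1))))))))),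
  (BT.node (BT.node (BT.node (BT.node (BT.node (BT.node (BT.node (BT.node (BT.node (BT.leaf 1) (BT.leaf 1)) (BT.leaf 1)) (BT.node (BT.node (BT.leaf 1) (BT.leaf 1)) (BT.leaf 1))) (BT.node (BT.node (BT.node (BT.leaf 1) (BT.leaf 1)) (BT.leaf 1)) (BT.node (BT.node (BT.leaf 1) (BT.leaf 1)) (BT.leaf 1)))) (BT.node (BT.node (BT.node (BT.node (BT.leaf 1) (BT.leaf 1)) (BT.leaf 1)) (BT.node (BT.node (BT.leaf 1) (BT.leaf 1)) (BT.leaf 1))) (BT.node (BT.node (BT.node (BT.leaf 1) (BT.leaf 1)) (BT.leaf 1)) (BT.node (BT.node (BT.leaf 1) (BT.leaf 1)) (BT.leaf 1))))) (BT.node (BT.node (BT.node (BT.node (BT.node (BT.leaf 1) (BT.leaf 1)) (BT.leaf 1)) (BT.node (BT.node (BT.leaf 1) (BT.leaf 1)) (BT.leaf 1))) (BT.node (BT.node (BT.node (BT.leaf 1) (BT.leaf 1)) (BT.leaf 1)) (BT.node (BT.node (BT.leaf 1) (BT.leaf 1)) (BT.leaf 1)))) (BT.node (BT.node (BT.node (BT.node (BT.leaf 1) (BT.leaf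 1)) (BT.leaf 1)) (BT.node (BT.node (BT.leaf 1) (BT.leaf 1)) (BT.leaf 1))) (BT.node (BT.node (BT.node (BT.leaf 1) (BT.leaf 1)) (BT.leaf 1)) (BT.node (BT.node (BT.leaf 1) (BT.leaf 1)) (BT.leaf 1)))))) (BT.node (BT.node (BT.node (BT.node (BT.node (BT.node (BT.leaf 1) (BT.leaf 1)) (BT.leaf 1)) (BT.node (BT.node (BT.leaf 1) (BT.leaf 1)) (BT.leaf 1))) (BT.node (BT.node (BT.node (BT.leaf 1) (BT.leaf 1)) (BT.leaf 1)) (BT.node (BT.node (BT.leaf 1) (BT.leaf 1)) (BT.leaf 1)))) (BT.node (BT.node (BT.node (BT.node (BT.leaf 1) (BT.leaf 1)) (BT.leaf 1)) (BT.node (BT.node (BT.leaf 1) (BT.leaf 1)) (BT.leaf 1))) (BT.node (BT.node (BT.node (BT.leaf 1) (BT.leaf 1)) (BT.leaf 1)) (BT.node (BT.node (BT.leaf 1) (BT.leaf 1)) (BT.leaf 1))))) (BT.node (BT.node (BT.node (BT.node (BT.node (BT.leaf 1) (BT.leaf 1)) (BT.leaf 1)) (BT.node (BT.node (BT.leaf 1) (BT.leaf 1)) (BT.leaf 1))) (BT.node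 (BT.node (BT.node (BT.leaf 1) (BT.leaf 1)) (BT.leaf 1)) (BT.node (BT.node (BT.leaf 1) (BT.leaf 1)) (BT.leaf 1)))) (BT.node (BT.node (BT.node (BT.node (BT.leaf 1) (BT.leaf 1)) (BT.leaf 1)) (BT.node (BT.node (BT.leaf 1) (BT.leaf 1)) (BT.leaf 1))) (BT.node (BT.node (BT.node (BT.leaf 1) (BT.leaf 1)) (BT.leaf 1)) (BT.node (BT.leaf 1) (BT.leaf 1))))))) (BT.node (BT.node (BT.node (BT.node (BT.node (BT.node (BT.node (BT.leaf 1) (BT.leaf 1)) (BT.leaf 1)) (BT.node (BT.node (BT.leaf 1) (BT.leaf 1)) (BT.leaf 1))) (BT.node (BT.node (BT.node (BT.leaf 1) (BT.leaf 1)) (BT.leaf 1)) (BT.node (BT.node (BT.leaf 1) (BT.leaf 1)) (BT.leaf 1)))) (BT.node (BT.node (BT.node (BT.node (BT.leaf 1) (BT.leaf 1)) (BT.leaf 1)) (BT.node (BT.node (BT.leaf 1) (BT.leaf 1)) (BT.leaf 1))) (BT.node (BT.node (BT.node (BT.leaf 1) (BT.leaf 1)) (BT.leaf 1)) (BT.node (BT.node (BT.leaf 1) (BT.leaf 1))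 (BT.leaf 1))))) (BT.node (BT.node (BT.node (BT.node (BT.node (BT.leaf 1) (BT.leaf 1)) (BT.leaf 1)) (BT.node (BT.node (BT.leaf 1) (BT.leaf 1)) (BT.leaf 1))) (BT.node (BT.node (BT.node (BT.leaf 1) (BT.leaf 1)) (BT.leaf 1)) (BT.node (BT.node (BT.leaf 1) (BT.leaf 1)) (BT.leaf 1)))) (BT.node (BT.node (BT.node (BT.node (BT.leaf 1) (BT.leaf 1)) (BT.leaf 1)) (BT.node (BT.node (BT.leaf 1) (BT.leaf 1)) (BT.leaf 1))) (BT.node (BT.node (BT.node (BT.leaf 1) (BT.leaf 1)) (BT.leaf 1)) (BT.node (BT.leaf 1) (BT.leaf 1)))))) (BT.node (BT.node (BT.node (BT.node (BT.node (BT.node (BT.leaf 1) (BT.leaf 1)) (BT.leaf 1)) (BT.node (BT.node (BT.leaf 1) (BT.leaf 1)) (BT.leaf 1))) (BT.node (BT.node (BT.node (BT.leaf 1) (BT.leaf 1)) (BT.leaf 1)) (BT.node (BT.node (BT.leaf 1) (BT.leaf 1)) (BT.leaf 1)))) (BT.node (BT.node (BT.node (BT.node (BT.leaf 1) (BT.leaf 1)) (BT.leaf 1)) (BT.node (BT.node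 (BT.leaf 1) (BT.leaf 1)) (BT.leaf 1))) (BT.node (BT.node (BT.node (BT.leaf 1) (BT.leaf 1)) (BT.leaf 1)) (BT.node (BT.node (BT.leaf 1) (BT.leaf 1)) (BT.leaf 1))))) (BT.node (BT.node (BT.node (BT.node (BT.node (BT.leaf 1) (BT.leaf 1)) (BT.leaf 1)) (BT.node (BT.node (BT.leaf 1) (BT.leaf 1)) (BT.leaf 1))) (BT.node (BT.node (BT.node (BT.leaf 1) (BT.leaf 1)) (BT.leaf 1)) (BT.node (BT.node (BT.leaf 1) (BT.leaf 1)) (BT.leaf 1)))) (BT.node (BT.node (BT.node (BT.node (BT.leaf 1) (BT.leaf 1)) (BT.leaf 1)) (BT.node (BT.node (BT.leaf 1) (BT.leaf 1)) (BT.leaf 1))) (BT.node (BT.node (BT.node (BT.leaf 1) (BT.leaf 1)) (BT.leaf 1)) (BT.node (BT.leaf 1) (BT.leaf 1)))))))) (BT.node (BT.node (BT.node (BT.node (BT.node (BT.node (BT.node (BT.node (BT.leaf 1) (BT.leaf 1)) (BT.leaf 1)) (BT.node (BT.node (BT.leaf 1) (BT.leaf 1)) (BT.leaf 1))) (BT.node (BT.node (BT.node (BT.leaf 1) (BT.leaf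 1)) (BT.leaf 1)) (BT.node (BT.node (BT.leaf 1) (BT.leaf 1)) (BT.leaf 1)))) (BT.node (BT.node (BT.node (BT.node (BT.leaf 1) (BT.leaf 1)) (BT.leaf 1)) (BT.node (BT.node (BT.leaf 1) (BT.leaf 1)) (BT.leaf 1))) (BT.node (BT.node (BT.node (BT.leaf 1) (BT.leaf 1)) (BT.leaf 1)) (BT.node (BT.node (BT.leaf 1) (BT.leaf 1)) (BT.leaf 1))))) (BT.node (BT.node (BT.node (BT.node (BT.node (BT.leaf 1) (BT.leaf 1)) (BT.leaf 1)) (BT.node (BT.node (BT.leaf 1) (BT.leaf 1)) (BT.leaf 1))) (BT.node (BT.node (BT.node (BT.leaf 1) (BT.leaf 1)) (BT.leaf 1)) (BT.node (BT.node (BT.leaf 1) (BT.leaf 1)) (BT.leaf 1)))) (BT.node (BT.node (BT.node (BT.node (BT.leaf 1) (BT.leaf 1)) (BT.leaf 1)) (BT.node (BT.node (BT.leaf 1) (BT.leaf 1)) (BT.leaf 1))) (BT.node (BT.node (BT.node (BT.leaf 1) (BT.leaf 1)) (BT.leaf 1)) (BT.node (BT.node (BT.leaf 1) (BT.leaf 1)) (BT.leaf 1)))))) (BT.node (BT.node (BT.node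 (BT.node (BT.node (BT.node (BT.leaf 1) (BT.leaf 1)) (BT.leaf 1)) (BT.node (BT.node (BT.leaf 1) (BT.leaf 1)) (BT.leaf 1))) (BT.node (BT.node (BT.node (BT.leaf 1) (BT.leaf 1)) (BT.leaf 1)) (BT.node (BT.node (BT.leaf 1) (BT.leaf 1)) (BT.leaf 1)))) (BT.node (BT.node (BT.node (BT.node (BT.leaf 1) (BT.leaf 1)) (BT.leaf 1)) (BT.node (BT.node (BT.leaf 1) (BT.leaf 1)) (BT.leaf 1))) (BT.node (BT.node (BT.node (BT.leaf 1) (BT.leaf 1)) (BT.leaf 1)) (BT.node (BT.node (BT.leaf 1) (BT.leaf 1)) (BT.leaf 1))))) (BT.node (BT.node (BT.node (BT.node (BT.node (BT.leaf 1) (BT.leaf 1)) (BT.leaf 1)) (BT.node (BT.node (BT.leaf 1) (BT.leaf 1)) (BT.leaf 1))) (BT.node (BT.node (BT.node (BT.leaf 1) (BT.leaf 1)) (BT.leaf 1)) (BT.node (BT.node (BT.leaf 1) (BT.leaf 1)) (BT.leaf 1)))) (BT.node (BT.node (BT.node (BT.node (BT.leaf 1) (BT.leaf 1)) (BT.leaf 1)) (BT.node (BT.node (BT.leaf 1) (BT.leaf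 1)) (BT.leaf 1))) (BT.node (BT.node (BT.node (BT.leaf 1) (BT.leaf 1)) (BT.leaf 1)) (BT.node (BT.leaf 1) (BT.leaf 1))))))) (BT.node (BT.node (BT.node (BT.node (BT.node (BT.node (BT.node (BT.leaf 1) (BT.leaf 1)) (BT.leaf 1)) (BT.node (BT.node (BT.leaf 1) (BT.leaf 1)) (BT.leaf 1))) (BT.node (BT.node (BT.node (BT.leaf 1) (BT.leaf 1)) (BT.leaf 1)) (BT.node (BT.node (BT.leaf 1) (BT.leaf 1)) (BT.leaf 1)))) (BT.node (BT.node (BT.node (BT.node (BT.leaf 1) (BT.leaf 1)) (BT.leaf 1)) (BT.node (BT.node (BT.leaf 1) (BT.leaf 1)) (BT.leaf 1))) (BT.node (BT.node (BT.node (BT.leaf 1) (BT.leaf 1)) (BT.leaf 1)) (BT.node (BT.node (BT.leaf 1) (BT.leaf 1)) (BT.leaf 1))))) (BT.node (BT.node (BT.node (BT.node (BT.node (BT.leaf 1) (BT.leaf 1)) (BT.leaf 1)) (BT.node (BT.node (BT.leaf 1) (BT.leaf 1)) (BT.leaf 1))) (BT.node (BT.node (BT.node (BT.leaf 1) (BT.leaf 1)) (BT.leaf 1)) (BT.node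 (BT.node (BT.leaf 1) (BT.leaf 1)) (BT.leaf 1)))) (BT.node (BT.node (BT.node (BT.node (BT.leaf 1) (BT.leaf 1)) (BT.leaf 1)) (BT.node (BT.node (BT.leaf 1) (BT.leaf 1)) (BT.leaf 1))) (BT.node (BT.node (BT.node (BT.leaf 1) (BT.leaf 1)) (BT.leaf 1)) (BT.node (BT.leaf 1) (BT.leaf 1)))))) (BT.node (BT.node (BT.node (BT.node (BT.node (BT.node (BT.leaf 1) (BT.leaf 1)) (BT.leaf 1)) (BT.node (BT.node (BT.leaf 1) (BT.leaf 1)) (BT.leaf 1))) (BT.node (BT.node (BT.node (BT.leaf 1) (BT.leaf 1)) (BT.leaf 1)) (BT.node (BT.node (BT.leaf 1) (BT.leaf 1)) (BT.leaf 1)))) (BT.node (BT.node (BT.node (BT.node (BT.leaf 1) (BT.leaf 1)) (BT.leaf 1)) (BT.node (BT.node (BT.leaf 1) (BT.leaf 1)) (BT.leaf 1))) (BT.node (BT.node (BT.node (BT.leaf 1) (BT.leaf 1)) (BT.leaf 1)) (BT.node (BT.node (BT.leaf 1) (BT.leaf 1)) (BT.leaf 1))))) (BT.node (BT.node (BT.node (BT.node (BT.node (BT.leaf 1) (BT.leaf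 1)) (BT.leaf 1)) (BT.node (BT.node (BT.leaf 1) (BT.leaf 1)) (BT.leaf 1))) (BT.node (BT.node (BT.node (BT.leaf 1) (BT.leaf 1)) (BT.leaf 1)) (BT.node (BT.node (BT.leaf 1) (BT.leaf 1)) (BT.leaf 1)))) (BT.node (BT.node (BT.node (BT.node (BT.leaf 1) (BT.leaf 1)) (BT.leaf 1)) (BT.node (BT.node (BT.leaf 1) (BT.leaf 1)) (BT.leaf 1))) (BT.node (BT.node (BT.node (BT.leaf 1) (BT.leaf 1)) (BT.leaf 1)) (BT.node (BT.leaf 1) (BT.leaf 1))))))))),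
  (BT.node (BT.node (BT.node (BT.node (BT.node (BT.node (BT.node (BT.node (BT.node (BT.leaf 1) (BT.leaf 2)) (BT.leaf 2)) (BT.node (BT.node (BT.leaf 1) (BT.leaf 2)) (BT.leaf 2))) (BT.node (BT.node (BT.node (BT.leaf 1) (BT.leaf 1)) (BT.leaf 1)) (BT.node (BT.node (BT.leaf 1) (BT.leaf 1)) (BT.leaf 2)))) (BT.node (BT.node (BT.node (BT.node (BT.leaf 1) (BT.leaf 1)) (BT.leaf 1)) (BT.node (BT.node (BT.leaf 2) (BT.leaf 1)) (BT.leaf 1))) (BT.node (BT.node (BT.node (BT.leaf 2) (BT.leaf 2)) (BT.leaf 2)) (BT.node (BT.node (BT.leaf 2) (BT.leaf 1)) (BT.leaf 2))))) (BT.node (BT.node (BT.node (BT.node (BT.node (BT.leaf 1) (BT.leaf 2)) (BT.leaf 1)) (BT.node (BT.node (BT.leaf 2) (BT.leaf 1)) (BT.leaf 2))) (BT.node (BT.node (BT.node (BT.leaf 2) (BT.leaf 1)) (BT.leaf 2)) (BT.node (BT.node (BT.leaf 1) (BT.leaf 2)) (BT.leaf 1)))) (BT.node (BT.node (BT.node (BT.node (BT.leaf 1) (BT.leaf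 1)) (BT.leaf 1)) (BT.node (BT.node (BT.leaf 1) (BT.leaf 1)) (BT.leaf 1))) (BT.node (BT.node (BT.node (BT.leaf 1) (BT.leaf 1)) (BT.leaf 2)) (BT.node (BT.node (BT.leaf 1) (BT.leaf 2)) (BT.leaf 2)))))) (BT.node (BT.node (BT.node (BT.node (BT.node (BT.node (BT.leaf 2) (BT.leaf 2)) (BT.leaf 1)) (BT.node (BT.node (BT.leaf 1) (BT.leaf 1)) (BT.leaf 1))) (BT.node (BT.node (BT.node (BT.leaf 2) (BT.leaf 2)) (BT.leaf 1)) (BT.node (BT.node (BT.leaf 2) (BT.leaf 2)) (BT.leaf 2)))) (BT.node (BT.node (BT.node (BT.node (BT.leaf 2) (BT.leaf 2)) (BT.leaf 1)) (BT.node (BT.node (BT.leaf 1) (BT.leaf 2)) (BT.leaf 1))) (BT.node (BT.node (BT.node (BT.leaf 1) (BT.leaf 1)) (BT.leaf 2)) (BT.node (BT.node (BT.leaf 2) (BT.leaf 1)) (BT.leaf 2))))) (BT.node (BT.node (BT.node (BT.node (BT.node (BT.leaf 1) (BT.leaf 1)) (BT.leaf 2)) (BT.node (BT.node (BT.leaf 2) (BT.leaf 2)) (BT.leaf 1))) (BT.node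 (BT.node (BT.node (BT.leaf 2) (BT.leaf 2)) (BT.leaf 2)) (BT.node (BT.node (BT.leaf 1) (BT.leaf 1)) (BT.leaf 2)))) (BT.node (BT.node (BT.node (BT.node (BT.leaf 2) (BT.leaf 2)) (BT.leaf 1)) (BT.node (BT.node (BT.leaf 1) (BT.leaf 2)) (BT.leaf 2))) (BT.node (BT.node (BT.node (BT.leaf 1) (BT.leaf 1)) (BT.leaf 2)) (BT.node (BT.leaf 1) (BT.leaf 1))))))) (BT.node (BT.node (BT.node (BT.node (BT.node (BT.node (BT.node (BT.leaf 1) (BT.leaf 2)) (BT.leaf 1)) (BT.node (BT.node (BT.leaf 1) (BT.leaf 1)) (BT.leaf 1))) (BT.node (BT.node (BT.node (BT.leaf 2) (BT.leaf 2)) (BT.leaf 2)) (BT.node (BT.node (BT.leaf 1) (BT.leaf 1)) (BT.leaf 2)))) (BT.node (BT.node (BT.node (BT.node (BT.leaf 1) (BT.leaf 2)) (BT.leaf 2)) (BT.node (BT.node (BT.leaf 1) (BT.leaf 2)) (BT.leaf 2))) (BT.node (BT.node (BT.node (BT.leaf 1) (BT.leaf 1)) (BT.leaf 1)) (BT.node (BT.node (BT.leaf 1) (BT.leaf 1))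 (BT.leaf 1))))) (BT.node (BT.node (BT.node (BT.node (BT.node (BT.leaf 1) (BT.leaf 2)) (BT.leaf 1)) (BT.node (BT.node (BT.leaf 1) (BT.leaf 1)) (BT.leaf 1))) (BT.node (BT.node (BT.node (BT.leaf 1) (BT.leaf 1)) (BT.leaf 2)) (BT.node (BT.node (BT.leaf 1) (BT.leaf 1)) (BT.leaf 1)))) (BT.node (BT.node (BT.node (BT.node (BT.leaf 1) (BT.leaf 1)) (BT.leaf 1)) (BT.node (BT.node (BT.leaf 1) (BT.leaf 2)) (BT.leaf 1))) (BT.node (BT.node (BT.node (BT.leaf 2) (BT.leaf 2)) (BT.leaf 2)) (BT.node (BT.leaf 1) (BT.leaf 1)))))) (BT.node (BT.node (BT.node (BT.node (BT.node (BT.node (BT.leaf 1) (BT.leaf 2)) (BT.leaf 2)) (BT.node (BT.node (BT.leaf 1) (BT.leaf 2)) (BT.leaf 2))) (BT.node (BT.node (BT.node (BT.leaf 2) (BT.leaf 2)) (BT.leaf 1)) (BT.node (BT.node (BT.leaf 1) (BT.leaf 2)) (BT.leaf 2)))) (BT.node (BT.node (BT.node (BT.node (BT.leaf 1) (BT.leaf 2)) (BT.leaf 2)) (BT.node (BT.node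 (BT.leaf 2) (BT.leaf 1)) (BT.leaf 1))) (BT.node (BT.node (BT.node (BT.leaf 2) (BT.leaf 2)) (BT.leaf 2)) (BT.node (BT.node (BT.leaf 1) (BT.leaf 2)) (BT.leaf 2))))) (BT.node (BT.node (BT.node (BT.node (BT.node (BT.leaf 1) (BT.leaf 2)) (BT.leaf 2)) (BT.node (BT.node (BT.leaf 1) (BT.leaf 1)) (BT.leaf 1))) (BT.node (BT.node (BT.node (BT.leaf 1) (BT.leaf 2)) (BT.leaf 2)) (BT.node (BT.node (BT.leaf 1) (BT.leaf 1)) (BT.leaf 2)))) (BT.node (BT.node (BT.node (BT.node (BT.leaf 1) (BT.leaf 2)) (BT.leaf 1)) (BT.node (BT.node (BT.leaf 1) (BT.leaf 1)) (BT.leaf 1))) (BT.node (BT.node (BT.node (BT.leaf 1) (BT.leaf 1)) (BT.leaf 1)) (BT.node (BT.leaf 1) (BT.leaf 1)))))))) (BT.node (BT.node (BT.node (BT.node (BT.node (BT.node (BT.node (BT.node (BT.leaf 1) (BT.leaf 1)) (BT.leaf 1)) (BT.node (BT.node (BT.leaf 2) (BT.leaf 2)) (BT.leaf 1))) (BT.node (BT.node (BT.node (BT.leaf 1) (BT.leaf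 2)) (BT.leaf 1)) (BT.node (BT.node (BT.leaf 1) (BT.leaf 1)) (BT.leaf 1)))) (BT.node (BT.node (BT.node (BT.node (BT.leaf 1) (BT.leaf 1)) (BT.leaf 1)) (BT.node (BT.node (BT.leaf 1) (BT.leaf 1)) (BT.leaf 2))) (BT.node (BT.node (BT.node (BT.leaf 2) (BT.leaf 1)) (BT.leaf 1)) (BT.node (BT.node (BT.leaf 2) (BT.leaf 1)) (BT.leaf 2))))) (BT.node (BT.node (BT.node (BT.node (BT.node (BT.leaf 1) (BT.leaf 1)) (BT.leaf 2)) (BT.node (BT.node (BT.leaf 1) (BT.leaf 1)) (BT.leaf 2))) (BT.node (BT.node (BT.node (BT.leaf 1) (BT.leaf 1)) (BT.leaf 2)) (BT.node (BT.node (BT.leaf 2) (BT.leaf 2)) (BT.leaf 2)))) (BT.node (BT.node (BT.node (BT.node (BT.leaf 1) (BT.leaf 2)) (BT.leaf 2)) (BT.node (BT.node (BT.leaf 1) (BT.leaf 1)) (BT.leaf 1))) (BT.node (BT.node (BT.node (BT.leaf 2) (BT.leaf 1)) (BT.leaf 1)) (BT.node (BT.node (BT.leaf 1) (BT.leaf 2)) (BT.leaf 1)))))) (BT.node (BT.node (BT.node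 (BT.node (BT.node (BT.node (BT.leaf 1) (BT.leaf 2)) (BT.leaf 2)) (BT.node (BT.node (BT.leaf 2) (BT.leaf 1)) (BT.leaf 1))) (BT.node (BT.node (BT.node (BT.leaf 1) (BT.leaf 2)) (BT.leaf 2)) (BT.node (BT.node (BT.leaf 1) (BT.leaf 2)) (BT.leaf 2)))) (BT.node (BT.node (BT.node (BT.node (BT.leaf 1) (BT.leaf 1)) (BT.leaf 2)) (BT.node (BT.node (BT.leaf 1) (BT.leaf 2)) (BT.leaf 2))) (BT.node (BT.node (BT.node (BT.leaf 1) (BT.leaf 1)) (BT.leaf 2)) (BT.node (BT.node (BT.leaf 2) (BT.leaf 2)) (BT.leaf 2))))) (BT.node (BT.node (BT.node (BT.node (BT.node (BT.leaf 1) (BT.leaf 2)) (BT.leaf 2)) (BT.node (BT.node (BT.leaf 1) (BT.leaf 2)) (BT.leaf 1))) (BT.node (BT.node (BT.node (BT.leaf 1) (BT.leaf 1)) (BT.leaf 2)) (BT.node (BT.node (BT.leaf 2) (BT.leaf 2)) (BT.leaf 1)))) (BT.node (BT.node (BT.node (BT.node (BT.leaf 1) (BT.leaf 2)) (BT.leaf 1)) (BT.node (BT.node (BT.leaf 1) (BT.leaf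 1)) (BT.leaf 2))) (BT.node (BT.node (BT.node (BT.leaf 1) (BT.leaf 2)) (BT.leaf 1)) (BT.node (BT.leaf 1) (BT.leaf 1))))))) (BT.node (BT.node (BT.node (BT.node (BT.node (BT.node (BT.node (BT.leaf 1) (BT.leaf 1)) (BT.leaf 2)) (BT.node (BT.node (BT.leaf 1) (BT.leaf 2)) (BT.leaf 2))) (BT.node (BT.node (BT.node (BT.leaf 2) (BT.leaf 2)) (BT.leaf 1)) (BT.node (BT.node (BT.leaf 1) (BT.leaf 2)) (BT.leaf 1)))) (BT.node (BT.node (BT.node (BT.node (BT.leaf 1) (BT.leaf 1)) (BT.leaf 2)) (BT.node (BT.node (BT.leaf 1) (BT.leaf 2)) (BT.leaf 1))) (BT.node (BT.node (BT.node (BT.leaf 1) (BT.leaf 1)) (BT.leaf 1)) (BT.node (BT.node (BT.leaf 2) (BT.leaf 1)) (BT.leaf 2))))) (BT.node (BT.node (BT.node (BT.node (BT.node (BT.leaf 1) (BT.leaf 1)) (BT.leaf 2)) (BT.node (BT.node (BT.leaf 1) (BT.leaf 2)) (BT.leaf 1))) (BT.node (BT.node (BT.node (BT.leaf 1) (BT.leaf 2)) (BT.leaf 1)) (BT.node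 (BT.node (BT.leaf 1) (BT.leaf 1)) (BT.leaf 2)))) (BT.node (BT.node (BT.node (BT.node (BT.leaf 2) (BT.leaf 1)) (BT.leaf 1)) (BT.node (BT.node (BT.leaf 1) (BT.leaf 2)) (BT.leaf 2))) (BT.node (BT.node (BT.node (BT.leaf 2) (BT.leaf 1)) (BT.leaf 2)) (BT.node (BT.leaf 1) (BT.leaf 2)))))) (BT.node (BT.node (BT.node (BT.node (BT.node (BT.node (BT.leaf 2) (BT.leaf 2)) (BT.leaf 1)) (BT.node (BT.node (BT.leaf 1) (BT.leaf 1)) (BT.leaf 1))) (BT.node (BT.node (BT.node (BT.leaf 2) (BT.leaf 1)) (BT.leaf 2)) (BT.node (BT.node (BT.leaf 1) (BT.leaf 1)) (BT.leaf 1)))) (BT.node (BT.node (BT.node (BT.node (BT.leaf 1) (BT.leaf 2)) (BT.leaf 1)) (BT.node (BT.node (BT.leaf 1) (BT.leaf 2)) (BT.leaf 2))) (BT.node (BT.node (BT.node (BT.leaf 2) (BT.leaf 2)) (BT.leaf 2)) (BT.node (BT.node (BT.leaf 1) (BT.leaf 2)) (BT.leaf 2))))) (BT.node (BT.node (BT.node (BT.node (BT.node (BT.leaf 1) (BT.leaf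 1)) (BT.leaf 2)) (BT.node (BT.node (BT.leaf 1) (BT.leaf 2)) (BT.leaf 2))) (BT.node (BT.node (BT.node (BT.leaf 1) (BT.leaf 2)) (BT.leaf 1)) (BT.node (BT.node (BT.leaf 2) (BT.leaf 2)) (BT.leaf 1)))) (BT.node (BT.node (BT.node (BT.node (BT.leaf 1) (BT.leaf 1)) (BT.leaf 2)) (BT.node (BT.node (BT.leaf 1) (BT.leaf 1)) (BT.leaf 1))) (BT.node (BT.node (BT.node (BT.leaf 1) (BT.leaf 1)) (BT.leaf 2)) (BT.node (BT.leaf 1) (BT.leaf 1))))))))),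
  (BT.node (BT.node (BT.node (BT.node (BT.node (BT.node (BT.node (BT.node (BT.node (BT.leaf 1) (BT.leaf 2)) (BT.leaf 2)) (BT.node (BT.node (BT.leaf 1) (BT.leaf 2)) (BT.leaf 2))) (BT.node (BT.node (BT.node (BT.leaf 2) (BT.leaf 2)) (BT.leaf 2)) (BT.node (BT.node (BT.leaf 1) (BT.leaf 1)) (BT.leaf 2)))) (BT.node (BT.node (BT.node (BT.node (BT.leaf 1) (BT.leaf 1)) (BT.leaf 1)) (BT.node (BT.node (BT.leaf 2) (BT.leaf 1)) (BT.leaf 2))) (BT.node (BT.node (BT.node (BT.leaf 2) (BT.leaf 1)) (BT.leaf 2)) (BT.node (BT.node (BT.leaf 2) (BT.leaf 2)) (BT.leaf 1))))) (BT.node (BT.node (BT.node (BT.node (BT.node (BT.leaf 1) (BT.leaf 2)) (BT.leaf 1)) (BT.node (BT.node (BT.leaf 1) (BT.leaf 1)) (BT.leaf 1))) (BT.node (BT.node (BT.node (BT.leaf 1) (BT.leaf 1)) (BT.leaf 1)) (BT.node (BT.node (BT.leaf 1) (BT.leaf 1)) (BT.leaf 1)))) (BT.node (BT.node (BT.node (BT.node (BT.leaf 2) (BT.leaf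 1)) (BT.leaf 2)) (BT.node (BT.node (BT.leaf 1) (BT.leaf 1)) (BT.leaf 1))) (BT.node (BT.node (BT.node (BT.leaf 2) (BT.leaf 1)) (BT.leaf 1)) (BT.node (BT.node (BT.leaf 2) (BT.leaf 1)) (BT.leaf 1)))))) (BT.node (BT.node (BT.node (BT.node (BT.node (BT.node (BT.leaf 1) (BT.leaf 2)) (BT.leaf 1)) (BT.node (BT.node (BT.leaf 1) (BT.leaf 1)) (BT.leaf 2))) (BT.node (BT.node (BT.node (BT.leaf 2) (BT.leaf 2)) (BT.leaf 2)) (BT.node (BT.node (BT.leaf 1) (BT.leaf 2)) (BT.leaf 2)))) (BT.node (BT.node (BT.node (BT.node (BT.leaf 2) (BT.leaf 1)) (BT.leaf 1)) (BT.node (BT.node (BT.leaf 2) (BT.leaf 2)) (BT.leaf 1))) (BT.node (BT.node (BT.node (BT.leaf 2) (BT.leaf 1)) (BT.leaf 1)) (BT.node (BT.node (BT.leaf 1) (BT.leaf 1)) (BT.leaf 2))))) (BT.node (BT.node (BT.node (BT.node (BT.node (BT.leaf 2) (BT.leaf 1)) (BT.leaf 1)) (BT.node (BT.node (BT.leaf 2) (BT.leaf 1)) (BT.leaf 2))) (BT.node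 (BT.node (BT.node (BT.leaf 1) (BT.leaf 1)) (BT.leaf 1)) (BT.node (BT.node (BT.leaf 1) (BT.leaf 1)) (BT.leaf 2)))) (BT.node (BT.node (BT.node (BT.node (BT.leaf 2) (BT.leaf 2)) (BT.leaf 1)) (BT.node (BT.node (BT.leaf 1) (BT.leaf 2)) (BT.leaf 2))) (BT.node (BT.node (BT.node (BT.leaf 2) (BT.leaf 1)) (BT.leaf 1)) (BT.node (BT.leaf 2) (BT.leaf 2))))))) (BT.node (BT.node (BT.node (BT.node (BT.node (BT.node (BT.node (BT.leaf 2) (BT.leaf 1)) (BT.leaf 2)) (BT.node (BT.node (BT.leaf 1) (BT.leaf 1)) (BT.leaf 1))) (BT.node (BT.node (BT.node (BT.leaf 1) (BT.leaf 2)) (BT.leaf 2)) (BT.node (BT.node (BT.leaf 1) (BT.leaf 2)) (BT.leaf 1)))) (BT.node (BT.node (BT.node (BT.node (BT.leaf 1) (BT.leaf 2)) (BT.leaf 2)) (BT.node (BT.node (BT.leaf 1) (BT.leaf 1)) (BT.leaf 1))) (BT.node (BT.node (BT.node (BT.leaf 1) (BT.leaf 1)) (BT.leaf 1)) (BT.node (BT.node (BT.leaf 1) (BT.leaf 2))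 (BT.leaf 2))))) (BT.node (BT.node (BT.node (BT.node (BT.node (BT.leaf 1) (BT.leaf 2)) (BT.leaf 2)) (BT.node (BT.node (BT.leaf 1) (BT.leaf 2)) (BT.leaf 2))) (BT.node (BT.node (BT.node (BT.leaf 1) (BT.leaf 1)) (BT.leaf 2)) (BT.node (BT.node (BT.leaf 2) (BT.leaf 2)) (BT.leaf 2)))) (BT.node (BT.node (BT.node (BT.node (BT.leaf 2) (BT.leaf 1)) (BT.leaf 1)) (BT.node (BT.node (BT.leaf 1) (BT.leaf 2)) (BT.leaf 1))) (BT.node (BT.node (BT.node (BT.leaf 1) (BT.leaf 1)) (BT.leaf 1)) (BT.node (BT.leaf 2) (BT.leaf 2)))))) (BT.node (BT.node (BT.node (BT.node (BT.node (BT.node (BT.leaf 2) (BT.leaf 1)) (BT.leaf 1)) (BT.node (BT.node (BT.leaf 1) (BT.leaf 2)) (BT.leaf 1))) (BT.node (BT.node (BT.node (BT.leaf 1) (BT.leaf 2)) (BT.leaf 2)) (BT.node (BT.node (BT.leaf 2) (BT.leaf 1)) (BT.leaf 2)))) (BT.node (BT.node (BT.node (BT.node (BT.leaf 2) (BT.leaf 1)) (BT.leaf 1)) (BT.node (BT.node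 (BT.leaf 1) (BT.leaf 2)) (BT.leaf 2))) (BT.node (BT.node (BT.node (BT.leaf 1) (BT.leaf 1)) (BT.leaf 1)) (BT.node (BT.node (BT.leaf 2) (BT.leaf 1)) (BT.leaf 1))))) (BT.node (BT.node (BT.node (BT.node (BT.node (BT.leaf 1) (BT.leaf 2)) (BT.leaf 2)) (BT.node (BT.node (BT.leaf 2) (BT.leaf 1)) (BT.leaf 1))) (BT.node (BT.node (BT.node (BT.leaf 1) (BT.leaf 1)) (BT.leaf 2)) (BT.node (BT.node (BT.leaf 2) (BT.leaf 1)) (BT.leaf 2)))) (BT.node (BT.node (BT.node (BT.node (BT.leaf 1) (BT.leaf 2)) (BT.leaf 2)) (BT.node (BT.node (BT.leaf 1) (BT.leaf 1)) (BT.leaf 1))) (BT.node (BT.node (BT.node (BT.leaf 1) (BT.leaf 1)) (BT.leaf 2)) (BT.node (BT.leaf 2) (BT.leaf 1)))))))) (BT.node (BT.node (BT.node (BT.node (BT.node (BT.node (BT.node (BT.node (BT.leaf 1) (BT.leaf 1)) (BT.leaf 1)) (BT.node (BT.node (BT.leaf 1) (BT.leaf 2)) (BT.leaf 2))) (BT.node (BT.node (BT.node (BT.leaf 2) (BT.leaf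 2)) (BT.leaf 2)) (BT.node (BT.node (BT.leaf 1) (BT.leaf 1)) (BT.leaf 1)))) (BT.node (BT.node (BT.node (BT.node (BT.leaf 1) (BT.leaf 1)) (BT.leaf 2)) (BT.node (BT.node (BT.leaf 2) (BT.leaf 2)) (BT.leaf 1))) (BT.node (BT.node (BT.node (BT.leaf 1) (BT.leaf 1)) (BT.leaf 1)) (BT.node (BT.node (BT.leaf 2) (BT.leaf 1)) (BT.leaf 2))))) (BT.node (BT.node (BT.node (BT.node (BT.node (BT.leaf 1) (BT.leaf 1)) (BT.leaf 2)) (BT.node (BT.node (BT.leaf 1) (BT.leaf 1)) (BT.leaf 2))) (BT.node (BT.node (BT.node (BT.leaf 2) (BT.leaf 1)) (BT.leaf 1)) (BT.node (BT.node (BT.leaf 1) (BT.leaf 2)) (BT.leaf 1)))) (BT.node (BT.node (BT.node (BT.node (BT.leaf 2) (BT.leaf 2)) (BT.leaf 2)) (BT.node (BT.node (BT.leaf 1) (BT.leaf 1)) (BT.leaf 2))) (BT.node (BT.node (BT.node (BT.leaf 1) (BT.leaf 1)) (BT.leaf 1)) (BT.node (BT.node (BT.leaf 2) (BT.leaf 2)) (BT.leaf 1)))))) (BT.node (BT.node (BT.node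 (BT.node (BT.node (BT.node (BT.leaf 1) (BT.leaf 1)) (BT.leaf 2)) (BT.node (BT.node (BT.leaf 2) (BT.leaf 2)) (BT.leaf 2))) (BT.node (BT.node (BT.node (BT.leaf 1) (BT.leaf 2)) (BT.leaf 1)) (BT.node (BT.node (BT.leaf 2) (BT.leaf 2)) (BT.leaf 2)))) (BT.node (BT.node (BT.node (BT.node (BT.leaf 2) (BT.leaf 1)) (BT.leaf 1)) (BT.node (BT.node (BT.leaf 1) (BT.leaf 2)) (BT.leaf 1))) (BT.node (BT.node (BT.node (BT.leaf 1) (BT.leaf 1)) (BT.leaf 1)) (BT.node (BT.node (BT.leaf 2) (BT.leaf 1)) (BT.leaf 1))))) (BT.node (BT.node (BT.node (BT.node (BT.node (BT.leaf 2) (BT.leaf 2)) (BT.leaf 1)) (BT.node (BT.node (BT.leaf 1) (BT.leaf 2)) (BT.leaf 2))) (BT.node (BT.node (BT.node (BT.leaf 1) (BT.leaf 1)) (BT.leaf 1)) (BT.node (BT.node (BT.leaf 2) (BT.leaf 1)) (BT.leaf 1)))) (BT.node (BT.node (BT.node (BT.node (BT.leaf 1) (BT.leaf 2)) (BT.leaf 2)) (BT.node (BT.node (BT.leaf 1) (BT.leaf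 1)) (BT.leaf 2))) (BT.node (BT.node (BT.node (BT.leaf 1) (BT.leaf 2)) (BT.leaf 1)) (BT.node (BT.leaf 2) (BT.leaf 1))))))) (BT.node (BT.node (BT.node (BT.node (BT.node (BT.node (BT.node (BT.leaf 2) (BT.leaf 1)) (BT.leaf 2)) (BT.node (BT.node (BT.leaf 1) (BT.leaf 2)) (BT.leaf 2))) (BT.node (BT.node (BT.node (BT.leaf 1) (BT.leaf 2)) (BT.leaf 1)) (BT.node (BT.node (BT.leaf 1) (BT.leaf 1)) (BT.leaf 1)))) (BT.node (BT.node (BT.node (BT.node (BT.leaf 1) (BT.leaf 1)) (BT.leaf 2)) (BT.node (BT.node (BT.leaf 2) (BT.leaf 1)) (BT.leaf 1))) (BT.node (BT.node (BT.node (BT.leaf 2) (BT.leaf 1)) (BT.leaf 1)) (BT.node (BT.node (BT.leaf 2) (BT.leaf 1)) (BT.leaf 2))))) (BT.node (BT.node (BT.node (BT.node (BT.node (BT.leaf 1) (BT.leaf 1)) (BT.leaf 1)) (BT.node (BT.node (BT.leaf 2) (BT.leaf 2)) (BT.leaf 1))) (BT.node (BT.node (BT.node (BT.leaf 2) (BT.leaf 1)) (BT.leaf 1)) (BT.node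 (BT.node (BT.leaf 2) (BT.leaf 2)) (BT.leaf 1)))) (BT.node (BT.node (BT.node (BT.node (BT.leaf 1) (BT.leaf 2)) (BT.leaf 2)) (BT.node (BT.node (BT.leaf 1) (BT.leaf 1)) (BT.leaf 1))) (BT.node (BT.node (BT.node (BT.leaf 1) (BT.leaf 1)) (BT.leaf 1)) (BT.node (BT.leaf 2) (BT.leaf 1)))))) (BT.node (BT.node (BT.node (BT.node (BT.node (BT.node (BT.leaf 1) (BT.leaf 1)) (BT.leaf 2)) (BT.node (BT.node (BT.leaf 1) (BT.leaf 1)) (BT.leaf 2))) (BT.node (BT.node (BT.node (BT.leaf 1) (BT.leaf 1)) (BT.leaf 2)) (BT.node (BT.node (BT.leaf 1) (BT.leaf 1)) (BT.leaf 1)))) (BT.node (BT.node (BT.node (BT.node (BT.leaf 2) (BT.leaf 2)) (BT.leaf 1)) (BT.node (BT.node (BT.leaf 1) (BT.leaf 2)) (BT.leaf 2))) (BT.node (BT.node (BT.node (BT.leaf 2) (BT.leaf 2)) (BT.leaf 1)) (BT.node (BT.node (BT.leaf 2) (BT.leaf 1)) (BT.leaf 1))))) (BT.node (BT.node (BT.node (BT.node (BT.node (BT.leaf 1) (BT.leaf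 1)) (BT.leaf 2)) (BT.node (BT.node (BT.leaf 2) (BT.leaf 2)) (BT.leaf 2))) (BT.node (BT.node (BT.node (BT.leaf 2) (BT.leaf 1)) (BT.leaf 1)) (BT.node (BT.node (BT.leaf 2) (BT.leaf 1)) (BT.leaf 1)))) (BT.node (BT.node (BT.node (BT.node (BT.leaf 2) (BT.leaf 2)) (BT.leaf 2)) (BT.node (BT.node (BT.leaf 2) (BT.leaf 1)) (BT.leaf 1))) (BT.node (BT.node (BT.node (BT.leaf 1) (BT.leaf 1)) (BT.leaf 1)) (BT.node (BT.leaf 1) (BT.leaf 1))))))))),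
  (BT.node (BT.node (BT.node (BT.node (BT.node (BT.node (BT.node (BT.node (BT.node (BT.leaf 2) (BT.leaf 2)) (BT.leaf 2)) (BT.node (BT.node (BT.leaf 1) (BT.leaf 1)) (BT.leaf 2))) (BT.node (BT.node (BT.node (BT.leaf 2) (BT.leaf 2)) (BT.leaf 2)) (BT.node (BT.node (BT.leaf 1) (BT.leaf 1)) (BT.leaf 1)))) (BT.node (BT.node (BT.node (BT.node (BT.leaf 1) (BT.leaf 2)) (BT.leaf 1)) (BT.node (BT.node (BT.leaf 1) (BT.leaf 1)) (BT.leaf 2))) (BT.node (BT.node (BT.node (BT.leaf 2) (BT.leaf 1)) (BT.leaf 2)) (BT.node (BT.node (BT.leaf 2) (BT.leaf 2)) (BT.leaf 1))))) (BT.node (BT.node (BT.node (BT.node (BT.node (BT.leaf 1) (BT.leaf 2)) (BT.leaf 1)) (BT.node (BT.node (BT.leaf 1) (BT.leaf 1)) (BT.leaf 1))) (BT.node (BT.node (BT.node (BT.leaf 2) (BT.leaf 1)) (BT.leaf 2)) (BT.node (BT.node (BT.leaf 1) (BT.leaf 1)) (BT.leaf 2)))) (BT.node (BT.node (BT.node (BT.node (BT.leaf 1) (BT.leaf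 1)) (BT.leaf 1)) (BT.node (BT.node (BT.leaf 1) (BT.leaf 1)) (BT.leaf 2))) (BT.node (BT.node (BT.node (BT.leaf 2) (BT.leaf 1)) (BT.leaf 2)) (BT.node (BT.node (BT.leaf 1) (BT.leaf 1)) (BT.leaf 2)))))) (BT.node (BT.node (BT.node (BT.node (BT.node (BT.node (BT.leaf 2) (BT.leaf 2)) (BT.leaf 2)) (BT.node (BT.node (BT.leaf 1) (BT.leaf 2)) (BT.leaf 2))) (BT.node (BT.node (BT.node (BT.leaf 2) (BT.leaf 1)) (BT.leaf 2)) (BT.node (BT.node (BT.leaf 1) (BT.leaf 1)) (BT.leaf 1)))) (BT.node (BT.node (BT.node (BT.node (BT.leaf 2) (BT.leaf 2)) (BT.leaf 2)) (BT.node (BT.node (BT.leaf 1) (BT.leaf 1)) (BT.leaf 1))) (BT.node (BT.node (BT.node (BT.leaf 1) (BT.leaf 1)) (BT.leaf 1)) (BT.node (BT.node (BT.leaf 1) (BT.leaf 1)) (BT.leaf 2))))) (BT.node (BT.node (BT.node (BT.node (BT.node (BT.leaf 1) (BT.leaf 1)) (BT.leaf 1)) (BT.node (BT.node (BT.leaf 2) (BT.leaf 1)) (BT.leaf 2))) (BT.node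 (BT.node (BT.node (BT.leaf 2) (BT.leaf 1)) (BT.leaf 2)) (BT.node (BT.node (BT.leaf 1) (BT.leaf 1)) (BT.leaf 2)))) (BT.node (BT.node (BT.node (BT.node (BT.leaf 2) (BT.leaf 2)) (BT.leaf 2)) (BT.node (BT.node (BT.leaf 1) (BT.leaf 1)) (BT.leaf 2))) (BT.node (BT.node (BT.node (BT.leaf 2) (BT.leaf 1)) (BT.leaf 2)) (BT.node (BT.leaf 1) (BT.leaf 2))))))) (BT.node (BT.node (BT.node (BT.node (BT.node (BT.node (BT.node (BT.leaf 1) (BT.leaf 1)) (BT.leaf 1)) (BT.node (BT.node (BT.leaf 2) (BT.leaf 2)) (BT.leaf 2))) (BT.node (BT.node (BT.node (BT.leaf 2) (BT.leaf 1)) (BT.leaf 1)) (BT.node (BT.node (BT.leaf 1) (BT.leaf 1)) (BT.leaf 2)))) (BT.node (BT.node (BT.node (BT.node (BT.leaf 1) (BT.leaf 2)) (BT.leaf 2)) (BT.node (BT.node (BT.leaf 1) (BT.leaf 1)) (BT.leaf 2))) (BT.node (BT.node (BT.node (BT.leaf 1) (BT.leaf 1)) (BT.leaf 2)) (BT.node (BT.node (BT.leaf 2) (BT.leaf 1))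 (BT.leaf 2))))) (BT.node (BT.node (BT.node (BT.node (BT.node (BT.leaf 2) (BT.leaf 1)) (BT.leaf 1)) (BT.node (BT.node (BT.leaf 1) (BT.leaf 2)) (BT.leaf 2))) (BT.node (BT.node (BT.node (BT.leaf 2) (BT.leaf 1)) (BT.leaf 2)) (BT.node (BT.node (BT.leaf 2) (BT.leaf 2)) (BT.leaf 1)))) (BT.node (BT.node (BT.node (BT.node (BT.leaf 2) (BT.leaf 1)) (BT.leaf 2)) (BT.node (BT.node (BT.leaf 1) (BT.leaf 1)) (BT.leaf 1))) (BT.node (BT.node (BT.node (BT.leaf 2) (BT.leaf 2)) (BT.leaf 1)) (BT.node (BT.leaf 1) (BT.leaf 2)))))) (BT.node (BT.node (BT.node (BT.node (BT.node (BT.node (BT.leaf 2) (BT.leaf 2)) (BT.leaf 1)) (BT.node (BT.node (BT.leaf 2) (BT.leaf 2)) (BT.leaf 2))) (BT.node (BT.node (BT.node (BT.leaf 2) (BT.leaf 1)) (BT.leaf 1)) (BT.node (BT.node (BT.leaf 1) (BT.leaf 2)) (BT.leaf 1)))) (BT.node (BT.node (BT.node (BT.node (BT.leaf 1) (BT.leaf 2)) (BT.leaf 2)) (BT.node (BT.node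 (BT.leaf 1) (BT.leaf 1)) (BT.leaf 1))) (BT.node (BT.node (BT.node (BT.leaf 2) (BT.leaf 2)) (BT.leaf 1)) (BT.node (BT.node (BT.leaf 1) (BT.leaf 1)) (BT.leaf 1))))) (BT.node (BT.node (BT.node (BT.node (BT.node (BT.leaf 1) (BT.leaf 1)) (BT.leaf 2)) (BT.node (BT.node (BT.leaf 1) (BT.leaf 1)) (BT.leaf 2))) (BT.node (BT.node (BT.node (BT.leaf 2) (BT.leaf 1)) (BT.leaf 1)) (BT.node (BT.node (BT.leaf 2) (BT.leaf 1)) (BT.leaf 2)))) (BT.node (BT.node (BT.node (BT.node (BT.leaf 2) (BT.leaf 2)) (BT.leaf 1)) (BT.node (BT.node (BT.leaf 1) (BT.leaf 1)) (BT.leaf 1))) (BT.node (BT.node (BT.node (BT.leaf 1) (BT.leaf 1)) (BT.leaf 2)) (BT.node (BT.leaf 1) (BT.leaf 1)))))))) (BT.node (BT.node (BT.node (BT.node (BT.node (BT.node (BT.node (BT.node (BT.leaf 1) (BT.leaf 2)) (BT.leaf 1)) (BT.node (BT.node (BT.leaf 2) (BT.leaf 2)) (BT.leaf 2))) (BT.node (BT.node (BT.node (BT.leaf 2) (BT.leaf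 1)) (BT.leaf 1)) (BT.node (BT.node (BT.leaf 1) (BT.leaf 1)) (BT.leaf 2)))) (BT.node (BT.node (BT.node (BT.node (BT.leaf 1) (BT.leaf 2)) (BT.leaf 1)) (BT.node (BT.node (BT.leaf 1) (BT.leaf 1)) (BT.leaf 1))) (BT.node (BT.node (BT.node (BT.leaf 1) (BT.leaf 1)) (BT.leaf 2)) (BT.node (BT.node (BT.leaf 2) (BT.leaf 2)) (BT.leaf 2))))) (BT.node (BT.node (BT.node (BT.node (BT.node (BT.leaf 2) (BT.leaf 2)) (BT.leaf 1)) (BT.node (BT.node (BT.leaf 2) (BT.leaf 2)) (BT.leaf 2))) (BT.node (BT.node (BT.node (BT.leaf 2) (BT.leaf 1)) (BT.leaf 2)) (BT.node (BT.node (BT.leaf 1) (BT.leaf 1)) (BT.leaf 1)))) (BT.node (BT.node (BT.node (BT.node (BT.leaf 1) (BT.leaf 1)) (BT.leaf 2)) (BT.node (BT.node (BT.leaf 1) (BT.leaf 1)) (BT.leaf 1))) (BT.node (BT.node (BT.node (BT.leaf 1) (BT.leaf 1)) (BT.leaf 2)) (BT.node (BT.node (BT.leaf 1) (BT.leaf 1)) (BT.leaf 1)))))) (BT.node (BT.node (BT.node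 (BT.node (BT.node (BT.node (BT.leaf 2) (BT.leaf 1)) (BT.leaf 2)) (BT.node (BT.node (BT.leaf 1) (BT.leaf 2)) (BT.leaf 2))) (BT.node (BT.node (BT.node (BT.leaf 2) (BT.leaf 1)) (BT.leaf 2)) (BT.node (BT.node (BT.leaf 2) (BT.leaf 2)) (BT.leaf 1)))) (BT.node (BT.node (BT.node (BT.node (BT.leaf 1) (BT.leaf 1)) (BT.leaf 2)) (BT.node (BT.node (BT.leaf 1) (BT.leaf 1)) (BT.leaf 1))) (BT.node (BT.node (BT.node (BT.leaf 2) (BT.leaf 1)) (BT.leaf 1)) (BT.node (BT.node (BT.leaf 1) (BT.leaf 1)) (BT.leaf 1))))) (BT.node (BT.node (BT.node (BT.node (BT.node (BT.leaf 1) (BT.leaf 1)) (BT.leaf 1)) (BT.node (BT.node (BT.leaf 2) (BT.leaf 2)) (BT.leaf 1))) (BT.node (BT.node (BT.node (BT.leaf 1) (BT.leaf 1)) (BT.leaf 2)) (BT.node (BT.node (BT.leaf 2) (BT.leaf 1)) (BT.leaf 2)))) (BT.node (BT.node (BT.node (BT.node (BT.leaf 2) (BT.leaf 1)) (BT.leaf 1)) (BT.node (BT.node (BT.leaf 1) (BT.leaf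 1)) (BT.leaf 2))) (BT.node (BT.node (BT.node (BT.leaf 1) (BT.leaf 2)) (BT.leaf 2)) (BT.node (BT.leaf 1) (BT.leaf 1))))))) (BT.node (BT.node (BT.node (BT.node (BT.node (BT.node (BT.node (BT.leaf 2) (BT.leaf 1)) (BT.leaf 1)) (BT.node (BT.node (BT.leaf 1) (BT.leaf 1)) (BT.leaf 2))) (BT.node (BT.node (BT.node (BT.leaf 2) (BT.leaf 1)) (BT.leaf 1)) (BT.node (BT.node (BT.leaf 1) (BT.leaf 1)) (BT.leaf 2)))) (BT.node (BT.node (BT.node (BT.node (BT.leaf 1) (BT.leaf 1)) (BT.leaf 2)) (BT.node (BT.node (BT.leaf 1) (BT.leaf 1)) (BT.leaf 1))) (BT.node (BT.node (BT.node (BT.leaf 2) (BT.leaf 1)) (BT.leaf 2)) (BT.node (BT.node (BT.leaf 1) (BT.leaf 2)) (BT.leaf 2))))) (BT.node (BT.node (BT.node (BT.node (BT.node (BT.leaf 1) (BT.leaf 1)) (BT.leaf 1)) (BT.node (BT.node (BT.leaf 1) (BT.leaf 1)) (BT.leaf 1))) (BT.node (BT.node (BT.node (BT.leaf 2) (BT.leaf 1)) (BT.leaf 2)) (BT.node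 (BT.node (BT.leaf 2) (BT.leaf 1)) (BT.leaf 1)))) (BT.node (BT.node (BT.node (BT.node (BT.leaf 1) (BT.leaf 2)) (BT.leaf 1)) (BT.node (BT.node (BT.leaf 1) (BT.leaf 1)) (BT.leaf 1))) (BT.node (BT.node (BT.node (BT.leaf 2) (BT.leaf 1)) (BT.leaf 2)) (BT.node (BT.leaf 1) (BT.leaf 1)))))) (BT.node (BT.node (BT.node (BT.node (BT.node (BT.node (BT.leaf 2) (BT.leaf 1)) (BT.leaf 2)) (BT.node (BT.node (BT.leaf 1) (BT.leaf 2)) (BT.leaf 1))) (BT.node (BT.node (BT.node (BT.leaf 2) (BT.leaf 1)) (BT.leaf 2)) (BT.node (BT.node (BT.leaf 1) (BT.leaf 2)) (BT.leaf 1)))) (BT.node (BT.node (BT.node (BT.node (BT.leaf 1) (BT.leaf 2)) (BT.leaf 2)) (BT.node (BT.node (BT.leaf 1) (BT.leaf 1)) (BT.leaf 2))) (BT.node (BT.node (BT.node (BT.leaf 2) (BT.leaf 2)) (BT.leaf 2)) (BT.node (BT.node (BT.leaf 1) (BT.leaf 1)) (BT.leaf 2))))) (BT.node (BT.node (BT.node (BT.node (BT.node (BT.leaf 1) (BT.leaf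 2)) (BT.leaf 2)) (BT.node (BT.node (BT.leaf 2) (BT.leaf 1)) (BT.leaf 2))) (BT.node (BT.node (BT.node (BT.leaf 1) (BT.leaf 1)) (BT.leaf 1)) (BT.node (BT.node (BT.leaf 2) (BT.leaf 2)) (BT.leaf 1)))) (BT.node (BT.node (BT.node (BT.node (BT.leaf 1) (BT.leaf 2)) (BT.leaf 1)) (BT.node (BT.node (BT.leaf 2) (BT.leaf 1)) (BT.leaf 1))) (BT.node (BT.node (BT.node (BT.leaf 1) (BT.leaf 1)) (BT.leaf 2)) (BT.node (BT.leaf 1) (BT.leaf 1))))))))),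
  (BT.node (BT.node (BT.node (BT.node (BT.node (BT.node (BT.node (BT.node (BT.node (BT.leaf 1) (BT.leaf 1)) (BT.leaf 1)) (BT.node (BT.node (BT.leaf 1) (BT.leaf 1)) (BT.leaf 1))) (BT.node (BT.node (BT.node (BT.leaf 1) (BT.leaf 1)) (BT.leaf 1)) (BT.node (BT.node (BT.leaf 1) (BT.leaf 1)) (BT.leaf 1)))) (BT.node (BT.node (BT.node (BT.node (BT.leaf 1) (BT.leaf 1)) (BT.leaf 1)) (BT.node (BT.node (BT.leaf 1) (BT.leaf 1)) (BT.leaf 1))) (BT.node (BT.node (BT.node (BT.leaf 1) (BT.leaf 1)) (BT.leaf 1)) (BT.node (BT.node (BT.leaf 1) (BT.leaf 1)) (BT.leaf 1))))) (BT.node (BT.node (BT.node (BT.node (BT.node (BT.leaf 1) (BT.leaf 1)) (BT.leaf 1)) (BT.node (BT.node (BT.leaf 1) (BT.leaf 1)) (BT.leaf 1))) (BT.node (BT.node (BT.node (BT.leaf 1) (BT.leaf 1)) (BT.leaf 1)) (BT.node (BT.node (BT.leaf 1) (BT.leaf 1)) (BT.leaf 1)))) (BT.node (BT.node (BT.node (BT.node (BT.leaf 1) (BT.leaf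 1)) (BT.leaf 1)) (BT.node (BT.node (BT.leaf 1) (BT.leaf 1)) (BT.leaf 1))) (BT.node (BT.node (BT.node (BT.leaf 1) (BT.leaf 1)) (BT.leaf 1)) (BT.node (BT.node (BT.leaf 1) (BT.leaf 1)) (BT.leaf 1)))))) (BT.node (BT.node (BT.node (BT.node (BT.node (BT.node (BT.leaf 1) (BT.leaf 1)) (BT.leaf 1)) (BT.node (BT.node (BT.leaf 1) (BT.leaf 1)) (BT.leaf 1))) (BT.node (BT.node (BT.node (BT.leaf 1) (BT.leaf 1)) (BT.leaf 1)) (BT.node (BT.node (BT.leaf 1) (BT.leaf 1)) (BT.leaf 1)))) (BT.node (BT.node (BT.node (BT.node (BT.leaf 1) (BT.leaf 1)) (BT.leaf 1)) (BT.node (BT.node (BT.leaf 1) (BT.leaf 1)) (BT.leaf 1))) (BT.node (BT.node (BT.node (BT.leaf 1) (BT.leaf 1)) (BT.leaf 1)) (BT.node (BT.node (BT.leaf 1) (BT.leaf 1)) (BT.leaf 1))))) (BT.node (BT.node (BT.node (BT.node (BT.node (BT.leaf 1) (BT.leaf 1)) (BT.leaf 1)) (BT.node (BT.node (BT.leaf 1) (BT.leaf 1)) (BT.leaf 1))) (BT.node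 (BT.node (BT.node (BT.leaf 1) (BT.leaf 1)) (BT.leaf 1)) (BT.node (BT.node (BT.leaf 1) (BT.leaf 1)) (BT.leaf 1)))) (BT.node (BT.node (BT.node (BT.node (BT.leaf 1) (BT.leaf 1)) (BT.leaf 1)) (BT.node (BT.node (BT.leaf 1) (BT.leaf 1)) (BT.leaf 1))) (BT.node (BT.node (BT.node (BT.leaf 1) (BT.leaf 1)) (BT.leaf 1)) (BT.node (BT.leaf 1) (BT.leaf 1))))))) (BT.node (BT.node (BT.node (BT.node (BT.node (BT.node (BT.node (BT.leaf 1) (BT.leaf 1)) (BT.leaf 1)) (BT.node (BT.node (BT.leaf 1) (BT.leaf 1)) (BT.leaf 1))) (BT.node (BT.node (BT.node (BT.leaf 1) (BT.leaf 1)) (BT.leaf 1)) (BT.node (BT.node (BT.leaf 1) (BT.leaf 1)) (BT.leaf 1)))) (BT.node (BT.node (BT.node (BT.node (BT.leaf 1) (BT.leaf 1)) (BT.leaf 1)) (BT.node (BT.node (BT.leaf 1) (BT.leaf 1)) (BT.leaf 1))) (BT.node (BT.node (BT.node (BT.leaf 1) (BT.leaf 1)) (BT.leaf 1)) (BT.node (BT.node (BT.leaf 1) (BT.leaf 1))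 (BT.leaf 1))))) (BT.node (BT.node (BT.node (BT.node (BT.node (BT.leaf 1) (BT.leaf 1)) (BT.leaf 1)) (BT.node (BT.node (BT.leaf 1) (BT.leaf 1)) (BT.leaf 1))) (BT.node (BT.node (BT.node (BT.leaf 1) (BT.leaf 1)) (BT.leaf 1)) (BT.node (BT.node (BT.leaf 1) (BT.leaf 1)) (BT.leaf 1)))) (BT.node (BT.node (BT.node (BT.node (BT.leaf 1) (BT.leaf 1)) (BT.leaf 1)) (BT.node (BT.node (BT.leaf 1) (BT.leaf 1)) (BT.leaf 1))) (BT.node (BT.node (BT.node (BT.leaf 1) (BT.leaf 1)) (BT.leaf 1)) (BT.node (BT.leaf 1) (BT.leaf 1)))))) (BT.node (BT.node (BT.node (BT.node (BT.node (BT.node (BT.leaf 1) (BT.leaf 1)) (BT.leaf 1)) (BT.node (BT.node (BT.leaf 1) (BT.leaf 1)) (BT.leaf 1))) (BT.node (BT.node (BT.node (BT.leaf 1) (BT.leaf 1)) (BT.leaf 1)) (BT.node (BT.node (BT.leaf 1) (BT.leaf 1)) (BT.leaf 1)))) (BT.node (BT.node (BT.node (BT.node (BT.leaf 1) (BT.leaf 1)) (BT.leaf 1)) (BT.node (BT.node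 (BT.leaf 1) (BT.leaf 1)) (BT.leaf 1))) (BT.node (BT.node (BT.node (BT.leaf 1) (BT.leaf 1)) (BT.leaf 1)) (BT.node (BT.node (BT.leaf 1) (BT.leaf 1)) (BT.leaf 1))))) (BT.node (BT.node (BT.node (BT.node (BT.node (BT.leaf 1) (BT.leaf 1)) (BT.leaf 1)) (BT.node (BT.node (BT.leaf 1) (BT.leaf 1)) (BT.leaf 1))) (BT.node (BT.node (BT.node (BT.leaf 1) (BT.leaf 1)) (BT.leaf 1)) (BT.node (BT.node (BT.leaf 1) (BT.leaf 1)) (BT.leaf 1)))) (BT.node (BT.node (BT.node (BT.node (BT.leaf 1) (BT.leaf 1)) (BT.leaf 1)) (BT.node (BT.node (BT.leaf 1) (BT.leaf 1)) (BT.leaf 1))) (BT.node (BT.node (BT.node (BT.leaf 1) (BT.leaf 1)) (BT.leaf 1)) (BT.node (BT.leaf 1) (BT.leaf 1)))))))) (BT.node (BT.node (BT.node (BT.node (BT.node (BT.node (BT.node (BT.node (BT.leaf 1) (BT.leaf 1)) (BT.leaf 1)) (BT.node (BT.node (BT.leaf 1) (BT.leaf 1)) (BT.leaf 1))) (BT.node (BT.node (BT.node (BT.leaf 1) (BT.leaf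 1)) (BT.leaf 1)) (BT.node (BT.node (BT.leaf 1) (BT.leaf 1)) (BT.leaf 1)))) (BT.node (BT.node (BT.node (BT.node (BT.leaf 1) (BT.leaf 1)) (BT.leaf 1)) (BT.node (BT.node (BT.leaf 1) (BT.leaf 1)) (BT.leaf 1))) (BT.node (BT.node (BT.node (BT.leaf 1) (BT.leaf 1)) (BT.leaf 1)) (BT.node (BT.node (BT.leaf 1) (BT.leaf 1)) (BT.leaf 1))))) (BT.node (BT.node (BT.node (BT.node (BT.node (BT.leaf 1) (BT.leaf 1)) (BT.leaf 1)) (BT.node (BT.node (BT.leaf 1) (BT.leaf 1)) (BT.leaf 1))) (BT.node (BT.node (BT.node (BT.leaf 1) (BT.leaf 1)) (BT.leaf 1)) (BT.node (BT.node (BT.leaf 1) (BT.leaf 1)) (BT.leaf 1)))) (BT.node (BT.node (BT.node (BT.node (BT.leaf 1) (BT.leaf 1)) (BT.leaf 1)) (BT.node (BT.node (BT.leaf 1) (BT.leaf 1)) (BT.leaf 1))) (BT.node (BT.node (BT.node (BT.leaf 1) (BT.leaf 1)) (BT.leaf 1)) (BT.node (BT.node (BT.leaf 1) (BT.leaf 1)) (BT.leaf 1)))))) (BT.node (BT.node (BT.node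 (BT.node (BT.node (BT.node (BT.leaf 1) (BT.leaf 1)) (BT.leaf 1)) (BT.node (BT.node (BT.leaf 1) (BT.leaf 1)) (BT.leaf 1))) (BT.node (BT.node (BT.node (BT.leaf 1) (BT.leaf 1)) (BT.leaf 1)) (BT.node (BT.node (BT.leaf 1) (BT.leaf 1)) (BT.leaf 1)))) (BT.node (BT.node (BT.node (BT.node (BT.leaf 1) (BT.leaf 1)) (BT.leaf 1)) (BT.node (BT.node (BT.leaf 1) (BT.leaf 1)) (BT.leaf 1))) (BT.node (BT.node (BT.node (BT.leaf 1) (BT.leaf 1)) (BT.leaf 1)) (BT.node (BT.node (BT.leaf 1) (BT.leaf 1)) (BT.leaf 1))))) (BT.node (BT.node (BT.node (BT.node (BT.node (BT.leaf 1) (BT.leaf 1)) (BT.leaf 1)) (BT.node (BT.node (BT.leaf 1) (BT.leaf 1)) (BT.leaf 1))) (BT.node (BT.node (BT.node (BT.leaf 1) (BT.leaf 1)) (BT.leaf 1)) (BT.node (BT.node (BT.leaf 1) (BT.leaf 1)) (BT.leaf 1)))) (BT.node (BT.node (BT.node (BT.node (BT.leaf 1) (BT.leaf 1)) (BT.leaf 1)) (BT.node (BT.node (BT.leaf 1) (BT.leaf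 1)) (BT.leaf 1))) (BT.node (BT.node (BT.node (BT.leaf 1) (BT.leaf 1)) (BT.leaf 1)) (BT.node (BT.leaf 1) (BT.leaf 1))))))) (BT.node (BT.node (BT.node (BT.node (BT.node (BT.node (BT.node (BT.leaf 1) (BT.leaf 1)) (BT.leaf 1)) (BT.node (BT.node (BT.leaf 1) (BT.leaf 1)) (BT.leaf 1))) (BT.node (BT.node (BT.node (BT.leaf 1) (BT.leaf 1)) (BT.leaf 1)) (BT.node (BT.node (BT.leaf 1) (BT.leaf 1)) (BT.leaf 1)))) (BT.node (BT.node (BT.node (BT.node (BT.leaf 1) (BT.leaf 1)) (BT.leaf 1)) (BT.node (BT.node (BT.leaf 1) (BT.leaf 1)) (BT.leaf 1))) (BT.node (BT.node (BT.node (BT.leaf 1) (BT.leaf 1)) (BT.leaf 1)) (BT.node (BT.node (BT.leaf 1) (BT.leaf 1)) (BT.leaf 1))))) (BT.node (BT.node (BT.node (BT.node (BT.node (BT.leaf 1) (BT.leaf 1)) (BT.leaf 1)) (BT.node (BT.node (BT.leaf 1) (BT.leaf 1)) (BT.leaf 1))) (BT.node (BT.node (BT.node (BT.leaf 1) (BT.leaf 1)) (BT.leaf 1)) (BT.node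 (BT.node (BT.leaf 1) (BT.leaf 1)) (BT.leaf 1)))) (BT.node (BT.node (BT.node (BT.node (BT.leaf 1) (BT.leaf 1)) (BT.leaf 1)) (BT.node (BT.node (BT.leaf 1) (BT.leaf 1)) (BT.leaf 1))) (BT.node (BT.node (BT.node (BT.leaf 1) (BT.leaf 1)) (BT.leaf 1)) (BT.node (BT.leaf 1) (BT.leaf 1)))))) (BT.node (BT.node (BT.node (BT.node (BT.node (BT.node (BT.leaf 1) (BT.leaf 1)) (BT.leaf 1)) (BT.node (BT.node (BT.leaf 1) (BT.leaf 1)) (BT.leaf 1))) (BT.node (BT.node (BT.node (BT.leaf 1) (BT.leaf 1)) (BT.leaf 1)) (BT.node (BT.node (BT.leaf 1) (BT.leaf 1)) (BT.leaf 1)))) (BT.node (BT.node (BT.node (BT.node (BT.leaf 1) (BT.leaf 1)) (BT.leaf 1)) (BT.node (BT.node (BT.leaf 1) (BT.leaf 1)) (BT.leaf 1))) (BT.node (BT.node (BT.node (BT.leaf 1) (BT.leaf 1)) (BT.leaf 1)) (BT.node (BT.node (BT.leaf 1) (BT.leaf 1)) (BT.leaf 1))))) (BT.node (BT.node (BT.node (BT.node (BT.node (BT.leaf 1) (BT.leaf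 1)) (BT.leaf 1)) (BT.node (BT.node (BT.leaf 1) (BT.leaf 1)) (BT.leaf 1))) (BT.node (BT.node (BT.node (BT.leaf 1) (BT.leaf 1)) (BT.leaf 1)) (BT.node (BT.node (BT.leaf 1) (BT.leaf 1)) (BT.leaf 1)))) (BT.node (BT.node (BT.node (BT.node (BT.leaf 1) (BT.leaf 1)) (BT.leaf 1)) (BT.node (BT.node (BT.leaf 1) (BT.leaf 1)) (BT.leaf 1))) (BT.node (BT.node (BT.node (BT.leaf 1) (BT.leaf 1)) (BT.leaf 1)) (BT.node (BT.leaf 1) (BT.leaf 1))))))))),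
  (BT.node (BT.node (BT.node (BT.node (BT.node (BT.node (BT.node (BT.node (BT.node (BT.leaf 1) (BT.leaf 1)) (BT.leaf 1)) (BT.node (BT.node (BT.leaf 1) (BT.leaf 1)) (BT.leaf 1))) (BT.node (BT.node (BT.node (BT.leaf 1) (BT.leaf 1)) (BT.leaf 1)) (BT.node (BT.node (BT.leaf 1) (BT.leaf 1)) (BT.leaf 1)))) (BT.node (BT.node (BT.node (BT.node (BT.leaf 1) (BT.leaf 1)) (BT.leaf 1)) (BT.node (BT.node (BT.leaf 1) (BT.leaf 1)) (BT.leaf 1))) (BT.node (BT.node (BT.node (BT.leaf 1) (BT.leaf 1)) (BT.leaf 1)) (BT.node (BT.node (BT.leaf 1) (BT.leaf 1)) (BT.leaf 1))))) (BT.node (BT.node (BT.node (BT.node (BT.node (BT.leaf 1) (BT.leaf 1)) (BT.leaf 1)) (BT.node (BT.node (BT.leaf 1) (BT.leaf 1)) (BT.leaf 1))) (BT.node (BT.node (BT.node (BT.leaf 1) (BT.leaf 1)) (BT.leaf 1)) (BT.node (BT.node (BT.leaf 1) (BT.leaf 1)) (BT.leaf 1)))) (BT.node (BT.node (BT.node (BT.node (BT.leaf 1) (BT.leaf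 1)) (BT.leaf 1)) (BT.node (BT.node (BT.leaf 1) (BT.leaf 1)) (BT.leaf 1))) (BT.node (BT.node (BT.node (BT.leaf 1) (BT.leaf 1)) (BT.leaf 1)) (BT.node (BT.node (BT.leaf 1) (BT.leaf 1)) (BT.leaf 1)))))) (BT.node (BT.node (BT.node (BT.node (BT.node (BT.node (BT.leaf 1) (BT.leaf 1)) (BT.leaf 1)) (BT.node (BT.node (BT.leaf 1) (BT.leaf 1)) (BT.leaf 1))) (BT.node (BT.node (BT.node (BT.leaf 1) (BT.leaf 1)) (BT.leaf 1)) (BT.node (BT.node (BT.leaf 1) (BT.leaf 1)) (BT.leaf 1)))) (BT.node (BT.node (BT.node (BT.node (BT.leaf 1) (BT.leaf 1)) (BT.leaf 1)) (BT.node (BT.node (BT.leaf 1) (BT.leaf 1)) (BT.leaf 1))) (BT.node (BT.node (BT.node (BT.leaf 1) (BT.leaf 1)) (BT.leaf 1)) (BT.node (BT.node (BT.leaf 1) (BT.leaf 1)) (BT.leaf 1))))) (BT.node (BT.node (BT.node (BT.node (BT.node (BT.leaf 1) (BT.leaf 1)) (BT.leaf 1)) (BT.node (BT.node (BT.leaf 1) (BT.leaf 1)) (BT.leaf 1))) (BT.node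 (BT.node (BT.node (BT.leaf 1) (BT.leaf 1)) (BT.leaf 1)) (BT.node (BT.node (BT.leaf 1) (BT.leaf 1)) (BT.leaf 1)))) (BT.node (BT.node (BT.node (BT.node (BT.leaf 1) (BT.leaf 1)) (BT.leaf 1)) (BT.node (BT.node (BT.leaf 1) (BT.leaf 1)) (BT.leaf 1))) (BT.node (BT.node (BT.node (BT.leaf 1) (BT.leaf 1)) (BT.leaf 1)) (BT.node (BT.leaf 1) (BT.leaf 1))))))) (BT.node (BT.node (BT.node (BT.node (BT.node (BT.node (BT.node (BT.leaf 1) (BT.leaf 1)) (BT.leaf 1)) (BT.node (BT.node (BT.leaf 1) (BT.leaf 1)) (BT.leaf 1))) (BT.node (BT.node (BT.node (BT.leaf 1) (BT.leaf 1)) (BT.leaf 1)) (BT.node (BT.node (BT.leaf 1) (BT.leaf 1)) (BT.leaf 1)))) (BT.node (BT.node (BT.node (BT.node (BT.leaf 1) (BT.leaf 1)) (BT.leaf 1)) (BT.node (BT.node (BT.leaf 1) (BT.leaf 1)) (BT.leaf 1))) (BT.node (BT.node (BT.node (BT.leaf 1) (BT.leaf 1)) (BT.leaf 1)) (BT.node (BT.node (BT.leaf 1) (BT.leaf 1))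 (BT.leaf 1))))) (BT.node (BT.node (BT.node (BT.node (BT.node (BT.leaf 1) (BT.leaf 1)) (BT.leaf 1)) (BT.node (BT.node (BT.leaf 1) (BT.leaf 1)) (BT.leaf 1))) (BT.node (BT.node (BT.node (BT.leaf 1) (BT.leaf 1)) (BT.leaf 1)) (BT.node (BT.node (BT.leaf 1) (BT.leaf 1)) (BT.leaf 1)))) (BT.node (BT.node (BT.node (BT.node (BT.leaf 1) (BT.leaf 1)) (BT.leaf 1)) (BT.node (BT.node (BT.leaf 1) (BT.leaf 1)) (BT.leaf 1))) (BT.node (BT.node (BT.node (BT.leaf 1) (BT.leaf 1)) (BT.leaf 1)) (BT.node (BT.leaf 1) (BT.leaf 1)))))) (BT.node (BT.node (BT.node (BT.node (BT.node (BT.node (BT.leaf 1) (BT.leaf 1)) (BT.leaf 1)) (BT.node (BT.node (BT.leaf 1) (BT.leaf 1)) (BT.leaf 1))) (BT.node (BT.node (BT.node (BT.leaf 1) (BT.leaf 1)) (BT.leaf 1)) (BT.node (BT.node (BT.leaf 1) (BT.leaf 1)) (BT.leaf 1)))) (BT.node (BT.node (BT.node (BT.node (BT.leaf 1) (BT.leaf 1)) (BT.leaf 1)) (BT.node (BT.node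 (BT.leaf 1) (BT.leaf 1)) (BT.leaf 1))) (BT.node (BT.node (BT.node (BT.leaf 1) (BT.leaf 1)) (BT.leaf 1)) (BT.node (BT.node (BT.leaf 1) (BT.leaf 1)) (BT.leaf 1))))) (BT.node (BT.node (BT.node (BT.node (BT.node (BT.leaf 1) (BT.leaf 1)) (BT.leaf 1)) (BT.node (BT.node (BT.leaf 1) (BT.leaf 1)) (BT.leaf 1))) (BT.node (BT.node (BT.node (BT.leaf 1) (BT.leaf 1)) (BT.leaf 1)) (BT.node (BT.node (BT.leaf 1) (BT.leaf 1)) (BT.leaf 1)))) (BT.node (BT.node (BT.node (BT.node (BT.leaf 1) (BT.leaf 1)) (BT.leaf 1)) (BT.node (BT.node (BT.leaf 1) (BT.leaf 1)) (BT.leaf 1))) (BT.node (BT.node (BT.node (BT.leaf 1) (BT.leaf 1)) (BT.leaf 1)) (BT.node (BT.leaf 1) (BT.leaf 1)))))))) (BT.node (BT.node (BT.node (BT.node (BT.node (BT.node (BT.node (BT.node (BT.leaf 1) (BT.leaf 1)) (BT.leaf 1)) (BT.node (BT.node (BT.leaf 1) (BT.leaf 1)) (BT.leaf 1))) (BT.node (BT.node (BT.node (BT.leaf 1) (BT.leaf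 1)) (BT.leaf 1)) (BT.node (BT.node (BT.leaf 1) (BT.leaf 1)) (BT.leaf 1)))) (BT.node (BT.node (BT.node (BT.node (BT.leaf 1) (BT.leaf 1)) (BT.leaf 1)) (BT.node (BT.node (BT.leaf 1) (BT.leaf 1)) (BT.leaf 1))) (BT.node (BT.node (BT.node (BT.leaf 1) (BT.leaf 1)) (BT.leaf 1)) (BT.node (BT.node (BT.leaf 1) (BT.leaf 1)) (BT.leaf 1))))) (BT.node (BT.node (BT.node (BT.node (BT.node (BT.leaf 1) (BT.leaf 1)) (BT.leaf 1)) (BT.node (BT.node (BT.leaf 1) (BT.leaf 1)) (BT.leaf 1))) (BT.node (BT.node (BT.node (BT.leaf 1) (BT.leaf 1)) (BT.leaf 1)) (BT.node (BT.node (BT.leaf 1) (BT.leaf 1)) (BT.leaf 1)))) (BT.node (BT.node (BT.node (BT.node (BT.leaf 1) (BT.leaf 1)) (BT.leaf 1)) (BT.node (BT.node (BT.leaf 1) (BT.leaf 1)) (BT.leaf 1))) (BT.node (BT.node (BT.node (BT.leaf 1) (BT.leaf 1)) (BT.leaf 1)) (BT.node (BT.node (BT.leaf 1) (BT.leaf 1)) (BT.leaf 1)))))) (BT.node (BT.node (BT.node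 (BT.node (BT.node (BT.node (BT.leaf 1) (BT.leaf 1)) (BT.leaf 1)) (BT.node (BT.node (BT.leaf 1) (BT.leaf 1)) (BT.leaf 1))) (BT.node (BT.node (BT.node (BT.leaf 1) (BT.leaf 1)) (BT.leaf 1)) (BT.node (BT.node (BT.leaf 1) (BT.leaf 1)) (BT.leaf 1)))) (BT.node (BT.node (BT.node (BT.node (BT.leaf 1) (BT.leaf 1)) (BT.leaf 1)) (BT.node (BT.node (BT.leaf 1) (BT.leaf 1)) (BT.leaf 1))) (BT.node (BT.node (BT.node (BT.leaf 1) (BT.leaf 1)) (BT.leaf 1)) (BT.node (BT.node (BT.leaf 1) (BT.leaf 1)) (BT.leaf 1))))) (BT.node (BT.node (BT.node (BT.node (BT.node (BT.leaf 1) (BT.leaf 1)) (BT.leaf 1)) (BT.node (BT.node (BT.leaf 1) (BT.leaf 1)) (BT.leaf 1))) (BT.node (BT.node (BT.node (BT.leaf 1) (BT.leaf 1)) (BT.leaf 1)) (BT.node (BT.node (BT.leaf 1) (BT.leaf 1)) (BT.leaf 1)))) (BT.node (BT.node (BT.node (BT.node (BT.leaf 1) (BT.leaf 1)) (BT.leaf 1)) (BT.node (BT.node (BT.leaf 1) (BT.leaf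 1)) (BT.leaf 1))) (BT.node (BT.node (BT.node (BT.leaf 1) (BT.leaf 1)) (BT.leaf 1)) (BT.node (BT.leaf 1) (BT.leaf 1))))))) (BT.node (BT.node (BT.node (BT.node (BT.node (BT.node (BT.node (BT.leaf 1) (BT.leaf 1)) (BT.leaf 1)) (BT.node (BT.node (BT.leaf 1) (BT.leaf 1)) (BT.leaf 1))) (BT.node (BT.node (BT.node (BT.leaf 1) (BT.leaf 1)) (BT.leaf 1)) (BT.node (BT.node (BT.leaf 1) (BT.leaf 1)) (BT.leaf 1)))) (BT.node (BT.node (BT.node (BT.node (BT.leaf 1) (BT.leaf 1)) (BT.leaf 1)) (BT.node (BT.node (BT.leaf 1) (BT.leaf 1)) (BT.leaf 1))) (BT.node (BT.node (BT.node (BT.leaf 1) (BT.leaf 1)) (BT.leaf 1)) (BT.node (BT.node (BT.leaf 1) (BT.leaf 1)) (BT.leaf 1))))) (BT.node (BT.node (BT.node (BT.node (BT.node (BT.leaf 1) (BT.leaf 1)) (BT.leaf 1)) (BT.node (BT.node (BT.leaf 1) (BT.leaf 1)) (BT.leaf 1))) (BT.node (BT.node (BT.node (BT.leaf 1) (BT.leaf 1)) (BT.leaf 1)) (BT.node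 (BT.node (BT.leaf 1) (BT.leaf 1)) (BT.leaf 1)))) (BT.node (BT.node (BT.node (BT.node (BT.leaf 1) (BT.leaf 1)) (BT.leaf 1)) (BT.node (BT.node (BT.leaf 1) (BT.leaf 1)) (BT.leaf 1))) (BT.node (BT.node (BT.node (BT.leaf 1) (BT.leaf 1)) (BT.leaf 1)) (BT.node (BT.leaf 1) (BT.leaf 1)))))) (BT.node (BT.node (BT.node (BT.node (BT.node (BT.node (BT.leaf 1) (BT.leaf 1)) (BT.leaf 1)) (BT.node (BT.node (BT.leaf 1) (BT.leaf 1)) (BT.leaf 1))) (BT.node (BT.node (BT.node (BT.leaf 1) (BT.leaf 1)) (BT.leaf 1)) (BT.node (BT.node (BT.leaf 1) (BT.leaf 1)) (BT.leaf 1)))) (BT.node (BT.node (BT.node (BT.node (BT.leaf 1) (BT.leaf 1)) (BT.leaf 1)) (BT.node (BT.node (BT.leaf 1) (BT.leaf 1)) (BT.leaf 1))) (BT.node (BT.node (BT.node (BT.leaf 1) (BT.leaf 1)) (BT.leaf 1)) (BT.node (BT.node (BT.leaf 1) (BT.leaf 1)) (BT.leaf 1))))) (BT.node (BT.node (BT.node (BT.node (BT.node (BT.leaf 1) (BT.leaf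 1)) (BT.leaf 1)) (BT.node (BT.node (BT.leaf 1) (BT.leaf 1)) (BT.leaf 1))) (BT.node (BT.node (BT.node (BT.leaf 1) (BT.leaf 1)) (BT.leaf 1)) (BT.node (BT.node (BT.leaf 1) (BT.leaf 1)) (BT.leaf 1)))) (BT.node (BT.node (BT.node (BT.node (BT.leaf 1) (BT.leaf 1)) (BT.leaf 1)) (BT.node (BT.node (BT.leaf 1) (BT.leaf 1)) (BT.leaf 1))) (BT.node (BT.node (BT.node (BT.leaf 1) (BT.leaf 1)) (BT.leaf 1)) (BT.node (BT.leaf 1) (BT.leaf 1)))))))))]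

/-- The scalars. -/
def sgf13 (r i : ℕ) : ℕ := (sgT13.getD r (BT.leaf 0)).look i

/-- The points and their negatives as numbers. -/
def codes13 : List ℕ := [18014398543036417, 18014398509481985, 18014399583223809, 18014400690520065, 36028934474694656, 1170935903149883393, 36028798126260225, 148744888630265249793, 36028797035741185, 33554433, 2323857407756730369, 18014398526259201, 18014399600001025, 18014400656965633, 18014467228958720, 1170935903116328961, 36028797018963969, 148744888492792741889, 147591966988185894913, 18014400673742849, 36028936622178304, 1170936041629024257, 36028798092705793, 73823005094004654081, 147609981387769118721, 147591966989259636737, 18014399616778241, 36028935531659264, 1170935974016843777, 36028797052518401, 74975926666274013184, 1090519041, 2181038081, 76110833704742420481, 36028935548436480, 2341871943688388608, 69826772993,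 73823005091873947648, 76110833771314413569, 73786976432293937152, 1188950439081541632, 2341871808396918784, 1188950301659365377, 74975926597571313665, 149897810134872096769, 2341871806249435137, 1152921504640401409, 36028798109483009, 2341871944778907649, 147591967059069632513, 2164260865, 149915824397016367105, 148744888631305437185, 148744888562602737664, 148762903029831696384, 148762903029848473601, 2305843080097431552, 74975926665200271361, 1152921642079354881, 147591967125658402817, 36028799200002049, 36028799183224833, 16777217, 1188950301642588161, 1, 137472507905, 2305843009247248385, 2323857407739953153, 2323857407723175937, 2323857477516394497, 18014467245735936, 1170935903133106177, 148744888561528995841, 73804990693364465664, 18014468302700544, 1170936041645801473, 73823005231477161985, 73823005092947689472, 148744888493883260929, 18014469393219584,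 1170935973983289345, 36028799166447617, 74975926597537759232, 147573952591823896577, 73804990695495172097, 1170935971835805696, 68719476737, 147591967056905371648, 2323857476442652672, 1170935904190070784, 1188950301625810945, 74975926596464017409, 149897809997399588865, 2341871806232657921, 147609981386695376897, 76128848171954601984, 148762902892375965696, 148762902891302223873, 76110833702561382401, 74957912197954535425, 147591967056922148865, 73823005094021431296, 147609981388842860545, 149897810066119065600, 73804990693347688449, 1170935974000066561, 149897810068283326464, 73786976297002467328, 74957912200118796289, 70900514817, 149897809998506885121, 76128848170897637377, 73786976434441420800, 74975926736067231744, 2341871876042653696, 1188950441212248065, 74939897937957748736, 76128848171937824769, 149915824534421766145, 74957912336467230721, 2341871944745353217,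 1073741825, 147591966990333378561, 147573952590750154753, 73823005092930912257, 73804990694421430273, 73786976296985690113, 74957912199028277248, 147609981456522149889, 147573952589676412929, 73786976295911948289, 147591967057995890689, 18014468319477760, 1170936041662578689, 73823005162740908033, 1107296257, 2341871876025876480, 70866960385, 76128848239583559681, 1152921643119542272, 73823005230369865728, 147609981525208072192, 1188950371452583937, 2323857547343167489, 149915824533364801537, 138529472513, 148726874165183774721, 73804990764248203265, 2341871806266212353, 74975926733936525313, 149897810134855319552, 74939897868181307392, 147609981525224849409, 139619991553, 1152921574416842752, 138512695297, 73804990694438207488, 148726874095373778945, 2147483649, 139586437121, 76092819306232938497, 76110833703651901441, 76110833842147819521, 148762903028757954561,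 148744888494973779969, 68753031169, 76128848102161383425, 76092819374952415233, 73786976433367678976, 2323857546252648448, 74939897869271826433, 76128848101087641600, 73804990762100719617, 76092819441507631104, 69793218561, 1188950441229025281, 149879795668716879873, 147609981455431630848, 73786976294854983680, 74975926596480794624, 76110833773445120001, 148762902962185961473, 148726874231722213377, 2305843077966725121, 74957912266707566593, 73786976363574460416, 73786976432277159937, 74939897936900784128, 147591967125641625600, 2323857476459429888, 1188950372509548544, 1152921643136319488, 2341871877133172737, 2323857409887436800, 149915824396999589888, 147591967126732144641, 2305843011377954816, 74939897800552349697, 76128848238543372289, 74975926734993489921, 149897810066135842817, 73823005230403420161, 148726874096464297985, 149879795601054367745, 74957912199061831681,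 149897810135929061377, 149897809998490107904, 149879795737436356609, 148726874165166997504, 73823005160593424385, 2305843146686201857, 2305843009230471169, 1152921504606846977, 1152921642045800449, 2341871944762130433, 147591967127805886465, 73786976295928725504, 148762902892392742913, 148744888632395956225, 70883737601, 76110833841107632129, 76110833842164596736, 74939897801609314305, 149915824398073331713, 149915824465719066625, 149915824464645324800, 76128848239600336896, 76110833772371378176, 148762903030888660993, 149897810067192807425, 149915824466776031233, 76110833840017113089, 148762902960038477824, 1152921573343100929, 73804990831877160961, 76092819372771377153, 148726874233886474240, 147609981456505372672, 148726874233903251457, 2323857547326390273, 74939897870328791041, 2305843148816908288, 73786976365721944064, 74975926667364532225, 149915824535512285184,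 76128848169807118337, 1152921573326323713, 1152921573359878145, 147591967126715367424, 147609981526298591233, 76128848103251902465, 2341871877116395521, 73804990695511949312, 74975926598628278273, 137455730689, 1152921504623624193, 1188950441245802497, 1188950302716329984, 137438953473, 139603214337, 138546249729, 2305843077949947905, 73823005229329678337, 2305843077933170689, 2323857477549948929, 76110833702578159616, 2323857477533171713, 2305843009213693953, 149915824395909070849, 74975926736050454529, 148762902961095442433, 1170935971852582912, 1170935904206848000, 74957912197971312640, 148744888562619514881, 148744888493866483712, 149915824464662102017, 147591967057979113472, 74957912336484007936, 149915824535529062401, 73823005091857170433, 74975926666257235969, 76128848170864082944, 148762902893466484736, 1170936042719543296, 69809995777, 74939897937991303169,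 147609981457579114496, 74957912268838273024, 1188950371419029505, 2323857547309613057, 147573952660543373313, 148744888563659702273, 74957912268821495809, 2341871877099618305, 74939897800518795264, 1188950302699552768, 149879795738493321217, 73804990832950902785, 2323857546235871232, 74939897868164530177, 148744888561512218624, 68736253953, 149879795667609583617, 147573952658395889665, 73804990762067165184, 74939897799445053441, 76128848101070864385, 148726874094283259905, 149879795598890106881, 147609981455448408065, 73804990763174461441, 76092819304051900417, 148726874095357001728, 148762902960055255041, 74957912335410266113, 76110833771280859136, 147609981457595891713, 73804990830803419137, 74957912266674012160, 1188950371435806721, 147591967127789109248, 149879795668700102656, 76092819373861896193, 149879795599980625920, 148726874096447520768, 74957912337574526977,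 74939897799461830656, 149897809999563849729, 1152921505697366016, 149879795599997403137, 73786976434424643585, 149897810135912284160, 76092819443671891969, 149915824465702289408, 149897810136986025985, 74939897869238272000, 73786976433350901761, 76110833841074077696, 148726874232795955200, 76110833772354600961, 74957912267764531201, 147573952728189108225, 147573952659469631489, 73786976294838206465, 74939897939048267777, 73786976365705166849, 149879795736329060353, 73823005161667166209, 76128848240674078721, 1152921574400065536, 73804990763140907008, 2305843146669424641, 147609981524151107585, 148726874232812732417, 148726874163002736641, 73786976364631425025, 149897810068300103681, 149879795737419579392, 76092819372788154368, 147573952727115366401, 148726874164093255681, 148744888494957002752, 76092819305142419457, 1152921505680588800, 76092819441490853889,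 1152921642062577665, 148744888630248472576, 148762902893483261953, 73786976364648202240, 76092819442581372929, 76092819304068677632, 148726874164076478464, 149879795669773844481, 2305843146652647425, 73786976363557683201, 74939897936884006913, 147573952729262850049, 36028797035741186, 36028797018963970, 36028799166447618, 36028798109483010, 18014467262513152, 2341871806249435138, 18014400673742850, 76128848169807118338, 18014398543036418, 16777218, 1188950301642588162, 36028797052518402, 36028799200002050, 36028798092705794, 36028934457917440, 2341871806232657922, 18014398509481986, 76128848101070864386, 73823005091857170434, 36028798126260226, 18014468336254976, 2341871877099618306, 18014400656965634, 147591966989259636738, 73804990695495172098, 73823005094004654082, 36028799183224834, 18014469376442368, 2341871944762130434, 18014398526259202, 149897810137019580416,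 2181038082, 1090519042, 148762902892392742914, 18014469409996800, 1170935971869360128, 139603214338, 147591966988219449344, 148762903028757954562, 147573952658429444096, 2323857476476207104, 1170935904223625216, 2323857407739953154, 149897809999563849730, 74975926665200271362, 1170935903149883394, 2305843009230471170, 18014400690520066, 1170935974000066562, 73823005230403420162, 1107296258, 74957912200118796290, 76128848171937824770, 76128848240690855936, 76110833773461897216, 76110833773445120002, 1152921643153096704, 149897810134872096770, 2305843077949947906, 73823005160593424386, 18014399600001026, 18014399616778242, 33554434, 2323857407756730370, 2, 68736253954, 1152921504623624194, 1188950301659365378, 1188950301625810946, 1188950441212248066, 36028934491471872, 2341871806266212354, 76128848238543372290, 147609981386728931328, 36028936605401088, 2341871877133172738,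 147591967057995890690, 147591966990366932992, 76128848103251902466, 36028935565213696, 2341871944745353218, 18014399583223810, 149897809999547072512, 73786976295911948290, 147609981387769118722, 2341871943671611392, 137438953474, 73823005229296123904, 1188950439064764416, 2341871808380141568, 2323857407723175938, 149897809997399588866, 74975926596464017410, 1170935903116328962, 73804990693347688450, 148744888631338991616, 76110833704708866048, 76110833702561382402, 148762902891302223874, 149915824395909070850, 73823005229329678338, 147591966989293191168, 73804990694421430274, 74975926733902970880, 147609981386695376898, 2341871944778907650, 74975926735010267136, 147573952590783709184, 149915824397016367106, 138529472514, 74975926598628278274, 148744888632395956226, 147573952659503185920, 149897810067226361856, 1170936042736320512, 2323857477516394498, 149879795669757067264,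 148744888631305437186, 74957912268821495810, 149915824466776031234, 1170935973983289346, 2147483650, 73823005092930912258, 73786976296985690114, 147591966990333378562, 147609981388842860546, 147573952590750154754, 149915824398056554496, 73804990832950902786, 73786976294838206466, 147573952591823896578, 73823005231477161986, 36028936638955520, 2341871877116395522, 147591967126732144642, 2164260866, 1170936042702766080, 138512695298, 148744888563659702274, 2305843080080654336, 147591967059052855296, 73804990764214648832, 2323857547326390274, 1188950371435806722, 74957912266707566594, 70900514818, 76092819442581372930, 147609981525224849410, 1170935903133106178, 149897810066135842818, 74975926665217048576, 149879795736362614784, 73804990764248203266, 69809995778, 2305843148833685504, 70866960386, 147609981388876414976, 76092819306232938498, 1073741826, 69793218562,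 148726874095373778946, 148762902893483261954, 148762902961095442434, 76110833771314413570, 76128848102161383426, 137455730690, 148744888494973779970, 148726874232812732418, 147573952660576927744, 1188950372526325760, 149879795738493321218, 148744888492826296320, 147609981524151107586, 148726874163036291072, 139586437122, 2323857477549948930, 74939897939048267778, 73804990830820196352, 147573952589709967360, 149897809997433143296, 148762903029848473602, 76110833841107632130, 76092819372771377154, 1152921642062577666, 149915824533364801538, 147573952727148920832, 147573952658395889666, 149879795667643138048, 73823005160610201600, 1188950439098318848, 2323857546269425664, 2305843080114208768, 1170936041645801474, 1188950302733107200, 74957912200135573504, 73823005162740908034, 1152921505714143232, 149879795601054367746, 148744888561528995842, 149897810068300103682,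 74975926733936525314, 147591967059069632514, 76092819305142419458, 74939897800552349698, 149915824398073331714, 74975926667364532226, 74975926598645055488, 74939897870328791042, 76092819442598150144, 147591967125658402818, 1152921573343100930, 1152921504640401410, 2305843009213693954, 2305843077933170690, 1170935974016843778, 73823005161667166210, 147573952591857451008, 76110833704742420482, 76128848170897637378, 138546249730, 148762902962185961474, 148762902961128996864, 149879795599997403138, 74957912199061831682, 74957912337574526978, 74957912335427043328, 148744888563693256704, 148762903030922215424, 76110833772354600962, 74975926736050454530, 74957912336467230722, 148762902960055255042, 76110833840033890304, 2305843146686201858, 147609981457595891714, 148726874231722213378, 76092819373878673408, 73804990832967680000, 76092819373861896194, 1188950371452583938,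 149879795737436356610, 1152921574433619968, 147573952728222662656, 149897810135929061378, 74957912267781308416, 148744888630265249794, 2305843146652647426, 2305843146669424642, 73823005162757685248, 73804990763174461442, 148744888493883260930, 1170936041662578690, 147609981387802673152, 149897809998506885122, 68753031170, 2305843009247248386, 2323857477533171714, 2323857409904214016, 68719476738, 69826772994, 70883737602, 1152921642079354882, 147591967056922148866, 1152921642045800450, 1188950441229025282, 148762902891335778304, 1188950441245802498, 1152921504606846978, 74957912197954535426, 149897810067192807426, 76110833842147819522, 2341871943705165824, 2341871808413696000, 149915824395942625280, 76128848240674078722, 76128848103218348032, 74957912335410266114, 73823005231443607552, 149915824466809585664, 74957912267764531202, 147591966988185894914, 149897810136986025986,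 148744888632379179008, 76110833703668678656, 2341871876059430912, 139619991554, 149879795669773844482, 73804990831893938176, 149915824534455320576, 2323857547309613058, 1188950371419029506, 73786976433350901762, 76128848239583559682, 149915824534421766146, 1170936041629024258, 149879795601037590528, 2323857409870659584, 74939897869271826434, 147609981456522149890, 1188950372492771328, 149879795736329060354, 76128848238509817856, 137472507906, 74939897936884006914, 73786976432277159938, 147609981524134330368, 149879795598890106882, 148744888492792741890, 76092819304051900418, 74939897799445053442, 73804990830803419138, 147609981526298591234, 148726874094283259906, 76092819306199384064, 76110833840017113090, 149915824464662102018, 148762903028741177344, 73804990831877160962, 147609981455448408066, 149915824533348024320, 2323857547343167490, 73823005161683943424,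 74939897939065044992, 148726874233903251458, 74939897801626091520, 76092819305159196672, 149915824465719066626, 149879795598923661312, 74975926597571313666, 2305843011394732032, 74939897801609314306, 147573952659469631490, 74975926667330977792, 148726874164093255682, 74957912337540972544, 74975926666257235970, 149879795738476544000, 147573952660543373314, 148762902962169184256, 76092819374918860800, 148762903030888660994, 149915824535529062402, 73786976365705166850, 73786976434424643586, 147573952589676412930, 149879795668716879874, 147573952728189108226, 74939897868164530178, 147591967127805886466, 148744888562619514882, 2305843148800131072, 147609981526281814016, 1152921573359878146, 73804990762100719618, 76092819374952415234, 76092819441490853890, 147573952729262850050, 74975926734993489922, 74939897870345568256, 148726874231755767808, 73786976363557683202,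 76092819443671891970, 76128848102178160640, 148726874096464297986, 2305843011361177600, 148726874163002736642, 2305843077966725122, 76128848169823895552, 76110833703651901442, 147573952729296404480, 148726874165183774722, 148726874094316814336, 76092819443638337536, 74939897937991303170, 1152921573326323714, 147573952727115366402, 149879795667609583618, 73786976364631425026]

/-- A tree: the parent of each point, -/
def par13 : List ℕ := [0, 0, 0, 0, 0, 0, 0, 0, 0, 0, 0, 1, 1, 1, 1, 1, 1, 1, 1, 2, 2, 2, 2, 2, 2, 2, 3, 3, 3, 3, 3, 3, 3, 3, 4, 4, 4, 4, 4, 4, 4, 5, 5, 5, 5, 5, 5, 6, 6, 6, 6, 6, 7, 7, 7, 7, 7, 7, 7, 7, 8, 8, 8, 8, 9, 9, 9, 10, 10, 10, 11, 11, 11, 11, 12, 12, 12, 12, 12, 13, 13, 13, 13, 13, 13, 14, 14, 14, 14, 15, 15, 15, 15, 16, 16, 17, 17, 17, 17, 17, 18, 18, 18, 18, 18, 19, 19, 19, 19, 20, 20, 20, 20, 20, 21, 21, 21, 21, 21, 21, 22, 22, 22, 22,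 23, 23, 23, 23, 24, 24, 24, 25, 26, 26, 26, 26, 27, 27, 27, 27, 27, 27, 28, 28, 28, 28, 28, 28, 29, 29, 30, 30, 30, 30, 30, 31, 31, 31, 32, 32, 32, 33, 33, 33, 33, 34, 34, 34, 34, 35, 35, 35, 35, 35, 36, 36, 36, 37, 37, 37, 38, 38, 38, 38, 38, 39, 39, 39, 39, 40, 40, 40, 41, 41, 41, 41, 41, 42, 42, 43, 43, 43, 43, 43, 43, 44, 44, 44, 44, 44, 44, 45, 46, 46, 47, 47, 47, 47, 48, 48, 48, 49, 50, 51, 51, 51, 52, 52, 52, 52, 52, 53, 53, 53, 53, 54, 54, 54, 55, 55, 55, 56, 56, 57, 57, 57, 58, 58, 59, 59, 60, 61, 61, 61, 62, 62, 63, 63, 64, 65, 65, 65, 65, 66, 67, 67, 68, 68, 68, 69, 69, 70, 71, 71, 72, 72, 73, 74, 76, 76, 77, 77, 78, 78, 79, 79, 79, 79, 79, 80, 80, 80, 80, 80, 81, 82, 82, 83, 84, 85, 85, 85, 86, 86, 86, 87, 90, 90, 91, 92, 94, 95, 96, 96, 97, 99, 99, 100, 104, 104, 105, 105, 106, 106, 107, 107, 108, 108, 108, 109, 110, 112, 113, 114, 115, 115, 116,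 116, 116, 116, 117, 119, 120, 123, 125, 126, 126, 129, 131, 133, 136, 141, 144, 144, 145, 146, 147, 147, 150, 151, 152, 157, 157, 157, 158, 162, 163, 164, 164, 168, 170, 171, 173, 176, 183, 185, 186, 202]

/-- and the root element that maps the parent to it. -/
def gen13 : List ℕ := [0, 1, 2, 3, 4, 6, 7, 8, 9, 10, 11, 1, 2, 3, 4, 6, 7, 8, 9, 2, 4, 6, 7, 8, 9, 11, 3, 4, 6, 7, 8, 9, 10, 11, 5, 6, 7, 8, 9, 10, 11, 3, 5, 7, 8, 9, 10, 1, 6, 8, 9, 11, 0, 2, 3, 5, 7, 9, 10, 11, 2, 3, 10, 11, 2, 4, 11, 0, 1, 2, 4, 6, 8, 9, 4, 6, 8, 9, 11, 4, 6, 7, 8, 9, 11, 6, 7, 8, 9, 3, 5, 7, 8, 6, 9, 2, 3, 5, 8, 9, 1, 2, 3, 4, 9, 6, 8, 9, 11, 7, 8, 9, 10, 11, 3, 5, 7, 8, 9, 10, 6, 7, 8, 9, 0, 3, 7, 8, 1, 3, 9, 1, 4, 6, 8, 10, 6, 7, 8, 9, 10, 11, 5, 6, 7, 9, 10, 11, 6, 8, 0, 5, 8, 9, 10, 4, 9, 11, 2, 4, 11, 0, 1, 2, 11, 7, 8, 9, 10, 5, 7, 8, 9, 10, 2, 9, 11, 8, 10, 11, 0, 2, 3, 10,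 11, 1, 2, 4, 10, 0, 2, 5, 4, 5, 7, 8, 10, 7, 8, 1, 2, 6, 7, 9, 10, 0, 2, 5, 7, 9, 10, 10, 0, 2, 6, 8, 9, 11, 8, 9, 10, 8, 11, 0, 1, 2, 2, 3, 5, 6, 8, 3, 5, 7, 8, 3, 5, 6, 5, 8, 9, 2, 11, 0, 3, 11, 2, 4, 2, 3, 11, 6, 9, 11, 4, 11, 2, 3, 4, 3, 5, 9, 10, 2, 2, 9, 2, 5, 7, 7, 9, 6, 3, 9, 0, 2, 4, 10, 8, 11, 2, 4, 2, 3, 6, 7, 9, 10, 11, 5, 6, 9, 10, 11, 6, 5, 11, 4, 1, 5, 7, 8, 2, 9, 10, 8, 7, 8, 7, 5, 1, 8, 3, 5, 1, 1, 4, 3, 1, 4, 5, 8, 5, 7, 4, 11, 1, 3, 11, 8, 5, 2, 1, 9, 7, 9, 1, 8, 9, 10, 5, 1, 9, 1, 3, 4, 6, 4, 10, 8, 9, 0, 10, 11, 11, 0, 3, 11, 5, 4, 3, 1, 3, 11, 8, 5, 10, 2, 5, 1, 7, 10, 0, 0, 2, 2, 8, 4]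

theorem cert13 : PCert 378 tb13 lgf13 sgf13 codes13 where
  pos := by norm_num
  normv := by decide +kernel
  act := by decide +kernel
  codes_eq := by decide +kernel
  nodup := by decide +kernel

theorem trans13 : ∀ i : Fin 378, ∃ g : ↥G23, piP cert13 g ⟨0, cert13.pos⟩ = i :=
  piP_trans cert13 par13 gen13 (by decide +kernel)

end Cfsg.Agent.Helper37.G3
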