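import Mathlib
import Cfsg.Agent.Lib.Helper37.G3G
import Cfsg.Agent.Lib.Helper37.G3P13a
import Cfsg.Agent.Lib.Helper37.G3P13b

/-!
# `G_2(3)` has no elements of order `13 s`
-/

set_option autoImplicit false
set_option maxRecDepth 1000000

namespace Cfsg.Agent.Helper37.G3

open Matrix Cfsg.Lie Equiv Cfsg.Agent.Helper37.Exc

/-- Where the elements of order 13 are in the table. -/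
def ysI13 : List ℕ := [41, 43, 45, 47, 49, 51, 53, 55, 57, 59, 61, 63, 65, 67, 69, 71, 73, 75, 77, 79, 81, 83, 85, 87, 89, 91, 93, 95]

/-- The elements of order 13. -/
def Y13 (j : ℕ) : List ℕ := T13.getD (ysI13.getD j 0) []

/-- The element of the normalizer. -/
def N13 : List ℕ := T13.getD 98 []

/-- The test vector. -/
def u13 : List ℕ := [1, 2, 1, 1, 2, 2, 0, 0, 2, 1, 2, 2, 0, 0]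

/-- The orbits of the test vector. -/
def Ov13 : List (List (List ℕ)) :=
  [[[1, 2, 1, 1, 2, 2, 0, 0, 2, 1, 2, 2, 0, 0], [1, 1, 1, 1, 0, 0, 1, 2, 0, 2, 1, 0, 1, 2], [2, 2, 1, 1, 2, 2, 2, 0, 2, 1, 1, 1, 2, 1], [1, 2, 0, 0, 2, 0, 2, 0, 2, 2, 0, 0, 0, 0], [0, 2, 2, 2, 0, 0, 2, 0, 2, 2, 1, 0, 0, 0], [2, 0, 0, 0, 0, 0, 2, 1, 1, 0, 2, 2, 2, 1], [1, 1, 2, 2, 2, 2, 0, 2, 0, 0, 1, 2, 2, 1], [0, 0, 1, 1, 1, 0, 2, 1, 1, 0, 1, 0, 1, 2], [2, 1, 0, 0, 1, 1, 2, 2, 0, 2, 0, 1, 2, 1], [0, 2, 0, 0, 2, 0, 0, 0, 2, 0, 0, 0, 2, 1], [0, 0, 1, 1, 1, 0, 0, 1, 1, 0, 2, 0, 2, 1], [0, 0, 1, 1, 0, 0, 0, 1, 1, 2, 2, 2, 0, 0], [0, 2, 2, 2, 1, 2, 0, 0, 2, 1, 1, 0, 1, 2]],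
  [[1, 2, 1, 1, 2, 2, 0, 0, 2, 1, 2, 2, 0, 0], [1, 2, 2, 2, 1, 1, 2, 0, 1, 2, 0, 1, 1, 2], [2, 2, 2, 2, 0, 0, 0, 0, 1, 0, 2, 2, 0, 0], [1, 2, 0, 0, 0, 1, 0, 0, 2, 0, 0, 1, 2, 1], [2, 2, 0, 0, 1, 0, 0, 0, 0, 0, 2, 1, 2, 1], [2, 2, 2, 2, 2, 1, 2, 0, 1, 0, 2, 2, 2, 1], [1, 2, 1, 1, 0, 1, 1, 0, 0, 1, 1, 0, 1, 2], [0, 2, 0, 0, 0, 1, 2, 0, 1, 2, 2, 0, 2, 1], [2, 2, 1, 1, 0, 1, 2, 0, 2, 2, 2, 1, 2, 1], [1, 2, 0, 0, 1, 1, 2, 0, 2, 1, 0, 2, 0, 0], [2, 2, 2, 2, 2, 0, 0, 0, 2, 2, 1, 0, 0, 0], [2, 2, 2, 2, 2, 0, 1, 0, 0, 1, 1, 0, 2, 1], [1, 2, 2, 2, 1, 2, 1, 0, 2, 2, 2, 1, 1, 2]],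
  [[1, 2, 1, 1, 2, 2, 0, 0, 2, 1, 2, 2, 0, 0], [2, 2, 2, 1, 0, 1, 1, 2, 0, 0, 1, 2, 2, 2], [2, 1, 1, 0, 0, 2, 0, 0, 1, 2, 2, 0, 2, 0], [1, 0, 1, 1, 1, 2, 1, 0, 1, 0, 2, 1, 2, 2], [1, 1, 0, 2, 0, 1, 2, 0, 1, 2, 0, 0, 0, 0], [1, 0, 1, 0, 2, 0, 0, 1, 1, 0, 1, 0, 0, 0], [2, 0, 1, 1, 1, 2, 1, 1, 2, 0, 1, 2, 1, 1], [1, 2, 0, 1, 1, 0, 1, 0, 1, 2, 0, 2, 0, 2], [1, 0, 1, 2, 2, 2, 2, 0, 1, 1, 2, 0, 2, 0], [1, 2, 1, 0, 0, 1, 1, 0, 1, 2, 1, 0, 2, 0], [1, 1, 2, 1, 0, 2, 0, 2, 1, 1, 1, 2, 0, 2], [1, 1, 1, 2, 1, 1, 1, 0, 0, 1, 1, 1, 1, 1], [2, 0, 0, 1, 2, 1, 0, 2, 2, 2, 0, 1, 0, 0]],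
  [[1, 2, 1, 1, 2, 2, 0, 0, 2, 1, 2, 2, 0, 0], [2, 2, 0, 0, 1, 0, 0, 0, 2, 1, 2, 0, 0, 0], [0, 2, 2, 2, 1, 2, 2, 0, 1, 2, 0, 0, 2, 1], [0, 0, 0, 2, 0, 0, 0, 1, 0, 1, 2, 2, 2, 1], [0, 1, 2, 0, 1, 2, 1, 2, 1, 0, 1, 2, 1, 2], [0, 0, 1, 0, 2, 2, 1, 1, 0, 2, 1, 1, 2, 1], [2, 1, 0, 1, 1, 0, 1, 2, 2, 0, 0, 1, 2, 1], [1, 2, 0, 0, 2, 2, 0, 0, 1, 2, 2, 1, 2, 1], [0, 0, 1, 0, 0, 0, 0, 1, 1, 2, 0, 0, 0, 0], [2, 0, 1, 0, 0, 2, 0, 1, 2, 1, 0, 1, 1, 2], [0, 2, 2, 2, 0, 0, 0, 0, 2, 0, 0, 1, 0, 0], [2, 2, 1, 1, 0, 0, 1, 0, 0, 1, 1, 2, 1, 2], [1, 1, 1, 2, 1, 1, 1, 2, 2, 1, 0, 0, 2, 1]],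
  [[1, 2, 1, 1, 2, 2, 0, 0, 2, 1, 2, 2, 0, 0], [2, 2, 1, 0, 2, 1, 2, 0, 1, 2, 1, 1, 2, 0], [0, 1, 1, 0, 2, 2, 1, 0, 2, 2, 2, 0, 1, 0], [2, 0, 0, 0, 2, 2, 1, 2, 2, 0, 1, 1, 0, 0], [2, 0, 1, 0, 2, 2, 1, 1, 1, 2, 2, 0, 2, 0], [1, 2, 2, 1, 2, 0, 0, 2, 2, 0, 0, 0, 0, 1], [2, 1, 2, 1, 0, 1, 2, 0, 2, 2, 2, 2, 1, 1], [1, 2, 0, 0, 1, 1, 1, 2, 0, 2, 0, 0, 1, 2], [1, 1, 2, 1, 0, 0, 2, 0, 2, 2, 2, 0, 0, 0], [2, 1, 2, 1, 2, 1, 2, 2, 1, 2, 2, 1, 0, 2], [0, 0, 1, 1, 0, 0, 0, 1, 2, 2, 1, 0, 1, 1], [1, 1, 0, 0, 1, 0, 0, 2, 0, 2, 0, 1, 2, 1], [0, 0, 1, 1, 1, 2, 2, 0, 2, 2, 1, 0, 1, 0]],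
  [[1, 2, 1, 1, 2, 2, 0, 0, 2, 1, 2, 2, 0, 0], [1, 1, 2, 1, 1, 2, 0, 2, 2, 0, 2, 2, 1, 2], [2, 0, 1, 2, 2, 0, 2, 1, 0, 1, 2, 1, 0, 1], [2, 2, 1, 1, 2, 0, 2, 0, 0, 0, 2, 0, 1, 2], [2, 0, 1, 0, 2, 1, 1, 1, 0, 0, 0, 2, 2, 1], [0, 2, 0, 0, 1, 2, 2, 0, 1, 0, 2, 2, 0, 1], [2, 1, 2, 2, 1, 1, 0, 2, 2, 2, 0, 2, 0, 1], [2, 1, 0, 0, 2, 2, 2, 2, 0, 0, 0, 0, 2, 2], [1, 1, 2, 0, 2, 2, 1, 2, 1, 1, 2, 0, 2, 2], [1, 0, 1, 1, 0, 0, 0, 1, 1, 1, 1, 0, 1, 2], [1, 1, 0, 2, 1, 0, 2, 2, 1, 1, 1, 2, 2, 1], [2, 1, 0, 1, 2, 0, 2, 2, 2, 2, 0, 1, 2, 2], [1, 2, 1, 1, 0, 2, 0, 0, 2, 2, 2, 0, 2, 1]],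
  [[1, 2, 1, 1, 2, 2, 0, 0, 2, 1, 2, 2, 0, 0], [0, 0, 2, 1, 0, 1, 1, 1, 0, 2, 1, 1, 0, 2], [0, 1, 1, 2, 0, 2, 2, 0, 2, 2, 2, 0, 0, 0], [1, 0, 0, 2, 0, 0, 0, 1, 0, 2, 1, 2, 2, 1], [2, 1, 2, 0, 2, 2, 0, 2, 2, 0, 1, 1, 0, 1], [1, 1, 0, 2, 1, 0, 1, 1, 1, 1, 0, 1, 1, 2], [2, 0, 2, 0, 1, 0, 2, 0, 2, 1, 1, 2, 2, 2], [1, 2, 0, 0, 0, 2, 2, 0, 0, 0, 0, 0, 0, 2], [0, 1, 0, 0, 1, 0, 0, 0, 0, 1, 0, 0, 0, 2], [2, 0, 2, 0, 1, 1, 2, 0, 0, 2, 2, 0, 1, 2], [1, 2, 0, 0, 1, 0, 0, 1, 0, 2, 0, 1, 2, 2], [1, 2, 2, 1, 2, 1, 0, 2, 2, 1, 2, 1, 0, 1], [2, 0, 0, 0, 2, 1, 2, 1, 1, 2, 0, 1, 1, 1]],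
  [[1, 2, 1, 1, 2, 2, 0, 0, 2, 1, 2, 2, 0, 0], [2, 0, 1, 1, 2, 1, 2, 2, 1, 0, 2, 2, 2, 0], [2, 1, 2, 1, 0, 2, 0, 0, 1, 0, 2, 1, 1, 1], [0, 0, 1, 1, 1, 0, 1, 1, 2, 2, 0, 2, 1, 1], [2, 2, 0, 0, 1, 1, 0, 2, 0, 2, 0, 2, 1, 1], [0, 0, 1, 0, 2, 2, 0, 1, 1, 2, 2, 2, 2, 0], [1, 1, 2, 1, 2, 1, 1, 0, 1, 1, 2, 0, 0, 0], [0, 2, 1, 0, 1, 2, 1, 2, 2, 2, 2, 1, 2, 2], [2, 2, 1, 0, 2, 1, 1, 0, 1, 1, 2, 0, 2, 0], [2, 0, 0, 0, 1, 0, 0, 2, 2, 1, 1, 0, 0, 1], [1, 0, 1, 1, 1, 2, 1, 0, 1, 2, 2, 1, 0, 1], [0, 1, 1, 0, 1, 0, 1, 0, 1, 0, 1, 0, 2, 0], [1, 1, 0, 0, 0, 1, 1, 2, 0, 0, 0, 2, 2, 2]],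
  [[1, 2, 1, 1, 2, 2, 0, 0, 2, 1, 2, 2, 0, 0], [0, 2, 2, 2, 0, 1, 0, 2, 1, 1, 2, 1, 1, 1], [1, 0, 1, 1, 2, 1, 2, 0, 2, 2, 2, 2, 1, 0], [1, 0, 1, 2, 1, 1, 0, 1, 2, 2, 1, 0, 1, 0], [1, 0, 1, 0, 0, 1, 1, 1, 0, 0, 0, 2, 1, 1], [0, 1, 1, 0, 1, 1, 0, 0, 1, 2, 1, 0, 0, 0], [1, 1, 2, 2, 1, 2, 0, 2, 2, 0, 0, 1, 0, 1], [2, 2, 1, 0, 2, 1, 0, 0, 2, 1, 2, 1, 1, 0], [0, 2, 0, 1, 1, 0, 1, 0, 1, 2, 2, 2, 0, 2], [0, 1, 0, 0, 1, 1, 0, 1, 0, 0, 1, 2, 0, 1], [0, 2, 2, 0, 0, 1, 2, 1, 2, 2, 1, 1, 0, 2], [1, 1, 0, 1, 1, 0, 1, 1, 2, 2, 1, 1, 1, 0], [0, 1, 0, 2, 1, 0, 2, 0, 1, 2, 0, 0, 0, 1]],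
  [[1, 2, 1, 1, 2, 2, 0, 0, 2, 1, 2, 2, 0, 0], [1, 0, 1, 0, 1, 2, 0, 1, 0, 2, 0, 2, 0, 1], [2, 2, 2, 0, 2, 1, 2, 1, 2, 0, 2, 2, 0, 2], [1, 0, 0, 2, 1, 1, 1, 1, 2, 0, 2, 0, 1, 1], [1, 1, 2, 1, 2, 0, 0, 2, 1, 0, 1, 0, 2, 1], [1, 0, 1, 1, 1, 1, 0, 1, 2, 0, 2, 0, 0, 2], [0, 1, 0, 2, 0, 0, 2, 1, 0, 1, 2, 1, 0, 1], [0, 1, 2, 1, 1, 2, 2, 0, 2, 1, 1, 0, 0, 0], [2, 0, 1, 1, 2, 0, 0, 0, 1, 0, 1, 2, 2, 2], [0, 2, 0, 2, 2, 1, 2, 1, 2, 1, 1, 2, 2, 2], [1, 1, 1, 0, 1, 2, 2, 2, 2, 0, 0, 0, 0, 2], [2, 0, 2, 0, 0, 1, 1, 0, 0, 0, 0, 2, 1, 2], [1, 2, 2, 1, 2, 2, 0, 2, 2, 1, 1, 2, 1, 2]],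
  [[1, 2, 1, 1, 2, 2, 0, 0, 2, 1, 2, 2, 0, 0], [1, 1, 0, 2, 0, 0, 1, 2, 1, 0, 1, 1, 2, 0], [1, 1, 1, 2, 1, 2, 0, 0, 2, 2, 0, 1, 0, 0], [1, 2, 0, 2, 1, 1, 2, 2, 2, 1, 0, 1, 1, 0], [1, 0, 0, 2, 2, 2, 2, 2, 2, 0, 1, 0, 0, 0], [1, 0, 2, 0, 1, 0, 1, 0, 1, 0, 0, 1, 1, 2], [0, 0, 2, 0, 0, 1, 2, 1, 2, 0, 2, 2, 2, 1], [0, 0, 1, 0, 2, 2, 2, 2, 2, 2, 1, 0, 1, 0], [0, 1, 2, 1, 0, 0, 0, 0, 1, 1, 2, 0, 1, 1], [0, 0, 1, 2, 1, 2, 2, 1, 1, 2, 1, 0, 1, 1], [0, 0, 1, 0, 0, 0, 1, 1, 1, 1, 1, 2, 2, 0], [2, 0, 1, 1, 0, 1, 2, 0, 1, 0, 0, 0, 0, 1], [2, 0, 1, 1, 2, 0, 0, 1, 2, 0, 1, 2, 0, 2]],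
  [[1, 2, 1, 1, 2, 2, 0, 0, 2, 1, 2, 2, 0, 0], [2, 2, 2, 2, 0, 1, 1, 1, 1, 0, 2, 1, 2, 2], [1, 0, 1, 1, 0, 1, 2, 1, 2, 1, 0, 1, 0, 2], [1, 0, 1, 1, 1, 0, 1, 1, 0, 0, 1, 1, 2, 2], [0, 0, 1, 2, 2, 2, 1, 0, 1, 2, 1, 1, 0, 1], [1, 1, 0, 0, 1, 2, 0, 1, 0, 2, 0, 2, 0, 1], [1, 1, 2, 0, 1, 2, 1, 2, 1, 2, 1, 2, 2, 2], [1, 2, 0, 1, 1, 1, 2, 1, 0, 2, 2, 1, 0, 2], [0, 2, 2, 1, 0, 2, 1, 2, 0, 2, 1, 1, 2, 2], [1, 1, 1, 0, 2, 0, 2, 0, 1, 1, 2, 0, 0, 0], [2, 2, 0, 0, 1, 0, 0, 2, 0, 0, 1, 1, 1, 2], [1, 1, 0, 2, 2, 0, 1, 2, 1, 0, 1, 0, 2, 0], [2, 1, 1, 1, 0, 2, 0, 2, 0, 1, 1, 2, 1, 2]],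
  [[1, 2, 1, 1, 2, 2, 0, 0, 2, 1, 2, 2, 0, 0], [2, 1, 2, 1, 0, 0, 2, 2, 1, 0, 0, 0, 2, 1], [1, 2, 2, 2, 2, 0, 2, 0, 0, 0, 2, 2, 2, 1], [1, 2, 2, 2, 0, 1, 1, 0, 1, 0, 1, 1, 1, 2], [1, 2, 0, 0, 2, 2, 0, 0, 0, 1, 1, 1, 2, 1], [1, 0, 1, 2, 0, 2, 0, 1, 2, 1, 0, 0, 2, 1], [0, 1, 0, 2, 2, 2, 2, 2, 1, 0, 2, 0, 2, 1], [0, 0, 1, 2, 1, 0, 1, 1, 1, 1, 0, 2, 0, 0], [2, 1, 2, 1, 2, 0, 1, 2, 2, 2, 0, 2, 1, 2], [0, 2, 0, 0, 1, 0, 0, 0, 2, 2, 0, 2, 0, 0], [1, 0, 0, 1, 0, 2, 0, 1, 0, 0, 1, 2, 1, 2], [2, 0, 2, 0, 2, 0, 2, 1, 2, 0, 0, 2, 2, 1], [0, 2, 2, 2, 0, 0, 2, 0, 2, 1, 2, 0, 0, 0]],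
  [[1, 2, 1, 1, 2, 2, 0, 0, 2, 1, 2, 2, 0, 0], [2, 1, 2, 1, 1, 0, 1, 2, 2, 2, 1, 1, 1, 2], [0, 0, 1, 1, 0, 2, 2, 2, 1, 0, 1, 2, 2, 0], [0, 1, 2, 1, 1, 1, 2, 0, 1, 2, 0, 1, 2, 2], [2, 0, 0, 0, 1, 2, 2, 1, 1, 2, 0, 0, 2, 1], [2, 1, 2, 0, 1, 1, 1, 1, 2, 1, 1, 0, 1, 2], [0, 2, 0, 1, 1, 0, 0, 0, 1, 2, 2, 0, 0, 1], [1, 1, 0, 0, 0, 1, 0, 0, 2, 0, 0, 1, 1, 1], [1, 0, 2, 0, 0, 1, 0, 0, 0, 0, 2, 1, 1, 2], [0, 0, 1, 0, 1, 2, 0, 1, 1, 2, 2, 2, 0, 0], [0, 0, 0, 1, 1, 0, 1, 2, 2, 1, 0, 0, 0, 1], [1, 0, 2, 0, 0, 0, 2, 0, 1, 0, 1, 1, 1, 2], [1, 1, 1, 0, 1, 0, 2, 0, 2, 1, 2, 2, 1, 0]],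
  [[1, 2, 1, 1, 2, 2, 0, 0, 2, 1, 2, 2, 0, 0], [2, 1, 2, 1, 1, 2, 2, 0, 2, 2, 0, 0, 0, 0], [0, 2, 0, 1, 2, 2, 2, 1, 0, 1, 1, 2, 0, 2], [2, 2, 1, 0, 0, 0, 1, 0, 1, 1, 1, 1, 2, 0], [0, 1, 2, 1, 1, 2, 2, 2, 1, 2, 1, 0, 0, 2], [2, 2, 2, 2, 1, 0, 0, 0, 1, 1, 1, 0, 0, 0], [0, 1, 1, 0, 1, 1, 2, 0, 1, 1, 2, 0, 0, 0], [2, 2, 2, 1, 2, 0, 1, 2, 2, 1, 2, 2, 0, 1], [1, 0, 1, 1, 0, 0, 2, 1, 1, 0, 0, 0, 1, 2], [0, 1, 0, 2, 2, 2, 0, 2, 1, 0, 0, 2, 2, 0], [1, 0, 1, 0, 0, 2, 1, 1, 1, 0, 1, 0, 2, 0], [0, 2, 0, 1, 1, 2, 1, 2, 1, 0, 1, 1, 1, 2], [0, 1, 0, 2, 2, 0, 2, 1, 0, 2, 2, 0, 0, 1]],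
  [[1, 2, 1, 1, 2, 2, 0, 0, 2, 1, 2, 2, 0, 0], [0, 2, 1, 2, 1, 2, 2, 2, 0, 2, 2, 2, 1, 1], [0, 0, 0, 2, 0, 2, 1, 2, 2, 1, 1, 1, 0, 2], [1, 2, 2, 2, 2, 0, 0, 2, 1, 2, 2, 2, 2, 0], [2, 2, 2, 1, 0, 0, 2, 1, 2, 2, 2, 2, 1, 0], [0, 2, 0, 0, 1, 0, 2, 0, 1, 1, 0, 1, 0, 1], [1, 2, 0, 1, 1, 0, 1, 0, 1, 2, 0, 0, 0, 1], [0, 1, 0, 1, 0, 0, 2, 2, 2, 0, 1, 1, 2, 2], [1, 0, 2, 0, 0, 1, 0, 0, 0, 0, 1, 1, 1, 2], [1, 0, 1, 0, 1, 0, 1, 1, 1, 2, 0, 2, 0, 0], [0, 1, 0, 1, 0, 2, 2, 2, 2, 0, 2, 2, 2, 1], [0, 2, 0, 1, 0, 2, 2, 1, 0, 2, 1, 1, 0, 2], [1, 2, 0, 0, 2, 1, 1, 1, 0, 2, 0, 2, 0, 1]],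
  [[1, 2, 1, 1, 2, 2, 0, 0, 2, 1, 2, 2, 0, 0], [0, 1, 2, 1, 0, 0, 2, 0, 2, 0, 1, 1, 1, 1], [1, 1, 2, 2, 0, 0, 2, 2, 2, 0, 0, 0, 0, 1], [1, 2, 1, 0, 1, 1, 0, 2, 2, 1, 0, 1, 2, 2], [2, 2, 2, 0, 0, 0, 0, 2, 2, 0, 2, 1, 1, 1], [2, 0, 2, 0, 1, 2, 0, 0, 0, 0, 0, 0, 2, 2], [1, 0, 1, 1, 1, 0, 2, 0, 1, 2, 0, 0, 0, 1], [0, 0, 0, 2, 2, 1, 2, 1, 2, 2, 0, 2, 1, 1], [0, 1, 0, 2, 0, 0, 0, 0, 1, 2, 0, 0, 0, 0], [2, 1, 2, 0, 2, 0, 1, 2, 1, 0, 2, 2, 1, 2], [1, 2, 2, 2, 2, 1, 2, 2, 2, 0, 1, 1, 0, 1], [1, 2, 0, 1, 1, 2, 1, 0, 1, 0, 2, 2, 0, 1], [2, 1, 0, 0, 1, 0, 0, 1, 0, 0, 2, 0, 1, 2]],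
  [[1, 2, 1, 1, 2, 2, 0, 0, 2, 1, 2, 2, 0, 0], [1, 2, 0, 0, 1, 0, 0, 0, 2, 1, 2, 0, 0, 0], [0, 1, 2, 2, 2, 2, 2, 2, 0, 0, 2, 0, 2, 1], [0, 0, 1, 0, 1, 1, 0, 1, 2, 1, 0, 2, 1, 2], [1, 2, 2, 2, 1, 1, 2, 0, 2, 1, 2, 0, 0, 0], [1, 0, 1, 1, 1, 1, 1, 1, 1, 1, 1, 1, 1, 2], [0, 2, 0, 1, 1, 0, 0, 0, 1, 2, 2, 0, 0, 0], [1, 1, 0, 1, 0, 2, 0, 2, 2, 2, 0, 1, 2, 1], [0, 1, 0, 0, 2, 2, 2, 2, 0, 0, 0, 2, 2, 1], [1, 1, 2, 1, 2, 0, 1, 2, 1, 0, 1, 2, 2, 1], [0, 0, 0, 1, 1, 1, 0, 1, 0, 2, 2, 1, 1, 2], [0, 1, 0, 2, 0, 1, 0, 2, 1, 0, 2, 1, 2, 1], [2, 1, 1, 2, 0, 2, 2, 2, 2, 2, 1, 1, 2, 1]],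
  [[1, 2, 1, 1, 2, 2, 0, 0, 2, 1, 2, 2, 0, 0], [1, 0, 0, 1, 0, 0, 2, 2, 2, 2, 0, 2, 0, 1], [2, 2, 2, 1, 2, 0, 0, 2, 2, 2, 1, 2, 1, 2], [2, 2, 2, 2, 0, 0, 0, 0, 1, 2, 0, 2, 2, 1], [1, 0, 1, 0, 1, 1, 1, 1, 1, 2, 0, 0, 0, 0], [0, 1, 2, 1, 0, 0, 2, 0, 1, 0, 0, 0, 1, 1], [2, 1, 0, 0, 1, 0, 0, 1, 0, 2, 2, 1, 1, 2], [2, 2, 1, 0, 2, 0, 1, 0, 2, 0, 2, 1, 1, 0], [2, 2, 0, 1, 1, 0, 1, 1, 1, 2, 1, 0, 2, 0], [2, 1, 0, 0, 2, 0, 0, 2, 0, 2, 2, 1, 2, 1], [2, 1, 2, 2, 2, 2, 1, 2, 0, 0, 1, 0, 2, 1], [0, 0, 1, 1, 0, 0, 1, 1, 0, 0, 1, 1, 2, 2], [0, 2, 1, 1, 1, 2, 1, 2, 2, 2, 2, 1, 0, 2]],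
  [[1, 2, 1, 1, 2, 2, 0, 0, 2, 1, 2, 2, 0, 0], [1, 1, 0, 2, 0, 1, 0, 2, 1, 2, 1, 1, 2, 0], [2, 0, 1, 2, 2, 1, 1, 1, 2, 0, 1, 2, 2, 1], [0, 2, 2, 2, 0, 0, 0, 2, 2, 0, 2, 1, 0, 1], [0, 0, 2, 0, 1, 0, 0, 0, 0, 1, 0, 0, 2, 2], [2, 0, 0, 2, 0, 1, 1, 2, 2, 0, 0, 2, 0, 0], [1, 0, 2, 0, 1, 2, 2, 0, 1, 0, 2, 2, 1, 2], [2, 1, 2, 2, 0, 0, 0, 2, 2, 1, 2, 0, 0, 1], [0, 0, 1, 0, 0, 1, 0, 1, 0, 0, 1, 1, 1, 1], [0, 2, 0, 2, 0, 1, 1, 2, 2, 0, 2, 0, 1, 0], [0, 1, 1, 2, 2, 2, 0, 0, 2, 1, 1, 1, 0, 0], [2, 0, 1, 2, 1, 0, 2, 0, 1, 0, 0, 2, 2, 0], [1, 0, 1, 1, 0, 1, 1, 0, 2, 0, 2, 0, 1, 0]],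
  [[1, 2, 1, 1, 2, 2, 0, 0, 2, 1, 2, 2, 0, 0], [0, 2, 1, 1, 0, 2, 0, 0, 2, 1, 2, 0, 0, 0], [2, 2, 1, 1, 2, 1, 0, 0, 2, 2, 0, 1, 0, 0], [1, 2, 1, 1, 1, 0, 1, 0, 2, 2, 0, 0, 0, 0], [2, 2, 1, 1, 1, 1, 0, 0, 2, 1, 0, 1, 0, 0], [0, 2, 1, 1, 0, 0, 1, 0, 2, 0, 1, 1, 0, 0], [0, 2, 1, 1, 2, 0, 0, 0, 2, 2, 0, 0, 0, 0], [2, 2, 1, 1, 1, 2, 0, 0, 2, 1, 1, 1, 0, 0], [0, 2, 1, 1, 0, 0, 0, 0, 2, 2, 1, 0, 0, 0], [2, 2, 1, 1, 0, 0, 1, 0, 2, 0, 0, 2, 0, 0], [2, 2, 1, 1, 2, 1, 2, 0, 2, 1, 2, 0, 0, 0], [2, 2, 1, 1, 1, 0, 2, 0, 2, 2, 0, 0, 0, 0], [1, 2, 1, 1, 2, 1, 1, 0, 2, 2, 1, 0, 0, 0]],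
  [[1, 2, 1, 1, 2, 2, 0, 0, 2, 1, 2, 2, 0, 0], [2, 0, 1, 0, 2, 1, 1, 1, 2, 0, 1, 1, 1, 2], [1, 1, 1, 2, 1, 0, 1, 0, 2, 0, 2, 1, 2, 2], [2, 0, 0, 2, 2, 2, 1, 1, 0, 0, 0, 0, 2, 1], [1, 1, 1, 2, 0, 2, 2, 2, 2, 0, 1, 2, 2, 1], [1, 2, 1, 1, 1, 0, 2, 2, 2, 1, 0, 1, 0, 2], [2, 2, 2, 2, 1, 2, 2, 2, 1, 2, 1, 1, 2, 0], [2, 2, 2, 2, 1, 1, 1, 0, 1, 2, 0, 0, 2, 1], [1, 0, 1, 0, 1, 2, 0, 2, 2, 0, 1, 1, 1, 0], [1, 2, 0, 0, 2, 0, 1, 2, 0, 2, 0, 2, 1, 1], [1, 2, 2, 2, 1, 0, 2, 1, 1, 1, 2, 2, 2, 2], [1, 1, 0, 1, 0, 2, 1, 1, 0, 0, 1, 0, 0, 2], [1, 1, 2, 0, 2, 0, 1, 2, 1, 1, 1, 2, 1, 2]],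
  [[1, 2, 1, 1, 2, 2, 0, 0, 2, 1, 2, 2, 0, 0], [2, 2, 2, 2, 1, 2, 2, 0, 2, 1, 2, 1, 1, 2], [1, 0, 1, 1, 0, 0, 0, 1, 1, 2, 0, 0, 0, 0], [1, 1, 0, 2, 1, 1, 2, 0, 1, 1, 0, 1, 0, 1], [0, 0, 2, 0, 2, 2, 2, 0, 0, 2, 2, 2, 0, 2], [2, 1, 2, 1, 1, 0, 0, 0, 1, 1, 2, 0, 2, 2], [1, 2, 0, 1, 1, 2, 2, 2, 1, 2, 0, 1, 1, 1], [2, 0, 0, 0, 2, 0, 0, 1, 1, 1, 1, 1, 2, 1], [1, 0, 1, 0, 0, 2, 1, 2, 2, 2, 2, 0, 1, 0], [1, 2, 0, 2, 1, 0, 1, 1, 0, 1, 2, 1, 0, 1], [1, 2, 0, 0, 2, 2, 1, 0, 2, 1, 1, 2, 2, 1], [0, 1, 0, 0, 1, 2, 1, 2, 0, 2, 0, 2, 2, 1], [0, 2, 2, 0, 2, 1, 0, 2, 1, 1, 1, 2, 0, 2]],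
  [[1, 2, 1, 1, 2, 2, 0, 0, 2, 1, 2, 2, 0, 0], [0, 0, 1, 1, 0, 1, 2, 0, 1, 2, 2, 1, 2, 2], [2, 1, 0, 1, 1, 0, 2, 2, 2, 1, 2, 1, 2, 1], [0, 1, 0, 0, 1, 0, 0, 1, 0, 0, 0, 0, 0, 1], [0, 1, 0, 1, 2, 2, 0, 1, 2, 0, 2, 2, 1, 0], [1, 0, 0, 1, 1, 1, 2, 2, 2, 1, 0, 2, 0, 0], [2, 1, 1, 0, 0, 2, 2, 0, 1, 1, 2, 2, 2, 0], [1, 2, 1, 0, 2, 1, 1, 0, 2, 2, 1, 0, 1, 0], [2, 1, 0, 0, 1, 0, 0, 0, 2, 1, 0, 1, 0, 0], [0, 2, 1, 0, 2, 2, 0, 0, 1, 1, 2, 2, 2, 0], [2, 0, 1, 1, 0, 0, 0, 1, 2, 2, 1, 0, 1, 1], [2, 2, 1, 1, 0, 1, 2, 0, 2, 0, 1, 0, 2, 1], [0, 2, 0, 0, 1, 0, 0, 0, 0, 2, 1, 1, 0, 2]],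
  [[1, 2, 1, 1, 2, 2, 0, 0, 2, 1, 2, 2, 0, 0], [1, 0, 0, 0, 1, 1, 1, 2, 2, 0, 0, 1, 0, 1], [2, 1, 0, 0, 1, 2, 1, 0, 1, 2, 0, 2, 0, 1], [0, 0, 1, 1, 1, 1, 1, 1, 1, 0, 2, 2, 2, 1], [0, 1, 1, 1, 2, 0, 2, 2, 0, 2, 0, 1, 1, 2], [1, 2, 2, 2, 2, 1, 1, 2, 1, 2, 1, 0, 2, 0], [1, 0, 1, 1, 2, 2, 0, 1, 1, 1, 1, 2, 1, 2], [2, 0, 1, 1, 1, 0, 0, 1, 1, 0, 2, 0, 0, 0], [0, 2, 1, 1, 0, 2, 2, 0, 2, 2, 1, 1, 2, 1], [1, 2, 0, 0, 2, 0, 0, 1, 0, 1, 2, 0, 2, 2], [2, 1, 2, 2, 2, 0, 2, 1, 2, 1, 2, 2, 0, 2], [0, 2, 0, 0, 1, 0, 0, 1, 0, 2, 0, 2, 0, 1], [1, 2, 2, 2, 1, 0, 2, 2, 1, 0, 2, 0, 1, 1]],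
  [[1, 2, 1, 1, 2, 2, 0, 0, 2, 1, 2, 2, 0, 0], [2, 0, 1, 0, 0, 2, 1, 1, 1, 2, 2, 2, 0, 0], [0, 0, 1, 0, 1, 1, 1, 1, 0, 2, 1, 0, 0, 1], [0, 2, 1, 1, 2, 0, 1, 2, 2, 1, 1, 1, 0, 2], [0, 1, 2, 1, 0, 1, 2, 1, 1, 2, 1, 2, 2, 0], [2, 1, 2, 0, 1, 2, 2, 2, 1, 2, 2, 1, 2, 2], [1, 1, 2, 1, 0, 2, 0, 0, 2, 0, 2, 0, 1, 1], [1, 1, 0, 2, 1, 2, 2, 0, 1, 2, 0, 1, 0, 2], [0, 0, 1, 2, 2, 2, 2, 1, 2, 2, 0, 1, 1, 0], [2, 1, 2, 2, 1, 2, 0, 2, 0, 0, 2, 2, 2, 1], [1, 1, 0, 1, 1, 1, 1, 2, 2, 2, 0, 2, 2, 1], [0, 1, 0, 0, 1, 0, 0, 0, 0, 1, 0, 1, 0, 2], [0, 1, 0, 1, 2, 2, 0, 1, 0, 0, 2, 0, 0, 2]],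
  [[1, 2, 1, 1, 2, 2, 0, 0, 2, 1, 2, 2, 0, 0], [0, 2, 0, 0, 1, 0, 1, 0, 0, 0, 1, 0, 2, 1], [2, 1, 1, 0, 1, 0, 2, 0, 2, 0, 0, 1, 1, 0], [2, 1, 0, 2, 0, 0, 0, 0, 1, 1, 1, 0, 0, 1], [2, 2, 2, 2, 1, 1, 1, 0, 1, 2, 0, 0, 1, 2], [0, 0, 2, 0, 2, 0, 0, 0, 1, 2, 1, 0, 0, 2], [0, 1, 2, 1, 0, 0, 2, 0, 0, 0, 2, 2, 2, 2], [1, 0, 1, 2, 1, 0, 2, 0, 1, 2, 1, 1, 2, 0], [1, 1, 2, 1, 2, 1, 1, 0, 1, 2, 1, 2, 2, 2], [1, 2, 2, 2, 2, 1, 1, 0, 2, 0, 2, 0, 1, 2], [0, 2, 0, 0, 2, 1, 0, 0, 2, 1, 1, 0, 2, 1], [0, 2, 0, 0, 1, 0, 1, 0, 1, 0, 2, 2, 2, 1], [0, 0, 2, 0, 0, 2, 2, 0, 0, 0, 0, 0, 0, 2]],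
  [[1, 2, 1, 1, 2, 2, 0, 0, 2, 1, 2, 2, 0, 0], [0, 0, 2, 0, 0, 2, 0, 0, 0, 0, 2, 1, 2, 2], [0, 2, 2, 2, 2, 2, 1, 2, 2, 0, 1, 1, 0, 1], [0, 1, 2, 1, 2, 2, 2, 2, 1, 1, 2, 1, 0, 2], [2, 2, 2, 1, 2, 2, 0, 2, 0, 1, 1, 2, 2, 2], [1, 1, 0, 0, 2, 0, 2, 2, 0, 0, 2, 0, 2, 2], [1, 1, 0, 1, 0, 0, 2, 1, 0, 0, 2, 0, 0, 2], [2, 2, 0, 0, 1, 2, 0, 1, 0, 0, 0, 1, 0, 1], [1, 0, 1, 1, 1, 2, 0, 1, 0, 2, 2, 0, 2, 2], [0, 1, 2, 1, 0, 1, 2, 0, 1, 2, 1, 0, 0, 0], [1, 2, 0, 2, 2, 2, 1, 2, 2, 0, 0, 1, 1, 0], [2, 0, 1, 0, 1, 1, 0, 1, 0, 1, 0, 0, 1, 1], [2, 0, 1, 1, 0, 2, 0, 0, 2, 0, 2, 1, 1, 0]]]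

/-- The action of the first element on the points, as a tree. -/
def lyT13 : BT ℕ := (BT.node (BT.node (BT.node (BT.node (BT.node (BT.node (BT.node (BT.node (BT.node (BT.leaf 0) (BT.leaf 143)) (BT.leaf 323)) (BT.node (BT.node (BT.leaf 207) (BT.leaf 151)) (BT.leaf 105))) (BT.node (BT.node (BT.node (BT.leaf 74) (BT.leaf 285)) (BT.leaf 140)) (BT.node (BT.node (BT.leaf 216) (BT.leaf 322)) (BT.leaf 154)))) (BT.node (BT.node (BT.node (BT.node (BT.leaf 108) (BT.leaf 351)) (BT.leaf 8)) (BT.node (BT.node (BT.leaf 309) (BT.leaf 268)) (BT.leaf 82))) (BT.node (BT.node (BT.node (BT.leaf 32) (BT.leaf 126)) (BT.leaf 49)) (BT.node (BT.node (BT.leaf 299) (BT.leaf 18)) (BT.leaf 144))))) (BT.node (BT.node (BT.node (BT.node (BT.node (BT.leaf 243) (BT.leaf 193)) (BT.leaf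 350)) (BT.node (BT.node (BT.leaf 29) (BT.leaf 196)) (BT.leaf 45))) (BT.node (BT.node (BT.node (BT.leaf 221) (BT.leaf 364)) (BT.leaf 75)) (BT.node (BT.node (BT.leaf 14) (BT.leaf 167)) (BT.leaf 206)))) (BT.node (BT.node (BT.node (BT.node (BT.leaf 376) (BT.leaf 1)) (BT.leaf 191)) (BT.node (BT.node (BT.leaf 148) (BT.leaf 258)) (BT.leaf 2))) (BT.node (BT.node (BT.node (BT.leaf 73) (BT.leaf 210)) (BT.leaf 293)) (BT.node (BT.node (BT.leaf 373) (BT.leaf 183)) (BT.leaf 367)))))) (BT.node (BT.node (BT.node (BT.node (BT.node (BT.node (BT.leaf 237) (BT.leaf 133)) (BT.leaf 283)) (BT.node (BT.node (BT.leaf 53) (BT.leaf 104)) (BT.leaf 316))) (BT.node (BT.node (BT.node (BT.leaf 69) (BT.leaf 197)) (BT.leaf 186)) (BT.node (BT.node (BT.leaf 90) (BT.leaf 169)) (BT.leaf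 156)))) (BT.node (BT.node (BT.node (BT.node (BT.leaf 59) (BT.leaf 252)) (BT.leaf 35)) (BT.node (BT.node (BT.leaf 259) (BT.leaf 290)) (BT.leaf 342))) (BT.node (BT.node (BT.node (BT.leaf 100) (BT.leaf 333)) (BT.leaf 39)) (BT.node (BT.node (BT.leaf 353) (BT.leaf 43)) (BT.leaf 119))))) (BT.node (BT.node (BT.node (BT.node (BT.node (BT.leaf 57) (BT.leaf 25)) (BT.leaf 173)) (BT.node (BT.node (BT.leaf 220) (BT.leaf 223)) (BT.leaf 301))) (BT.node (BT.node (BT.node (BT.leaf 205) (BT.leaf 64)) (BT.leaf 147)) (BT.node (BT.node (BT.leaf 178) (BT.leaf 294)) (BT.leaf 321)))) (BT.node (BT.node (BT.node (BT.node (BT.leaf 174) (BT.leaf 312)) (BT.leaf 27)) (BT.node (BT.node (BT.leaf 141) (BT.leaf 208)) (BT.leaf 150))) (BT.node (BT.node (BT.node (BT.leaf 13) (BT.leaf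 217)) (BT.leaf 162)) (BT.node (BT.leaf 260) (BT.leaf 145))))))) (BT.node (BT.node (BT.node (BT.node (BT.node (BT.node (BT.node (BT.leaf 204) (BT.leaf 343)) (BT.leaf 20)) (BT.node (BT.node (BT.leaf 58) (BT.leaf 38)) (BT.leaf 360))) (BT.node (BT.node (BT.node (BT.leaf 130) (BT.leaf 303)) (BT.leaf 219)) (BT.node (BT.node (BT.leaf 40) (BT.leaf 175)) (BT.leaf 158)))) (BT.node (BT.node (BT.node (BT.node (BT.leaf 288) (BT.leaf 127)) (BT.leaf 273)) (BT.node (BT.node (BT.leaf 371) (BT.leaf 91)) (BT.leaf 62))) (BT.node (BT.node (BT.node (BT.leaf 281) (BT.leaf 366)) (BT.leaf 65)) (BT.node (BT.node (BT.leaf 356) (BT.leaf 199)) (BT.leaf 41))))) (BT.node (BT.node (BT.node (BT.node (BT.node (BT.leaf 67) (BT.leaf 198)) (BT.leaf 36)) (BT.node (BT.node (BT.leaf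 214) (BT.leaf 164)) (BT.leaf 305))) (BT.node (BT.node (BT.node (BT.leaf 88) (BT.leaf 185)) (BT.leaf 184)) (BT.node (BT.node (BT.leaf 146) (BT.leaf 238)) (BT.leaf 102)))) (BT.node (BT.node (BT.node (BT.node (BT.leaf 34) (BT.leaf 359)) (BT.leaf 357)) (BT.node (BT.node (BT.leaf 84) (BT.leaf 21)) (BT.leaf 241))) (BT.node (BT.node (BT.node (BT.leaf 46) (BT.leaf 194)) (BT.leaf 233)) (BT.node (BT.leaf 286) (BT.leaf 125)))))) (BT.node (BT.node (BT.node (BT.node (BT.node (BT.node (BT.leaf 153) (BT.leaf 95)) (BT.leaf 307)) (BT.node (BT.node (BT.leaf 274) (BT.leaf 83)) (BT.leaf 332))) (BT.node (BT.node (BT.node (BT.leaf 180) (BT.leaf 188)) (BT.leaf 325)) (BT.node (BT.node (BT.leaf 244) (BT.leaf 315)) (BT.leaf 338)))) (BT.node (BT.node (BT.node (BT.node (BT.leaf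 297) (BT.leaf 284)) (BT.leaf 326)) (BT.node (BT.node (BT.leaf 157) (BT.leaf 265)) (BT.leaf 187))) (BT.node (BT.node (BT.node (BT.leaf 129) (BT.leaf 96)) (BT.leaf 346)) (BT.node (BT.node (BT.leaf 300) (BT.leaf 176)) (BT.leaf 330))))) (BT.node (BT.node (BT.node (BT.node (BT.node (BT.leaf 63) (BT.leaf 306)) (BT.leaf 109)) (BT.node (BT.node (BT.leaf 320) (BT.leaf 168)) (BT.leaf 87))) (BT.node (BT.node (BT.node (BT.leaf 374) (BT.leaf 242)) (BT.leaf 282)) (BT.node (BT.node (BT.leaf 227) (BT.leaf 112)) (BT.leaf 232)))) (BT.node (BT.node (BT.node (BT.node (BT.leaf 137) (BT.leaf 318)) (BT.leaf 99)) (BT.node (BT.node (BT.leaf 110) (BT.leaf 61)) (BT.leaf 310))) (BT.node (BT.node (BT.node (BT.leaf 324) (BT.leaf 76)) (BT.leaf 200)) (BT.node (BT.leaf 26) (BT.leaf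 372)))))))) (BT.node (BT.node (BT.node (BT.node (BT.node (BT.node (BT.node (BT.node (BT.leaf 113) (BT.leaf 337)) (BT.leaf 345)) (BT.node (BT.node (BT.leaf 267) (BT.leaf 202)) (BT.leaf 365))) (BT.node (BT.node (BT.node (BT.leaf 377) (BT.leaf 203)) (BT.leaf 181)) (BT.node (BT.node (BT.leaf 78) (BT.leaf 42)) (BT.leaf 275)))) (BT.node (BT.node (BT.node (BT.node (BT.leaf 54) (BT.leaf 5)) (BT.leaf 163)) (BT.node (BT.node (BT.leaf 103) (BT.leaf 89)) (BT.leaf 55))) (BT.node (BT.node (BT.node (BT.leaf 56) (BT.leaf 24)) (BT.leaf 101)) (BT.node (BT.node (BT.leaf 239) (BT.leaf 264)) (BT.leaf 225))))) (BT.node (BT.node (BT.node (BT.node (BT.node (BT.leaf 254) (BT.leaf 68)) (BT.leaf 231)) (BT.node (BT.node (BT.leaf 11) (BT.leaf 122)) (BT.leaf 308))) (BT.node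 (BT.node (BT.node (BT.leaf 17) (BT.leaf 60)) (BT.leaf 278)) (BT.node (BT.node (BT.leaf 336) (BT.leaf 81)) (BT.leaf 358)))) (BT.node (BT.node (BT.node (BT.node (BT.leaf 92) (BT.leaf 135)) (BT.leaf 190)) (BT.node (BT.node (BT.leaf 289) (BT.leaf 97)) (BT.leaf 329))) (BT.node (BT.node (BT.node (BT.leaf 118) (BT.leaf 348)) (BT.leaf 246)) (BT.node (BT.node (BT.leaf 106) (BT.leaf 292)) (BT.leaf 120)))))) (BT.node (BT.node (BT.node (BT.node (BT.node (BT.node (BT.leaf 15) (BT.leaf 339)) (BT.leaf 136)) (BT.node (BT.node (BT.leaf 234) (BT.leaf 226)) (BT.leaf 98))) (BT.node (BT.node (BT.node (BT.leaf 4) (BT.leaf 50)) (BT.leaf 247)) (BT.node (BT.node (BT.leaf 3) (BT.leaf 375)) (BT.leaf 7)))) (BT.node (BT.node (BT.node (BT.node (BT.leaf 340) (BT.leaf 228)) (BT.leaf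 248)) (BT.node (BT.node (BT.leaf 16) (BT.leaf 279)) (BT.leaf 361))) (BT.node (BT.node (BT.node (BT.leaf 179) (BT.leaf 331)) (BT.leaf 47)) (BT.node (BT.node (BT.leaf 114) (BT.leaf 115)) (BT.leaf 152))))) (BT.node (BT.node (BT.node (BT.node (BT.node (BT.leaf 347) (BT.leaf 296)) (BT.leaf 369)) (BT.node (BT.node (BT.leaf 159) (BT.leaf 30)) (BT.leaf 22))) (BT.node (BT.node (BT.node (BT.leaf 134) (BT.leaf 253)) (BT.leaf 9)) (BT.node (BT.node (BT.leaf 272) (BT.leaf 86)) (BT.leaf 304)))) (BT.node (BT.node (BT.node (BT.node (BT.leaf 70) (BT.leaf 94)) (BT.leaf 192)) (BT.node (BT.node (BT.leaf 33) (BT.leaf 149)) (BT.leaf 31))) (BT.node (BT.node (BT.node (BT.leaf 230) (BT.leaf 72)) (BT.leaf 131)) (BT.node (BT.leaf 19) (BT.leaf 209))))))) (BT.node (BT.node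 (BT.node (BT.node (BT.node (BT.node (BT.node (BT.leaf 155) (BT.leaf 166)) (BT.leaf 48)) (BT.node (BT.node (BT.leaf 128) (BT.leaf 124)) (BT.leaf 287))) (BT.node (BT.node (BT.node (BT.leaf 334) (BT.leaf 215)) (BT.leaf 93)) (BT.node (BT.node (BT.leaf 271) (BT.leaf 222)) (BT.leaf 257)))) (BT.node (BT.node (BT.node (BT.node (BT.leaf 295) (BT.leaf 317)) (BT.leaf 291)) (BT.node (BT.node (BT.leaf 328) (BT.leaf 138)) (BT.leaf 107))) (BT.node (BT.node (BT.node (BT.leaf 370) (BT.leaf 71)) (BT.leaf 189)) (BT.node (BT.node (BT.leaf 171) (BT.leaf 213)) (BT.leaf 341))))) (BT.node (BT.node (BT.node (BT.node (BT.node (BT.leaf 224) (BT.leaf 354)) (BT.leaf 256)) (BT.node (BT.node (BT.leaf 280) (BT.leaf 266)) (BT.leaf 251))) (BT.node (BT.node (BT.node (BT.leaf 182)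 (BT.leaf 6)) (BT.leaf 85)) (BT.node (BT.node (BT.leaf 132) (BT.leaf 111)) (BT.leaf 255)))) (BT.node (BT.node (BT.node (BT.node (BT.leaf 139) (BT.leaf 161)) (BT.leaf 77)) (BT.node (BT.node (BT.leaf 10) (BT.leaf 240)) (BT.leaf 201))) (BT.node (BT.node (BT.node (BT.leaf 195) (BT.leaf 349)) (BT.leaf 212)) (BT.node (BT.leaf 319) (BT.leaf 368)))))) (BT.node (BT.node (BT.node (BT.node (BT.node (BT.node (BT.leaf 52) (BT.leaf 123)) (BT.leaf 12)) (BT.node (BT.node (BT.leaf 270) (BT.leaf 352)) (BT.leaf 236))) (BT.node (BT.node (BT.node (BT.leaf 211) (BT.leaf 314)) (BT.leaf 362)) (BT.node (BT.node (BT.leaf 23) (BT.leaf 261)) (BT.leaf 269)))) (BT.node (BT.node (BT.node (BT.node (BT.leaf 79) (BT.leaf 44)) (BT.leaf 165)) (BT.node (BT.node (BT.leaf 250) (BT.leaf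 177)) (BT.leaf 344))) (BT.node (BT.node (BT.node (BT.leaf 363) (BT.leaf 37)) (BT.leaf 263)) (BT.node (BT.node (BT.leaf 28) (BT.leaf 66)) (BT.leaf 302))))) (BT.node (BT.node (BT.node (BT.node (BT.node (BT.leaf 277) (BT.leaf 229)) (BT.leaf 121)) (BT.node (BT.node (BT.leaf 235) (BT.leaf 170)) (BT.leaf 335))) (BT.node (BT.node (BT.node (BT.leaf 327) (BT.leaf 160)) (BT.leaf 249)) (BT.node (BT.node (BT.leaf 355) (BT.leaf 298)) (BT.leaf 116)))) (BT.node (BT.node (BT.node (BT.node (BT.leaf 276) (BT.leaf 311)) (BT.leaf 172)) (BT.node (BT.node (BT.leaf 80) (BT.leaf 262)) (BT.leaf 142))) (BT.node (BT.node (BT.node (BT.leaf 117) (BT.leaf 51)) (BT.leaf 218)) (BT.node (BT.leaf 245) (BT.leaf 313)))))))))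

/-- The action of the first element on the points. -/
def ly13 (i : ℕ) : ℕ := lyT13.look i

/-- The scalars, as a tree. -/
def syT13 : BT ℕ := (BT.node (BT.node (BT.node (BT.node (BT.node (BT.node (BT.node (BT.node (BT.node (BT.leaf 1) (BT.leaf 1)) (BT.leaf 2)) (BT.node (BT.node (BT.leaf 1) (BT.leaf 1)) (BT.leaf 1))) (BT.node (BT.node (BT.node (BT.leaf 2) (BT.leaf 2)) (BT.leaf 1)) (BT.node (BT.node (BT.leaf 2) (BT.leaf 2)) (BT.leaf 1)))) (BT.node (BT.node (BT.node (BT.node (BT.leaf 2) (BT.leaf 2)) (BT.leaf 1)) (BT.node (BT.node (BT.leaf 1) (BT.leaf 2)) (BT.leaf 1))) (BT.node (BT.node (BT.node (BT.leaf 2) (BT.leaf 1)) (BT.leaf 1)) (BT.node (BT.node (BT.leaf 2) (BT.leaf 1)) (BT.leaf 1))))) (BT.node (BT.node (BT.node (BT.node (BT.node (BT.leaf 1)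 (BT.leaf 2)) (BT.leaf 1)) (BT.node (BT.node (BT.leaf 2) (BT.leaf 1)) (BT.leaf 2))) (BT.node (BT.node (BT.node (BT.leaf 2) (BT.leaf 1)) (BT.leaf 1)) (BT.node (BT.node (BT.leaf 1) (BT.leaf 1)) (BT.leaf 2)))) (BT.node (BT.node (BT.node (BT.node (BT.leaf 1) (BT.leaf 2)) (BT.leaf 1)) (BT.node (BT.node (BT.leaf 2) (BT.leaf 1)) (BT.leaf 1))) (BT.node (BT.node (BT.node (BT.leaf 2) (BT.leaf 1)) (BT.leaf 1)) (BT.node (BT.node (BT.leaf 1) (BT.leaf 1)) (BT.leaf 2)))))) (BT.node (BT.node (BT.node (BT.node (BT.node (BT.node (BT.leaf 1) (BT.leaf 1)) (BT.leaf 1)) (BT.node (BT.node (BT.leaf 1) (BT.leaf 1)) (BT.leaf 2))) (BT.node (BT.node (BT.node (BT.leaf 1) (BT.leaf 1)) (BT.leaf 2)) (BT.node (BT.node (BT.leaf 2) (BT.leaf 1)) (BT.leaf 1)))) (BT.node (BT.node (BT.node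 (BT.node (BT.leaf 1) (BT.leaf 2)) (BT.leaf 1)) (BT.node (BT.node (BT.leaf 1) (BT.leaf 2)) (BT.leaf 1))) (BT.node (BT.node (BT.node (BT.leaf 2) (BT.leaf 1)) (BT.leaf 2)) (BT.node (BT.node (BT.leaf 2) (BT.leaf 2)) (BT.leaf 1))))) (BT.node (BT.node (BT.node (BT.node (BT.node (BT.leaf 1) (BT.leaf 2)) (BT.leaf 1)) (BT.node (BT.node (BT.leaf 1) (BT.leaf 1)) (BT.leaf 2))) (BT.node (BT.node (BT.node (BT.leaf 1) (BT.leaf 1)) (BT.leaf 1)) (BT.node (BT.node (BT.leaf 2) (BT.leaf 2)) (BT.leaf 2)))) (BT.node (BT.node (BT.node (BT.node (BT.leaf 2) (BT.leaf 2)) (BT.leaf 1)) (BT.node (BT.node (BT.leaf 2) (BT.leaf 1)) (BT.leaf 2))) (BT.node (BT.node (BT.node (BT.leaf 1) (BT.leaf 2)) (BT.leaf 1)) (BT.node (BT.leaf 1) (BT.leaf 2))))))) (BT.node (BT.node (BT.node (BT.node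 (BT.node (BT.node (BT.node (BT.leaf 2) (BT.leaf 1)) (BT.leaf 2)) (BT.node (BT.node (BT.leaf 2) (BT.leaf 1)) (BT.leaf 2))) (BT.node (BT.node (BT.node (BT.leaf 2) (BT.leaf 1)) (BT.leaf 1)) (BT.node (BT.node (BT.leaf 2) (BT.leaf 2)) (BT.leaf 2)))) (BT.node (BT.node (BT.node (BT.node (BT.leaf 1) (BT.leaf 2)) (BT.leaf 2)) (BT.node (BT.node (BT.leaf 1) (BT.leaf 1)) (BT.leaf 2))) (BT.node (BT.node (BT.node (BT.leaf 1) (BT.leaf 1)) (BT.leaf 2)) (BT.node (BT.node (BT.leaf 2) (BT.leaf 2)) (BT.leaf 1))))) (BT.node (BT.node (BT.node (BT.node (BT.node (BT.leaf 1) (BT.leaf 1)) (BT.leaf 1)) (BT.node (BT.node (BT.leaf 1) (BT.leaf 1)) (BT.leaf 2))) (BT.node (BT.node (BT.node (BT.leaf 2) (BT.leaf 2)) (BT.leaf 1)) (BT.node (BT.node (BT.leaf 2) (BT.leaf 2)) (BT.leaf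 1)))) (BT.node (BT.node (BT.node (BT.node (BT.leaf 1) (BT.leaf 1)) (BT.leaf 1)) (BT.node (BT.node (BT.leaf 2) (BT.leaf 2)) (BT.leaf 1))) (BT.node (BT.node (BT.node (BT.leaf 2) (BT.leaf 1)) (BT.leaf 1)) (BT.node (BT.leaf 1) (BT.leaf 1)))))) (BT.node (BT.node (BT.node (BT.node (BT.node (BT.node (BT.leaf 2) (BT.leaf 1)) (BT.leaf 2)) (BT.node (BT.node (BT.leaf 1) (BT.leaf 2)) (BT.leaf 2))) (BT.node (BT.node (BT.node (BT.leaf 1) (BT.leaf 1)) (BT.leaf 1)) (BT.node (BT.node (BT.leaf 2) (BT.leaf 1)) (BT.leaf 1)))) (BT.node (BT.node (BT.node (BT.node (BT.leaf 1) (BT.leaf 2)) (BT.leaf 1)) (BT.node (BT.node (BT.leaf 1) (BT.leaf 1)) (BT.leaf 1))) (BT.node (BT.node (BT.node (BT.leaf 2) (BT.leaf 1)) (BT.leaf 1)) (BT.node (BT.node (BT.leaf 1) (BT.leaf 1)) (BT.leaf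 1))))) (BT.node (BT.node (BT.node (BT.node (BT.node (BT.leaf 2) (BT.leaf 1)) (BT.leaf 2)) (BT.node (BT.node (BT.leaf 1) (BT.leaf 2)) (BT.leaf 2))) (BT.node (BT.node (BT.node (BT.leaf 2) (BT.leaf 1)) (BT.leaf 2)) (BT.node (BT.node (BT.leaf 2) (BT.leaf 1)) (BT.leaf 1)))) (BT.node (BT.node (BT.node (BT.node (BT.leaf 2) (BT.leaf 1)) (BT.leaf 2)) (BT.node (BT.node (BT.leaf 2) (BT.leaf 2)) (BT.leaf 1))) (BT.node (BT.node (BT.node (BT.leaf 2) (BT.leaf 2)) (BT.leaf 1)) (BT.node (BT.leaf 2) (BT.leaf 2)))))))) (BT.node (BT.node (BT.node (BT.node (BT.node (BT.node (BT.node (BT.node (BT.leaf 2) (BT.leaf 2)) (BT.leaf 1)) (BT.node (BT.node (BT.leaf 2) (BT.leaf 2)) (BT.leaf 2))) (BT.node (BT.node (BT.node (BT.leaf 2) (BT.leaf 1)) (BT.leaf 1)) (BT.node (BT.node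 (BT.leaf 2) (BT.leaf 1)) (BT.leaf 2)))) (BT.node (BT.node (BT.node (BT.node (BT.leaf 2) (BT.leaf 1)) (BT.leaf 2)) (BT.node (BT.node (BT.leaf 1) (BT.leaf 1)) (BT.leaf 1))) (BT.node (BT.node (BT.node (BT.leaf 1) (BT.leaf 2)) (BT.leaf 1)) (BT.node (BT.node (BT.leaf 1) (BT.leaf 1)) (BT.leaf 1))))) (BT.node (BT.node (BT.node (BT.node (BT.node (BT.leaf 2) (BT.leaf 1)) (BT.leaf 2)) (BT.node (BT.node (BT.leaf 1) (BT.leaf 1)) (BT.leaf 2))) (BT.node (BT.node (BT.node (BT.leaf 1) (BT.leaf 1)) (BT.leaf 2)) (BT.node (BT.node (BT.leaf 1) (BT.leaf 2)) (BT.leaf 2)))) (BT.node (BT.node (BT.node (BT.node (BT.leaf 2) (BT.leaf 1)) (BT.leaf 1)) (BT.node (BT.node (BT.leaf 1) (BT.leaf 1)) (BT.leaf 1))) (BT.node (BT.node (BT.node (BT.leaf 1) (BT.leaf 2)) (BT.leaf 2))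 (BT.node (BT.node (BT.leaf 1) (BT.leaf 2)) (BT.leaf 2)))))) (BT.node (BT.node (BT.node (BT.node (BT.node (BT.node (BT.leaf 1) (BT.leaf 2)) (BT.leaf 1)) (BT.node (BT.node (BT.leaf 2) (BT.leaf 1)) (BT.leaf 1))) (BT.node (BT.node (BT.node (BT.leaf 1) (BT.leaf 1)) (BT.leaf 2)) (BT.node (BT.node (BT.leaf 1) (BT.leaf 2)) (BT.leaf 2)))) (BT.node (BT.node (BT.node (BT.node (BT.leaf 2) (BT.leaf 1)) (BT.leaf 2)) (BT.node (BT.node (BT.leaf 2) (BT.leaf 1)) (BT.leaf 1))) (BT.node (BT.node (BT.node (BT.leaf 1) (BT.leaf 1)) (BT.leaf 2)) (BT.node (BT.node (BT.leaf 2) (BT.leaf 1)) (BT.leaf 1))))) (BT.node (BT.node (BT.node (BT.node (BT.node (BT.leaf 1) (BT.leaf 2)) (BT.leaf 2)) (BT.node (BT.node (BT.leaf 2) (BT.leaf 1)) (BT.leaf 1))) (BT.node (BT.node (BT.node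 (BT.leaf 1) (BT.leaf 2)) (BT.leaf 2)) (BT.node (BT.node (BT.leaf 2) (BT.leaf 1)) (BT.leaf 2)))) (BT.node (BT.node (BT.node (BT.node (BT.leaf 2) (BT.leaf 2)) (BT.leaf 2)) (BT.node (BT.node (BT.leaf 2) (BT.leaf 2)) (BT.leaf 2))) (BT.node (BT.node (BT.node (BT.leaf 2) (BT.leaf 1)) (BT.leaf 1)) (BT.node (BT.leaf 2) (BT.leaf 2))))))) (BT.node (BT.node (BT.node (BT.node (BT.node (BT.node (BT.node (BT.leaf 2) (BT.leaf 1)) (BT.leaf 1)) (BT.node (BT.node (BT.leaf 2) (BT.leaf 2)) (BT.leaf 1))) (BT.node (BT.node (BT.node (BT.leaf 1) (BT.leaf 2)) (BT.leaf 1)) (BT.node (BT.node (BT.leaf 1) (BT.leaf 1)) (BT.leaf 1)))) (BT.node (BT.node (BT.node (BT.node (BT.leaf 1) (BT.leaf 1)) (BT.leaf 2)) (BT.node (BT.node (BT.leaf 2) (BT.leaf 2)) (BT.leaf 1))) (BT.node (BT.node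 (BT.node (BT.leaf 2) (BT.leaf 2)) (BT.leaf 2)) (BT.node (BT.node (BT.leaf 2) (BT.leaf 2)) (BT.leaf 1))))) (BT.node (BT.node (BT.node (BT.node (BT.node (BT.leaf 2) (BT.leaf 1)) (BT.leaf 2)) (BT.node (BT.node (BT.leaf 1) (BT.leaf 2)) (BT.leaf 1))) (BT.node (BT.node (BT.node (BT.leaf 2) (BT.leaf 1)) (BT.leaf 2)) (BT.node (BT.node (BT.leaf 2) (BT.leaf 2)) (BT.leaf 1)))) (BT.node (BT.node (BT.node (BT.node (BT.leaf 1) (BT.leaf 1)) (BT.leaf 2)) (BT.node (BT.node (BT.leaf 2) (BT.leaf 1)) (BT.leaf 1))) (BT.node (BT.node (BT.node (BT.leaf 1) (BT.leaf 2)) (BT.leaf 2)) (BT.node (BT.leaf 1) (BT.leaf 2)))))) (BT.node (BT.node (BT.node (BT.node (BT.node (BT.node (BT.leaf 1) (BT.leaf 1)) (BT.leaf 1)) (BT.node (BT.node (BT.leaf 2) (BT.leaf 2)) (BT.leaf 1))) (BT.node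 (BT.node (BT.node (BT.leaf 2) (BT.leaf 2)) (BT.leaf 2)) (BT.node (BT.node (BT.leaf 2) (BT.leaf 2)) (BT.leaf 2)))) (BT.node (BT.node (BT.node (BT.node (BT.leaf 1) (BT.leaf 1)) (BT.leaf 2)) (BT.node (BT.node (BT.leaf 2) (BT.leaf 2)) (BT.leaf 2))) (BT.node (BT.node (BT.node (BT.leaf 2) (BT.leaf 1)) (BT.leaf 2)) (BT.node (BT.node (BT.leaf 2) (BT.leaf 1)) (BT.leaf 2))))) (BT.node (BT.node (BT.node (BT.node (BT.node (BT.leaf 1) (BT.leaf 1)) (BT.leaf 2)) (BT.node (BT.node (BT.leaf 2) (BT.leaf 1)) (BT.leaf 1))) (BT.node (BT.node (BT.node (BT.leaf 1) (BT.leaf 1)) (BT.leaf 2)) (BT.node (BT.node (BT.leaf 2) (BT.leaf 1)) (BT.leaf 1)))) (BT.node (BT.node (BT.node (BT.node (BT.leaf 2) (BT.leaf 1)) (BT.leaf 2)) (BT.node (BT.node (BT.leaf 1) (BT.leaf 1)) (BT.leaf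 2))) (BT.node (BT.node (BT.node (BT.leaf 1) (BT.leaf 2)) (BT.leaf 1)) (BT.node (BT.leaf 1) (BT.leaf 2)))))))))

/-- The scalars. -/
def sy13 (i : ℕ) : ℕ := syT13.look i

theorem ysI13_lt : ∀ j < 28, ysI13.getD j 0 < 99 := by decide +kernel

theorem Y13_elt (j : ℕ) (hj : j < 28) : IsElt (Y13 j) := T13_sound _ (ysI13_lt j hj)

theorem N13_elt : IsElt N13 := T13_sound _ (by norm_num)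

theorem Y13_pow : ∀ j < 28, pow13E (Y13 j) = idE := by decide +kernel

theorem Y13_ne : ∀ j < 28, neE (Y13 j) idE = true := by decide +kernel

theorem Y13_fix : ∀ j < 28, mvE (Y13 j) (tb13 0) = smulL 1 (tb13 0) ∨
    mvE (Y13 j) (tb13 0) = smulL 2 (tb13 0) := by decide +kernel

theorem Ov13_orb' : ∀ j < 28, (Ov13.getD j []).getD 0 [] = u13 ∧
    ∀ e < 12, (Ov13.getD j []).getD (e + 1) [] = mvE (Y13 j) ((Ov13.getD j []).getD e []) := by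
  decide +kernel

theorem Ov13_orb : ∀ j < 28, (Ov13.getD j []).getD 0 [] = u13 ∧
    ∀ e, e + 1 < 13 → (Ov13.getD j []).getD (e + 1) [] = mvE (Y13 j) ((Ov13.getD j []).getD e []) :=
  fun j hj => ⟨(Ov13_orb' j hj).1, fun e he => (Ov13_orb' j hj).2 e (by omega)⟩

theorem Ov13_pw : Ov13.Pairwise (fun a b => ∀ e < 13,
    a.getD 1 [] ≠ b.getD e [] ∧ b.getD 1 [] ≠ a.getD e []) := by decide +kernel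

theorem y13_move : ∀ i < 378, 0 < i → ly13 i < 378 ∧ ly13 i ≠ i ∧
    (sy13 i = 1 ∨ sy13 i = 2) ∧
    mvE (Y13 0) (tb13 i) = smulL (sy13 i) (tb13 (ly13 i)) := by
  decide +kernel

theorem N13_fix : mvE N13 (tb13 0) = smulL 1 (tb13 0) ∨
    mvE N13 (tb13 0) = smulL 2 (tb13 0) := by decide +kernel

theorem N13_rel : mulE N13 (Y13 0) = mulE (powE (Y13 0) 10) N13 := by decide +kernel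

theorem N13_ne1 : neE (mulE N13 (Y13 0)) (mulE (Y13 0) N13) = true := by decide +kernel

theorem N13_ne2 : neE (mulE (powE N13 2) (Y13 0)) (mulE (Y13 0) (powE N13 2)) = true := by
  decide +kernel

theorem N13_ne3 : neE (mulE (powE N13 3) (Y13 0)) (mulE (Y13 0) (powE N13 3)) = true := by
  decide +kernel

theorem count13 : ∀ d ∈ Nat.divisors 864, d % 13 = 1 → 28 ≤ d → d = 144 := by decide +kernel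

instance fact_prime_13 : Fact (Nat.Prime 13) := ⟨by norm_num⟩

/-- `G_2(3)` has no elements of order `13 s`, `s ≠ 13` a prime. -/
theorem no_order_13 (hG : Nat.card ↥G23 = 4245696) : ∀ (x : ↥G23) (s : ℕ), s.Prime → s ≠ 13 → orderOf x ≠ 13 * s := by
  have hfix : ∀ A : List ℕ, (mvE A (tb13 0) = smulL 1 (tb13 0) ∨
      mvE A (tb13 0) = smulL 2 (tb13 0)) →
      ∃ s, (s = 1 ∨ s = 2) ∧ mvE A (tb13 0) = smulL s (tb13 0) := by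
    rintro A (h | h)
    · exact ⟨1, Or.inl rfl, h⟩
    · exact ⟨2, Or.inr rfl, h⟩
  have hdist := dist_of_orbits 28 13 (by norm_num) Y13 (fun j hj => (Y13_elt j hj).1) u13
    (by decide +kernel) Ov13 (by decide +kernel) Ov13_orb Ov13_pw
  exact no_order_mul_of_cert hG cert13 trans13 13 864 144 (by norm_num) (by norm_num) (by norm_num)
    28 (by norm_num) (fun j => Y13 j) (fun j => Y13_elt j j.2)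
    (fun j => pow13_eq_one _ (Y13_elt j j.2).1 (Y13_pow j j.2))
    (fun j => ofE_ne_one_of_neE _ (Y13_ne j j.2))
    (fun j => hfix _ (Y13_fix j j.2))
    (fun i j hij e he => hdist i j hij j.2 e he)
    (fun d hd h1 h2 => count13 d (Nat.mem_divisors.2 ⟨hd, by norm_num⟩) h1 h2)
    (fun i hi hpos => by
      obtain ⟨h1, h2, h3, h4⟩ := y13_move i hi hpos
      exact ⟨_, _, h1, h2, h3, h4⟩)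
    N13 N13_elt (hfix _ N13_fix) 10
    (mul_eq_pow_mul _ _ N13_elt.1 (Y13_elt 0 (by norm_num)).1 _ N13_rel)
    (mul_ne _ _ N13_elt.1 (Y13_elt 0 (by norm_num)).1 N13_ne1)
    (pow_mul_ne _ _ N13_elt.1 (Y13_elt 0 (by norm_num)).1 2 N13_ne2)
    (pow_mul_ne _ _ N13_elt.1 (Y13_elt 0 (by norm_num)).1 3 N13_ne3)

end Cfsg.Agent.Helper37.G3
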