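import Mathlib
import Cfsg.Agent.Lib.Helper37.G3C

/-!
# `G_2(3)` on 351 points: the certificate
-/

set_option autoImplicit false
set_option maxRecDepth 1000000

namespace Cfsg.Agent.Helper37.G3

open Matrix Cfsg.Lie Equiv Cfsg.Agent.Helper37.Exc

/-- The points, as a tree. -/
def tblT7 : BT (List ℕ) :=
  (BT.node (BT.node (BT.node (BT.node (BT.node (BT.node (BT.node (BT.node (BT.node (BT.leaf [0, 0, 0, 0, 0, 0, 1, 0, 0, 2, 0, 0, 0, 0]) (BT.leaf [1, 0, 0, 0, 1, 1, 2, 0, 0, 0, 0, 1, 0, 0])) (BT.leaf [0, 0, 0, 0, 1, 1, 1, 0, 0, 1, 0, 1, 0, 0])) (BT.node (BT.node (BT.leaf [1, 0, 0, 0, 1, 0, 1, 0, 0, 1, 2, 0, 0, 0]) (BT.leaf [1, 0, 0, 0, 2, 2, 2, 0, 0, 0, 0, 2, 0, 0])) (BT.leaf [1, 0, 0, 0, 0, 1, 1, 0, 0, 1, 0, 1, 0, 0]))) (BT.node (BT.node (BT.node (BT.leaf [1, 0, 0, 0, 0, 1, 2, 0, 0, 2, 0, 0, 0, 0]) (BT.leaf [1, 0, 0, 0, 0, 1, 1, 0, 0, 0, 1, 0, 0, 0])) (BT.leaf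 [1, 0, 0, 0, 0, 1, 2, 0, 0, 2, 0, 2, 0, 0])) (BT.node (BT.leaf [0, 0, 0, 0, 0, 1, 1, 0, 0, 0, 2, 0, 0, 0]) (BT.leaf [1, 0, 0, 0, 1, 1, 2, 0, 0, 0, 2, 2, 0, 0])))) (BT.node (BT.node (BT.node (BT.node (BT.leaf [0, 0, 0, 0, 0, 1, 1, 0, 0, 2, 0, 0, 0, 0]) (BT.leaf [1, 0, 0, 0, 0, 2, 0, 0, 0, 2, 2, 1, 0, 0])) (BT.leaf [0, 0, 0, 0, 1, 2, 1, 0, 0, 0, 2, 1, 0, 0])) (BT.node (BT.node (BT.leaf [0, 0, 0, 0, 1, 2, 0, 0, 0, 1, 0, 2, 0, 0]) (BT.leaf [1, 0, 0, 0, 0, 1, 0, 0, 0, 0, 1, 2, 0, 0])) (BT.leaf [1, 0, 0, 0, 0, 2, 0, 0, 0, 2, 2, 0, 0, 0]))) (BT.node (BT.node (BT.node (BT.leaf [0, 0, 0, 0, 1, 0, 1, 0, 0, 1, 0, 1, 0, 0]) (BT.leaf [1, 0, 0, 0, 1, 1, 1, 0, 0, 0, 0, 1, 0, 0])) (BT.leaf [1, 0, 0, 0, 1, 1, 1, 0, 0, 2, 0, 2, 0, 0])) (BT.node (BT.leaf [1, 0, 0, 0, 0, 2, 1, 0, 0, 0, 2, 2, 0, 0]) (BT.leaf [1, 0, 0, 0, 0, 1, 1, 0, 0, 2, 2, 2, 0, 0]))))) (BT.node (BT.node (BT.node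 (BT.node (BT.node (BT.leaf [0, 0, 0, 0, 0, 0, 1, 0, 0, 2, 0, 2, 0, 0]) (BT.leaf [0, 0, 0, 0, 1, 2, 0, 0, 0, 2, 0, 2, 0, 0])) (BT.leaf [1, 0, 0, 0, 1, 0, 2, 0, 0, 0, 0, 1, 0, 0])) (BT.node (BT.node (BT.leaf [1, 0, 0, 0, 0, 1, 1, 0, 0, 1, 0, 0, 0, 0]) (BT.leaf [1, 0, 0, 0, 1, 2, 0, 0, 0, 1, 1, 2, 0, 0])) (BT.leaf [1, 0, 0, 0, 2, 1, 2, 0, 0, 2, 2, 2, 0, 0]))) (BT.node (BT.node (BT.node (BT.leaf [0, 0, 0, 0, 0, 0, 1, 0, 0, 2, 2, 1, 0, 0]) (BT.leaf [1, 0, 0, 0, 0, 1, 0, 0, 0, 1, 1, 2, 0, 0])) (BT.leaf [1, 0, 0, 0, 1, 1, 2, 0, 0, 2, 1, 2, 0, 0])) (BT.node (BT.leaf [1, 0, 0, 0, 1, 2, 2, 0, 0, 0, 0, 1, 0, 0]) (BT.leaf [1, 0, 0, 0, 2, 2, 1, 0, 0, 0, 1, 1, 0, 0])))) (BT.node (BT.node (BT.node (BT.node (BT.leaf [0, 0, 0, 0, 0, 1, 2, 0, 0, 1, 0, 2, 0, 0]) (BT.leaf [0, 0, 0, 0, 0, 1, 0, 0, 0, 1, 2, 2, 0, 0])) (BT.leaf [0, 0, 0, 0, 1, 1, 1, 0, 0, 0, 0, 2, 0, 0])) (BT.node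 (BT.node (BT.leaf [0, 0, 0, 0, 1, 2, 2, 0, 0, 2, 0, 1, 0, 0]) (BT.leaf [1, 0, 0, 0, 1, 0, 0, 0, 0, 0, 0, 1, 0, 0])) (BT.leaf [1, 0, 0, 0, 0, 2, 0, 0, 0, 1, 2, 2, 0, 0]))) (BT.node (BT.node (BT.node (BT.leaf [1, 0, 0, 0, 2, 0, 1, 0, 0, 1, 0, 0, 0, 0]) (BT.leaf [1, 0, 0, 0, 0, 1, 2, 0, 0, 0, 1, 0, 0, 0])) (BT.leaf [1, 0, 0, 0, 1, 0, 2, 0, 0, 1, 1, 2, 0, 0])) (BT.node (BT.leaf [1, 0, 0, 0, 0, 2, 1, 0, 0, 2, 1, 2, 0, 0]) (BT.leaf [1, 0, 0, 0, 1, 2, 0, 0, 0, 2, 1, 2, 0, 0])))))) (BT.node (BT.node (BT.node (BT.node (BT.node (BT.node (BT.leaf [1, 0, 0, 0, 0, 0, 2, 0, 0, 2, 0, 0, 0, 0]) (BT.leaf [1, 0, 0, 0, 2, 2, 1, 0, 0, 0, 0, 2, 0, 0])) (BT.leaf [0, 0, 0, 0, 0, 1, 1, 0, 0, 2, 0, 1, 0, 0])) (BT.node (BT.node (BT.leaf [0, 0, 0, 0, 1, 0, 2, 0, 0, 1, 2, 0, 0, 0]) (BT.leaf [1, 0, 0, 0, 1, 0, 2, 0, 0, 0, 2, 1, 0, 0])) (BT.leaf [1, 0, 0, 0, 1, 2, 1, 0, 0, 0, 0, 1, 0, 0])))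 (BT.node (BT.node (BT.node (BT.leaf [1, 0, 0, 0, 0, 0, 2, 0, 0, 2, 0, 1, 0, 0]) (BT.leaf [0, 0, 0, 0, 1, 2, 0, 0, 0, 0, 2, 1, 0, 0])) (BT.leaf [1, 0, 0, 0, 0, 0, 2, 0, 0, 2, 0, 2, 0, 0])) (BT.node (BT.leaf [0, 0, 0, 0, 1, 2, 1, 0, 0, 2, 1, 1, 0, 0]) (BT.leaf [1, 0, 0, 0, 1, 1, 2, 0, 0, 2, 2, 1, 0, 0])))) (BT.node (BT.node (BT.node (BT.node (BT.leaf [1, 0, 0, 0, 0, 2, 1, 0, 0, 1, 0, 0, 0, 0]) (BT.leaf [1, 0, 0, 0, 1, 0, 0, 0, 0, 0, 2, 1, 0, 0])) (BT.leaf [0, 0, 0, 0, 1, 1, 2, 0, 0, 0, 1, 1, 0, 0])) (BT.node (BT.node (BT.leaf [1, 0, 0, 0, 1, 1, 1, 0, 0, 1, 1, 2, 0, 0]) (BT.leaf [0, 0, 0, 0, 0, 1, 0, 0, 0, 0, 2, 2, 0, 0])) (BT.leaf [0, 0, 0, 0, 1, 1, 1, 0, 0, 1, 2, 2, 0, 0]))) (BT.node (BT.node (BT.node (BT.leaf [1, 0, 0, 0, 0, 0, 2, 0, 0, 2, 2, 2, 0, 0]) (BT.leaf [1, 0, 0, 0, 2, 2, 0, 0, 0, 0, 2, 0, 0, 0])) (BT.leaf [1, 0, 0, 0, 1, 1, 1, 0, 0, 1, 2, 1, 0, 0]))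 (BT.node (BT.leaf [0, 0, 0, 0, 1, 1, 0, 0, 0, 2, 1, 1, 0, 0]) (BT.leaf [0, 0, 0, 0, 1, 1, 2, 0, 0, 2, 2, 2, 0, 0]))))) (BT.node (BT.node (BT.node (BT.node (BT.node (BT.leaf [1, 0, 0, 0, 2, 1, 1, 0, 0, 1, 0, 0, 0, 0]) (BT.leaf [0, 0, 0, 0, 1, 2, 1, 0, 0, 1, 1, 2, 0, 0])) (BT.leaf [1, 0, 0, 0, 2, 0, 2, 0, 0, 1, 2, 1, 0, 0])) (BT.node (BT.node (BT.leaf [1, 0, 0, 0, 1, 2, 2, 0, 0, 1, 1, 0, 0, 0]) (BT.leaf [1, 0, 0, 0, 2, 0, 0, 0, 0, 0, 1, 2, 0, 0])) (BT.leaf [1, 0, 0, 0, 1, 0, 1, 0, 0, 0, 1, 1, 0, 0]))) (BT.node (BT.node (BT.node (BT.leaf [1, 0, 0, 0, 0, 0, 1, 0, 0, 1, 1, 0, 0, 0]) (BT.leaf [1, 0, 0, 0, 0, 2, 2, 0, 0, 0, 2, 1, 0, 0])) (BT.leaf [1, 0, 0, 0, 1, 1, 0, 0, 0, 2, 1, 0, 0, 0])) (BT.node (BT.leaf [1, 0, 0, 0, 0, 1, 1, 0, 0, 1, 0, 2, 0, 0]) (BT.leaf [1, 0, 0, 0, 2, 0, 2, 0, 0, 0, 0, 2, 0, 0])))) (BT.node (BT.node (BT.node (BT.node (BT.leaf [1, 0, 0, 0, 2,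 0, 2, 0, 0, 1, 1, 1, 0, 0]) (BT.leaf [0, 0, 0, 0, 1, 0, 2, 0, 0, 0, 2, 2, 0, 0])) (BT.leaf [0, 0, 0, 0, 1, 2, 1, 0, 0, 0, 1, 0, 0, 0])) (BT.node (BT.node (BT.leaf [0, 0, 0, 0, 1, 0, 2, 0, 0, 0, 0, 2, 0, 0]) (BT.leaf [1, 0, 0, 0, 1, 1, 1, 0, 0, 0, 1, 0, 0, 0])) (BT.leaf [0, 0, 0, 0, 1, 1, 0, 0, 0, 2, 2, 0, 0, 0]))) (BT.node (BT.node (BT.node (BT.leaf [0, 0, 0, 0, 1, 1, 2, 0, 0, 1, 1, 2, 0, 0]) (BT.leaf [1, 0, 0, 0, 2, 2, 0, 0, 0, 1, 2, 0, 0, 0])) (BT.leaf [0, 0, 0, 0, 1, 1, 1, 0, 0, 2, 2, 1, 0, 0])) (BT.node (BT.leaf [0, 0, 0, 0, 1, 2, 1, 0, 0, 1, 2, 0, 0, 0]) (BT.leaf [1, 0, 0, 0, 2, 2, 0, 0, 0, 2, 1, 1, 0, 0]))))))) (BT.node (BT.node (BT.node (BT.node (BT.node (BT.node (BT.node (BT.leaf [0, 0, 0, 0, 0, 1, 2, 0, 0, 1, 0, 0, 0, 0]) (BT.leaf [1, 0, 0, 0, 1, 2, 0, 0, 0, 0, 0, 1, 0, 0])) (BT.leaf [1, 0, 0, 0, 1, 2, 2, 0, 0, 2, 2, 2, 0, 0])) (BT.node (BT.node (BT.leaf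 [1, 0, 0, 0, 0, 1, 1, 0, 0, 2, 2, 0, 0, 0]) (BT.leaf [0, 0, 0, 0, 0, 1, 0, 0, 0, 1, 2, 1, 0, 0])) (BT.leaf [1, 0, 0, 0, 2, 2, 1, 0, 0, 2, 2, 2, 0, 0]))) (BT.node (BT.node (BT.node (BT.leaf [1, 0, 0, 0, 0, 0, 2, 0, 0, 2, 1, 1, 0, 0]) (BT.leaf [1, 0, 0, 0, 1, 2, 1, 0, 0, 2, 1, 0, 0, 0])) (BT.leaf [1, 0, 0, 0, 0, 0, 2, 0, 0, 2, 1, 0, 0, 0])) (BT.node (BT.leaf [1, 0, 0, 0, 2, 1, 2, 0, 0, 2, 1, 1, 0, 0]) (BT.leaf [1, 0, 0, 0, 0, 1, 0, 0, 0, 2, 1, 1, 0, 0])))) (BT.node (BT.node (BT.node (BT.node (BT.leaf [1, 0, 0, 0, 1, 2, 2, 0, 0, 2, 0, 0, 0, 0]) (BT.leaf [1, 0, 0, 0, 1, 0, 0, 0, 0, 1, 2, 1, 0, 0])) (BT.leaf [1, 0, 0, 0, 0, 2, 2, 0, 0, 1, 1, 1, 0, 0])) (BT.node (BT.node (BT.leaf [1, 0, 0, 0, 1, 2, 1, 0, 0, 2, 2, 1, 0, 0]) (BT.leaf [1, 0, 0, 0, 0, 1, 0, 0, 0, 1, 1, 1, 0, 0])) (BT.leaf [0, 0, 0, 0, 1, 1, 0, 0, 0, 1, 2, 0, 0, 0]))) (BT.node (BT.node (BT.node (BT.leaf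 [0, 0, 0, 0, 0, 1, 1, 0, 0, 2, 0, 2, 0, 0]) (BT.leaf [1, 0, 0, 0, 2, 2, 2, 0, 0, 0, 2, 0, 0, 0])) (BT.leaf [0, 0, 0, 0, 0, 0, 1, 0, 0, 2, 1, 2, 0, 0])) (BT.node (BT.leaf [1, 0, 0, 0, 0, 2, 1, 0, 0, 1, 0, 1, 0, 0]) (BT.leaf [1, 0, 0, 0, 2, 0, 1, 0, 0, 0, 2, 2, 0, 0]))))) (BT.node (BT.node (BT.node (BT.node (BT.node (BT.leaf [1, 0, 0, 0, 2, 0, 2, 0, 0, 2, 0, 0, 0, 0]) (BT.leaf [1, 0, 0, 0, 1, 0, 0, 0, 0, 2, 0, 1, 0, 0])) (BT.leaf [1, 0, 0, 0, 2, 1, 1, 0, 0, 2, 2, 0, 0, 0])) (BT.node (BT.node (BT.leaf [1, 0, 0, 0, 1, 1, 2, 0, 0, 2, 0, 0, 0, 0]) (BT.leaf [1, 0, 0, 0, 2, 0, 1, 0, 0, 0, 1, 2, 0, 0])) (BT.leaf [0, 0, 0, 0, 0, 1, 1, 0, 0, 0, 2, 2, 0, 0]))) (BT.node (BT.node (BT.node (BT.leaf [1, 0, 0, 0, 1, 0, 1, 0, 0, 1, 0, 0, 0, 0]) (BT.leaf [1, 0, 0, 0, 0, 2, 0, 0, 0, 0, 2, 2, 0, 0])) (BT.leaf [0, 0, 0, 0, 1, 1, 2, 0, 0, 1, 2, 1, 0, 0])) (BT.node (BT.leaf [0, 0,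 0, 0, 0, 1, 0, 0, 0, 1, 2, 0, 0, 0]) (BT.leaf [1, 0, 0, 0, 1, 0, 1, 0, 0, 2, 2, 2, 0, 0])))) (BT.node (BT.node (BT.node (BT.node (BT.leaf [0, 0, 0, 0, 1, 0, 1, 0, 0, 2, 2, 0, 0, 0]) (BT.leaf [1, 0, 0, 0, 1, 2, 0, 0, 0, 0, 1, 2, 0, 0])) (BT.leaf [0, 0, 0, 0, 1, 2, 0, 0, 0, 2, 1, 0, 0, 0])) (BT.node (BT.node (BT.leaf [1, 0, 0, 0, 1, 0, 0, 0, 0, 2, 1, 1, 0, 0]) (BT.leaf [1, 0, 0, 0, 0, 1, 0, 0, 0, 0, 1, 0, 0, 0])) (BT.leaf [1, 0, 0, 0, 1, 1, 0, 0, 0, 0, 2, 2, 0, 0]))) (BT.node (BT.node (BT.node (BT.leaf [1, 0, 0, 0, 2, 2, 1, 0, 0, 1, 2, 1, 0, 0]) (BT.leaf [0, 0, 0, 0, 1, 1, 1, 0, 0, 0, 2, 0, 0, 0])) (BT.leaf [1, 0, 0, 0, 1, 0, 1, 0, 0, 2, 0, 2, 0, 0])) (BT.node (BT.leaf [1, 0, 0, 0, 0, 1, 2, 0, 0, 1, 2, 0, 0, 0]) (BT.leaf [0, 0, 0, 0, 1, 0, 2, 0, 0, 0, 1, 2, 0, 0])))))) (BT.node (BT.node (BT.node (BT.node (BT.node (BT.node (BT.leaf [1, 0, 0, 0, 0, 0, 1, 0, 0, 1,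 0, 0, 0, 0]) (BT.leaf [0, 0, 0, 0, 1, 1, 0, 0, 0, 2, 0, 2, 0, 0])) (BT.leaf [0, 0, 0, 0, 1, 2, 1, 0, 0, 1, 0, 1, 0, 0])) (BT.node (BT.node (BT.leaf [0, 0, 0, 0, 1, 0, 0, 0, 0, 1, 1, 2, 0, 0]) (BT.leaf [1, 0, 0, 0, 1, 1, 2, 0, 0, 0, 1, 0, 0, 0])) (BT.leaf [1, 0, 0, 0, 1, 0, 0, 0, 0, 1, 0, 1, 0, 0]))) (BT.node (BT.node (BT.node (BT.leaf [0, 0, 0, 0, 0, 0, 1, 0, 0, 2, 1, 0, 0, 0]) (BT.leaf [1, 0, 0, 0, 1, 0, 2, 0, 0, 0, 1, 1, 0, 0])) (BT.leaf [0, 0, 0, 0, 1, 2, 1, 0, 0, 2, 2, 2, 0, 0])) (BT.node (BT.leaf [0, 0, 0, 0, 1, 2, 0, 0, 0, 2, 2, 1, 0, 0]) (BT.leaf [1, 0, 0, 0, 1, 2, 1, 0, 0, 0, 2, 0, 0, 0])))) (BT.node (BT.node (BT.node (BT.node (BT.leaf [0, 0, 0, 0, 0, 1, 2, 0, 0, 2, 1, 0, 0, 0]) (BT.leaf [0, 0, 0, 0, 1, 2, 2, 0, 0, 0, 0, 2, 0, 0])) (BT.leaf [1, 0, 0, 0, 1, 0, 1, 0, 0, 2, 1, 2, 0, 0])) (BT.node (BT.node (BT.leaf [1, 0, 0, 0, 1, 0, 2, 0, 0, 1, 2, 2, 0,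 0]) (BT.leaf [1, 0, 0, 0, 0, 2, 0, 0, 0, 0, 2, 1, 0, 0])) (BT.leaf [1, 0, 0, 0, 2, 0, 0, 0, 0, 1, 1, 2, 0, 0]))) (BT.node (BT.node (BT.node (BT.leaf [1, 0, 0, 0, 0, 2, 2, 0, 0, 2, 0, 0, 0, 0]) (BT.leaf [1, 0, 0, 0, 0, 2, 2, 0, 0, 0, 2, 0, 0, 0])) (BT.leaf [0, 0, 0, 0, 1, 0, 1, 0, 0, 1, 1, 1, 0, 0])) (BT.node (BT.leaf [1, 0, 0, 0, 0, 2, 2, 0, 0, 0, 2, 2, 0, 0]) (BT.leaf [0, 0, 0, 0, 1, 0, 0, 0, 0, 1, 2, 2, 0, 0]))))) (BT.node (BT.node (BT.node (BT.node (BT.node (BT.leaf [1, 0, 0, 0, 2, 0, 1, 0, 0, 2, 2, 1, 0, 0]) (BT.leaf [1, 0, 0, 0, 2, 2, 0, 0, 0, 0, 0, 2, 0, 0])) (BT.leaf [1, 0, 0, 0, 2, 2, 1, 0, 0, 1, 0, 0, 0, 0])) (BT.node (BT.node (BT.leaf [0, 0, 0, 0, 1, 1, 0, 0, 0, 1, 0, 2, 0, 0]) (BT.leaf [0, 0, 0, 0, 1, 2, 0, 0, 0, 0, 1, 0, 0, 0])) (BT.leaf [1, 0, 0, 0, 2, 1, 0, 0, 0, 2, 2, 1, 0, 0]))) (BT.node (BT.node (BT.node (BT.leaf [1, 0, 0, 0, 0, 0, 1, 0, 0,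 1, 0, 2, 0, 0]) (BT.leaf [1, 0, 0, 0, 0, 2, 1, 0, 0, 0, 2, 0, 0, 0])) (BT.leaf [0, 0, 0, 0, 1, 1, 1, 0, 0, 0, 1, 1, 0, 0])) (BT.node (BT.leaf [1, 0, 0, 0, 0, 2, 2, 0, 0, 1, 1, 0, 0, 0]) (BT.leaf [1, 0, 0, 0, 0, 1, 0, 0, 0, 2, 1, 0, 0, 0])))) (BT.node (BT.node (BT.node (BT.node (BT.leaf [0, 0, 0, 0, 1, 0, 1, 0, 0, 2, 1, 0, 0, 0]) (BT.leaf [1, 0, 0, 0, 2, 2, 2, 0, 0, 0, 1, 1, 0, 0])) (BT.leaf [1, 0, 0, 0, 2, 2, 2, 0, 0, 2, 2, 1, 0, 0])) (BT.node (BT.node (BT.leaf [0, 0, 0, 0, 0, 1, 0, 0, 0, 2, 2, 0, 0, 0]) (BT.leaf [0, 0, 0, 0, 0, 1, 0, 0, 0, 0, 2, 1, 0, 0])) (BT.leaf [1, 0, 0, 0, 1, 1, 0, 0, 0, 1, 0, 1, 0, 0]))) (BT.node (BT.node (BT.node (BT.leaf [1, 0, 0, 0, 2, 0, 2, 0, 0, 2, 2, 0, 0, 0]) (BT.leaf [1, 0, 0, 0, 1, 0, 1, 0, 0, 0, 2, 1, 0, 0])) (BT.leaf [0, 0, 0, 0, 1, 1, 1, 0, 0, 2, 1, 2, 0, 0])) (BT.node (BT.leaf [0, 0, 0, 0, 0, 1, 2, 0, 0, 0, 2, 0, 0, 0]) (BT.leaf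 [1, 0, 0, 0, 2, 1, 0, 0, 0, 0, 1, 0, 0, 0])))))))) (BT.node (BT.node (BT.node (BT.node (BT.node (BT.node (BT.node (BT.node (BT.leaf [0, 0, 0, 0, 1, 0, 2, 0, 0, 1, 0, 0, 0, 0]) (BT.leaf [1, 0, 0, 0, 1, 1, 0, 0, 0, 0, 0, 1, 0, 0])) (BT.leaf [1, 0, 0, 0, 2, 2, 2, 0, 0, 1, 0, 1, 0, 0])) (BT.node (BT.node (BT.leaf [1, 0, 0, 0, 2, 0, 2, 0, 0, 1, 0, 1, 0, 0]) (BT.leaf [1, 0, 0, 0, 1, 2, 2, 0, 0, 0, 2, 0, 0, 0])) (BT.leaf [0, 0, 0, 0, 1, 1, 0, 0, 0, 1, 1, 1, 0, 0]))) (BT.node (BT.node (BT.node (BT.leaf [1, 0, 0, 0, 0, 0, 2, 0, 0, 2, 2, 0, 0, 0]) (BT.leaf [1, 0, 0, 0, 1, 2, 1, 0, 0, 0, 1, 2, 0, 0])) (BT.leaf [1, 0, 0, 0, 1, 0, 1, 0, 0, 1, 1, 0, 0, 0])) (BT.node (BT.leaf [0, 0, 0, 0, 1, 2, 2, 0, 0, 2, 2, 0, 0, 0]) (BT.leaf [1, 0, 0, 0, 2, 2, 1, 0, 0, 0, 2, 0, 0, 0])))) (BT.node (BT.node (BT.node (BT.node (BT.leaf [0, 0, 0, 0, 1, 2, 1, 0, 0, 2, 0, 0, 0, 0]) (BT.leaf [1,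 0, 0, 0, 2, 1, 2, 0, 0, 1, 1, 2, 0, 0])) (BT.leaf [1, 0, 0, 0, 1, 2, 1, 0, 0, 2, 0, 2, 0, 0])) (BT.node (BT.node (BT.leaf [1, 0, 0, 0, 2, 0, 0, 0, 0, 2, 0, 2, 0, 0]) (BT.leaf [1, 0, 0, 0, 1, 1, 0, 0, 0, 0, 1, 0, 0, 0])) (BT.leaf [1, 0, 0, 0, 0, 2, 2, 0, 0, 1, 1, 2, 0, 0]))) (BT.node (BT.node (BT.node (BT.leaf [1, 0, 0, 0, 0, 0, 1, 0, 0, 1, 0, 1, 0, 0]) (BT.leaf [1, 0, 0, 0, 2, 0, 2, 0, 0, 0, 2, 2, 0, 0])) (BT.leaf [1, 0, 0, 0, 2, 1, 2, 0, 0, 1, 2, 0, 0, 0])) (BT.node (BT.leaf [1, 0, 0, 0, 0, 2, 1, 0, 0, 1, 0, 2, 0, 0]) (BT.leaf [0, 0, 0, 0, 1, 2, 2, 0, 0, 0, 1, 0, 0, 0]))))) (BT.node (BT.node (BT.node (BT.node (BT.node (BT.leaf [0, 0, 0, 0, 1, 1, 2, 0, 0, 1, 0, 0, 0, 0]) (BT.leaf [1, 0, 0, 0, 2, 0, 0, 0, 0, 1, 0, 2, 0, 0])) (BT.leaf [1, 0, 0, 0, 1, 0, 2, 0, 0, 2, 1, 0, 0, 0])) (BT.node (BT.node (BT.leaf [1, 0, 0, 0, 2, 1, 0, 0, 0, 1, 1, 0, 0, 0]) (BT.leaf [1,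 0, 0, 0, 2, 1, 1, 0, 0, 2, 1, 2, 0, 0])) (BT.leaf [0, 0, 0, 0, 0, 1, 0, 0, 0, 2, 2, 2, 0, 0]))) (BT.node (BT.node (BT.node (BT.leaf [0, 0, 0, 0, 0, 0, 1, 0, 0, 2, 2, 2, 0, 0]) (BT.leaf [1, 0, 0, 0, 0, 1, 0, 0, 0, 0, 1, 1, 0, 0])) (BT.leaf [1, 0, 0, 0, 2, 0, 0, 0, 0, 2, 1, 2, 0, 0])) (BT.node (BT.leaf [1, 0, 0, 0, 1, 2, 2, 0, 0, 2, 1, 1, 0, 0]) (BT.leaf [1, 0, 0, 0, 1, 2, 2, 0, 0, 1, 2, 1, 0, 0])))) (BT.node (BT.node (BT.node (BT.node (BT.leaf [1, 0, 0, 0, 1, 0, 2, 0, 0, 2, 0, 0, 0, 0]) (BT.leaf [1, 0, 0, 0, 1, 0, 0, 0, 0, 0, 1, 1, 0, 0])) (BT.leaf [0, 0, 0, 0, 1, 0, 1, 0, 0, 0, 1, 2, 0, 0])) (BT.node (BT.node (BT.leaf [1, 0, 0, 0, 0, 2, 2, 0, 0, 2, 0, 1, 0, 0]) (BT.leaf [1, 0, 0, 0, 0, 2, 0, 0, 0, 0, 2, 0, 0, 0])) (BT.leaf [1, 0, 0, 0, 2, 2, 0, 0, 0, 1, 1, 1, 0, 0]))) (BT.node (BT.node (BT.node (BT.leaf [1, 0, 0, 0, 1, 1, 0, 0, 0, 1, 2, 2, 0, 0]) (BT.leaf [1,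 0, 0, 0, 0, 1, 0, 0, 0, 2, 1, 2, 0, 0])) (BT.leaf [0, 0, 0, 0, 1, 0, 1, 0, 0, 1, 2, 1, 0, 0])) (BT.node (BT.leaf [1, 0, 0, 0, 0, 1, 2, 0, 0, 2, 0, 1, 0, 0]) (BT.leaf [1, 0, 0, 0, 2, 1, 0, 0, 0, 1, 2, 1, 0, 0])))))) (BT.node (BT.node (BT.node (BT.node (BT.node (BT.node (BT.leaf [0, 0, 0, 0, 0, 0, 1, 0, 0, 2, 2, 0, 0, 0]) (BT.leaf [1, 0, 0, 0, 2, 1, 0, 0, 0, 0, 0, 2, 0, 0])) (BT.leaf [1, 0, 0, 0, 2, 1, 1, 0, 0, 2, 0, 1, 0, 0])) (BT.node (BT.node (BT.leaf [1, 0, 0, 0, 2, 1, 1, 0, 0, 1, 2, 2, 0, 0]) (BT.leaf [1, 0, 0, 0, 2, 2, 1, 0, 0, 2, 1, 0, 0, 0])) (BT.leaf [1, 0, 0, 0, 2, 0, 2, 0, 0, 2, 1, 0, 0, 0]))) (BT.node (BT.node (BT.node (BT.leaf [1, 0, 0, 0, 1, 1, 1, 0, 0, 2, 2, 0, 0, 0]) (BT.leaf [1, 0, 0, 0, 1, 2, 2, 0, 0, 0, 1, 2, 0, 0])) (BT.leaf [1, 0, 0, 0, 0, 0, 2, 0, 0, 2, 2, 1, 0, 0])) (BT.node (BT.leaf [1, 0, 0, 0, 1, 2, 0, 0, 0, 2, 2, 0, 0, 0]) (BT.leaf [0,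 0, 0, 0, 1, 2, 2, 0, 0, 2, 1, 2, 0, 0])))) (BT.node (BT.node (BT.node (BT.node (BT.leaf [1, 0, 0, 0, 0, 1, 2, 0, 0, 1, 2, 2, 0, 0]) (BT.leaf [0, 0, 0, 0, 0, 1, 0, 0, 0, 2, 2, 1, 0, 0])) (BT.leaf [0, 0, 0, 0, 1, 0, 0, 0, 0, 2, 1, 2, 0, 0])) (BT.node (BT.node (BT.leaf [1, 0, 0, 0, 1, 0, 2, 0, 0, 1, 0, 2, 0, 0]) (BT.leaf [0, 0, 0, 0, 1, 1, 0, 0, 0, 0, 2, 0, 0, 0])) (BT.leaf [1, 0, 0, 0, 2, 0, 1, 0, 0, 1, 1, 0, 0, 0]))) (BT.node (BT.node (BT.node (BT.leaf [0, 0, 0, 0, 1, 2, 2, 0, 0, 1, 0, 0, 0, 0]) (BT.leaf [0, 0, 0, 0, 0, 1, 1, 0, 0, 0, 2, 1, 0, 0])) (BT.leaf [1, 0, 0, 0, 0, 0, 1, 0, 0, 1, 2, 0, 0, 0])) (BT.node (BT.leaf [1, 0, 0, 0, 1, 2, 1, 0, 0, 1, 1, 1, 0, 0]) (BT.leaf [0, 0, 0, 0, 1, 1, 2, 0, 0, 0, 2, 0, 0, 0]))))) (BT.node (BT.node (BT.node (BT.node (BT.node (BT.leaf [0, 0, 0, 0, 1, 0, 0, 0, 0, 1, 0, 2, 0, 0]) (BT.leaf [1, 0, 0, 0, 2, 1, 0, 0, 0, 2, 0, 2,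 0, 0])) (BT.leaf [0, 0, 0, 0, 1, 0, 1, 0, 0, 0, 2, 2, 0, 0])) (BT.node (BT.node (BT.leaf [1, 0, 0, 0, 2, 1, 1, 0, 0, 0, 0, 2, 0, 0]) (BT.leaf [0, 0, 0, 0, 1, 1, 0, 0, 0, 0, 0, 2, 0, 0])) (BT.leaf [0, 0, 0, 0, 1, 2, 0, 0, 0, 1, 1, 0, 0, 0]))) (BT.node (BT.node (BT.node (BT.leaf [1, 0, 0, 0, 0, 0, 1, 0, 0, 1, 1, 2, 0, 0]) (BT.leaf [1, 0, 0, 0, 0, 2, 1, 0, 0, 0, 2, 1, 0, 0])) (BT.leaf [1, 0, 0, 0, 2, 2, 1, 0, 0, 1, 1, 2, 0, 0])) (BT.node (BT.leaf [0, 0, 0, 0, 0, 1, 1, 0, 0, 1, 1, 2, 0, 0]) (BT.leaf [1, 0, 0, 0, 2, 2, 2, 0, 0, 1, 1, 0, 0, 0])))) (BT.node (BT.node (BT.node (BT.node (BT.leaf [0, 0, 0, 0, 1, 0, 1, 0, 0, 0, 0, 2, 0, 0]) (BT.leaf [1, 0, 0, 0, 1, 0, 1, 0, 0, 0, 0, 1, 0, 0])) (BT.leaf [1, 0, 0, 0, 2, 2, 0, 0, 0, 2, 2, 0, 0, 0])) (BT.node (BT.node (BT.leaf [0, 0, 0, 0, 1, 1, 1, 0, 0, 2, 0, 0, 0, 0]) (BT.leaf [0, 0, 0, 0, 1, 2, 0, 0, 0, 0, 0, 2, 0, 0]))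 (BT.leaf [1, 0, 0, 0, 1, 1, 0, 0, 0, 2, 2, 2, 0, 0]))) (BT.node (BT.node (BT.node (BT.leaf [1, 0, 0, 0, 2, 1, 2, 0, 0, 2, 0, 0, 0, 0]) (BT.leaf [1, 0, 0, 0, 2, 2, 0, 0, 0, 0, 1, 1, 0, 0])) (BT.leaf [1, 0, 0, 0, 0, 2, 1, 0, 0, 2, 1, 0, 0, 0])) (BT.node (BT.leaf [1, 0, 0, 0, 2, 1, 0, 0, 0, 2, 1, 0, 0, 0]) (BT.leaf [1, 0, 0, 0, 1, 2, 0, 0, 0, 1, 2, 0, 0, 0]))))))) (BT.node (BT.node (BT.node (BT.node (BT.node (BT.node (BT.node (BT.leaf [0, 0, 0, 0, 1, 0, 1, 0, 0, 2, 0, 0, 0, 0]) (BT.leaf [0, 0, 0, 0, 1, 2, 2, 0, 0, 0, 2, 1, 0, 0])) (BT.leaf [0, 0, 0, 0, 0, 1, 1, 0, 0, 1, 1, 1, 0, 0])) (BT.node (BT.node (BT.leaf [0, 0, 0, 0, 1, 1, 2, 0, 0, 2, 1, 0, 0, 0]) (BT.leaf [1, 0, 0, 0, 2, 1, 2, 0, 0, 0, 1, 0, 0, 0])) (BT.leaf [1, 0, 0, 0, 2, 0, 0, 0, 0, 2, 2, 2, 0, 0]))) (BT.node (BT.node (BT.node (BT.leaf [1, 0, 0, 0, 0, 0, 2, 0, 0, 2, 1, 2, 0, 0]) (BT.leaf [0, 0, 0, 0,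 1, 2, 0, 0, 0, 1, 2, 1, 0, 0])) (BT.leaf [0, 0, 0, 0, 0, 0, 1, 0, 0, 2, 1, 1, 0, 0])) (BT.node (BT.leaf [0, 0, 0, 0, 1, 2, 1, 0, 0, 0, 0, 2, 0, 0]) (BT.leaf [0, 0, 0, 0, 1, 1, 2, 0, 0, 0, 0, 2, 0, 0])))) (BT.node (BT.node (BT.node (BT.node (BT.leaf [0, 0, 0, 0, 0, 1, 1, 0, 0, 1, 1, 0, 0, 0]) (BT.leaf [1, 0, 0, 0, 1, 2, 0, 0, 0, 0, 2, 0, 0, 0])) (BT.leaf [1, 0, 0, 0, 0, 0, 1, 0, 0, 1, 1, 1, 0, 0])) (BT.node (BT.node (BT.leaf [1, 0, 0, 0, 1, 0, 0, 0, 0, 2, 2, 1, 0, 0]) (BT.leaf [1, 0, 0, 0, 2, 2, 0, 0, 0, 2, 0, 2, 0, 0])) (BT.leaf [1, 0, 0, 0, 1, 1, 2, 0, 0, 1, 0, 2, 0, 0]))) (BT.node (BT.node (BT.node (BT.leaf [1, 0, 0, 0, 2, 1, 2, 0, 0, 1, 0, 1, 0, 0]) (BT.leaf [0, 0, 0, 0, 1, 1, 0, 0, 0, 0, 1, 1, 0, 0])) (BT.leaf [1, 0, 0, 0, 0, 0, 1, 0, 0, 1, 2, 1, 0, 0])) (BT.node (BT.leaf [1, 0, 0, 0, 2, 2, 2, 0, 0, 1, 2, 2, 0, 0]) (BT.leaf [1, 0, 0, 0, 1, 1, 0, 0, 0, 2,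 0, 1, 0, 0]))))) (BT.node (BT.node (BT.node (BT.node (BT.node (BT.leaf [0, 0, 0, 0, 1, 0, 2, 0, 0, 1, 1, 0, 0, 0]) (BT.leaf [1, 0, 0, 0, 1, 1, 1, 0, 0, 2, 1, 1, 0, 0])) (BT.leaf [1, 0, 0, 0, 1, 2, 1, 0, 0, 1, 2, 2, 0, 0])) (BT.node (BT.node (BT.leaf [1, 0, 0, 0, 1, 2, 0, 0, 0, 2, 0, 1, 0, 0]) (BT.leaf [0, 0, 0, 0, 1, 0, 0, 0, 0, 0, 1, 2, 0, 0])) (BT.leaf [1, 0, 0, 0, 2, 1, 2, 0, 0, 0, 0, 2, 0, 0]))) (BT.node (BT.node (BT.node (BT.leaf [1, 0, 0, 0, 1, 1, 1, 0, 0, 1, 0, 0, 0, 0]) (BT.leaf [1, 0, 0, 0, 2, 1, 0, 0, 0, 0, 2, 1, 0, 0])) (BT.leaf [1, 0, 0, 0, 2, 0, 1, 0, 0, 2, 0, 1, 0, 0])) (BT.node (BT.leaf [1, 0, 0, 0, 0, 1, 1, 0, 0, 0, 1, 1, 0, 0]) (BT.leaf [0, 0, 0, 0, 1, 0, 0, 0, 0, 2, 2, 2, 0, 0])))) (BT.node (BT.node (BT.node (BT.node (BT.leaf [1, 0, 0, 0, 1, 2, 1, 0, 0, 1, 0, 0, 0, 0]) (BT.leaf [1, 0, 0, 0, 2, 1, 1, 0, 0, 0, 1, 0, 0, 0])) (BT.leaf [1, 0, 0,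 0, 1, 1, 2, 0, 0, 1, 2, 0, 0, 0])) (BT.node (BT.node (BT.leaf [0, 0, 0, 0, 1, 0, 2, 0, 0, 2, 2, 1, 0, 0]) (BT.leaf [1, 0, 0, 0, 2, 0, 0, 0, 0, 0, 0, 2, 0, 0])) (BT.leaf [1, 0, 0, 0, 2, 2, 2, 0, 0, 2, 1, 2, 0, 0]))) (BT.node (BT.node (BT.node (BT.leaf [0, 0, 0, 0, 1, 1, 2, 0, 0, 2, 0, 1, 0, 0]) (BT.leaf [1, 0, 0, 0, 2, 1, 2, 0, 0, 0, 2, 1, 0, 0])) (BT.leaf [1, 0, 0, 0, 1, 1, 0, 0, 0, 1, 1, 0, 0, 0])) (BT.node (BT.leaf [1, 0, 0, 0, 0, 1, 2, 0, 0, 1, 2, 1, 0, 0]) (BT.leaf [1, 0, 0, 0, 0, 1, 0, 0, 0, 1, 1, 0, 0, 0])))))) (BT.node (BT.node (BT.node (BT.node (BT.node (BT.node (BT.leaf [0, 0, 0, 0, 0, 0, 1, 0, 0, 2, 0, 1, 0, 0]) (BT.leaf [0, 0, 0, 0, 1, 0, 0, 0, 0, 0, 0, 2, 0, 0])) (BT.leaf [1, 0, 0, 0, 1, 0, 2, 0, 0, 2, 2, 0, 0, 0])) (BT.node (BT.node (BT.leaf [0, 0, 0, 0, 1, 0, 2, 0, 0, 2, 1, 1, 0, 0]) (BT.leaf [1, 0, 0, 0, 1, 1, 2, 0, 0, 1, 1, 1, 0, 0])) (BT.leaf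 [1, 0, 0, 0, 0, 2, 2, 0, 0, 2, 0, 2, 0, 0]))) (BT.node (BT.node (BT.node (BT.leaf [1, 0, 0, 0, 0, 0, 1, 0, 0, 1, 2, 2, 0, 0]) (BT.leaf [1, 0, 0, 0, 0, 2, 0, 0, 0, 1, 2, 0, 0, 0])) (BT.leaf [1, 0, 0, 0, 0, 1, 2, 0, 0, 0, 1, 1, 0, 0])) (BT.node (BT.leaf [0, 0, 0, 0, 1, 2, 2, 0, 0, 1, 1, 1, 0, 0]) (BT.leaf [1, 0, 0, 0, 0, 2, 1, 0, 0, 2, 1, 1, 0, 0])))) (BT.node (BT.node (BT.node (BT.node (BT.leaf [0, 0, 0, 0, 0, 1, 2, 0, 0, 1, 0, 1, 0, 0]) (BT.leaf [1, 0, 0, 0, 2, 0, 0, 0, 0, 1, 2, 2, 0, 0])) (BT.leaf [1, 0, 0, 0, 2, 0, 2, 0, 0, 0, 1, 2, 0, 0])) (BT.node (BT.node (BT.leaf [1, 0, 0, 0, 2, 0, 1, 0, 0, 1, 2, 0, 0, 0]) (BT.leaf [0, 0, 0, 0, 1, 0, 0, 0, 0, 0, 2, 2, 0, 0])) (BT.leaf [1, 0, 0, 0, 2, 0, 1, 0, 0, 0, 0, 2, 0, 0]))) (BT.node (BT.node (BT.node (BT.leaf [0, 0, 0, 0, 1, 1, 1, 0, 0, 1, 1, 0, 0, 0]) (BT.leaf [0, 0, 0, 0, 0, 1, 2, 0, 0, 0, 2, 2, 0, 0])) (BT.leaf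 [1, 0, 0, 0, 2, 1, 1, 0, 0, 1, 1, 1, 0, 0])) (BT.node (BT.leaf [0, 0, 0, 0, 0, 1, 2, 0, 0, 0, 2, 1, 0, 0]) (BT.leaf [1, 0, 0, 0, 2, 1, 0, 0, 0, 1, 0, 2, 0, 0]))))) (BT.node (BT.node (BT.node (BT.node (BT.node (BT.leaf [0, 0, 0, 0, 1, 0, 2, 0, 0, 2, 0, 1, 0, 0]) (BT.leaf [1, 0, 0, 0, 1, 0, 0, 0, 0, 1, 1, 1, 0, 0])) (BT.leaf [0, 0, 0, 0, 1, 2, 2, 0, 0, 1, 2, 2, 0, 0])) (BT.node (BT.node (BT.leaf [0, 0, 0, 0, 1, 0, 0, 0, 0, 2, 0, 2, 0, 0]) (BT.leaf [1, 0, 0, 0, 2, 0, 0, 0, 0, 0, 2, 2, 0, 0])) (BT.leaf [1, 0, 0, 0, 2, 1, 1, 0, 0, 0, 2, 1, 0, 0]))) (BT.node (BT.node (BT.node (BT.leaf [1, 0, 0, 0, 2, 2, 1, 0, 0, 2, 0, 1, 0, 0]) (BT.leaf [1, 0, 0, 0, 1, 2, 0, 0, 0, 1, 0, 1, 0, 0])) (BT.leaf [1, 0, 0, 0, 1, 1, 1, 0, 0, 0, 2, 2, 0, 0])) (BT.node (BT.leaf [0, 0, 0, 0, 0, 1, 2, 0, 0, 2, 1, 1, 0, 0]) (BT.leaf [1, 0, 0, 0, 0, 1, 1, 0, 0, 0, 1, 2, 0, 0])))) (BT.node (BT.node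 (BT.node (BT.node (BT.leaf [1, 0, 0, 0, 2, 2, 2, 0, 0, 2, 0, 0, 0, 0]) (BT.leaf [0, 0, 0, 0, 0, 1, 0, 0, 0, 0, 2, 0, 0, 0])) (BT.leaf [1, 0, 0, 0, 0, 1, 2, 0, 0, 0, 1, 2, 0, 0])) (BT.node (BT.leaf [1, 0, 0, 0, 0, 1, 1, 0, 0, 2, 2, 1, 0, 0]) (BT.leaf [1, 0, 0, 0, 0, 2, 0, 0, 0, 1, 2, 1, 0, 0]))) (BT.node (BT.node (BT.node (BT.leaf [1, 0, 0, 0, 2, 0, 1, 0, 0, 2, 1, 1, 0, 0]) (BT.leaf [1, 0, 0, 0, 0, 2, 0, 0, 0, 2, 2, 2, 0, 0])) (BT.leaf [1, 0, 0, 0, 1, 2, 2, 0, 0, 1, 0, 2, 0, 0])) (BT.node (BT.leaf [0, 0, 0, 0, 0, 1, 2, 0, 0, 2, 1, 2, 0, 0]) (BT.leaf [1, 0, 0, 0, 2, 2, 0, 0, 0, 1, 0, 2, 0, 0])))))))))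

/-- The points. -/
def tb7 (i : ℕ) : List ℕ := tblT7.look i

/-- The permutations of the root elements, as trees. -/
def lgT7 : List (BT ℕ) :=
  [(BT.node (BT.node (BT.node (BT.node (BT.node (BT.node (BT.node (BT.node (BT.node (BT.leaf 0) (BT.leaf 136)) (BT.leaf 48)) (BT.node (BT.node (BT.leaf 181) (BT.leaf 236)) (BT.leaf 49))) (BT.node (BT.node (BT.node (BT.leaf 32) (BT.leaf 348)) (BT.leaf 199)) (BT.node (BT.leaf 241) (BT.leaf 118)))) (BT.node (BT.node (BT.node (BT.node (BT.leaf 16) (BT.leaf 206)) (BT.leaf 309)) (BT.node (BT.node (BT.leaf 13) (BT.leaf 282)) (BT.leaf 157))) (BT.node (BT.node (BT.node (BT.leaf 134) (BT.leaf 285)) (BT.leaf 145)) (BT.node (BT.leaf 242) (BT.leaf 194))))) (BT.node (BT.node (BT.node (BT.node (BT.node (BT.leaf 50) (BT.leaf 79)) (BT.leaf 104)) (BT.node (BT.node (BT.leaf 72) (BT.leaf 214)) (BT.leaf 130))) (BT.node (BT.node (BT.node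 (BT.leaf 60) (BT.leaf 328)) (BT.leaf 219)) (BT.node (BT.leaf 256) (BT.leaf 107)))) (BT.node (BT.node (BT.node (BT.node (BT.leaf 132) (BT.leaf 116)) (BT.leaf 99)) (BT.node (BT.node (BT.leaf 59) (BT.leaf 258)) (BT.leaf 279))) (BT.node (BT.node (BT.node (BT.leaf 56) (BT.leaf 326)) (BT.leaf 273)) (BT.node (BT.leaf 150) (BT.leaf 169)))))) (BT.node (BT.node (BT.node (BT.node (BT.node (BT.node (BT.leaf 4) (BT.leaf 215)) (BT.leaf 7)) (BT.node (BT.node (BT.leaf 38) (BT.leaf 300)) (BT.leaf 304))) (BT.node (BT.node (BT.node (BT.leaf 89) (BT.leaf 350)) (BT.leaf 160)) (BT.node (BT.leaf 143) (BT.leaf 165)))) (BT.node (BT.node (BT.node (BT.node (BT.leaf 20) (BT.leaf 342)) (BT.leaf 141)) (BT.node (BT.node (BT.leaf 173) (BT.leaf 307)) (BT.leaf 111))) (BT.node (BT.node (BT.node (BT.leaf 200) (BT.leaf 275)) (BT.leaf 179)) (BT.node (BT.leaf 246) (BT.leaf 131))))) (BT.node (BT.node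 (BT.node (BT.node (BT.node (BT.leaf 12) (BT.leaf 91)) (BT.leaf 233)) (BT.node (BT.node (BT.leaf 237) (BT.leaf 336)) (BT.leaf 232))) (BT.node (BT.node (BT.node (BT.leaf 161) (BT.leaf 315)) (BT.leaf 125)) (BT.node (BT.leaf 113) (BT.leaf 203)))) (BT.node (BT.node (BT.node (BT.node (BT.leaf 146) (BT.leaf 311)) (BT.leaf 245)) (BT.node (BT.node (BT.leaf 227) (BT.leaf 283)) (BT.leaf 94))) (BT.node (BT.node (BT.node (BT.leaf 188) (BT.leaf 253)) (BT.leaf 40)) (BT.node (BT.leaf 22) (BT.leaf 226))))))) (BT.node (BT.node (BT.node (BT.node (BT.node (BT.node (BT.node (BT.leaf 2) (BT.leaf 257)) (BT.leaf 52)) (BT.node (BT.node (BT.leaf 138) (BT.leaf 149)) (BT.leaf 234))) (BT.node (BT.node (BT.node (BT.leaf 105) (BT.leaf 325)) (BT.leaf 137)) (BT.node (BT.leaf 34) (BT.leaf 90)))) (BT.node (BT.node (BT.node (BT.node (BT.leaf 18) (BT.leaf 223)) (BT.leaf 327)) (BT.node (BT.node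 (BT.leaf 95) (BT.leaf 271)) (BT.leaf 106))) (BT.node (BT.node (BT.node (BT.leaf 23) (BT.leaf 321)) (BT.leaf 190)) (BT.node (BT.leaf 192) (BT.leaf 175))))) (BT.node (BT.node (BT.node (BT.node (BT.node (BT.leaf 10) (BT.leaf 75)) (BT.leaf 37)) (BT.node (BT.node (BT.leaf 74) (BT.leaf 239)) (BT.leaf 148))) (BT.node (BT.node (BT.node (BT.leaf 42) (BT.leaf 335)) (BT.leaf 178)) (BT.node (BT.leaf 154) (BT.leaf 240)))) (BT.node (BT.node (BT.node (BT.node (BT.leaf 5) (BT.leaf 332)) (BT.leaf 210)) (BT.node (BT.node (BT.leaf 252) (BT.leaf 337)) (BT.leaf 298))) (BT.node (BT.node (BT.node (BT.leaf 180) (BT.leaf 96)) (BT.leaf 176)) (BT.node (BT.leaf 177) (BT.leaf 144)))))) (BT.node (BT.node (BT.node (BT.node (BT.node (BT.node (BT.leaf 6) (BT.leaf 264)) (BT.leaf 128)) (BT.node (BT.node (BT.leaf 102) (BT.leaf 323)) (BT.leaf 303))) (BT.node (BT.node (BT.node (BT.leaf 30) (BT.leaf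 286)) (BT.leaf 41)) (BT.node (BT.leaf 277) (BT.leaf 302)))) (BT.node (BT.node (BT.node (BT.node (BT.leaf 67) (BT.leaf 92)) (BT.leaf 329)) (BT.node (BT.node (BT.leaf 21) (BT.leaf 299)) (BT.leaf 296))) (BT.node (BT.node (BT.node (BT.leaf 54) (BT.leaf 306)) (BT.leaf 244)) (BT.node (BT.leaf 305) (BT.leaf 280))))) (BT.node (BT.node (BT.node (BT.node (BT.node (BT.leaf 82) (BT.leaf 347)) (BT.leaf 142)) (BT.node (BT.node (BT.leaf 80) (BT.leaf 341)) (BT.leaf 83))) (BT.node (BT.node (BT.node (BT.leaf 108) (BT.leaf 225)) (BT.leaf 284)) (BT.node (BT.leaf 76) (BT.leaf 172)))) (BT.node (BT.node (BT.node (BT.node (BT.leaf 68) (BT.leaf 167)) (BT.leaf 228)) (BT.node (BT.node (BT.leaf 205) (BT.leaf 331)) (BT.leaf 198))) (BT.node (BT.node (BT.node (BT.leaf 135) (BT.leaf 301)) (BT.leaf 170)) (BT.node (BT.leaf 156) (BT.leaf 346)))))))) (BT.node (BT.node (BT.node (BT.node (BT.node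 (BT.node (BT.node (BT.node (BT.leaf 1) (BT.leaf 344)) (BT.leaf 51)) (BT.node (BT.node (BT.leaf 129) (BT.leaf 310)) (BT.leaf 235))) (BT.node (BT.node (BT.node (BT.leaf 62) (BT.leaf 330)) (BT.leaf 213)) (BT.node (BT.leaf 19) (BT.leaf 230)))) (BT.node (BT.node (BT.node (BT.node (BT.leaf 17) (BT.leaf 209)) (BT.leaf 186)) (BT.node (BT.node (BT.leaf 269) (BT.leaf 254)) (BT.leaf 184))) (BT.node (BT.node (BT.node (BT.leaf 114) (BT.leaf 224)) (BT.leaf 155)) (BT.node (BT.leaf 46) (BT.leaf 314))))) (BT.node (BT.node (BT.node (BT.node (BT.node (BT.leaf 9) (BT.leaf 247)) (BT.leaf 197)) (BT.node (BT.node (BT.leaf 251) (BT.leaf 120)) (BT.leaf 193))) (BT.node (BT.node (BT.node (BT.leaf 103) (BT.leaf 281)) (BT.leaf 313)) (BT.node (BT.leaf 98) (BT.leaf 123)))) (BT.node (BT.node (BT.node (BT.node (BT.leaf 25) (BT.leaf 317)) (BT.leaf 259)) (BT.node (BT.node (BT.leaf 121) (BT.leaf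 308)) (BT.leaf 338))) (BT.node (BT.node (BT.node (BT.leaf 216) (BT.leaf 248)) (BT.leaf 127)) (BT.node (BT.leaf 36) (BT.leaf 274)))))) (BT.node (BT.node (BT.node (BT.node (BT.node (BT.node (BT.leaf 11) (BT.leaf 270)) (BT.leaf 171)) (BT.node (BT.node (BT.leaf 139) (BT.leaf 189)) (BT.leaf 162))) (BT.node (BT.node (BT.node (BT.leaf 66) (BT.leaf 151)) (BT.leaf 158)) (BT.node (BT.leaf 208) (BT.leaf 185)))) (BT.node (BT.node (BT.node (BT.node (BT.leaf 115) (BT.leaf 70)) (BT.leaf 291)) (BT.node (BT.node (BT.leaf 211) (BT.leaf 287)) (BT.leaf 44))) (BT.node (BT.node (BT.node (BT.leaf 53) (BT.leaf 250)) (BT.leaf 87)) (BT.node (BT.leaf 183) (BT.leaf 126))))) (BT.node (BT.node (BT.node (BT.node (BT.node (BT.leaf 78) (BT.leaf 339)) (BT.leaf 202)) (BT.node (BT.node (BT.leaf 260) (BT.leaf 349)) (BT.leaf 220))) (BT.node (BT.node (BT.node (BT.leaf 84) (BT.leaf 207)) (BT.leaf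 45)) (BT.node (BT.leaf 268) (BT.leaf 110)))) (BT.node (BT.node (BT.node (BT.node (BT.leaf 152) (BT.leaf 196)) (BT.leaf 101)) (BT.node (BT.node (BT.leaf 93) (BT.leaf 263)) (BT.leaf 319))) (BT.node (BT.node (BT.node (BT.leaf 61) (BT.leaf 297)) (BT.leaf 290)) (BT.node (BT.leaf 238) (BT.leaf 295))))))) (BT.node (BT.node (BT.node (BT.node (BT.node (BT.node (BT.node (BT.leaf 3) (BT.leaf 119)) (BT.leaf 182)) (BT.node (BT.node (BT.leaf 124) (BT.leaf 312)) (BT.leaf 221))) (BT.node (BT.node (BT.node (BT.leaf 168) (BT.leaf 322)) (BT.leaf 100)) (BT.node (BT.leaf 29) (BT.leaf 278)))) (BT.node (BT.node (BT.node (BT.node (BT.leaf 55) (BT.leaf 345)) (BT.leaf 117)) (BT.node (BT.node (BT.leaf 272) (BT.leaf 81)) (BT.leaf 191))) (BT.node (BT.node (BT.node (BT.leaf 65) (BT.leaf 343)) (BT.leaf 58)) (BT.node (BT.leaf 86) (BT.leaf 266))))) (BT.node (BT.node (BT.node (BT.node (BT.node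 (BT.leaf 26) (BT.leaf 63)) (BT.leaf 39)) (BT.node (BT.node (BT.leaf 243) (BT.leaf 292)) (BT.leaf 320))) (BT.node (BT.node (BT.node (BT.leaf 43) (BT.leaf 276)) (BT.leaf 47)) (BT.node (BT.leaf 204) (BT.leaf 201)))) (BT.node (BT.node (BT.node (BT.node (BT.leaf 27) (BT.leaf 288)) (BT.leaf 122)) (BT.node (BT.node (BT.leaf 109) (BT.leaf 261)) (BT.leaf 35))) (BT.node (BT.node (BT.node (BT.leaf 15) (BT.leaf 324)) (BT.leaf 73)) (BT.node (BT.leaf 140) (BT.leaf 187)))))) (BT.node (BT.node (BT.node (BT.node (BT.node (BT.node (BT.leaf 24) (BT.leaf 333)) (BT.leaf 33)) (BT.node (BT.node (BT.leaf 212) (BT.leaf 28)) (BT.leaf 164))) (BT.node (BT.node (BT.node (BT.leaf 69) (BT.leaf 316)) (BT.leaf 294)) (BT.node (BT.leaf 166) (BT.leaf 267)))) (BT.node (BT.node (BT.node (BT.node (BT.leaf 8) (BT.leaf 57)) (BT.leaf 159)) (BT.node (BT.node (BT.leaf 64) (BT.leaf 340)) (BT.leaf 77)))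 (BT.node (BT.node (BT.node (BT.leaf 97) (BT.leaf 174)) (BT.leaf 147)) (BT.node (BT.leaf 153) (BT.leaf 255))))) (BT.node (BT.node (BT.node (BT.node (BT.node (BT.leaf 88) (BT.leaf 217)) (BT.leaf 163)) (BT.node (BT.node (BT.leaf 262) (BT.leaf 218)) (BT.leaf 318))) (BT.node (BT.node (BT.node (BT.leaf 133) (BT.leaf 222)) (BT.leaf 112)) (BT.node (BT.leaf 71) (BT.leaf 289)))) (BT.node (BT.node (BT.node (BT.node (BT.leaf 31) (BT.leaf 334)) (BT.leaf 293)) (BT.node (BT.leaf 14) (BT.leaf 249))) (BT.node (BT.node (BT.node (BT.leaf 231) (BT.leaf 195)) (BT.leaf 85)) (BT.node (BT.leaf 229) (BT.leaf 265))))))))),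
  (BT.node (BT.node (BT.node (BT.node (BT.node (BT.node (BT.node (BT.node (BT.node (BT.leaf 1) (BT.leaf 304)) (BT.leaf 264)) (BT.node (BT.node (BT.leaf 87) (BT.leaf 270)) (BT.leaf 222))) (BT.node (BT.node (BT.node (BT.leaf 61) (BT.leaf 288)) (BT.leaf 269)) (BT.node (BT.leaf 96) (BT.leaf 218)))) (BT.node (BT.node (BT.node (BT.node (BT.leaf 53) (BT.leaf 158)) (BT.leaf 292)) (BT.node (BT.node (BT.leaf 59) (BT.leaf 239)) (BT.leaf 157))) (BT.node (BT.node (BT.node (BT.leaf 79) (BT.leaf 257)) (BT.leaf 160)) (BT.node (BT.leaf 118) (BT.leaf 200))))) (BT.node (BT.node (BT.node (BT.node (BT.node (BT.leaf 48) (BT.leaf 23)) (BT.leaf 285)) (BT.node (BT.node (BT.leaf 43) (BT.leaf 173)) (BT.leaf 221))) (BT.node (BT.node (BT.node (BT.leaf 70) (BT.leaf 84)) (BT.leaf 313)) (BT.node (BT.leaf 196) (BT.leaf 317)))) (BT.node (BT.node (BT.node (BT.node (BT.leaf 78) (BT.leaf 212))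 (BT.leaf 227)) (BT.node (BT.node (BT.leaf 24) (BT.leaf 136)) (BT.leaf 139))) (BT.node (BT.node (BT.node (BT.leaf 6) (BT.leaf 312)) (BT.leaf 214)) (BT.node (BT.leaf 219) (BT.leaf 120)))))) (BT.node (BT.node (BT.node (BT.node (BT.node (BT.node (BT.leaf 10) (BT.leaf 320)) (BT.leaf 80)) (BT.node (BT.node (BT.leaf 30) (BT.leaf 318)) (BT.leaf 258))) (BT.node (BT.node (BT.node (BT.leaf 171) (BT.leaf 259)) (BT.leaf 81)) (BT.node (BT.leaf 280) (BT.leaf 95)))) (BT.node (BT.node (BT.node (BT.node (BT.leaf 27) (BT.leaf 324)) (BT.leaf 174)) (BT.node (BT.node (BT.leaf 273) (BT.leaf 202)) (BT.leaf 100))) (BT.node (BT.node (BT.node (BT.leaf 195) (BT.leaf 308)) (BT.leaf 249)) (BT.node (BT.leaf 111) (BT.leaf 201))))) (BT.node (BT.node (BT.node (BT.node (BT.node (BT.leaf 72) (BT.leaf 188)) (BT.leaf 179)) (BT.node (BT.node (BT.leaf 237) (BT.leaf 330)) (BT.leaf 281))) (BT.node (BT.node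 (BT.node (BT.leaf 161) (BT.leaf 301)) (BT.leaf 238)) (BT.node (BT.leaf 211) (BT.leaf 347)))) (BT.node (BT.node (BT.node (BT.node (BT.leaf 147) (BT.leaf 343)) (BT.leaf 156)) (BT.node (BT.node (BT.leaf 263) (BT.leaf 348)) (BT.leaf 94))) (BT.node (BT.node (BT.node (BT.leaf 102) (BT.leaf 295)) (BT.leaf 277)) (BT.node (BT.leaf 67) (BT.leaf 105))))))) (BT.node (BT.node (BT.node (BT.node (BT.node (BT.node (BT.node (BT.leaf 9) (BT.leaf 104)) (BT.leaf 319)) (BT.node (BT.node (BT.leaf 138) (BT.leaf 170)) (BT.leaf 130))) (BT.node (BT.node (BT.node (BT.leaf 63) (BT.leaf 189)) (BT.leaf 197)) (BT.node (BT.leaf 267) (BT.leaf 98)))) (BT.node (BT.node (BT.node (BT.node (BT.leaf 54) (BT.leaf 140)) (BT.leaf 117)) (BT.node (BT.node (BT.leaf 272) (BT.leaf 327)) (BT.leaf 154))) (BT.node (BT.node (BT.node (BT.leaf 134) (BT.leaf 306)) (BT.leaf 185)) (BT.node (BT.leaf 303) (BT.leaf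 305))))) (BT.node (BT.node (BT.node (BT.node (BT.node (BT.leaf 25) (BT.leaf 36)) (BT.leaf 37)) (BT.node (BT.node (BT.leaf 32) (BT.leaf 151)) (BT.leaf 311))) (BT.node (BT.node (BT.node (BT.leaf 56) (BT.leaf 112)) (BT.leaf 229)) (BT.node (BT.leaf 210) (BT.leaf 52)))) (BT.node (BT.node (BT.node (BT.node (BT.leaf 5) (BT.leaf 289)) (BT.leaf 106)) (BT.node (BT.node (BT.leaf 34) (BT.leaf 346)) (BT.leaf 175))) (BT.node (BT.node (BT.node (BT.leaf 223) (BT.leaf 314)) (BT.leaf 164)) (BT.node (BT.leaf 155) (BT.leaf 331)))))) (BT.node (BT.node (BT.node (BT.node (BT.node (BT.node (BT.leaf 42) (BT.leaf 50)) (BT.leaf 262)) (BT.node (BT.node (BT.leaf 91) (BT.leaf 326)) (BT.leaf 65))) (BT.node (BT.node (BT.node (BT.leaf 68) (BT.leaf 204)) (BT.leaf 131)) (BT.node (BT.leaf 109) (BT.leaf 230)))) (BT.node (BT.node (BT.node (BT.node (BT.leaf 124) (BT.leaf 349)) (BT.leaf 35)) (BT.node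 (BT.node (BT.leaf 279) (BT.leaf 300)) (BT.leaf 45))) (BT.node (BT.node (BT.node (BT.leaf 31) (BT.leaf 310)) (BT.leaf 235)) (BT.node (BT.leaf 298) (BT.leaf 71))))) (BT.node (BT.node (BT.node (BT.node (BT.node (BT.leaf 83) (BT.leaf 260)) (BT.leaf 20)) (BT.node (BT.node (BT.leaf 88) (BT.leaf 334)) (BT.leaf 228))) (BT.node (BT.node (BT.node (BT.leaf 85) (BT.leaf 302)) (BT.leaf 307)) (BT.node (BT.leaf 76) (BT.leaf 125)))) (BT.node (BT.node (BT.node (BT.node (BT.leaf 38) (BT.leaf 232)) (BT.leaf 82)) (BT.node (BT.node (BT.leaf 205) (BT.leaf 119)) (BT.leaf 51))) (BT.node (BT.node (BT.node (BT.leaf 135) (BT.leaf 276)) (BT.leaf 127)) (BT.node (BT.leaf 126) (BT.leaf 254)))))))) (BT.node (BT.node (BT.node (BT.node (BT.node (BT.node (BT.node (BT.node (BT.leaf 3) (BT.leaf 256)) (BT.leaf 114)) (BT.node (BT.node (BT.leaf 49) (BT.leaf 321)) (BT.leaf 166))) (BT.node (BT.node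 (BT.node (BT.leaf 62) (BT.leaf 293)) (BT.leaf 213)) (BT.node (BT.leaf 19) (BT.leaf 225)))) (BT.node (BT.node (BT.node (BT.node (BT.leaf 2) (BT.leaf 296)) (BT.leaf 199)) (BT.node (BT.node (BT.leaf 186) (BT.leaf 337)) (BT.leaf 328))) (BT.node (BT.node (BT.node (BT.leaf 198) (BT.leaf 335)) (BT.leaf 122)) (BT.node (BT.leaf 191) (BT.leaf 241))))) (BT.node (BT.node (BT.node (BT.node (BT.node (BT.leaf 17) (BT.leaf 46)) (BT.leaf 162)) (BT.node (BT.node (BT.leaf 251) (BT.leaf 168)) (BT.leaf 103))) (BT.node (BT.node (BT.node (BT.leaf 182) (BT.leaf 167)) (BT.leaf 150)) (BT.node (BT.leaf 231) (BT.leaf 58)))) (BT.node (BT.node (BT.node (BT.node (BT.leaf 4) (BT.leaf 294)) (BT.leaf 250)) (BT.node (BT.node (BT.leaf 47) (BT.leaf 345)) (BT.leaf 146))) (BT.node (BT.node (BT.node (BT.leaf 69) (BT.leaf 329)) (BT.leaf 149)) (BT.node (BT.leaf 133) (BT.leaf 123)))))) (BT.node (BT.node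 (BT.node (BT.node (BT.node (BT.node (BT.leaf 11) (BT.leaf 77)) (BT.leaf 243)) (BT.node (BT.node (BT.leaf 21) (BT.leaf 290)) (BT.leaf 137))) (BT.node (BT.node (BT.node (BT.leaf 66) (BT.leaf 282)) (BT.leaf 14)) (BT.node (BT.leaf 208) (BT.leaf 322)))) (BT.node (BT.node (BT.node (BT.node (BT.leaf 57) (BT.leaf 268)) (BT.leaf 178)) (BT.node (BT.node (BT.leaf 265) (BT.leaf 341)) (BT.leaf 44))) (BT.node (BT.node (BT.node (BT.leaf 93) (BT.leaf 350)) (BT.leaf 64)) (BT.node (BT.leaf 217) (BT.leaf 245))))) (BT.node (BT.node (BT.node (BT.node (BT.node (BT.leaf 15) (BT.leaf 176)) (BT.leaf 284)) (BT.node (BT.node (BT.leaf 203) (BT.leaf 152)) (BT.leaf 220))) (BT.node (BT.node (BT.node (BT.leaf 184) (BT.leaf 342)) (BT.leaf 209)) (BT.node (BT.leaf 60) (BT.leaf 110)))) (BT.node (BT.node (BT.node (BT.node (BT.leaf 92) (BT.leaf 344)) (BT.leaf 101)) (BT.node (BT.node (BT.leaf 16)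 (BT.leaf 99)) (BT.leaf 240))) (BT.node (BT.node (BT.node (BT.leaf 74) (BT.leaf 286)) (BT.leaf 325)) (BT.node (BT.leaf 172) (BT.leaf 316))))))) (BT.node (BT.node (BT.node (BT.node (BT.node (BT.node (BT.node (BT.leaf 0) (BT.leaf 144)) (BT.leaf 193)) (BT.node (BT.node (BT.leaf 22) (BT.leaf 323)) (BT.leaf 234))) (BT.node (BT.node (BT.node (BT.leaf 169) (BT.leaf 190)) (BT.leaf 246)) (BT.node (BT.leaf 278) (BT.leaf 333)))) (BT.node (BT.node (BT.node (BT.node (BT.leaf 55) (BT.leaf 275)) (BT.leaf 271)) (BT.node (BT.node (BT.leaf 165) (BT.leaf 145)) (BT.leaf 247))) (BT.node (BT.node (BT.node (BT.leaf 192) (BT.leaf 148)) (BT.leaf 274)) (BT.node (BT.leaf 216) (BT.leaf 121))))) (BT.node (BT.node (BT.node (BT.node (BT.node (BT.leaf 26) (BT.leaf 226)) (BT.leaf 115)) (BT.node (BT.node (BT.leaf 89) (BT.leaf 153)) (BT.leaf 261))) (BT.node (BT.node (BT.node (BT.leaf 12) (BT.leaf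 315)) (BT.leaf 266)) (BT.node (BT.leaf 297) (BT.leaf 41)))) (BT.node (BT.node (BT.node (BT.node (BT.leaf 142) (BT.leaf 283)) (BT.leaf 177)) (BT.node (BT.node (BT.leaf 40) (BT.leaf 215)) (BT.leaf 248))) (BT.node (BT.node (BT.node (BT.leaf 132) (BT.leaf 207)) (BT.leaf 73)) (BT.node (BT.leaf 180) (BT.leaf 187)))))) (BT.node (BT.node (BT.node (BT.node (BT.node (BT.node (BT.leaf 13) (BT.leaf 29)) (BT.leaf 33)) (BT.node (BT.node (BT.leaf 163) (BT.leaf 183)) (BT.leaf 339))) (BT.node (BT.node (BT.node (BT.leaf 86) (BT.leaf 253)) (BT.leaf 107)) (BT.node (BT.leaf 244) (BT.leaf 252)))) (BT.node (BT.node (BT.node (BT.node (BT.leaf 128) (BT.leaf 39)) (BT.leaf 332)) (BT.node (BT.node (BT.leaf 181) (BT.leaf 141)) (BT.leaf 236))) (BT.node (BT.node (BT.node (BT.leaf 97) (BT.leaf 340)) (BT.leaf 338)) (BT.node (BT.leaf 309) (BT.leaf 108))))) (BT.node (BT.node (BT.node (BT.node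 (BT.node (BT.leaf 7) (BT.leaf 28)) (BT.leaf 116)) (BT.node (BT.node (BT.leaf 8) (BT.leaf 242)) (BT.leaf 299))) (BT.node (BT.node (BT.node (BT.leaf 75) (BT.leaf 129)) (BT.leaf 224)) (BT.node (BT.leaf 143) (BT.leaf 159)))) (BT.node (BT.node (BT.node (BT.node (BT.leaf 18) (BT.leaf 287)) (BT.leaf 336)) (BT.node (BT.leaf 206) (BT.leaf 233))) (BT.node (BT.node (BT.node (BT.leaf 90) (BT.leaf 194)) (BT.leaf 255)) (BT.node (BT.leaf 291) (BT.leaf 113))))))))),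
  (BT.node (BT.node (BT.node (BT.node (BT.node (BT.node (BT.node (BT.node (BT.node (BT.leaf 2) (BT.leaf 260)) (BT.leaf 114)) (BT.node (BT.node (BT.leaf 177) (BT.leaf 278)) (BT.leaf 160))) (BT.node (BT.node (BT.node (BT.leaf 25) (BT.leaf 337)) (BT.leaf 48)) (BT.node (BT.leaf 126) (BT.leaf 340)))) (BT.node (BT.node (BT.node (BT.node (BT.leaf 0) (BT.leaf 209)) (BT.leaf 300)) (BT.node (BT.node (BT.leaf 266) (BT.leaf 144)) (BT.leaf 37))) (BT.node (BT.node (BT.node (BT.leaf 192) (BT.leaf 320)) (BT.leaf 8)) (BT.node (BT.leaf 174) (BT.leaf 182))))) (BT.node (BT.node (BT.node (BT.node (BT.node (BT.leaf 51) (BT.leaf 303)) (BT.leaf 215)) (BT.node (BT.node (BT.leaf 27) (BT.leaf 40)) (BT.leaf 235))) (BT.node (BT.node (BT.node (BT.leaf 158) (BT.leaf 188)) (BT.leaf 178)) (BT.node (BT.leaf 77) (BT.leaf 218)))) (BT.node (BT.node (BT.node (BT.node (BT.leaf 133) (BT.leaf 98))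 (BT.leaf 104)) (BT.node (BT.node (BT.leaf 121) (BT.leaf 347)) (BT.leaf 71))) (BT.node (BT.node (BT.node (BT.leaf 72) (BT.leaf 348)) (BT.leaf 109)) (BT.node (BT.leaf 291) (BT.leaf 127)))))) (BT.node (BT.node (BT.node (BT.node (BT.node (BT.node (BT.leaf 18) (BT.leaf 99)) (BT.leaf 171)) (BT.node (BT.node (BT.leaf 210) (BT.leaf 332)) (BT.leaf 203))) (BT.node (BT.node (BT.node (BT.leaf 108) (BT.leaf 301)) (BT.leaf 128)) (BT.node (BT.leaf 226) (BT.leaf 214)))) (BT.node (BT.node (BT.node (BT.node (BT.leaf 42) (BT.leaf 151)) (BT.leaf 107)) (BT.node (BT.node (BT.leaf 277) (BT.leaf 286)) (BT.leaf 267))) (BT.node (BT.node (BT.node (BT.leaf 193) (BT.leaf 302)) (BT.leaf 329)) (BT.node (BT.leaf 34) (BT.leaf 271))))) (BT.node (BT.node (BT.node (BT.node (BT.node (BT.leaf 20) (BT.leaf 83)) (BT.leaf 248)) (BT.node (BT.node (BT.leaf 213) (BT.leaf 250)) (BT.leaf 335))) (BT.node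 (BT.node (BT.node (BT.leaf 187) (BT.leaf 336)) (BT.leaf 197)) (BT.node (BT.leaf 59) (BT.leaf 92)))) (BT.node (BT.node (BT.node (BT.node (BT.leaf 130) (BT.leaf 281)) (BT.leaf 334)) (BT.node (BT.node (BT.leaf 285) (BT.leaf 254)) (BT.leaf 26))) (BT.node (BT.node (BT.node (BT.leaf 228) (BT.leaf 181)) (BT.leaf 165)) (BT.node (BT.leaf 68) (BT.leaf 139))))))) (BT.node (BT.node (BT.node (BT.node (BT.node (BT.node (BT.node (BT.leaf 16) (BT.leaf 261)) (BT.leaf 201)) (BT.node (BT.node (BT.leaf 135) (BT.leaf 58)) (BT.leaf 244))) (BT.node (BT.node (BT.node (BT.leaf 21) (BT.leaf 125)) (BT.leaf 290)) (BT.node (BT.leaf 86) (BT.leaf 39)))) (BT.node (BT.node (BT.node (BT.node (BT.leaf 61) (BT.leaf 219)) (BT.leaf 52)) (BT.node (BT.node (BT.leaf 173) (BT.leaf 240)) (BT.leaf 124))) (BT.node (BT.node (BT.node (BT.leaf 65) (BT.leaf 345)) (BT.leaf 249)) (BT.node (BT.leaf 164) (BT.leaf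 284))))) (BT.node (BT.node (BT.node (BT.node (BT.node (BT.leaf 54) (BT.leaf 247)) (BT.leaf 33)) (BT.node (BT.node (BT.leaf 10) (BT.leaf 331)) (BT.leaf 232))) (BT.node (BT.node (BT.node (BT.leaf 12) (BT.leaf 148)) (BT.leaf 223)) (BT.node (BT.leaf 22) (BT.leaf 131)))) (BT.node (BT.node (BT.node (BT.node (BT.leaf 97) (BT.leaf 309)) (BT.leaf 67)) (BT.node (BT.node (BT.leaf 69) (BT.leaf 326)) (BT.leaf 202))) (BT.node (BT.node (BT.node (BT.leaf 150) (BT.leaf 245)) (BT.leaf 23)) (BT.node (BT.leaf 253) (BT.leaf 324)))))) (BT.node (BT.node (BT.node (BT.node (BT.node (BT.node (BT.leaf 43) (BT.leaf 198)) (BT.leaf 49)) (BT.node (BT.node (BT.leaf 82) (BT.leaf 283)) (BT.leaf 339))) (BT.node (BT.node (BT.node (BT.leaf 106) (BT.leaf 305)) (BT.leaf 117)) (BT.node (BT.leaf 95) (BT.leaf 306)))) (BT.node (BT.node (BT.node (BT.node (BT.leaf 38) (BT.leaf 304)) (BT.leaf 322)) (BT.node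 (BT.node (BT.leaf 280) (BT.leaf 159)) (BT.leaf 60))) (BT.node (BT.node (BT.node (BT.leaf 74) (BT.leaf 275)) (BT.leaf 338)) (BT.node (BT.leaf 307) (BT.leaf 105))))) (BT.node (BT.node (BT.node (BT.node (BT.node (BT.leaf 84) (BT.leaf 349)) (BT.leaf 6)) (BT.node (BT.node (BT.leaf 243) (BT.leaf 241)) (BT.leaf 184))) (BT.node (BT.node (BT.node (BT.leaf 88) (BT.leaf 321)) (BT.leaf 297)) (BT.node (BT.leaf 161) (BT.leaf 137)))) (BT.node (BT.node (BT.node (BT.node (BT.leaf 154) (BT.leaf 224)) (BT.leaf 328)) (BT.node (BT.node (BT.leaf 5) (BT.leaf 207)) (BT.leaf 269))) (BT.node (BT.node (BT.node (BT.leaf 208) (BT.leaf 330)) (BT.leaf 274)) (BT.node (BT.leaf 287) (BT.leaf 312)))))))) (BT.node (BT.node (BT.node (BT.node (BT.node (BT.node (BT.node (BT.node (BT.leaf 9) (BT.leaf 270)) (BT.leaf 186)) (BT.node (BT.node (BT.leaf 145) (BT.leaf 308)) (BT.leaf 146))) (BT.node (BT.node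 (BT.node (BT.leaf 101) (BT.leaf 350)) (BT.leaf 73)) (BT.node (BT.leaf 220) (BT.leaf 310)))) (BT.node (BT.node (BT.node (BT.node (BT.leaf 93) (BT.leaf 268)) (BT.leaf 50)) (BT.node (BT.node (BT.leaf 264) (BT.leaf 323)) (BT.leaf 91))) (BT.node (BT.node (BT.node (BT.leaf 199) (BT.leaf 343)) (BT.leaf 295)) (BT.node (BT.leaf 15) (BT.leaf 156))))) (BT.node (BT.node (BT.node (BT.node (BT.node (BT.leaf 53) (BT.leaf 78)) (BT.leaf 325)) (BT.node (BT.node (BT.leaf 110) (BT.leaf 149)) (BT.leaf 28))) (BT.node (BT.node (BT.node (BT.leaf 183) (BT.leaf 112)) (BT.leaf 229)) (BT.node (BT.leaf 115) (BT.leaf 169)))) (BT.node (BT.node (BT.node (BT.node (BT.leaf 31) (BT.leaf 242)) (BT.leaf 276)) (BT.node (BT.node (BT.leaf 113) (BT.leaf 230)) (BT.leaf 234))) (BT.node (BT.node (BT.node (BT.leaf 111) (BT.leaf 185)) (BT.leaf 123)) (BT.node (BT.leaf 46) (BT.leaf 168)))))) (BT.node (BT.node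 (BT.node (BT.node (BT.node (BT.node (BT.leaf 19) (BT.leaf 333)) (BT.leaf 85)) (BT.node (BT.node (BT.leaf 143) (BT.leaf 238)) (BT.leaf 189))) (BT.node (BT.node (BT.node (BT.leaf 62) (BT.leaf 119)) (BT.leaf 296)) (BT.node (BT.leaf 138) (BT.leaf 233)))) (BT.node (BT.node (BT.node (BT.node (BT.leaf 116) (BT.leaf 14)) (BT.leaf 180)) (BT.node (BT.node (BT.leaf 24) (BT.leaf 314)) (BT.leaf 251))) (BT.node (BT.node (BT.node (BT.leaf 1) (BT.leaf 315)) (BT.leaf 155)) (BT.node (BT.leaf 195) (BT.leaf 341))))) (BT.node (BT.node (BT.node (BT.node (BT.node (BT.leaf 75) (BT.leaf 79)) (BT.leaf 204)) (BT.node (BT.node (BT.leaf 152) (BT.leaf 258)) (BT.leaf 11))) (BT.node (BT.node (BT.node (BT.leaf 102) (BT.leaf 239)) (BT.leaf 70)) (BT.node (BT.leaf 206) (BT.leaf 44)))) (BT.node (BT.node (BT.node (BT.node (BT.leaf 136) (BT.leaf 236)) (BT.leaf 66)) (BT.node (BT.node (BT.leaf 3) (BT.leaf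 257)) (BT.leaf 41))) (BT.node (BT.node (BT.node (BT.leaf 4) (BT.leaf 175)) (BT.leaf 172)) (BT.node (BT.leaf 162) (BT.leaf 87))))))) (BT.node (BT.node (BT.node (BT.node (BT.node (BT.node (BT.node (BT.leaf 17) (BT.leaf 342)) (BT.leaf 217)) (BT.node (BT.node (BT.leaf 30) (BT.leaf 288)) (BT.leaf 166))) (BT.node (BT.node (BT.node (BT.leaf 170) (BT.leaf 179)) (BT.leaf 252)) (BT.node (BT.leaf 256) (BT.leaf 196)))) (BT.node (BT.node (BT.node (BT.node (BT.leaf 94) (BT.leaf 225)) (BT.leaf 319)) (BT.node (BT.node (BT.leaf 273) (BT.leaf 262)) (BT.leaf 132))) (BT.node (BT.node (BT.node (BT.leaf 176) (BT.leaf 167)) (BT.leaf 120)) (BT.node (BT.leaf 246) (BT.leaf 265))))) (BT.node (BT.node (BT.node (BT.node (BT.node (BT.leaf 55) (BT.leaf 279)) (BT.leaf 163)) (BT.node (BT.node (BT.leaf 255) (BT.leaf 318)) (BT.leaf 227))) (BT.node (BT.node (BT.node (BT.leaf 142) (BT.leaf 293))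 (BT.leaf 211)) (BT.node (BT.leaf 298) (BT.leaf 327)))) (BT.node (BT.node (BT.node (BT.node (BT.leaf 56) (BT.leaf 346)) (BT.leaf 316)) (BT.node (BT.node (BT.leaf 272) (BT.leaf 263)) (BT.leaf 190))) (BT.node (BT.node (BT.node (BT.leaf 36) (BT.leaf 282)) (BT.leaf 237)) (BT.node (BT.leaf 313) (BT.leaf 76)))))) (BT.node (BT.node (BT.node (BT.node (BT.node (BT.node (BT.leaf 47) (BT.leaf 344)) (BT.leaf 157)) (BT.node (BT.node (BT.leaf 231) (BT.leaf 200)) (BT.leaf 134))) (BT.node (BT.node (BT.node (BT.leaf 100) (BT.leaf 64)) (BT.leaf 118)) (BT.node (BT.leaf 147) (BT.leaf 216)))) (BT.node (BT.node (BT.node (BT.node (BT.leaf 129) (BT.leaf 212)) (BT.leaf 153)) (BT.node (BT.node (BT.leaf 122) (BT.leaf 294)) (BT.leaf 29))) (BT.node (BT.node (BT.node (BT.leaf 205) (BT.leaf 317)) (BT.leaf 221)) (BT.node (BT.leaf 299) (BT.leaf 80))))) (BT.node (BT.node (BT.node (BT.node (BT.node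 (BT.leaf 89) (BT.leaf 194)) (BT.leaf 90)) (BT.node (BT.node (BT.leaf 222) (BT.leaf 141)) (BT.leaf 289))) (BT.node (BT.node (BT.node (BT.leaf 191) (BT.leaf 81)) (BT.leaf 311)) (BT.node (BT.leaf 63) (BT.leaf 292)))) (BT.node (BT.node (BT.node (BT.node (BT.leaf 32) (BT.leaf 96)) (BT.leaf 259)) (BT.node (BT.leaf 45) (BT.leaf 35))) (BT.node (BT.node (BT.node (BT.leaf 57) (BT.leaf 103)) (BT.leaf 7)) (BT.node (BT.leaf 140) (BT.leaf 13))))))))),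
  (BT.node (BT.node (BT.node (BT.node (BT.node (BT.node (BT.node (BT.node (BT.node (BT.leaf 3) (BT.leaf 36)) (BT.leaf 278)) (BT.node (BT.node (BT.leaf 137) (BT.leaf 211)) (BT.leaf 285))) (BT.node (BT.node (BT.node (BT.leaf 10) (BT.leaf 156)) (BT.leaf 236)) (BT.node (BT.leaf 230) (BT.leaf 231)))) (BT.node (BT.node (BT.node (BT.node (BT.leaf 93) (BT.leaf 313)) (BT.leaf 14)) (BT.node (BT.node (BT.leaf 264) (BT.leaf 277)) (BT.leaf 251))) (BT.node (BT.node (BT.node (BT.leaf 92) (BT.leaf 171)) (BT.leaf 215)) (BT.node (BT.leaf 98) (BT.leaf 286))))) (BT.node (BT.node (BT.node (BT.node (BT.node (BT.leaf 29) (BT.leaf 349)) (BT.leaf 89)) (BT.node (BT.node (BT.leaf 42) (BT.leaf 149)) (BT.leaf 232))) (BT.node (BT.node (BT.node (BT.leaf 180) (BT.leaf 322)) (BT.leaf 309)) (BT.node (BT.leaf 121) (BT.leaf 163)))) (BT.node (BT.node (BT.node (BT.node (BT.leaf 134) (BT.leaf 319))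 (BT.leaf 88)) (BT.node (BT.node (BT.leaf 50) (BT.leaf 75)) (BT.leaf 338))) (BT.node (BT.node (BT.node (BT.leaf 20) (BT.leaf 314)) (BT.leaf 127)) (BT.node (BT.leaf 153) (BT.leaf 331)))))) (BT.node (BT.node (BT.node (BT.node (BT.node (BT.node (BT.leaf 31) (BT.leaf 108)) (BT.leaf 128)) (BT.node (BT.node (BT.leaf 122) (BT.leaf 45)) (BT.leaf 133))) (BT.node (BT.node (BT.node (BT.leaf 129) (BT.leaf 83)) (BT.leaf 320)) (BT.node (BT.leaf 130) (BT.leaf 120)))) (BT.node (BT.node (BT.node (BT.node (BT.leaf 43) (BT.leaf 214)) (BT.leaf 39)) (BT.node (BT.node (BT.leaf 170) (BT.leaf 216)) (BT.leaf 194))) (BT.node (BT.node (BT.node (BT.leaf 204) (BT.leaf 337)) (BT.leaf 293)) (BT.node (BT.leaf 195) (BT.leaf 118))))) (BT.node (BT.node (BT.node (BT.node (BT.node (BT.leaf 6) (BT.leaf 233)) (BT.leaf 330)) (BT.node (BT.node (BT.leaf 5) (BT.leaf 102)) (BT.leaf 143))) (BT.node (BT.node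 (BT.node (BT.leaf 55) (BT.leaf 84)) (BT.leaf 154)) (BT.node (BT.leaf 186) (BT.leaf 191)))) (BT.node (BT.node (BT.node (BT.node (BT.leaf 148) (BT.leaf 21)) (BT.leaf 321)) (BT.node (BT.node (BT.leaf 7) (BT.leaf 245)) (BT.leaf 101))) (BT.node (BT.node (BT.node (BT.leaf 179) (BT.leaf 172)) (BT.leaf 58)) (BT.node (BT.leaf 87) (BT.leaf 235))))))) (BT.node (BT.node (BT.node (BT.node (BT.node (BT.node (BT.node (BT.leaf 17) (BT.leaf 243)) (BT.leaf 107)) (BT.node (BT.node (BT.leaf 237) (BT.leaf 342)) (BT.leaf 167))) (BT.node (BT.node (BT.node (BT.leaf 166) (BT.leaf 68)) (BT.leaf 124)) (BT.node (BT.leaf 103) (BT.leaf 201)))) (BT.node (BT.node (BT.node (BT.node (BT.leaf 32) (BT.leaf 332)) (BT.leaf 141)) (BT.node (BT.node (BT.leaf 168) (BT.leaf 340)) (BT.leaf 253))) (BT.node (BT.node (BT.node (BT.leaf 152) (BT.leaf 283)) (BT.leaf 315)) (BT.node (BT.leaf 304) (BT.leaf 34)))))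 (BT.node (BT.node (BT.node (BT.node (BT.node (BT.leaf 18) (BT.leaf 303)) (BT.leaf 110)) (BT.node (BT.node (BT.leaf 4) (BT.leaf 109)) (BT.leaf 139))) (BT.node (BT.node (BT.node (BT.leaf 142) (BT.leaf 226)) (BT.leaf 300)) (BT.node (BT.leaf 295) (BT.leaf 294)))) (BT.node (BT.node (BT.node (BT.node (BT.leaf 138) (BT.leaf 70)) (BT.leaf 316)) (BT.node (BT.node (BT.leaf 193) (BT.leaf 287)) (BT.leaf 252))) (BT.node (BT.node (BT.node (BT.leaf 159) (BT.leaf 225)) (BT.leaf 260)) (BT.node (BT.leaf 290) (BT.leaf 95)))))) (BT.node (BT.node (BT.node (BT.node (BT.node (BT.node (BT.leaf 27) (BT.leaf 333)) (BT.leaf 227)) (BT.node (BT.node (BT.leaf 249) (BT.leaf 96)) (BT.leaf 258))) (BT.node (BT.node (BT.node (BT.leaf 177) (BT.leaf 111)) (BT.leaf 242)) (BT.node (BT.leaf 274) (BT.leaf 326)))) (BT.node (BT.node (BT.node (BT.node (BT.leaf 64) (BT.leaf 132)) (BT.leaf 259)) (BT.node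 (BT.node (BT.leaf 147) (BT.leaf 296)) (BT.leaf 291))) (BT.node (BT.node (BT.node (BT.leaf 61) (BT.leaf 348)) (BT.leaf 224)) (BT.node (BT.leaf 267) (BT.leaf 221))))) (BT.node (BT.node (BT.node (BT.node (BT.node (BT.leaf 35) (BT.leaf 247)) (BT.leaf 72)) (BT.node (BT.node (BT.leaf 262) (BT.leaf 308)) (BT.leaf 248))) (BT.node (BT.node (BT.node (BT.leaf 145) (BT.leaf 323)) (BT.leaf 86)) (BT.node (BT.leaf 26) (BT.leaf 106)))) (BT.node (BT.node (BT.node (BT.node (BT.leaf 155) (BT.leaf 71)) (BT.leaf 329)) (BT.node (BT.node (BT.leaf 208) (BT.leaf 272)) (BT.leaf 344))) (BT.node (BT.node (BT.node (BT.leaf 213) (BT.leaf 184)) (BT.leaf 324)) (BT.node (BT.leaf 306) (BT.leaf 341)))))))) (BT.node (BT.node (BT.node (BT.node (BT.node (BT.node (BT.node (BT.node (BT.leaf 0) (BT.leaf 266)) (BT.leaf 256)) (BT.node (BT.node (BT.leaf 104) (BT.leaf 288)) (BT.leaf 335))) (BT.node (BT.node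 (BT.node (BT.leaf 161) (BT.leaf 91)) (BT.leaf 97)) (BT.node (BT.leaf 33) (BT.leaf 312)))) (BT.node (BT.node (BT.node (BT.node (BT.leaf 9) (BT.leaf 229)) (BT.leaf 77)) (BT.node (BT.node (BT.leaf 270) (BT.leaf 334)) (BT.leaf 185))) (BT.node (BT.node (BT.node (BT.leaf 196) (BT.leaf 63)) (BT.leaf 325)) (BT.node (BT.leaf 176) (BT.leaf 302))))) (BT.node (BT.node (BT.node (BT.node (BT.node (BT.leaf 2) (BT.leaf 339)) (BT.leaf 22)) (BT.node (BT.node (BT.leaf 220) (BT.leaf 119)) (BT.leaf 298))) (BT.node (BT.node (BT.node (BT.leaf 175) (BT.leaf 280)) (BT.leaf 292)) (BT.node (BT.leaf 41) (BT.leaf 239)))) (BT.node (BT.node (BT.node (BT.node (BT.leaf 54) (BT.leaf 116)) (BT.leaf 228)) (BT.node (BT.node (BT.leaf 51) (BT.leaf 346)) (BT.leaf 343))) (BT.node (BT.node (BT.node (BT.leaf 217) (BT.leaf 350)) (BT.leaf 207)) (BT.node (BT.leaf 65) (BT.leaf 282)))))) (BT.node (BT.node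 (BT.node (BT.node (BT.node (BT.node (BT.leaf 37) (BT.leaf 265)) (BT.leaf 49)) (BT.node (BT.node (BT.leaf 146) (BT.leaf 38)) (BT.leaf 67))) (BT.node (BT.node (BT.node (BT.leaf 76) (BT.leaf 40)) (BT.leaf 150)) (BT.node (BT.leaf 73) (BT.leaf 301)))) (BT.node (BT.node (BT.node (BT.node (BT.leaf 117) (BT.leaf 223)) (BT.leaf 299)) (BT.node (BT.node (BT.leaf 199) (BT.leaf 275)) (BT.leaf 19))) (BT.node (BT.node (BT.node (BT.leaf 16) (BT.leaf 82)) (BT.leaf 197)) (BT.node (BT.leaf 284) (BT.leaf 310))))) (BT.node (BT.node (BT.node (BT.node (BT.node (BT.leaf 79) (BT.leaf 347)) (BT.leaf 69)) (BT.node (BT.node (BT.leaf 46) (BT.leaf 78)) (BT.leaf 157))) (BT.node (BT.node (BT.node (BT.leaf 190) (BT.leaf 273)) (BT.leaf 178)) (BT.node (BT.leaf 140) (BT.leaf 11)))) (BT.node (BT.node (BT.node (BT.node (BT.leaf 15) (BT.leaf 47)) (BT.leaf 187)) (BT.node (BT.node (BT.leaf 53) (BT.leaf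 80)) (BT.leaf 317))) (BT.node (BT.node (BT.node (BT.leaf 25) (BT.leaf 246)) (BT.leaf 30)) (BT.node (BT.leaf 210) (BT.leaf 125))))))) (BT.node (BT.node (BT.node (BT.node (BT.node (BT.node (BT.node (BT.leaf 1) (BT.leaf 165)) (BT.leaf 305)) (BT.node (BT.node (BT.leaf 181) (BT.leaf 241)) (BT.leaf 281))) (BT.node (BT.node (BT.node (BT.leaf 144) (BT.leaf 276)) (BT.leaf 200)) (BT.node (BT.leaf 59) (BT.leaf 24)))) (BT.node (BT.node (BT.node (BT.node (BT.leaf 62) (BT.leaf 254)) (BT.leaf 174)) (BT.node (BT.node (BT.leaf 169) (BT.leaf 261)) (BT.leaf 164))) (BT.node (BT.node (BT.node (BT.leaf 136) (BT.leaf 279)) (BT.leaf 151)) (BT.node (BT.leaf 183) (BT.leaf 198))))) (BT.node (BT.node (BT.node (BT.node (BT.node (BT.leaf 66) (BT.leaf 244)) (BT.leaf 327)) (BT.node (BT.node (BT.leaf 222) (BT.leaf 206)) (BT.leaf 85))) (BT.node (BT.node (BT.node (BT.leaf 56) (BT.leaf 328)) (BT.leaf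 114)) (BT.node (BT.leaf 100) (BT.leaf 218)))) (BT.node (BT.node (BT.node (BT.node (BT.leaf 12) (BT.leaf 126)) (BT.leaf 189)) (BT.node (BT.node (BT.leaf 123) (BT.leaf 255)) (BT.leaf 250))) (BT.node (BT.node (BT.node (BT.leaf 23) (BT.leaf 173)) (BT.leaf 205)) (BT.node (BT.leaf 289) (BT.leaf 94)))))) (BT.node (BT.node (BT.node (BT.node (BT.node (BT.node (BT.leaf 48) (BT.leaf 13)) (BT.leaf 44)) (BT.node (BT.node (BT.leaf 240) (BT.leaf 202)) (BT.leaf 203))) (BT.node (BT.node (BT.node (BT.leaf 28) (BT.leaf 238)) (BT.leaf 212)) (BT.node (BT.leaf 112) (BT.leaf 182)))) (BT.node (BT.node (BT.node (BT.node (BT.leaf 99) (BT.leaf 271)) (BT.leaf 60)) (BT.node (BT.node (BT.leaf 162) (BT.leaf 57)) (BT.leaf 113))) (BT.node (BT.node (BT.node (BT.leaf 135) (BT.leaf 115)) (BT.leaf 311)) (BT.node (BT.leaf 158) (BT.leaf 81))))) (BT.node (BT.node (BT.node (BT.node (BT.node (BT.leaf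 8) (BT.leaf 307)) (BT.leaf 52)) (BT.node (BT.node (BT.leaf 263) (BT.leaf 90)) (BT.leaf 209))) (BT.node (BT.node (BT.node (BT.leaf 192) (BT.leaf 257)) (BT.leaf 105)) (BT.node (BT.leaf 234) (BT.leaf 268)))) (BT.node (BT.node (BT.node (BT.node (BT.leaf 74) (BT.leaf 345)) (BT.leaf 188)) (BT.node (BT.leaf 219) (BT.leaf 336))) (BT.node (BT.node (BT.node (BT.leaf 131) (BT.leaf 297)) (BT.leaf 160)) (BT.node (BT.leaf 318) (BT.leaf 269))))))))),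
  (BT.node (BT.node (BT.node (BT.node (BT.node (BT.node (BT.node (BT.node (BT.node (BT.leaf 4) (BT.leaf 107)) (BT.leaf 319)) (BT.node (BT.node (BT.leaf 68) (BT.leaf 112)) (BT.leaf 166))) (BT.node (BT.node (BT.node (BT.leaf 27) (BT.leaf 254)) (BT.leaf 117)) (BT.node (BT.leaf 241) (BT.leaf 239)))) (BT.node (BT.node (BT.node (BT.node (BT.leaf 61) (BT.leaf 247)) (BT.leaf 227)) (BT.node (BT.node (BT.leaf 267) (BT.leaf 203)) (BT.leaf 73))) (BT.node (BT.node (BT.node (BT.leaf 195) (BT.leaf 297)) (BT.leaf 146)) (BT.node (BT.leaf 282) (BT.leaf 233))))) (BT.node (BT.node (BT.node (BT.node (BT.node (BT.leaf 52) (BT.leaf 194)) (BT.leaf 204)) (BT.node (BT.node (BT.leaf 17) (BT.leaf 59)) (BT.leaf 58))) (BT.node (BT.node (BT.node (BT.leaf 36) (BT.leaf 88)) (BT.leaf 114)) (BT.node (BT.leaf 232) (BT.leaf 342)))) (BT.node (BT.node (BT.node (BT.node (BT.leaf 105) (BT.leaf 82))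 (BT.leaf 202)) (BT.node (BT.node (BT.leaf 252) (BT.leaf 294)) (BT.leaf 268))) (BT.node (BT.node (BT.node (BT.leaf 3) (BT.leaf 283)) (BT.leaf 13)) (BT.node (BT.leaf 51) (BT.leaf 222)))))) (BT.node (BT.node (BT.node (BT.node (BT.node (BT.node (BT.leaf 6) (BT.leaf 298)) (BT.leaf 98)) (BT.node (BT.node (BT.leaf 197) (BT.leaf 285)) (BT.leaf 317))) (BT.node (BT.node (BT.node (BT.leaf 39) (BT.leaf 333)) (BT.leaf 147)) (BT.node (BT.leaf 158) (BT.leaf 113)))) (BT.node (BT.node (BT.node (BT.node (BT.leaf 53) (BT.leaf 136)) (BT.leaf 119)) (BT.node (BT.node (BT.leaf 24) (BT.leaf 292)) (BT.leaf 272))) (BT.node (BT.node (BT.node (BT.leaf 179) (BT.leaf 310)) (BT.leaf 23)) (BT.node (BT.leaf 95) (BT.leaf 313))))) (BT.node (BT.node (BT.node (BT.node (BT.node (BT.leaf 9) (BT.leaf 243)) (BT.leaf 79)) (BT.node (BT.node (BT.leaf 220) (BT.leaf 236)) (BT.leaf 276))) (BT.node (BT.node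 (BT.node (BT.leaf 5) (BT.leaf 196)) (BT.leaf 295)) (BT.node (BT.leaf 100) (BT.leaf 242)))) (BT.node (BT.node (BT.node (BT.node (BT.leaf 149) (BT.leaf 250)) (BT.leaf 245)) (BT.node (BT.node (BT.leaf 284) (BT.leaf 346)) (BT.leaf 66))) (BT.node (BT.node (BT.node (BT.leaf 89) (BT.leaf 22)) (BT.leaf 121)) (BT.node (BT.leaf 172) (BT.leaf 296))))))) (BT.node (BT.node (BT.node (BT.node (BT.node (BT.node (BT.node (BT.leaf 18) (BT.leaf 286)) (BT.leaf 180)) (BT.node (BT.node (BT.leaf 76) (BT.leaf 145)) (BT.leaf 123))) (BT.node (BT.node (BT.node (BT.leaf 45) (BT.leaf 155)) (BT.leaf 181)) (BT.node (BT.leaf 173) (BT.leaf 328)))) (BT.node (BT.node (BT.node (BT.node (BT.leaf 43) (BT.leaf 48)) (BT.leaf 291)) (BT.node (BT.node (BT.leaf 211) (BT.leaf 229)) (BT.leaf 189))) (BT.node (BT.node (BT.node (BT.leaf 200) (BT.leaf 302)) (BT.leaf 164)) (BT.node (BT.leaf 103) (BT.leaf 332)))))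 (BT.node (BT.node (BT.node (BT.node (BT.node (BT.leaf 42) (BT.leaf 279)) (BT.leaf 237)) (BT.node (BT.node (BT.leaf 20) (BT.leaf 347)) (BT.leaf 259))) (BT.node (BT.node (BT.node (BT.leaf 1) (BT.leaf 293)) (BT.leaf 199)) (BT.node (BT.leaf 290) (BT.leaf 140)))) (BT.node (BT.node (BT.node (BT.node (BT.leaf 135) (BT.leaf 320)) (BT.leaf 325)) (BT.node (BT.node (BT.leaf 214) (BT.leaf 323)) (BT.leaf 159))) (BT.node (BT.node (BT.node (BT.leaf 50) (BT.leaf 96)) (BT.leaf 28)) (BT.node (BT.leaf 154) (BT.leaf 92)))))) (BT.node (BT.node (BT.node (BT.node (BT.node (BT.node (BT.leaf 0) (BT.leaf 240)) (BT.leaf 221)) (BT.node (BT.node (BT.leaf 171) (BT.leaf 288)) (BT.leaf 182))) (BT.node (BT.node (BT.node (BT.leaf 162) (BT.leaf 318)) (BT.leaf 219)) (BT.node (BT.leaf 47) (BT.leaf 308)))) (BT.node (BT.node (BT.node (BT.node (BT.leaf 125) (BT.leaf 174)) (BT.leaf 65)) (BT.node (BT.node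 (BT.leaf 70) (BT.leaf 104)) (BT.leaf 15))) (BT.node (BT.node (BT.node (BT.leaf 12) (BT.leaf 230)) (BT.leaf 169)) (BT.node (BT.leaf 289) (BT.leaf 14))))) (BT.node (BT.node (BT.node (BT.node (BT.node (BT.leaf 85) (BT.leaf 118)) (BT.leaf 16)) (BT.node (BT.node (BT.leaf 231) (BT.leaf 341)) (BT.leaf 255))) (BT.node (BT.node (BT.node (BT.leaf 163) (BT.leaf 275)) (BT.leaf 309)) (BT.node (BT.leaf 205) (BT.leaf 253)))) (BT.node (BT.node (BT.node (BT.node (BT.leaf 137) (BT.leaf 301)) (BT.leaf 108)) (BT.node (BT.node (BT.leaf 138) (BT.leaf 349)) (BT.leaf 131))) (BT.node (BT.node (BT.node (BT.leaf 161) (BT.leaf 344)) (BT.leaf 160)) (BT.node (BT.leaf 156) (BT.leaf 326)))))))) (BT.node (BT.node (BT.node (BT.node (BT.node (BT.node (BT.node (BT.node (BT.leaf 10) (BT.leaf 167)) (BT.leaf 201)) (BT.node (BT.node (BT.leaf 235) (BT.leaf 225)) (BT.leaf 120))) (BT.node (BT.node (BT.node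 (BT.leaf 44) (BT.leaf 270)) (BT.leaf 11)) (BT.node (BT.leaf 157) (BT.leaf 345)))) (BT.node (BT.node (BT.node (BT.node (BT.leaf 31) (BT.leaf 78)) (BT.leaf 327)) (BT.node (BT.node (BT.leaf 271) (BT.leaf 312)) (BT.leaf 80))) (BT.node (BT.node (BT.node (BT.leaf 41) (BT.leaf 330)) (BT.leaf 210)) (BT.node (BT.leaf 143) (BT.leaf 314))))) (BT.node (BT.node (BT.node (BT.node (BT.node (BT.leaf 54) (BT.leaf 71)) (BT.leaf 87)) (BT.node (BT.node (BT.leaf 55) (BT.leaf 129)) (BT.leaf 329))) (BT.node (BT.node (BT.node (BT.leaf 35) (BT.leaf 315)) (BT.leaf 198)) (BT.node (BT.leaf 84) (BT.leaf 262)))) (BT.node (BT.node (BT.node (BT.node (BT.leaf 56) (BT.leaf 324)) (BT.leaf 29)) (BT.node (BT.node (BT.leaf 69) (BT.leaf 321)) (BT.leaf 127))) (BT.node (BT.node (BT.node (BT.leaf 109) (BT.leaf 303)) (BT.leaf 81)) (BT.node (BT.leaf 139) (BT.leaf 128)))))) (BT.node (BT.node (BT.node (BT.node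 (BT.node (BT.node (BT.leaf 33) (BT.leaf 224)) (BT.leaf 115)) (BT.node (BT.node (BT.leaf 60) (BT.leaf 122)) (BT.leaf 64))) (BT.node (BT.node (BT.node (BT.leaf 110) (BT.leaf 260)) (BT.leaf 46)) (BT.node (BT.leaf 187) (BT.leaf 339)))) (BT.node (BT.node (BT.node (BT.node (BT.leaf 102) (BT.leaf 133)) (BT.leaf 186)) (BT.node (BT.node (BT.leaf 246) (BT.leaf 287)) (BT.leaf 26))) (BT.node (BT.node (BT.node (BT.leaf 74) (BT.leaf 278)) (BT.leaf 38)) (BT.node (BT.leaf 190) (BT.leaf 126))))) (BT.node (BT.node (BT.node (BT.node (BT.node (BT.leaf 63) (BT.leaf 217)) (BT.leaf 153)) (BT.node (BT.node (BT.leaf 218) (BT.leaf 340)) (BT.leaf 37))) (BT.node (BT.node (BT.node (BT.leaf 7) (BT.leaf 258)) (BT.leaf 132)) (BT.node (BT.leaf 75) (BT.leaf 94)))) (BT.node (BT.node (BT.node (BT.node (BT.leaf 141) (BT.leaf 281)) (BT.leaf 251)) (BT.node (BT.node (BT.leaf 32) (BT.leaf 307)) (BT.leaf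 223))) (BT.node (BT.node (BT.node (BT.leaf 142) (BT.leaf 300)) (BT.leaf 177)) (BT.node (BT.leaf 316) (BT.leaf 67))))))) (BT.node (BT.node (BT.node (BT.node (BT.node (BT.node (BT.node (BT.leaf 25) (BT.leaf 152)) (BT.leaf 248)) (BT.node (BT.node (BT.leaf 238) (BT.leaf 348)) (BT.leaf 274))) (BT.node (BT.node (BT.node (BT.leaf 49) (BT.leaf 176)) (BT.leaf 165)) (BT.node (BT.leaf 148) (BT.leaf 311)))) (BT.node (BT.node (BT.node (BT.node (BT.leaf 101) (BT.leaf 306)) (BT.leaf 178)) (BT.node (BT.node (BT.leaf 265) (BT.leaf 338)) (BT.leaf 280))) (BT.node (BT.node (BT.node (BT.leaf 193) (BT.leaf 350)) (BT.leaf 8)) (BT.node (BT.leaf 277) (BT.leaf 216))))) (BT.node (BT.node (BT.node (BT.node (BT.node (BT.leaf 62) (BT.leaf 209)) (BT.leaf 188)) (BT.node (BT.node (BT.leaf 57) (BT.leaf 263)) (BT.leaf 175))) (BT.node (BT.node (BT.node (BT.leaf 2) (BT.leaf 256)) (BT.leaf 86))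 (BT.node (BT.leaf 299) (BT.leaf 150)))) (BT.node (BT.node (BT.node (BT.node (BT.leaf 93) (BT.leaf 337)) (BT.leaf 106)) (BT.node (BT.node (BT.leaf 266) (BT.leaf 305)) (BT.leaf 192))) (BT.node (BT.node (BT.node (BT.leaf 226) (BT.leaf 304)) (BT.leaf 19)) (BT.node (BT.leaf 264) (BT.leaf 97)))))) (BT.node (BT.node (BT.node (BT.node (BT.node (BT.node (BT.leaf 34) (BT.leaf 343)) (BT.leaf 213)) (BT.node (BT.node (BT.leaf 83) (BT.leaf 322)) (BT.leaf 183))) (BT.node (BT.node (BT.node (BT.leaf 40) (BT.leaf 124)) (BT.leaf 207)) (BT.node (BT.leaf 168) (BT.leaf 273)))) (BT.node (BT.node (BT.node (BT.node (BT.leaf 130) (BT.leaf 91)) (BT.leaf 215)) (BT.node (BT.node (BT.leaf 30) (BT.leaf 331)) (BT.leaf 335))) (BT.node (BT.node (BT.node (BT.leaf 208) (BT.leaf 144)) (BT.leaf 170)) (BT.node (BT.leaf 99) (BT.leaf 212))))) (BT.node (BT.node (BT.node (BT.node (BT.node (BT.leaf 90)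 (BT.leaf 185)) (BT.leaf 228)) (BT.node (BT.node (BT.leaf 234) (BT.leaf 151)) (BT.leaf 257))) (BT.node (BT.node (BT.node (BT.leaf 21) (BT.leaf 244)) (BT.leaf 336)) (BT.node (BT.leaf 206) (BT.leaf 261)))) (BT.node (BT.node (BT.node (BT.node (BT.leaf 72) (BT.leaf 334)) (BT.leaf 77)) (BT.node (BT.leaf 191) (BT.leaf 134))) (BT.node (BT.node (BT.node (BT.leaf 184) (BT.leaf 249)) (BT.leaf 116)) (BT.node (BT.leaf 269) (BT.leaf 111))))))))),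
  (BT.node (BT.node (BT.node (BT.node (BT.node (BT.node (BT.node (BT.node (BT.node (BT.leaf 2) (BT.leaf 104)) (BT.leaf 48)) (BT.node (BT.node (BT.leaf 230) (BT.leaf 236)) (BT.leaf 49))) (BT.node (BT.node (BT.node (BT.leaf 54) (BT.leaf 44)) (BT.leaf 199)) (BT.node (BT.leaf 5) (BT.leaf 130)))) (BT.node (BT.node (BT.node (BT.node (BT.leaf 0) (BT.leaf 223)) (BT.leaf 188)) (BT.node (BT.node (BT.leaf 80) (BT.leaf 296)) (BT.leaf 295))) (BT.node (BT.node (BT.node (BT.leaf 134) (BT.leaf 285)) (BT.leaf 186)) (BT.node (BT.leaf 240) (BT.leaf 39))))) (BT.node (BT.node (BT.node (BT.node (BT.node (BT.leaf 23) (BT.leaf 264)) (BT.leaf 256)) (BT.node (BT.node (BT.leaf 6) (BT.leaf 248)) (BT.leaf 115))) (BT.node (BT.node (BT.node (BT.leaf 127) (BT.leaf 313)) (BT.leaf 293)) (BT.node (BT.leaf 136) (BT.leaf 183)))) (BT.node (BT.node (BT.node (BT.node (BT.leaf 132) (BT.leaf 340)) (BT.leaf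 29)) (BT.node (BT.node (BT.leaf 15) (BT.leaf 344)) (BT.leaf 298))) (BT.node (BT.node (BT.node (BT.leaf 142) (BT.leaf 110)) (BT.leaf 168)) (BT.node (BT.leaf 239) (BT.leaf 282)))))) (BT.node (BT.node (BT.node (BT.node (BT.node (BT.node (BT.leaf 32) (BT.leaf 77)) (BT.leaf 7)) (BT.node (BT.node (BT.leaf 245) (BT.leaf 228)) (BT.leaf 304))) (BT.node (BT.node (BT.node (BT.leaf 121) (BT.leaf 102)) (BT.leaf 160)) (BT.node (BT.leaf 174) (BT.leaf 233)))) (BT.node (BT.node (BT.node (BT.node (BT.leaf 72) (BT.leaf 83)) (BT.leaf 103)) (BT.node (BT.node (BT.leaf 150) (BT.leaf 201)) (BT.leaf 141))) (BT.node (BT.node (BT.node (BT.leaf 21) (BT.leaf 157)) (BT.leaf 318)) (BT.node (BT.leaf 307) (BT.leaf 143))))) (BT.node (BT.node (BT.node (BT.node (BT.node (BT.leaf 56) (BT.leaf 190)) (BT.leaf 315)) (BT.node (BT.node (BT.leaf 137) (BT.leaf 214)) (BT.leaf 117))) (BT.node (BT.node (BT.node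 (BT.leaf 189) (BT.leaf 165)) (BT.leaf 337)) (BT.node (BT.leaf 46) (BT.leaf 203)))) (BT.node (BT.node (BT.node (BT.node (BT.leaf 98) (BT.leaf 244)) (BT.leaf 55)) (BT.node (BT.node (BT.leaf 227) (BT.leaf 161)) (BT.leaf 210))) (BT.node (BT.node (BT.node (BT.leaf 229) (BT.leaf 308)) (BT.leaf 185)) (BT.node (BT.leaf 314) (BT.leaf 317))))))) (BT.node (BT.node (BT.node (BT.node (BT.node (BT.node (BT.node (BT.leaf 16) (BT.leaf 258)) (BT.leaf 86)) (BT.node (BT.node (BT.leaf 181) (BT.leaf 350)) (BT.leaf 69))) (BT.node (BT.node (BT.node (BT.leaf 167) (BT.leaf 348)) (BT.leaf 312)) (BT.node (BT.leaf 286) (BT.leaf 297)))) (BT.node (BT.node (BT.node (BT.node (BT.leaf 25) (BT.leaf 276)) (BT.leaf 34)) (BT.node (BT.node (BT.leaf 180) (BT.leaf 226)) (BT.leaf 341))) (BT.node (BT.node (BT.node (BT.leaf 8) (BT.leaf 62)) (BT.leaf 119)) (BT.node (BT.leaf 192) (BT.leaf 194))))) (BT.node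 (BT.node (BT.node (BT.node (BT.node (BT.leaf 61) (BT.leaf 266)) (BT.leaf 87)) (BT.node (BT.node (BT.leaf 18) (BT.leaf 173)) (BT.leaf 41))) (BT.node (BT.node (BT.node (BT.leaf 27) (BT.leaf 319)) (BT.leaf 259)) (BT.node (BT.leaf 287) (BT.leaf 139)))) (BT.node (BT.node (BT.node (BT.node (BT.leaf 124) (BT.leaf 328)) (BT.leaf 334)) (BT.node (BT.node (BT.leaf 281) (BT.leaf 251)) (BT.leaf 221))) (BT.node (BT.node (BT.node (BT.leaf 207) (BT.leaf 26)) (BT.leaf 145)) (BT.node (BT.leaf 310) (BT.leaf 60)))))) (BT.node (BT.node (BT.node (BT.node (BT.node (BT.node (BT.leaf 20) (BT.leaf 262)) (BT.leaf 128)) (BT.node (BT.node (BT.leaf 149) (BT.leaf 76)) (BT.leaf 198))) (BT.node (BT.node (BT.node (BT.leaf 126) (BT.leaf 327)) (BT.leaf 212)) (BT.node (BT.leaf 291) (BT.leaf 37)))) (BT.node (BT.node (BT.node (BT.node (BT.leaf 96) (BT.leaf 92)) (BT.leaf 289)) (BT.node (BT.node (BT.leaf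 224) (BT.leaf 272)) (BT.leaf 169))) (BT.node (BT.node (BT.node (BT.leaf 4) (BT.leaf 33)) (BT.leaf 100)) (BT.node (BT.leaf 52) (BT.leaf 343))))) (BT.node (BT.node (BT.node (BT.node (BT.node (BT.leaf 58) (BT.leaf 270)) (BT.leaf 12)) (BT.node (BT.node (BT.leaf 78) (BT.leaf 205)) (BT.leaf 249))) (BT.node (BT.node (BT.node (BT.leaf 113) (BT.leaf 66)) (BT.leaf 182)) (BT.node (BT.leaf 162) (BT.leaf 346)))) (BT.node (BT.node (BT.node (BT.node (BT.leaf 156) (BT.leaf 28)) (BT.leaf 140)) (BT.node (BT.node (BT.leaf 106) (BT.leaf 277)) (BT.leaf 222))) (BT.node (BT.node (BT.node (BT.leaf 177) (BT.leaf 82)) (BT.leaf 153)) (BT.node (BT.leaf 19) (BT.leaf 73)))))))) (BT.node (BT.node (BT.node (BT.node (BT.node (BT.node (BT.node (BT.node (BT.leaf 9) (BT.leaf 257)) (BT.leaf 65)) (BT.node (BT.node (BT.leaf 51) (BT.leaf 135)) (BT.leaf 116))) (BT.node (BT.node (BT.node (BT.leaf 122)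 (BT.leaf 84)) (BT.leaf 290)) (BT.node (BT.leaf 68) (BT.leaf 138)))) (BT.node (BT.node (BT.node (BT.node (BT.leaf 93) (BT.leaf 219)) (BT.leaf 176)) (BT.node (BT.node (BT.leaf 81) (BT.leaf 187)) (BT.leaf 35))) (BT.node (BT.node (BT.node (BT.leaf 114) (BT.leaf 200)) (BT.leaf 306)) (BT.node (BT.leaf 108) (BT.leaf 11))))) (BT.node (BT.node (BT.node (BT.node (BT.node (BT.leaf 53) (BT.leaf 265)) (BT.leaf 326)) (BT.node (BT.node (BT.leaf 125) (BT.leaf 330)) (BT.leaf 280))) (BT.node (BT.node (BT.node (BT.leaf 111) (BT.leaf 338)) (BT.leaf 332)) (BT.node (BT.leaf 294) (BT.leaf 324)))) (BT.node (BT.node (BT.node (BT.node (BT.leaf 74) (BT.leaf 271)) (BT.leaf 268)) (BT.node (BT.node (BT.leaf 36) (BT.leaf 208)) (BT.leaf 252))) (BT.node (BT.node (BT.node (BT.leaf 218) (BT.leaf 336)) (BT.leaf 144)) (BT.node (BT.leaf 89) (BT.leaf 299)))))) (BT.node (BT.node (BT.node (BT.node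 (BT.node (BT.node (BT.leaf 22) (BT.leaf 261)) (BT.leaf 171)) (BT.node (BT.node (BT.leaf 242) (BT.leaf 283)) (BT.leaf 323))) (BT.node (BT.node (BT.node (BT.leaf 64) (BT.leaf 184)) (BT.leaf 123)) (BT.node (BT.leaf 253) (BT.leaf 250)))) (BT.node (BT.node (BT.node (BT.node (BT.leaf 118) (BT.leaf 322)) (BT.leaf 331)) (BT.node (BT.node (BT.leaf 211) (BT.leaf 220)) (BT.leaf 325))) (BT.node (BT.node (BT.node (BT.leaf 1) (BT.leaf 40)) (BT.leaf 302)) (BT.node (BT.leaf 267) (BT.leaf 97))))) (BT.node (BT.node (BT.node (BT.node (BT.node (BT.leaf 13) (BT.leaf 269)) (BT.leaf 166)) (BT.node (BT.node (BT.leaf 215) (BT.leaf 333)) (BT.leaf 154))) (BT.node (BT.node (BT.node (BT.leaf 120) (BT.leaf 95)) (BT.leaf 329)) (BT.node (BT.leaf 178) (BT.leaf 197)))) (BT.node (BT.node (BT.node (BT.node (BT.leaf 99) (BT.leaf 196)) (BT.leaf 316)) (BT.node (BT.node (BT.leaf 3) (BT.leaf 349))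 (BT.leaf 57))) (BT.node (BT.node (BT.node (BT.leaf 31) (BT.leaf 217)) (BT.leaf 288)) (BT.node (BT.leaf 254) (BT.leaf 275))))))) (BT.node (BT.node (BT.node (BT.node (BT.node (BT.node (BT.node (BT.leaf 17) (BT.leaf 91)) (BT.leaf 163)) (BT.node (BT.node (BT.leaf 241) (BT.leaf 237)) (BT.leaf 279))) (BT.node (BT.node (BT.node (BT.leaf 159) (BT.leaf 292)) (BT.leaf 311)) (BT.node (BT.leaf 152) (BT.leaf 278)))) (BT.node (BT.node (BT.node (BT.node (BT.leaf 38) (BT.leaf 101)) (BT.leaf 231)) (BT.node (BT.node (BT.leaf 274) (BT.leaf 339)) (BT.leaf 191))) (BT.node (BT.node (BT.node (BT.leaf 129) (BT.leaf 193)) (BT.leaf 301)) (BT.node (BT.leaf 305) (BT.leaf 243))))) (BT.node (BT.node (BT.node (BT.node (BT.node (BT.leaf 67) (BT.leaf 204)) (BT.leaf 175)) (BT.node (BT.node (BT.leaf 75) (BT.leaf 70)) (BT.leaf 320))) (BT.node (BT.node (BT.node (BT.leaf 42) (BT.leaf 206)) (BT.leaf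 47)) (BT.node (BT.leaf 147) (BT.leaf 246)))) (BT.node (BT.node (BT.node (BT.node (BT.leaf 43) (BT.leaf 213)) (BT.leaf 321)) (BT.node (BT.node (BT.leaf 170) (BT.leaf 347)) (BT.leaf 151))) (BT.node (BT.node (BT.node (BT.leaf 88) (BT.leaf 158)) (BT.leaf 172)) (BT.node (BT.leaf 300) (BT.leaf 238)))))) (BT.node (BT.node (BT.node (BT.node (BT.node (BT.node (BT.leaf 24) (BT.leaf 263)) (BT.leaf 155)) (BT.node (BT.node (BT.leaf 148) (BT.leaf 105)) (BT.leaf 164))) (BT.node (BT.node (BT.node (BT.leaf 112) (BT.leaf 345)) (BT.leaf 146)) (BT.node (BT.leaf 71) (BT.leaf 107)))) (BT.node (BT.node (BT.node (BT.node (BT.leaf 50) (BT.leaf 335)) (BT.leaf 273)) (BT.node (BT.node (BT.leaf 225) (BT.leaf 235)) (BT.leaf 260))) (BT.node (BT.node (BT.node (BT.leaf 30) (BT.leaf 131)) (BT.leaf 63)) (BT.node (BT.leaf 109) (BT.leaf 247))))) (BT.node (BT.node (BT.node (BT.node (BT.node (BT.leaf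 59) (BT.leaf 90)) (BT.leaf 284)) (BT.node (BT.node (BT.leaf 79) (BT.leaf 195)) (BT.leaf 14))) (BT.node (BT.node (BT.node (BT.leaf 133) (BT.leaf 303)) (BT.leaf 234)) (BT.node (BT.leaf 202) (BT.leaf 45)))) (BT.node (BT.node (BT.node (BT.node (BT.leaf 10) (BT.leaf 94)) (BT.leaf 209)) (BT.node (BT.leaf 179) (BT.leaf 342))) (BT.node (BT.node (BT.node (BT.leaf 232) (BT.leaf 216)) (BT.leaf 85)) (BT.node (BT.leaf 309) (BT.leaf 255))))))))),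
  (BT.node (BT.node (BT.node (BT.node (BT.node (BT.node (BT.node (BT.node (BT.node (BT.leaf 5) (BT.leaf 304)) (BT.leaf 193)) (BT.node (BT.node (BT.leaf 42) (BT.leaf 270)) (BT.leaf 338))) (BT.node (BT.node (BT.node (BT.leaf 66) (BT.leaf 346)) (BT.leaf 240)) (BT.node (BT.leaf 287) (BT.leaf 175)))) (BT.node (BT.node (BT.node (BT.node (BT.leaf 94) (BT.leaf 231)) (BT.leaf 259)) (BT.node (BT.node (BT.leaf 268) (BT.leaf 159)) (BT.leaf 189))) (BT.node (BT.node (BT.node (BT.leaf 182) (BT.leaf 257)) (BT.leaf 221)) (BT.node (BT.leaf 118) (BT.leaf 313))))) (BT.node (BT.node (BT.node (BT.node (BT.node (BT.leaf 41) (BT.leaf 166)) (BT.leaf 136)) (BT.node (BT.node (BT.leaf 251) (BT.leaf 139)) (BT.leaf 329))) (BT.node (BT.node (BT.node (BT.leaf 163) (BT.leaf 21)) (BT.leaf 176)) (BT.node (BT.leaf 258) (BT.leaf 286)))) (BT.node (BT.node (BT.node (BT.node (BT.leaf 109) (BT.leaf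 24)) (BT.leaf 333)) (BT.node (BT.node (BT.leaf 102) (BT.leaf 344)) (BT.leaf 113))) (BT.node (BT.node (BT.node (BT.leaf 213) (BT.leaf 288)) (BT.leaf 86)) (BT.node (BT.leaf 199) (BT.leaf 145)))))) (BT.node (BT.node (BT.node (BT.node (BT.node (BT.node (BT.leaf 33) (BT.leaf 320)) (BT.leaf 277)) (BT.node (BT.node (BT.leaf 1) (BT.leaf 324)) (BT.leaf 104))) (BT.node (BT.node (BT.node (BT.leaf 165) (BT.leaf 144)) (BT.leaf 52)) (BT.node (BT.leaf 88) (BT.leaf 267)))) (BT.node (BT.node (BT.node (BT.node (BT.leaf 110) (BT.leaf 276)) (BT.leaf 174)) (BT.node (BT.node (BT.leaf 57) (BT.leaf 311)) (BT.leaf 78))) (BT.node (BT.node (BT.node (BT.leaf 35) (BT.leaf 225)) (BT.leaf 222)) (BT.node (BT.leaf 59) (BT.leaf 190))))) (BT.node (BT.node (BT.node (BT.node (BT.node (BT.leaf 73) (BT.leaf 143)) (BT.leaf 65)) (BT.node (BT.node (BT.leaf 253) (BT.leaf 332)) (BT.leaf 204))) (BT.node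 (BT.node (BT.node (BT.leaf 181) (BT.leaf 342)) (BT.leaf 74)) (BT.node (BT.leaf 296) (BT.leaf 236)))) (BT.node (BT.node (BT.node (BT.node (BT.leaf 140) (BT.leaf 284)) (BT.leaf 241)) (BT.node (BT.node (BT.leaf 92) (BT.leaf 337)) (BT.leaf 67))) (BT.node (BT.node (BT.node (BT.leaf 212) (BT.leaf 142)) (BT.leaf 116)) (BT.node (BT.leaf 53) (BT.leaf 47))))))) (BT.node (BT.node (BT.node (BT.node (BT.node (BT.node (BT.node (BT.leaf 19) (BT.leaf 196)) (BT.leaf 248)) (BT.node (BT.node (BT.leaf 238) (BT.leaf 23)) (BT.leaf 219))) (BT.node (BT.node (BT.node (BT.leaf 36) (BT.leaf 18)) (BT.leaf 4)) (BT.node (BT.leaf 133) (BT.leaf 121)))) (BT.node (BT.node (BT.node (BT.node (BT.leaf 101) (BT.leaf 198)) (BT.leaf 223)) (BT.node (BT.node (BT.leaf 105) (BT.leaf 123)) (BT.leaf 9))) (BT.node (BT.node (BT.node (BT.leaf 201) (BT.leaf 308)) (BT.leaf 8)) (BT.node (BT.leaf 146) (BT.leaf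 242))))) (BT.node (BT.node (BT.node (BT.node (BT.node (BT.leaf 62) (BT.leaf 83)) (BT.leaf 125)) (BT.node (BT.node (BT.leaf 37) (BT.leaf 330)) (BT.leaf 340))) (BT.node (BT.node (BT.node (BT.leaf 161) (BT.leaf 112)) (BT.leaf 128)) (BT.node (BT.leaf 2) (BT.leaf 150)))) (BT.node (BT.node (BT.node (BT.node (BT.leaf 30) (BT.leaf 289)) (BT.leaf 17)) (BT.node (BT.node (BT.leaf 266) (BT.leaf 312)) (BT.leaf 224))) (BT.node (BT.node (BT.node (BT.leaf 129) (BT.leaf 341)) (BT.leaf 234)) (BT.node (BT.leaf 72) (BT.leaf 250)))))) (BT.node (BT.node (BT.node (BT.node (BT.node (BT.node (BT.leaf 44) (BT.leaf 244)) (BT.leaf 103)) (BT.node (BT.node (BT.leaf 246) (BT.leaf 348)) (BT.leaf 271))) (BT.node (BT.node (BT.node (BT.leaf 0) (BT.leaf 294)) (BT.leaf 229)) (BT.node (BT.leaf 100) (BT.leaf 321)))) (BT.node (BT.node (BT.node (BT.node (BT.leaf 16) (BT.leaf 349)) (BT.leaf 186)) (BT.node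 (BT.node (BT.leaf 85) (BT.leaf 301)) (BT.leaf 279))) (BT.node (BT.node (BT.node (BT.leaf 208) (BT.leaf 345)) (BT.leaf 185)) (BT.node (BT.leaf 298) (BT.leaf 13))))) (BT.node (BT.node (BT.node (BT.node (BT.node (BT.leaf 63) (BT.leaf 260)) (BT.leaf 237)) (BT.node (BT.node (BT.leaf 60) (BT.leaf 156)) (BT.leaf 98))) (BT.node (BT.node (BT.node (BT.leaf 45) (BT.leaf 310)) (BT.leaf 307)) (BT.node (BT.leaf 295) (BT.leaf 32)))) (BT.node (BT.node (BT.node (BT.node (BT.leaf 3) (BT.leaf 317)) (BT.leaf 252)) (BT.node (BT.node (BT.leaf 22) (BT.leaf 119)) (BT.leaf 327))) (BT.node (BT.node (BT.node (BT.leaf 197) (BT.leaf 318)) (BT.leaf 262)) (BT.node (BT.leaf 96) (BT.leaf 323)))))))) (BT.node (BT.node (BT.node (BT.node (BT.node (BT.node (BT.node (BT.node (BT.leaf 11) (BT.leaf 256)) (BT.leaf 217)) (BT.node (BT.node (BT.leaf 28) (BT.leaf 275)) (BT.leaf 170))) (BT.node (BT.node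 (BT.node (BT.leaf 162) (BT.leaf 293)) (BT.leaf 64)) (BT.node (BT.leaf 154) (BT.leaf 306)))) (BT.node (BT.node (BT.node (BT.node (BT.leaf 97) (BT.leaf 69)) (BT.leaf 130)) (BT.node (BT.node (BT.leaf 195) (BT.leaf 326)) (BT.leaf 216))) (BT.node (BT.node (BT.node (BT.leaf 147) (BT.leaf 305)) (BT.leaf 12)) (BT.node (BT.leaf 209) (BT.leaf 334))))) (BT.node (BT.node (BT.node (BT.node (BT.node (BT.leaf 55) (BT.leaf 214)) (BT.leaf 25)) (BT.node (BT.node (BT.leaf 177) (BT.leaf 269)) (BT.leaf 127))) (BT.node (BT.node (BT.node (BT.leaf 178) (BT.leaf 167)) (BT.leaf 81)) (BT.node (BT.leaf 75) (BT.leaf 303)))) (BT.node (BT.node (BT.node (BT.node (BT.leaf 135) (BT.leaf 281)) (BT.leaf 153)) (BT.node (BT.node (BT.leaf 272) (BT.leaf 302)) (BT.leaf 58))) (BT.node (BT.node (BT.node (BT.leaf 211) (BT.leaf 160)) (BT.leaf 48)) (BT.node (BT.leaf 95) (BT.leaf 51)))))) (BT.node (BT.node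 (BT.node (BT.node (BT.node (BT.node (BT.leaf 38) (BT.leaf 203)) (BT.leaf 206)) (BT.node (BT.node (BT.leaf 247) (BT.leaf 31)) (BT.leaf 10))) (BT.node (BT.node (BT.node (BT.leaf 172) (BT.leaf 282)) (BT.leaf 34)) (BT.node (BT.leaf 290) (BT.leaf 264)))) (BT.node (BT.node (BT.node (BT.node (BT.leaf 108) (BT.leaf 111)) (BT.leaf 79)) (BT.node (BT.node (BT.leaf 184) (BT.leaf 245)) (BT.leaf 87))) (BT.node (BT.node (BT.node (BT.leaf 205) (BT.leaf 350)) (BT.leaf 6)) (BT.node (BT.leaf 233) (BT.leaf 314))))) (BT.node (BT.node (BT.node (BT.node (BT.node (BT.leaf 70) (BT.leaf 200)) (BT.leaf 141)) (BT.node (BT.node (BT.leaf 261) (BT.leaf 227)) (BT.leaf 124))) (BT.node (BT.node (BT.node (BT.leaf 39) (BT.leaf 300)) (BT.leaf 115)) (BT.node (BT.leaf 280) (BT.leaf 316)))) (BT.node (BT.node (BT.node (BT.node (BT.leaf 29) (BT.leaf 285)) (BT.leaf 325)) (BT.node (BT.node (BT.leaf 220)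 (BT.leaf 99)) (BT.leaf 168))) (BT.node (BT.node (BT.node (BT.leaf 138) (BT.leaf 232)) (BT.leaf 54)) (BT.node (BT.leaf 61) (BT.leaf 27))))))) (BT.node (BT.node (BT.node (BT.node (BT.node (BT.node (BT.node (BT.leaf 26) (BT.leaf 292)) (BT.leaf 322)) (BT.node (BT.node (BT.leaf 93) (BT.leaf 283)) (BT.leaf 169))) (BT.node (BT.node (BT.node (BT.leaf 164) (BT.leaf 134)) (BT.leaf 7)) (BT.node (BT.leaf 278) (BT.leaf 152)))) (BT.node (BT.node (BT.node (BT.node (BT.leaf 106) (BT.leaf 230)) (BT.leaf 179)) (BT.node (BT.node (BT.leaf 90) (BT.leaf 194)) (BT.leaf 84))) (BT.node (BT.node (BT.node (BT.leaf 183) (BT.leaf 148)) (BT.leaf 49)) (BT.node (BT.leaf 255) (BT.leaf 228))))) (BT.node (BT.node (BT.node (BT.node (BT.node (BT.leaf 68) (BT.leaf 243)) (BT.leaf 191)) (BT.node (BT.node (BT.leaf 82) (BT.leaf 331)) (BT.leaf 77))) (BT.node (BT.node (BT.node (BT.leaf 187) (BT.leaf 315))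 (BT.leaf 14)) (BT.node (BT.leaf 297) (BT.leaf 149)))) (BT.node (BT.node (BT.node (BT.node (BT.leaf 76) (BT.leaf 254)) (BT.leaf 43)) (BT.node (BT.node (BT.leaf 71) (BT.leaf 347)) (BT.leaf 339))) (BT.node (BT.node (BT.node (BT.leaf 188) (BT.leaf 207)) (BT.leaf 155)) (BT.node (BT.leaf 192) (BT.leaf 122)))))) (BT.node (BT.node (BT.node (BT.node (BT.node (BT.node (BT.leaf 40) (BT.leaf 263)) (BT.leaf 137)) (BT.node (BT.node (BT.leaf 15) (BT.leaf 180)) (BT.leaf 319))) (BT.node (BT.node (BT.node (BT.leaf 46) (BT.leaf 20)) (BT.leaf 107)) (BT.node (BT.leaf 291) (BT.leaf 89)))) (BT.node (BT.node (BT.node (BT.node (BT.leaf 131) (BT.leaf 265)) (BT.leaf 151)) (BT.node (BT.node (BT.leaf 56) (BT.leaf 343)) (BT.leaf 215))) (BT.node (BT.node (BT.node (BT.leaf 210) (BT.leaf 202)) (BT.leaf 249)) (BT.node (BT.leaf 309) (BT.leaf 273))))) (BT.node (BT.node (BT.node (BT.node (BT.node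 (BT.leaf 91) (BT.leaf 274)) (BT.leaf 80)) (BT.node (BT.node (BT.leaf 235) (BT.leaf 335)) (BT.leaf 299))) (BT.node (BT.node (BT.node (BT.leaf 158) (BT.leaf 117)) (BT.leaf 218)) (BT.node (BT.leaf 132) (BT.leaf 336)))) (BT.node (BT.node (BT.node (BT.node (BT.leaf 157) (BT.leaf 126)) (BT.leaf 239)) (BT.node (BT.leaf 226) (BT.leaf 114))) (BT.node (BT.node (BT.node (BT.leaf 171) (BT.leaf 120)) (BT.leaf 328)) (BT.node (BT.leaf 50) (BT.leaf 173))))))))),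
  (BT.node (BT.node (BT.node (BT.node (BT.node (BT.node (BT.node (BT.node (BT.node (BT.leaf 6) (BT.leaf 15)) (BT.leaf 285)) (BT.node (BT.node (BT.leaf 98) (BT.leaf 48)) (BT.leaf 199))) (BT.node (BT.node (BT.node (BT.leaf 2) (BT.leaf 118)) (BT.leaf 24)) (BT.node (BT.leaf 240) (BT.leaf 91)))) (BT.node (BT.node (BT.node (BT.node (BT.leaf 72) (BT.leaf 345)) (BT.leaf 37)) (BT.node (BT.node (BT.leaf 78) (BT.leaf 251)) (BT.leaf 298))) (BT.node (BT.node (BT.node (BT.leaf 196) (BT.leaf 236)) (BT.leaf 65)) (BT.node (BT.leaf 159) (BT.leaf 209))))) (BT.node (BT.node (BT.node (BT.node (BT.node (BT.leaf 46) (BT.leaf 262)) (BT.leaf 88)) (BT.node (BT.node (BT.leaf 54) (BT.leaf 172)) (BT.leaf 190))) (BT.node (BT.node (BT.node (BT.leaf 181) (BT.leaf 238)) (BT.leaf 11)) (BT.node (BT.leaf 59) (BT.leaf 324)))) (BT.node (BT.node (BT.node (BT.node (BT.leaf 114) (BT.leaf 322)) (BT.leaf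 186)) (BT.node (BT.node (BT.leaf 260) (BT.leaf 303)) (BT.leaf 272))) (BT.node (BT.node (BT.node (BT.leaf 18) (BT.leaf 111)) (BT.leaf 241)) (BT.node (BT.leaf 122) (BT.leaf 337)))))) (BT.node (BT.node (BT.node (BT.node (BT.node (BT.node (BT.leaf 0) (BT.leaf 136)) (BT.leaf 192)) (BT.node (BT.node (BT.leaf 183) (BT.leaf 97)) (BT.leaf 320))) (BT.node (BT.node (BT.node (BT.leaf 8) (BT.leaf 341)) (BT.leaf 7)) (BT.node (BT.leaf 84) (BT.leaf 68)))) (BT.node (BT.node (BT.node (BT.node (BT.leaf 32) (BT.leaf 253)) (BT.leaf 14)) (BT.node (BT.node (BT.leaf 62) (BT.leaf 350)) (BT.leaf 318))) (BT.node (BT.node (BT.node (BT.leaf 178) (BT.leaf 279)) (BT.leaf 197)) (BT.node (BT.leaf 149) (BT.leaf 330))))) (BT.node (BT.node (BT.node (BT.node (BT.node (BT.leaf 74) (BT.leaf 348)) (BT.leaf 156)) (BT.node (BT.node (BT.leaf 148) (BT.leaf 73)) (BT.leaf 315))) (BT.node (BT.node (BT.node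 (BT.leaf 52) (BT.leaf 19)) (BT.leaf 281)) (BT.node (BT.leaf 89) (BT.leaf 134)))) (BT.node (BT.node (BT.node (BT.node (BT.leaf 144) (BT.leaf 329)) (BT.leaf 267)) (BT.node (BT.node (BT.leaf 133) (BT.leaf 305)) (BT.leaf 235))) (BT.node (BT.node (BT.node (BT.leaf 87) (BT.leaf 195)) (BT.leaf 64)) (BT.node (BT.leaf 175) (BT.leaf 332))))))) (BT.node (BT.node (BT.node (BT.node (BT.node (BT.node (BT.node (BT.leaf 20) (BT.leaf 222)) (BT.leaf 170)) (BT.node (BT.node (BT.leaf 146) (BT.leaf 106)) (BT.leaf 184))) (BT.node (BT.node (BT.node (BT.leaf 40) (BT.leaf 115)) (BT.leaf 41)) (BT.node (BT.leaf 188) (BT.leaf 336)))) (BT.node (BT.node (BT.node (BT.node (BT.leaf 9) (BT.leaf 101)) (BT.leaf 309)) (BT.node (BT.node (BT.leaf 237) (BT.leaf 313)) (BT.leaf 246))) (BT.node (BT.node (BT.node (BT.leaf 108) (BT.leaf 182)) (BT.leaf 44)) (BT.node (BT.leaf 160) (BT.leaf 293))))) (BT.node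 (BT.node (BT.node (BT.node (BT.node (BT.leaf 17) (BT.leaf 258)) (BT.leaf 327)) (BT.node (BT.node (BT.leaf 1) (BT.leaf 321)) (BT.leaf 95))) (BT.node (BT.node (BT.node (BT.leaf 61) (BT.leaf 223)) (BT.leaf 213)) (BT.node (BT.leaf 280) (BT.leaf 273)))) (BT.node (BT.node (BT.node (BT.node (BT.leaf 139) (BT.leaf 187)) (BT.leaf 116)) (BT.node (BT.node (BT.leaf 282) (BT.leaf 338)) (BT.leaf 274))) (BT.node (BT.node (BT.node (BT.leaf 137) (BT.leaf 234)) (BT.leaf 51)) (BT.node (BT.leaf 311) (BT.leaf 138)))))) (BT.node (BT.node (BT.node (BT.node (BT.node (BT.node (BT.leaf 4) (BT.leaf 79)) (BT.leaf 304)) (BT.node (BT.node (BT.leaf 205) (BT.leaf 71)) (BT.leaf 75))) (BT.node (BT.node (BT.node (BT.leaf 147) (BT.leaf 229)) (BT.leaf 180)) (BT.node (BT.leaf 220) (BT.leaf 286)))) (BT.node (BT.node (BT.node (BT.node (BT.leaf 112) (BT.leaf 47)) (BT.leaf 177)) (BT.node (BT.node (BT.leaf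 259) (BT.leaf 295)) (BT.leaf 125))) (BT.node (BT.node (BT.node (BT.leaf 16) (BT.leaf 131)) (BT.leaf 289)) (BT.node (BT.leaf 109) (BT.leaf 291))))) (BT.node (BT.node (BT.node (BT.node (BT.node (BT.leaf 76) (BT.leaf 265)) (BT.leaf 25)) (BT.node (BT.node (BT.leaf 13) (BT.leaf 307)) (BT.leaf 308))) (BT.node (BT.node (BT.node (BT.leaf 36) (BT.leaf 167)) (BT.leaf 150)) (BT.node (BT.leaf 202) (BT.leaf 297)))) (BT.node (BT.node (BT.node (BT.node (BT.leaf 117) (BT.leaf 185)) (BT.leaf 30)) (BT.node (BT.node (BT.leaf 201) (BT.leaf 287)) (BT.leaf 266))) (BT.node (BT.node (BT.node (BT.leaf 100) (BT.leaf 323)) (BT.leaf 161)) (BT.node (BT.leaf 231) (BT.leaf 217)))))))) (BT.node (BT.node (BT.node (BT.node (BT.node (BT.node (BT.node (BT.node (BT.leaf 12) (BT.leaf 198)) (BT.leaf 29)) (BT.node (BT.node (BT.leaf 99) (BT.leaf 244)) (BT.leaf 70))) (BT.node (BT.node (BT.node (BT.leaf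 163) (BT.leaf 306)) (BT.leaf 200)) (BT.node (BT.leaf 232) (BT.leaf 294)))) (BT.node (BT.node (BT.node (BT.node (BT.leaf 43) (BT.leaf 314)) (BT.leaf 129)) (BT.node (BT.node (BT.leaf 261) (BT.leaf 271)) (BT.leaf 96))) (BT.node (BT.node (BT.node (BT.leaf 164) (BT.leaf 268)) (BT.leaf 174)) (BT.node (BT.leaf 121) (BT.leaf 194))))) (BT.node (BT.node (BT.node (BT.node (BT.node (BT.leaf 56) (BT.leaf 269)) (BT.leaf 103)) (BT.node (BT.node (BT.leaf 252) (BT.leaf 155)) (BT.leaf 277))) (BT.node (BT.node (BT.node (BT.leaf 179) (BT.leaf 296)) (BT.leaf 254)) (BT.node (BT.leaf 60) (BT.leaf 245)))) (BT.node (BT.node (BT.node (BT.node (BT.leaf 53) (BT.leaf 328)) (BT.leaf 290)) (BT.node (BT.node (BT.leaf 50) (BT.leaf 216)) (BT.leaf 169))) (BT.node (BT.node (BT.node (BT.leaf 83) (BT.leaf 346)) (BT.leaf 230)) (BT.node (BT.leaf 23) (BT.leaf 157)))))) (BT.node (BT.node (BT.node (BT.node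 (BT.node (BT.node (BT.leaf 39) (BT.leaf 255)) (BT.leaf 211)) (BT.node (BT.node (BT.leaf 168) (BT.leaf 86)) (BT.leaf 166))) (BT.node (BT.node (BT.node (BT.leaf 28) (BT.leaf 67)) (BT.leaf 38)) (BT.node (BT.leaf 218) (BT.leaf 225)))) (BT.node (BT.node (BT.node (BT.node (BT.leaf 119) (BT.leaf 94)) (BT.leaf 154)) (BT.node (BT.node (BT.leaf 278) (BT.leaf 343)) (BT.leaf 130))) (BT.node (BT.node (BT.node (BT.leaf 142) (BT.leaf 66)) (BT.leaf 34)) (BT.node (BT.leaf 158) (BT.leaf 63))))) (BT.node (BT.node (BT.node (BT.node (BT.node (BT.leaf 80) (BT.leaf 270)) (BT.leaf 82)) (BT.node (BT.node (BT.leaf 256) (BT.leaf 263)) (BT.leaf 193))) (BT.node (BT.node (BT.node (BT.leaf 33) (BT.leaf 312)) (BT.leaf 135)) (BT.node (BT.leaf 288) (BT.leaf 141)))) (BT.node (BT.node (BT.node (BT.node (BT.leaf 145) (BT.leaf 203)) (BT.leaf 335)) (BT.node (BT.node (BT.leaf 42) (BT.leaf 333)) (BT.leaf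 276))) (BT.node (BT.node (BT.node (BT.leaf 93) (BT.leaf 214)) (BT.leaf 21)) (BT.node (BT.leaf 317) (BT.leaf 221))))))) (BT.node (BT.node (BT.node (BT.node (BT.node (BT.node (BT.node (BT.leaf 27) (BT.leaf 325)) (BT.leaf 239)) (BT.node (BT.node (BT.leaf 242) (BT.leaf 212)) (BT.leaf 299))) (BT.node (BT.node (BT.node (BT.leaf 5) (BT.leaf 210)) (BT.leaf 45)) (BT.node (BT.leaf 176) (BT.leaf 171)))) (BT.node (BT.node (BT.node (BT.node (BT.leaf 107) (BT.leaf 57)) (BT.leaf 165)) (BT.node (BT.node (BT.leaf 275) (BT.leaf 347)) (BT.leaf 92))) (BT.node (BT.node (BT.node (BT.leaf 152) (BT.leaf 331)) (BT.leaf 162)) (BT.node (BT.leaf 153) (BT.leaf 344))))) (BT.node (BT.node (BT.node (BT.node (BT.node (BT.leaf 69) (BT.leaf 140)) (BT.leaf 219)) (BT.node (BT.node (BT.leaf 257) (BT.leaf 334)) (BT.leaf 128))) (BT.node (BT.node (BT.node (BT.leaf 10) (BT.leaf 316)) (BT.leaf 191))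 (BT.node (BT.leaf 300) (BT.leaf 102)))) (BT.node (BT.node (BT.node (BT.node (BT.leaf 31) (BT.leaf 224)) (BT.leaf 284)) (BT.node (BT.node (BT.leaf 283) (BT.leaf 247)) (BT.leaf 26))) (BT.node (BT.node (BT.node (BT.leaf 215) (BT.leaf 55)) (BT.leaf 90)) (BT.node (BT.leaf 126) (BT.leaf 226)))))) (BT.node (BT.node (BT.node (BT.node (BT.node (BT.node (BT.leaf 49) (BT.leaf 349)) (BT.leaf 143)) (BT.node (BT.node (BT.leaf 207) (BT.leaf 250)) (BT.leaf 132))) (BT.node (BT.node (BT.node (BT.leaf 35) (BT.leaf 319)) (BT.leaf 127)) (BT.node (BT.leaf 58) (BT.leaf 123)))) (BT.node (BT.node (BT.node (BT.node (BT.leaf 113) (BT.leaf 206)) (BT.leaf 124)) (BT.node (BT.node (BT.leaf 105) (BT.leaf 292)) (BT.leaf 104))) (BT.node (BT.node (BT.node (BT.leaf 204) (BT.leaf 120)) (BT.leaf 228)) (BT.node (BT.leaf 189) (BT.leaf 339))))) (BT.node (BT.node (BT.node (BT.node (BT.node (BT.leaf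 77) (BT.leaf 248)) (BT.leaf 173)) (BT.node (BT.node (BT.leaf 264) (BT.leaf 249)) (BT.leaf 326))) (BT.node (BT.node (BT.node (BT.leaf 85) (BT.leaf 243)) (BT.leaf 151)) (BT.node (BT.leaf 301) (BT.leaf 310)))) (BT.node (BT.node (BT.node (BT.node (BT.leaf 3) (BT.leaf 340)) (BT.leaf 22)) (BT.node (BT.leaf 110) (BT.leaf 208))) (BT.node (BT.node (BT.node (BT.leaf 233) (BT.leaf 342)) (BT.leaf 227)) (BT.node (BT.leaf 302) (BT.leaf 81))))))))),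
  (BT.node (BT.node (BT.node (BT.node (BT.node (BT.node (BT.node (BT.node (BT.node (BT.leaf 7) (BT.leaf 270)) (BT.leaf 155)) (BT.node (BT.node (BT.leaf 85) (BT.leaf 148)) (BT.leaf 54))) (BT.node (BT.node (BT.node (BT.leaf 113) (BT.leaf 310)) (BT.leaf 20)) (BT.node (BT.leaf 288) (BT.leaf 317)))) (BT.node (BT.node (BT.node (BT.node (BT.leaf 95) (BT.leaf 322)) (BT.leaf 77)) (BT.node (BT.node (BT.leaf 200) (BT.leaf 342)) (BT.leaf 280))) (BT.node (BT.node (BT.node (BT.leaf 1) (BT.leaf 260)) (BT.leaf 142)) (BT.node (BT.leaf 119) (BT.leaf 110))))) (BT.node (BT.node (BT.node (BT.node (BT.node (BT.leaf 0) (BT.leaf 177)) (BT.leaf 281)) (BT.node (BT.node (BT.leaf 89) (BT.leaf 134)) (BT.leaf 76))) (BT.node (BT.node (BT.node (BT.leaf 41) (BT.leaf 319)) (BT.leaf 316)) (BT.node (BT.leaf 292) (BT.leaf 333)))) (BT.node (BT.node (BT.node (BT.node (BT.leaf 123) (BT.leaf 338))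 (BT.leaf 224)) (BT.node (BT.node (BT.leaf 249) (BT.leaf 204)) (BT.leaf 201))) (BT.node (BT.node (BT.node (BT.leaf 214) (BT.leaf 302)) (BT.leaf 274)) (BT.node (BT.leaf 2) (BT.leaf 17)))))) (BT.node (BT.node (BT.node (BT.node (BT.node (BT.node (BT.leaf 34) (BT.leaf 307)) (BT.leaf 240)) (BT.node (BT.node (BT.leaf 246) (BT.leaf 344)) (BT.leaf 259))) (BT.node (BT.node (BT.node (BT.leaf 35) (BT.leaf 203)) (BT.leaf 162)) (BT.node (BT.leaf 183) (BT.leaf 217)))) (BT.node (BT.node (BT.node (BT.node (BT.leaf 111) (BT.leaf 285)) (BT.leaf 257)) (BT.node (BT.node (BT.leaf 194) (BT.leaf 336)) (BT.leaf 327))) (BT.node (BT.node (BT.node (BT.leaf 4) (BT.leaf 314)) (BT.leaf 325)) (BT.node (BT.leaf 176) (BT.leaf 172))))) (BT.node (BT.node (BT.node (BT.node (BT.node (BT.leaf 75) (BT.leaf 329)) (BT.leaf 56)) (BT.node (BT.node (BT.leaf 80) (BT.leaf 305)) (BT.leaf 324))) (BT.node (BT.node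 (BT.node (BT.leaf 39) (BT.leaf 202)) (BT.leaf 115)) (BT.node (BT.leaf 199) (BT.leaf 330)))) (BT.node (BT.node (BT.node (BT.node (BT.leaf 87) (BT.leaf 343)) (BT.leaf 283)) (BT.node (BT.node (BT.leaf 263) (BT.leaf 225)) (BT.leaf 267))) (BT.node (BT.node (BT.node (BT.leaf 222) (BT.leaf 188)) (BT.leaf 168)) (BT.node (BT.leaf 133) (BT.leaf 128))))))) (BT.node (BT.node (BT.node (BT.node (BT.node (BT.node (BT.node (BT.leaf 21) (BT.leaf 144)) (BT.leaf 154)) (BT.node (BT.node (BT.leaf 209) (BT.leaf 251)) (BT.leaf 210))) (BT.node (BT.node (BT.node (BT.leaf 52) (BT.leaf 88)) (BT.leaf 165)) (BT.node (BT.leaf 233) (BT.leaf 223)))) (BT.node (BT.node (BT.node (BT.node (BT.leaf 102) (BT.leaf 42)) (BT.leaf 16)) (BT.node (BT.node (BT.leaf 229) (BT.leaf 208)) (BT.leaf 84))) (BT.node (BT.node (BT.node (BT.leaf 66) (BT.leaf 245)) (BT.leaf 38)) (BT.node (BT.leaf 22) (BT.leaf 347)))))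 (BT.node (BT.node (BT.node (BT.node (BT.node (BT.leaf 63) (BT.leaf 150)) (BT.leaf 328)) (BT.node (BT.node (BT.leaf 255) (BT.leaf 335)) (BT.leaf 239))) (BT.node (BT.node (BT.node (BT.leaf 184) (BT.leaf 350)) (BT.leaf 187)) (BT.node (BT.leaf 296) (BT.leaf 25)))) (BT.node (BT.node (BT.node (BT.node (BT.leaf 91) (BT.leaf 99)) (BT.leaf 273)) (BT.node (BT.node (BT.leaf 234) (BT.leaf 345)) (BT.leaf 286))) (BT.node (BT.node (BT.node (BT.leaf 220) (BT.leaf 326)) (BT.leaf 137)) (BT.node (BT.leaf 231) (BT.leaf 331)))))) (BT.node (BT.node (BT.node (BT.node (BT.node (BT.node (BT.leaf 45) (BT.leaf 37)) (BT.leaf 138)) (BT.node (BT.node (BT.leaf 182) (BT.leaf 308)) (BT.leaf 161))) (BT.node (BT.node (BT.node (BT.leaf 163) (BT.leaf 276)) (BT.leaf 12)) (BT.node (BT.leaf 51) (BT.leaf 241)))) (BT.node (BT.node (BT.node (BT.node (BT.leaf 121) (BT.leaf 299)) (BT.leaf 135)) (BT.node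 (BT.node (BT.leaf 198) (BT.leaf 340)) (BT.leaf 140))) (BT.node (BT.node (BT.node (BT.leaf 109) (BT.leaf 96)) (BT.leaf 11)) (BT.node (BT.leaf 309) (BT.leaf 185))))) (BT.node (BT.node (BT.node (BT.node (BT.node (BT.leaf 81) (BT.leaf 174)) (BT.leaf 116)) (BT.node (BT.node (BT.leaf 180) (BT.leaf 323)) (BT.leaf 117))) (BT.node (BT.node (BT.node (BT.leaf 147) (BT.leaf 126)) (BT.leaf 256)) (BT.node (BT.leaf 132) (BT.leaf 216)))) (BT.node (BT.node (BT.node (BT.node (BT.leaf 71) (BT.leaf 227)) (BT.leaf 170)) (BT.node (BT.node (BT.leaf 226) (BT.leaf 297)) (BT.leaf 31))) (BT.node (BT.node (BT.node (BT.leaf 171) (BT.leaf 136)) (BT.leaf 74)) (BT.node (BT.leaf 312) (BT.leaf 230)))))))) (BT.node (BT.node (BT.node (BT.node (BT.node (BT.node (BT.node (BT.node (BT.leaf 13) (BT.leaf 320)) (BT.leaf 67)) (BT.node (BT.node (BT.leaf 213) (BT.leaf 334)) (BT.leaf 43))) (BT.node (BT.node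 (BT.node (BT.leaf 36) (BT.leaf 278)) (BT.leaf 86)) (BT.node (BT.leaf 247) (BT.leaf 341)))) (BT.node (BT.node (BT.node (BT.node (BT.leaf 69) (BT.leaf 130)) (BT.leaf 97)) (BT.node (BT.node (BT.leaf 197) (BT.leaf 306)) (BT.leaf 50))) (BT.node (BT.node (BT.node (BT.leaf 44) (BT.leaf 215)) (BT.leaf 105)) (BT.node (BT.leaf 127) (BT.leaf 254))))) (BT.node (BT.node (BT.node (BT.node (BT.node (BT.leaf 57) (BT.leaf 28)) (BT.leaf 83)) (BT.node (BT.node (BT.leaf 82) (BT.leaf 253)) (BT.leaf 238))) (BT.node (BT.node (BT.node (BT.leaf 5) (BT.leaf 298)) (BT.leaf 62)) (BT.node (BT.leaf 264) (BT.leaf 205)))) (BT.node (BT.node (BT.node (BT.node (BT.leaf 90) (BT.leaf 318)) (BT.leaf 250)) (BT.node (BT.node (BT.leaf 131) (BT.leaf 287)) (BT.leaf 93))) (BT.node (BT.node (BT.node (BT.leaf 219) (BT.leaf 295)) (BT.leaf 68)) (BT.node (BT.leaf 114) (BT.leaf 290)))))) (BT.node (BT.node (BT.node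 (BT.node (BT.node (BT.node (BT.leaf 40) (BT.leaf 196)) (BT.leaf 303)) (BT.node (BT.node (BT.leaf 248) (BT.leaf 78)) (BT.leaf 14))) (BT.node (BT.node (BT.node (BT.leaf 173) (BT.leaf 349)) (BT.leaf 164)) (BT.node (BT.leaf 100) (BT.leaf 73)))) (BT.node (BT.node (BT.node (BT.node (BT.leaf 120) (BT.leaf 313)) (BT.leaf 30)) (BT.node (BT.node (BT.leaf 271) (BT.leaf 348)) (BT.leaf 279))) (BT.node (BT.node (BT.node (BT.leaf 206) (BT.leaf 107)) (BT.leaf 46)) (BT.node (BT.leaf 53) (BT.leaf 337))))) (BT.node (BT.node (BT.node (BT.node (BT.node (BT.leaf 48) (BT.leaf 27)) (BT.leaf 284)) (BT.node (BT.node (BT.leaf 258) (BT.leaf 175)) (BT.leaf 98))) (BT.node (BT.node (BT.node (BT.leaf 179) (BT.leaf 311)) (BT.leaf 262)) (BT.node (BT.leaf 192) (BT.leaf 59)))) (BT.node (BT.node (BT.node (BT.node (BT.leaf 92) (BT.leaf 294)) (BT.leaf 212)) (BT.node (BT.node (BT.leaf 228) (BT.leaf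 315)) (BT.leaf 237))) (BT.node (BT.node (BT.node (BT.leaf 191) (BT.leaf 152)) (BT.leaf 24)) (BT.node (BT.leaf 139) (BT.leaf 268))))))) (BT.node (BT.node (BT.node (BT.node (BT.node (BT.node (BT.node (BT.leaf 15) (BT.leaf 261)) (BT.leaf 72)) (BT.node (BT.node (BT.leaf 243) (BT.leaf 321)) (BT.leaf 10))) (BT.node (BT.node (BT.node (BT.leaf 33) (BT.leaf 61)) (BT.leaf 178)) (BT.node (BT.leaf 207) (BT.leaf 218)))) (BT.node (BT.node (BT.node (BT.node (BT.leaf 108) (BT.leaf 156)) (BT.leaf 181)) (BT.node (BT.node (BT.leaf 186) (BT.leaf 55)) (BT.leaf 339))) (BT.node (BT.node (BT.node (BT.leaf 18) (BT.leaf 304)) (BT.leaf 6)) (BT.node (BT.leaf 244) (BT.leaf 129))))) (BT.node (BT.node (BT.node (BT.node (BT.node (BT.leaf 70) (BT.leaf 58)) (BT.leaf 103)) (BT.node (BT.node (BT.leaf 166) (BT.leaf 153)) (BT.leaf 104))) (BT.node (BT.node (BT.node (BT.leaf 47) (BT.leaf 289)) (BT.leaf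 169)) (BT.node (BT.leaf 118) (BT.leaf 26)))) (BT.node (BT.node (BT.node (BT.node (BT.leaf 143) (BT.leaf 275)) (BT.leaf 252)) (BT.node (BT.node (BT.leaf 235) (BT.leaf 151)) (BT.leaf 9))) (BT.node (BT.node (BT.node (BT.leaf 221) (BT.leaf 293)) (BT.leaf 158)) (BT.node (BT.leaf 189) (BT.leaf 272)))))) (BT.node (BT.node (BT.node (BT.node (BT.node (BT.node (BT.leaf 8) (BT.leaf 29)) (BT.leaf 266)) (BT.node (BT.node (BT.leaf 149) (BT.leaf 157)) (BT.leaf 19))) (BT.node (BT.node (BT.node (BT.leaf 49) (BT.leaf 277)) (BT.leaf 112)) (BT.node (BT.leaf 125) (BT.leaf 23)))) (BT.node (BT.node (BT.node (BT.node (BT.leaf 122) (BT.leaf 65)) (BT.leaf 242)) (BT.node (BT.node (BT.leaf 265) (BT.leaf 141)) (BT.leaf 332))) (BT.node (BT.node (BT.node (BT.leaf 211) (BT.leaf 159)) (BT.leaf 101)) (BT.node (BT.leaf 167) (BT.leaf 145))))) (BT.node (BT.node (BT.node (BT.node (BT.node (BT.leaf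 79) (BT.leaf 64)) (BT.leaf 269)) (BT.node (BT.node (BT.leaf 3) (BT.leaf 236)) (BT.leaf 282))) (BT.node (BT.node (BT.node (BT.leaf 193) (BT.leaf 124)) (BT.leaf 232)) (BT.node (BT.leaf 160) (BT.leaf 300)))) (BT.node (BT.node (BT.node (BT.node (BT.leaf 60) (BT.leaf 346)) (BT.leaf 301)) (BT.node (BT.leaf 146) (BT.leaf 94))) (BT.node (BT.node (BT.node (BT.leaf 195) (BT.leaf 106)) (BT.leaf 291)) (BT.node (BT.leaf 32) (BT.leaf 190))))))))),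
  (BT.node (BT.node (BT.node (BT.node (BT.node (BT.node (BT.node (BT.node (BT.node (BT.leaf 5) (BT.leaf 60)) (BT.leaf 237)) (BT.node (BT.node (BT.leaf 182) (BT.leaf 180)) (BT.leaf 66))) (BT.node (BT.node (BT.node (BT.leaf 159) (BT.leaf 108)) (BT.leaf 167)) (BT.node (BT.leaf 19) (BT.leaf 9)))) (BT.node (BT.node (BT.node (BT.node (BT.leaf 96) (BT.leaf 295)) (BT.leaf 177)) (BT.node (BT.node (BT.leaf 261) (BT.leaf 338)) (BT.leaf 216))) (BT.node (BT.node (BT.node (BT.leaf 197) (BT.leaf 212)) (BT.leaf 314)) (BT.node (BT.leaf 231) (BT.leaf 107))))) (BT.node (BT.node (BT.node (BT.node (BT.node (BT.leaf 41) (BT.leaf 269)) (BT.leaf 250)) (BT.node (BT.node (BT.leaf 240) (BT.leaf 334)) (BT.leaf 196))) (BT.node (BT.node (BT.node (BT.leaf 163) (BT.leaf 226)) (BT.leaf 245)) (BT.node (BT.leaf 229) (BT.leaf 211)))) (BT.node (BT.node (BT.node (BT.node (BT.leaf 127) (BT.leaf 201))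 (BT.leaf 219)) (BT.node (BT.node (BT.leaf 138) (BT.leaf 263)) (BT.leaf 342))) (BT.node (BT.node (BT.node (BT.leaf 137) (BT.leaf 21)) (BT.leaf 68)) (BT.node (BT.leaf 114) (BT.leaf 205)))))) (BT.node (BT.node (BT.node (BT.node (BT.node (BT.node (BT.leaf 35) (BT.leaf 327)) (BT.leaf 309)) (BT.node (BT.node (BT.leaf 171) (BT.leaf 92)) (BT.leaf 166))) (BT.node (BT.node (BT.node (BT.leaf 162) (BT.leaf 73)) (BT.leaf 34)) (BT.node (BT.leaf 61) (BT.leaf 227)))) (BT.node (BT.node (BT.node (BT.node (BT.leaf 112) (BT.leaf 343)) (BT.leaf 325)) (BT.node (BT.node (BT.leaf 93) (BT.leaf 280)) (BT.leaf 115))) (BT.node (BT.node (BT.node (BT.leaf 36) (BT.leaf 187)) (BT.leaf 190)) (BT.node (BT.leaf 308) (BT.leaf 260))))) (BT.node (BT.node (BT.node (BT.node (BT.node (BT.leaf 76) (BT.leaf 203)) (BT.leaf 186)) (BT.node (BT.node (BT.leaf 259) (BT.leaf 276)) (BT.leaf 29))) (BT.node (BT.node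 (BT.node (BT.leaf 46) (BT.leaf 54)) (BT.leaf 307)) (BT.node (BT.leaf 95) (BT.leaf 318)))) (BT.node (BT.node (BT.node (BT.node (BT.leaf 150) (BT.leaf 215)) (BT.leaf 51)) (BT.node (BT.node (BT.leaf 242) (BT.leaf 128)) (BT.leaf 317))) (BT.node (BT.node (BT.node (BT.leaf 173) (BT.leaf 337)) (BT.leaf 306)) (BT.node (BT.leaf 315) (BT.leaf 221))))))) (BT.node (BT.node (BT.node (BT.node (BT.node (BT.node (BT.node (BT.leaf 22) (BT.leaf 264)) (BT.leaf 53)) (BT.node (BT.node (BT.leaf 239) (BT.leaf 277)) (BT.leaf 228))) (BT.node (BT.node (BT.node (BT.leaf 33) (BT.leaf 134)) (BT.leaf 52)) (BT.node (BT.leaf 289) (BT.leaf 346)))) (BT.node (BT.node (BT.node (BT.node (BT.leaf 103) (BT.leaf 246)) (BT.leaf 310)) (BT.node (BT.node (BT.leaf 268) (BT.leaf 238)) (BT.leaf 217))) (BT.node (BT.node (BT.node (BT.leaf 202) (BT.leaf 43)) (BT.leaf 8)) (BT.node (BT.leaf 302) (BT.leaf 324)))))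 (BT.node (BT.node (BT.node (BT.node (BT.node (BT.leaf 64) (BT.leaf 79)) (BT.leaf 321)) (BT.node (BT.node (BT.leaf 148) (BT.leaf 136)) (BT.leaf 109))) (BT.node (BT.node (BT.node (BT.leaf 185) (BT.leaf 272)) (BT.leaf 142)) (BT.node (BT.leaf 94) (BT.leaf 30)))) (BT.node (BT.node (BT.node (BT.node (BT.leaf 140) (BT.leaf 154)) (BT.leaf 206)) (BT.node (BT.node (BT.leaf 149) (BT.leaf 296)) (BT.leaf 210))) (BT.node (BT.node (BT.node (BT.leaf 224) (BT.leaf 158)) (BT.leaf 26)) (BT.node (BT.leaf 160) (BT.leaf 330)))))) (BT.node (BT.node (BT.node (BT.node (BT.node (BT.node (BT.leaf 39) (BT.leaf 270)) (BT.leaf 323)) (BT.node (BT.node (BT.leaf 195) (BT.leaf 170)) (BT.leaf 13))) (BT.node (BT.node (BT.node (BT.leaf 0) (BT.leaf 284)) (BT.leaf 200)) (BT.node (BT.leaf 125) (BT.leaf 100)))) (BT.node (BT.node (BT.node (BT.node (BT.leaf 126) (BT.leaf 69)) (BT.leaf 3)) (BT.node (BT.node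 (BT.leaf 1) (BT.leaf 208)) (BT.leaf 83))) (BT.node (BT.node (BT.node (BT.leaf 209) (BT.leaf 199)) (BT.leaf 10)) (BT.node (BT.leaf 89) (BT.leaf 169))))) (BT.node (BT.node (BT.node (BT.node (BT.node (BT.leaf 86) (BT.leaf 222)) (BT.leaf 326)) (BT.node (BT.node (BT.leaf 255) (BT.leaf 249)) (BT.leaf 282))) (BT.node (BT.node (BT.node (BT.leaf 179) (BT.leaf 120)) (BT.leaf 31)) (BT.node (BT.leaf 118) (BT.leaf 336)))) (BT.node (BT.node (BT.node (BT.node (BT.leaf 65) (BT.leaf 84)) (BT.leaf 176)) (BT.node (BT.node (BT.leaf 287) (BT.leaf 322)) (BT.leaf 262))) (BT.node (BT.node (BT.node (BT.leaf 42) (BT.leaf 153)) (BT.leaf 320)) (BT.node (BT.leaf 2) (BT.leaf 101)))))))) (BT.node (BT.node (BT.node (BT.node (BT.node (BT.node (BT.node (BT.node (BT.leaf 14) (BT.leaf 78)) (BT.leaf 175)) (BT.node (BT.node (BT.leaf 234) (BT.leaf 88)) (BT.leaf 316))) (BT.node (BT.node (BT.node (BT.leaf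 164) (BT.leaf 17)) (BT.leaf 48)) (BT.node (BT.leaf 133) (BT.leaf 155)))) (BT.node (BT.node (BT.node (BT.node (BT.leaf 98) (BT.leaf 117)) (BT.leaf 124)) (BT.node (BT.node (BT.leaf 198) (BT.leaf 193)) (BT.leaf 300))) (BT.node (BT.node (BT.node (BT.leaf 181) (BT.leaf 285)) (BT.leaf 27)) (BT.node (BT.leaf 301) (BT.leaf 183))))) (BT.node (BT.node (BT.node (BT.node (BT.node (BT.leaf 58) (BT.leaf 266)) (BT.leaf 91)) (BT.node (BT.node (BT.leaf 253) (BT.leaf 104)) (BT.leaf 340))) (BT.node (BT.node (BT.node (BT.leaf 178) (BT.leaf 251)) (BT.leaf 274)) (BT.node (BT.leaf 143) (BT.leaf 278)))) (BT.node (BT.node (BT.node (BT.node (BT.leaf 71) (BT.leaf 331)) (BT.leaf 236)) (BT.node (BT.node (BT.leaf 110) (BT.leaf 319)) (BT.leaf 218))) (BT.node (BT.node (BT.node (BT.leaf 220) (BT.leaf 297)) (BT.leaf 62)) (BT.node (BT.leaf 312) (BT.leaf 328)))))) (BT.node (BT.node (BT.node (BT.node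 (BT.node (BT.node (BT.leaf 38) (BT.leaf 75)) (BT.leaf 293)) (BT.node (BT.node (BT.leaf 233) (BT.leaf 74)) (BT.leaf 161))) (BT.node (BT.node (BT.node (BT.leaf 174) (BT.leaf 97)) (BT.leaf 4)) (BT.node (BT.leaf 291) (BT.leaf 329)))) (BT.node (BT.node (BT.node (BT.node (BT.leaf 121) (BT.leaf 350)) (BT.leaf 279)) (BT.node (BT.node (BT.leaf 11) (BT.leaf 252)) (BT.leaf 25))) (BT.node (BT.node (BT.node (BT.leaf 207) (BT.leaf 131)) (BT.leaf 45)) (BT.node (BT.leaf 99) (BT.leaf 47))))) (BT.node (BT.node (BT.node (BT.node (BT.node (BT.leaf 81) (BT.leaf 258)) (BT.leaf 305)) (BT.node (BT.node (BT.leaf 105) (BT.leaf 339)) (BT.leaf 299))) (BT.node (BT.node (BT.node (BT.leaf 49) (BT.leaf 189)) (BT.leaf 256)) (BT.node (BT.leaf 50) (BT.leaf 348)))) (BT.node (BT.node (BT.node (BT.node (BT.leaf 151) (BT.leaf 141)) (BT.leaf 172)) (BT.node (BT.node (BT.leaf 286) (BT.leaf 247)) (BT.leaf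 341))) (BT.node (BT.node (BT.node (BT.leaf 230) (BT.leaf 57)) (BT.leaf 113)) (BT.node (BT.leaf 275) (BT.leaf 292))))))) (BT.node (BT.node (BT.node (BT.node (BT.node (BT.node (BT.node (BT.leaf 28) (BT.leaf 12)) (BT.leaf 132)) (BT.node (BT.node (BT.leaf 232) (BT.leaf 290)) (BT.leaf 271))) (BT.node (BT.node (BT.node (BT.leaf 165) (BT.leaf 254)) (BT.leaf 7)) (BT.node (BT.leaf 273) (BT.leaf 194)))) (BT.node (BT.node (BT.node (BT.node (BT.leaf 16) (BT.leaf 102)) (BT.leaf 6)) (BT.node (BT.node (BT.leaf 235) (BT.leaf 243)) (BT.leaf 67))) (BT.node (BT.node (BT.node (BT.leaf 139) (BT.leaf 157)) (BT.leaf 44)) (BT.node (BT.leaf 304) (BT.leaf 333))))) (BT.node (BT.node (BT.node (BT.node (BT.node (BT.leaf 63) (BT.leaf 152)) (BT.leaf 156)) (BT.node (BT.node (BT.leaf 80) (BT.leaf 335)) (BT.leaf 82))) (BT.node (BT.node (BT.node (BT.leaf 188) (BT.leaf 248)) (BT.leaf 184)) (BT.node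 (BT.leaf 72) (BT.leaf 214)))) (BT.node (BT.node (BT.node (BT.node (BT.leaf 144) (BT.leaf 18)) (BT.leaf 59)) (BT.node (BT.node (BT.leaf 56) (BT.leaf 344)) (BT.leaf 267))) (BT.node (BT.node (BT.node (BT.leaf 225) (BT.leaf 145)) (BT.leaf 116)) (BT.node (BT.leaf 32) (BT.leaf 313)))))) (BT.node (BT.node (BT.node (BT.node (BT.node (BT.node (BT.leaf 40) (BT.leaf 347)) (BT.leaf 15)) (BT.node (BT.node (BT.leaf 213) (BT.leaf 244)) (BT.leaf 146))) (BT.node (BT.node (BT.node (BT.leaf 147) (BT.leaf 298)) (BT.leaf 122)) (BT.node (BT.leaf 283) (BT.leaf 20)))) (BT.node (BT.node (BT.node (BT.node (BT.leaf 111) (BT.leaf 90)) (BT.leaf 204)) (BT.node (BT.node (BT.leaf 135) (BT.leaf 332)) (BT.leaf 294))) (BT.node (BT.node (BT.node (BT.leaf 129) (BT.leaf 24)) (BT.leaf 191)) (BT.node (BT.leaf 23) (BT.leaf 303))))) (BT.node (BT.node (BT.node (BT.node (BT.node (BT.leaf 87) (BT.leaf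 70)) (BT.leaf 77)) (BT.node (BT.node (BT.leaf 265) (BT.leaf 281)) (BT.leaf 130))) (BT.node (BT.node (BT.node (BT.leaf 168) (BT.leaf 349)) (BT.leaf 55)) (BT.node (BT.leaf 119) (BT.leaf 192)))) (BT.node (BT.node (BT.node (BT.node (BT.leaf 37) (BT.leaf 106)) (BT.leaf 123)) (BT.node (BT.leaf 288) (BT.leaf 345))) (BT.node (BT.node (BT.node (BT.leaf 85) (BT.leaf 223)) (BT.leaf 241)) (BT.node (BT.leaf 311) (BT.leaf 257))))))))),
  (BT.node (BT.node (BT.node (BT.node (BT.node (BT.node (BT.node (BT.node (BT.node (BT.leaf 8) (BT.leaf 211)) (BT.leaf 93)) (BT.node (BT.node (BT.leaf 234) (BT.leaf 31)) (BT.leaf 72))) (BT.node (BT.node (BT.node (BT.leaf 121) (BT.leaf 239)) (BT.leaf 32)) (BT.node (BT.leaf 202) (BT.leaf 155)))) (BT.node (BT.node (BT.node (BT.node (BT.leaf 50) (BT.leaf 272)) (BT.leaf 124)) (BT.node (BT.node (BT.leaf 264) (BT.leaf 336)) (BT.leaf 208))) (BT.node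 (BT.node (BT.node (BT.leaf 3) (BT.leaf 43)) (BT.leaf 304)) (BT.node (BT.leaf 301) (BT.leaf 95))))) (BT.node (BT.node (BT.node (BT.node (BT.node (BT.leaf 7) (BT.leaf 349)) (BT.leaf 85)) (BT.node (BT.node (BT.leaf 108) (BT.leaf 248)) (BT.leaf 177))) (BT.node (BT.node (BT.node (BT.leaf 5) (BT.leaf 296)) (BT.leaf 326)) (BT.node (BT.leaf 191) (BT.leaf 325)))) (BT.node (BT.node (BT.node (BT.node (BT.leaf 2) (BT.leaf 280)) (BT.leaf 128)) (BT.node (BT.node (BT.leaf 278) (BT.leaf 198)) (BT.leaf 216))) (BT.node (BT.node (BT.node (BT.leaf 215) (BT.leaf 167)) (BT.leaf 137)) (BT.node (BT.leaf 231) (BT.leaf 282)))))) (BT.node (BT.node (BT.node (BT.node (BT.node (BT.node (BT.leaf 36) (BT.leaf 47)) (BT.leaf 16)) (BT.node (BT.node (BT.leaf 91) (BT.leaf 86)) (BT.leaf 27))) (BT.node (BT.node (BT.node (BT.leaf 164) (BT.leaf 291)) (BT.leaf 4)) (BT.node (BT.leaf 156) (BT.leaf 224))))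 (BT.node (BT.node (BT.node (BT.node (BT.leaf 113) (BT.leaf 274)) (BT.leaf 60)) (BT.node (BT.node (BT.leaf 267) (BT.leaf 340)) (BT.leaf 188))) (BT.node (BT.node (BT.node (BT.leaf 33) (BT.leaf 157)) (BT.leaf 37)) (BT.node (BT.leaf 307) (BT.leaf 245))))) (BT.node (BT.node (BT.node (BT.node (BT.node (BT.leaf 77) (BT.leaf 100)) (BT.leaf 305)) (BT.node (BT.node (BT.leaf 105) (BT.leaf 169)) (BT.leaf 161))) (BT.node (BT.node (BT.node (BT.leaf 45) (BT.leaf 118)) (BT.leaf 337)) (BT.node (BT.leaf 192) (BT.leaf 10)))) (BT.node (BT.node (BT.node (BT.node (BT.leaf 151) (BT.leaf 68)) (BT.leaf 268)) (BT.node (BT.node (BT.leaf 1) (BT.leaf 84)) (BT.leaf 341))) (BT.node (BT.node (BT.node (BT.leaf 67) (BT.leaf 308)) (BT.leaf 314)) (BT.node (BT.leaf 166) (BT.leaf 217))))))) (BT.node (BT.node (BT.node (BT.node (BT.node (BT.node (BT.node (BT.leaf 23) (BT.leaf 303)) (BT.leaf 321))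 (BT.node (BT.node (BT.leaf 240) (BT.leaf 322)) (BT.leaf 58))) (BT.node (BT.node (BT.node (BT.leaf 35) (BT.leaf 289)) (BT.leaf 34)) (BT.node (BT.leaf 273) (BT.leaf 226)))) (BT.node (BT.node (BT.node (BT.node (BT.leaf 104) (BT.leaf 83)) (BT.leaf 209)) (BT.node (BT.node (BT.leaf 230) (BT.leaf 338)) (BT.leaf 220))) (BT.node (BT.node (BT.node (BT.leaf 132) (BT.leaf 158)) (BT.leaf 163)) (BT.node (BT.leaf 20) (BT.leaf 14))))) (BT.node (BT.node (BT.node (BT.node (BT.node (BT.leaf 65) (BT.leaf 344)) (BT.leaf 69)) (BT.node (BT.node (BT.leaf 256) (BT.leaf 63)) (BT.leaf 309))) (BT.node (BT.node (BT.node (BT.leaf 186) (BT.leaf 298)) (BT.leaf 244)) (BT.node (BT.leaf 106) (BT.leaf 318)))) (BT.node (BT.node (BT.node (BT.node (BT.leaf 141) (BT.leaf 328)) (BT.leaf 334)) (BT.node (BT.node (BT.leaf 281) (BT.leaf 346)) (BT.leaf 57))) (BT.node (BT.node (BT.node (BT.leaf 225) (BT.leaf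 212)) (BT.leaf 285)) (BT.node (BT.leaf 123) (BT.leaf 11)))))) (BT.node (BT.node (BT.node (BT.node (BT.node (BT.node (BT.leaf 46) (BT.leaf 333)) (BT.leaf 17)) (BT.node (BT.node (BT.leaf 149) (BT.leaf 327)) (BT.leaf 266))) (BT.node (BT.node (BT.node (BT.leaf 178) (BT.leaf 184)) (BT.leaf 144)) (BT.node (BT.leaf 292) (BT.leaf 139)))) (BT.node (BT.node (BT.node (BT.node (BT.leaf 111) (BT.leaf 53)) (BT.leaf 204)) (BT.node (BT.node (BT.leaf 135) (BT.leaf 342)) (BT.leaf 332))) (BT.node (BT.node (BT.node (BT.leaf 89) (BT.leaf 300)) (BT.leaf 30)) (BT.node (BT.leaf 310) (BT.leaf 235))))) (BT.node (BT.node (BT.node (BT.node (BT.node (BT.leaf 87) (BT.leaf 339)) (BT.leaf 260)) (BT.node (BT.node (BT.leaf 262) (BT.leaf 205)) (BT.leaf 249))) (BT.node (BT.node (BT.node (BT.leaf 49) (BT.leaf 112)) (BT.leaf 55)) (BT.node (BT.leaf 146) (BT.leaf 238)))) (BT.node (BT.node (BT.node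 (BT.node (BT.leaf 153) (BT.leaf 219)) (BT.leaf 115)) (BT.node (BT.node (BT.leaf 94) (BT.leaf 350)) (BT.leaf 243))) (BT.node (BT.node (BT.node (BT.leaf 140) (BT.leaf 64)) (BT.leaf 174)) (BT.node (BT.leaf 119) (BT.leaf 125)))))))) (BT.node (BT.node (BT.node (BT.node (BT.node (BT.node (BT.node (BT.node (BT.leaf 15) (BT.leaf 222)) (BT.leaf 320)) (BT.node (BT.node (BT.leaf 236) (BT.leaf 233)) (BT.leaf 116))) (BT.node (BT.node (BT.node (BT.leaf 165) (BT.leaf 117)) (BT.leaf 150)) (BT.node (BT.leaf 259) (BT.leaf 194)))) (BT.node (BT.node (BT.node (BT.node (BT.leaf 99) (BT.leaf 323)) (BT.leaf 196)) (BT.node (BT.node (BT.leaf 265) (BT.leaf 187)) (BT.leaf 110))) (BT.node (BT.node (BT.node (BT.leaf 6) (BT.leaf 62)) (BT.leaf 315)) (BT.node (BT.leaf 114) (BT.leaf 103))))) (BT.node (BT.node (BT.node (BT.node (BT.node (BT.leaf 59) (BT.leaf 347)) (BT.leaf 294)) (BT.node (BT.node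 (BT.leaf 254) (BT.leaf 183)) (BT.leaf 201))) (BT.node (BT.node (BT.node (BT.leaf 40) (BT.leaf 297)) (BT.leaf 214)) (BT.node (BT.leaf 293) (BT.leaf 130)))) (BT.node (BT.node (BT.node (BT.node (BT.leaf 136) (BT.leaf 271)) (BT.leaf 182)) (BT.node (BT.node (BT.leaf 199) (BT.leaf 345)) (BT.leaf 317))) (BT.node (BT.node (BT.node (BT.leaf 221) (BT.leaf 313)) (BT.leaf 26)) (BT.node (BT.leaf 160) (BT.leaf 299)))))) (BT.node (BT.node (BT.node (BT.node (BT.node (BT.node (BT.leaf 41) (BT.leaf 269)) (BT.leaf 12)) (BT.node (BT.node (BT.leaf 207) (BT.leaf 173)) (BT.leaf 28))) (BT.node (BT.node (BT.node (BT.leaf 175) (BT.leaf 76)) (BT.leaf 52)) (BT.node (BT.leaf 275) (BT.leaf 241)))) (BT.node (BT.node (BT.node (BT.node (BT.leaf 122) (BT.leaf 277)) (BT.leaf 331)) (BT.node (BT.node (BT.leaf 25) (BT.leaf 210)) (BT.leaf 330))) (BT.node (BT.node (BT.node (BT.leaf 88) (BT.leaf 96))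 (BT.leaf 39)) (BT.node (BT.leaf 290) (BT.leaf 170))))) (BT.node (BT.node (BT.node (BT.node (BT.node (BT.leaf 79) (BT.leaf 247)) (BT.leaf 185)) (BT.node (BT.node (BT.leaf 133) (BT.leaf 78)) (BT.leaf 154))) (BT.node (BT.node (BT.node (BT.leaf 147) (BT.leaf 302)) (BT.leaf 232)) (BT.node (BT.leaf 131) (BT.leaf 286)))) (BT.node (BT.node (BT.node (BT.node (BT.leaf 48) (BT.leaf 42)) (BT.leaf 316)) (BT.node (BT.node (BT.leaf 152) (BT.leaf 80)) (BT.leaf 218))) (BT.node (BT.node (BT.node (BT.leaf 51) (BT.leaf 252)) (BT.leaf 120)) (BT.node (BT.leaf 73) (BT.leaf 101))))))) (BT.node (BT.node (BT.node (BT.node (BT.node (BT.node (BT.node (BT.leaf 29) (BT.leaf 143)) (BT.leaf 19)) (BT.node (BT.node (BT.leaf 148) (BT.leaf 98)) (BT.leaf 279))) (BT.node (BT.node (BT.node (BT.leaf 162) (BT.leaf 102)) (BT.leaf 38)) (BT.node (BT.leaf 134) (BT.leaf 9)))) (BT.node (BT.node (BT.node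 (BT.node (BT.leaf 109) (BT.leaf 253)) (BT.leaf 44)) (BT.node (BT.node (BT.leaf 276) (BT.leaf 255)) (BT.leaf 74))) (BT.node (BT.node (BT.node (BT.leaf 203) (BT.leaf 193)) (BT.leaf 181)) (BT.node (BT.leaf 306) (BT.leaf 257))))) (BT.node (BT.node (BT.node (BT.node (BT.node (BT.leaf 71) (BT.leaf 348)) (BT.leaf 82)) (BT.node (BT.node (BT.leaf 258) (BT.leaf 70)) (BT.leaf 61))) (BT.node (BT.node (BT.node (BT.leaf 176) (BT.leaf 206)) (BT.leaf 56)) (BT.node (BT.leaf 288) (BT.leaf 343)))) (BT.node (BT.node (BT.node (BT.node (BT.leaf 145) (BT.leaf 329)) (BT.leaf 228)) (BT.node (BT.node (BT.leaf 284) (BT.leaf 81)) (BT.leaf 237))) (BT.node (BT.node (BT.node (BT.leaf 227) (BT.leaf 200)) (BT.leaf 172)) (BT.node (BT.leaf 21) (BT.leaf 251)))))) (BT.node (BT.node (BT.node (BT.node (BT.node (BT.node (BT.leaf 0) (BT.leaf 13)) (BT.leaf 324)) (BT.node (BT.node (BT.leaf 250) (BT.leaf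 168)) (BT.leaf 54))) (BT.node (BT.node (BT.node (BT.leaf 179) (BT.leaf 295)) (BT.leaf 159)) (BT.node (BT.leaf 229) (BT.leaf 189)))) (BT.node (BT.node (BT.node (BT.node (BT.leaf 24) (BT.leaf 335)) (BT.leaf 197)) (BT.node (BT.node (BT.leaf 242) (BT.leaf 246)) (BT.leaf 171))) (BT.node (BT.node (BT.node (BT.leaf 190) (BT.leaf 126)) (BT.leaf 283)) (BT.node (BT.leaf 311) (BT.leaf 261))))) (BT.node (BT.node (BT.node (BT.node (BT.node (BT.leaf 92) (BT.leaf 90)) (BT.leaf 97)) (BT.node (BT.node (BT.leaf 263) (BT.leaf 195)) (BT.leaf 138))) (BT.node (BT.node (BT.node (BT.leaf 142) (BT.leaf 75)) (BT.leaf 180)) (BT.node (BT.leaf 127) (BT.leaf 107)))) (BT.node (BT.node (BT.node (BT.node (BT.leaf 129) (BT.leaf 287)) (BT.leaf 312)) (BT.node (BT.leaf 66) (BT.leaf 223))) (BT.node (BT.node (BT.node (BT.leaf 213) (BT.leaf 319)) (BT.leaf 18)) (BT.node (BT.leaf 22) (BT.leaf 270))))))))),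
  (BT.node (BT.node (BT.node (BT.node (BT.node (BT.node (BT.node (BT.node (BT.node (BT.leaf 0) (BT.leaf 326)) (BT.leaf 55)) (BT.node (BT.node (BT.leaf 42) (BT.leaf 306)) (BT.leaf 72))) (BT.node (BT.node (BT.node (BT.leaf 160) (BT.leaf 239)) (BT.leaf 121)) (BT.node (BT.leaf 202) (BT.leaf 256)))) (BT.node (BT.node (BT.node (BT.node (BT.leaf 50) (BT.leaf 319)) (BT.leaf 99)) (BT.node (BT.node (BT.leaf 205) (BT.leaf 297)) (BT.leaf 272))) (BT.node (BT.node (BT.node (BT.leaf 182) (BT.leaf 348)) (BT.leaf 267)) (BT.node (BT.leaf 302) (BT.leaf 95))))) (BT.node (BT.node (BT.node (BT.node (BT.node (BT.leaf 8) (BT.leaf 154)) (BT.leaf 294)) (BT.node (BT.node (BT.leaf 108) (BT.leaf 253)) (BT.leaf 98))) (BT.node (BT.node (BT.node (BT.leaf 40) (BT.leaf 338)) (BT.leaf 228)) (BT.node (BT.leaf 293) (BT.leaf 260)))) (BT.node (BT.node (BT.node (BT.node (BT.leaf 23) (BT.leaf 322))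 (BT.leaf 174)) (BT.node (BT.node (BT.leaf 229) (BT.leaf 281)) (BT.leaf 295))) (BT.node (BT.node (BT.node (BT.leaf 87) (BT.leaf 159)) (BT.leaf 86)) (BT.node (BT.leaf 189) (BT.leaf 101)))))) (BT.node (BT.node (BT.node (BT.node (BT.node (BT.node (BT.leaf 4) (BT.leaf 225)) (BT.leaf 16)) (BT.node (BT.node (BT.leaf 1) (BT.leaf 136)) (BT.leaf 289))) (BT.node (BT.node (BT.node (BT.leaf 36) (BT.leaf 349)) (BT.leaf 164)) (BT.node (BT.leaf 166) (BT.leaf 74)))) (BT.node (BT.node (BT.node (BT.node (BT.leaf 114) (BT.leaf 344)) (BT.leaf 245)) (BT.node (BT.node (BT.leaf 180) (BT.leaf 350)) (BT.leaf 128))) (BT.node (BT.node (BT.node (BT.leaf 52) (BT.leaf 317)) (BT.leaf 43)) (BT.node (BT.leaf 220) (BT.leaf 59))))) (BT.node (BT.node (BT.node (BT.node (BT.node (BT.leaf 69) (BT.leaf 124)) (BT.leaf 28)) (BT.node (BT.node (BT.leaf 233) (BT.leaf 347)) (BT.leaf 318))) (BT.node (BT.node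 (BT.node (BT.leaf 44) (BT.leaf 118)) (BT.leaf 221)) (BT.node (BT.leaf 192) (BT.leaf 305)))) (BT.node (BT.node (BT.node (BT.node (BT.leaf 65) (BT.leaf 92)) (BT.leaf 144)) (BT.node (BT.node (BT.leaf 250) (BT.leaf 175)) (BT.leaf 262))) (BT.node (BT.node (BT.node (BT.leaf 170) (BT.leaf 217)) (BT.leaf 93)) (BT.node (BT.leaf 134) (BT.leaf 339))))))) (BT.node (BT.node (BT.node (BT.node (BT.node (BT.node (BT.node (BT.leaf 24) (BT.leaf 282)) (BT.leaf 18)) (BT.node (BT.node (BT.leaf 240) (BT.leaf 106)) (BT.leaf 325))) (BT.node (BT.node (BT.node (BT.leaf 34) (BT.leaf 82)) (BT.leaf 162)) (BT.node (BT.leaf 61) (BT.leaf 238)))) (BT.node (BT.node (BT.node (BT.node (BT.leaf 105) (BT.leaf 198)) (BT.leaf 209)) (BT.node (BT.node (BT.leaf 145) (BT.leaf 251)) (BT.leaf 78))) (BT.node (BT.node (BT.node (BT.leaf 132) (BT.leaf 286)) (BT.leaf 178)) (BT.node (BT.leaf 113) (BT.leaf 330)))))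 (BT.node (BT.node (BT.node (BT.node (BT.node (BT.leaf 62) (BT.leaf 90)) (BT.leaf 329)) (BT.node (BT.node (BT.leaf 168) (BT.leaf 215)) (BT.leaf 309))) (BT.node (BT.node (BT.node (BT.leaf 161) (BT.leaf 345)) (BT.leaf 9)) (BT.node (BT.leaf 280) (BT.leaf 186)))) (BT.node (BT.node (BT.node (BT.node (BT.leaf 3) (BT.leaf 275)) (BT.leaf 102)) (BT.node (BT.node (BT.leaf 83) (BT.leaf 336)) (BT.leaf 257))) (BT.node (BT.node (BT.node (BT.leaf 173) (BT.leaf 152)) (BT.leaf 150)) (BT.node (BT.leaf 21) (BT.leaf 284)))))) (BT.node (BT.node (BT.node (BT.node (BT.node (BT.node (BT.leaf 6) (BT.leaf 116)) (BT.leaf 268)) (BT.node (BT.node (BT.leaf 246) (BT.leaf 224)) (BT.leaf 271))) (BT.node (BT.node (BT.node (BT.leaf 38) (BT.leaf 324)) (BT.leaf 17)) (BT.node (BT.leaf 264) (BT.leaf 196)))) (BT.node (BT.node (BT.node (BT.node (BT.leaf 127) (BT.leaf 241)) (BT.leaf 234)) (BT.node (BT.node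 (BT.leaf 85) (BT.leaf 298)) (BT.leaf 265))) (BT.node (BT.node (BT.node (BT.leaf 89) (BT.leaf 300)) (BT.leaf 185)) (BT.node (BT.leaf 310) (BT.leaf 13))))) (BT.node (BT.node (BT.node (BT.node (BT.node (BT.leaf 63) (BT.leaf 308)) (BT.leaf 58)) (BT.node (BT.node (BT.leaf 193) (BT.leaf 292)) (BT.leaf 125))) (BT.node (BT.node (BT.node (BT.leaf 46) (BT.leaf 301)) (BT.leaf 314)) (BT.node (BT.leaf 146) (BT.leaf 313)))) (BT.node (BT.node (BT.node (BT.node (BT.leaf 26) (BT.leaf 320)) (BT.leaf 219)) (BT.node (BT.node (BT.leaf 201) (BT.leaf 287)) (BT.leaf 187))) (BT.node (BT.node (BT.node (BT.leaf 197) (BT.leaf 285)) (BT.leaf 188)) (BT.node (BT.leaf 311) (BT.leaf 261)))))))) (BT.node (BT.node (BT.node (BT.node (BT.node (BT.node (BT.node (BT.node (BT.leaf 11) (BT.leaf 337)) (BT.leaf 115)) (BT.node (BT.node (BT.leaf 140) (BT.leaf 104)) (BT.leaf 210))) (BT.node (BT.node (BT.node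 (BT.leaf 33) (BT.leaf 230)) (BT.leaf 64)) (BT.node (BT.leaf 88) (BT.leaf 232)))) (BT.node (BT.node (BT.node (BT.node (BT.leaf 100) (BT.leaf 51)) (BT.leaf 290)) (BT.node (BT.node (BT.leaf 195) (BT.leaf 218)) (BT.leaf 110))) (BT.node (BT.node (BT.node (BT.leaf 49) (BT.leaf 151)) (BT.leaf 273)) (BT.node (BT.leaf 20) (BT.leaf 259))))) (BT.node (BT.node (BT.node (BT.node (BT.node (BT.leaf 60) (BT.leaf 279)) (BT.leaf 135)) (BT.node (BT.node (BT.leaf 247) (BT.leaf 133)) (BT.leaf 277))) (BT.node (BT.node (BT.node (BT.leaf 41) (BT.leaf 346)) (BT.leaf 81)) (BT.node (BT.leaf 130) (BT.leaf 191)))) (BT.node (BT.node (BT.node (BT.node (BT.leaf 137) (BT.leaf 276)) (BT.leaf 141)) (BT.node (BT.node (BT.leaf 199) (BT.leaf 342)) (BT.leaf 255))) (BT.node (BT.node (BT.node (BT.leaf 222) (BT.leaf 226)) (BT.leaf 48)) (BT.node (BT.leaf 32) (BT.leaf 73)))))) (BT.node (BT.node (BT.node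 (BT.node (BT.node (BT.node (BT.leaf 5) (BT.leaf 299)) (BT.leaf 138)) (BT.node (BT.node (BT.leaf 183) (BT.leaf 47)) (BT.leaf 10))) (BT.node (BT.node (BT.node (BT.leaf 176) (BT.leaf 321)) (BT.leaf 165)) (BT.node (BT.leaf 75) (BT.leaf 97)))) (BT.node (BT.node (BT.node (BT.node (BT.leaf 123) (BT.leaf 94)) (BT.leaf 235)) (BT.node (BT.node (BT.leaf 184) (BT.leaf 333)) (BT.leaf 56))) (BT.node (BT.node (BT.node (BT.leaf 103) (BT.leaf 96)) (BT.leaf 181)) (BT.node (BT.leaf 139) (BT.leaf 227))))) (BT.node (BT.node (BT.node (BT.node (BT.node (BT.leaf 70) (BT.leaf 206)) (BT.leaf 29)) (BT.node (BT.node (BT.leaf 207) (BT.leaf 307)) (BT.leaf 291))) (BT.node (BT.node (BT.node (BT.leaf 45) (BT.leaf 112)) (BT.leaf 142)) (BT.node (BT.leaf 131) (BT.leaf 129)))) (BT.node (BT.node (BT.node (BT.node (BT.leaf 153) (BT.leaf 204)) (BT.leaf 252)) (BT.node (BT.node (BT.leaf 190) (BT.leaf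 334)) (BT.leaf 243))) (BT.node (BT.node (BT.node (BT.leaf 200) (BT.leaf 270)) (BT.leaf 231)) (BT.node (BT.leaf 269) (BT.leaf 303))))))) (BT.node (BT.node (BT.node (BT.node (BT.node (BT.node (BT.node (BT.leaf 30) (BT.leaf 278)) (BT.leaf 19)) (BT.node (BT.node (BT.leaf 244) (BT.leaf 203)) (BT.leaf 169))) (BT.node (BT.node (BT.node (BT.leaf 35) (BT.leaf 80)) (BT.leaf 163)) (BT.node (BT.leaf 156) (BT.leaf 148)))) (BT.node (BT.node (BT.node (BT.node (BT.leaf 109) (BT.leaf 258)) (BT.leaf 147)) (BT.node (BT.node (BT.leaf 266) (BT.leaf 157)) (BT.leaf 327))) (BT.node (BT.node (BT.node (BT.leaf 177) (BT.leaf 341)) (BT.leaf 179)) (BT.node (BT.leaf 237) (BT.leaf 172))))) (BT.node (BT.node (BT.node (BT.node (BT.node (BT.leaf 68) (BT.leaf 37)) (BT.leaf 27)) (BT.node (BT.node (BT.leaf 248) (BT.leaf 343)) (BT.leaf 315))) (BT.node (BT.node (BT.node (BT.leaf 84) (BT.leaf 254))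 (BT.leaf 14)) (BT.node (BT.leaf 288) (BT.leaf 79)))) (BT.node (BT.node (BT.node (BT.node (BT.leaf 117) (BT.leaf 77)) (BT.leaf 211)) (BT.node (BT.node (BT.leaf 15) (BT.leaf 335)) (BT.leaf 31))) (BT.node (BT.node (BT.node (BT.leaf 67) (BT.leaf 323)) (BT.leaf 57)) (BT.node (BT.leaf 122) (BT.leaf 296)))))) (BT.node (BT.node (BT.node (BT.node (BT.node (BT.node (BT.leaf 7) (BT.leaf 331)) (BT.leaf 25)) (BT.node (BT.node (BT.leaf 91) (BT.leaf 155)) (BT.leaf 54))) (BT.node (BT.node (BT.node (BT.leaf 39) (BT.leaf 223)) (BT.leaf 312)) (BT.node (BT.leaf 143) (BT.leaf 120)))) (BT.node (BT.node (BT.node (BT.node (BT.leaf 2) (BT.leaf 214)) (BT.leaf 236)) (BT.node (BT.node (BT.leaf 213) (BT.leaf 263)) (BT.leaf 242))) (BT.node (BT.node (BT.node (BT.leaf 212) (BT.leaf 119)) (BT.leaf 12)) (BT.node (BT.leaf 126) (BT.leaf 249))))) (BT.node (BT.node (BT.node (BT.node (BT.node (BT.leaf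 71) (BT.leaf 274)) (BT.leaf 53)) (BT.node (BT.node (BT.leaf 149) (BT.leaf 332)) (BT.leaf 283))) (BT.node (BT.node (BT.node (BT.leaf 194) (BT.leaf 328)) (BT.leaf 304)) (BT.node (BT.leaf 22) (BT.leaf 107)))) (BT.node (BT.node (BT.node (BT.node (BT.leaf 158) (BT.leaf 340)) (BT.leaf 167)) (BT.node (BT.leaf 66) (BT.leaf 216))) (BT.node (BT.node (BT.node (BT.leaf 171) (BT.leaf 208)) (BT.leaf 76)) (BT.node (BT.leaf 111) (BT.leaf 316)))))))))]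

/-- The permutations of the root elements. -/
def lgf7 (r i : ℕ) : ℕ := (lgT7.getD r (BT.leaf 0)).look i

/-- The scalars, as trees. -/
def sgT7 : List (BT ℕ) :=
  [(BT.node (BT.node (BT.node (BT.node (BT.node (BT.node (BT.node (BT.node (BT.node (BT.leaf 1) (BT.leaf 1)) (BT.leaf 1)) (BT.node (BT.node (BT.leaf 1) (BT.leaf 1)) (BT.leaf 1))) (BT.node (BT.node (BT.node (BT.leaf 1) (BT.leaf 1)) (BT.leaf 1)) (BT.node (BT.leaf 2) (BT.leaf 1)))) (BT.node (BT.node (BT.node (BT.node (BT.leaf 1) (BT.leaf 1)) (BT.leaf 1)) (BT.node (BT.node (BT.leaf 1) (BT.leaf 1)) (BT.leaf 1))) (BT.node (BT.node (BT.node (BT.leaf 1) (BT.leaf 1)) (BT.leaf 1)) (BT.node (BT.leaf 1) (BT.leaf 1))))) (BT.node (BT.node (BT.node (BT.node (BT.node (BT.leaf 1) (BT.leaf 1)) (BT.leaf 1)) (BT.node (BT.node (BT.leaf 1) (BT.leaf 1)) (BT.leaf 1))) (BT.node (BT.node (BT.node (BT.leaf 2) (BT.leaf 1)) (BT.leaf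 1)) (BT.node (BT.leaf 1) (BT.leaf 1)))) (BT.node (BT.node (BT.node (BT.node (BT.leaf 2) (BT.leaf 2)) (BT.leaf 1)) (BT.node (BT.node (BT.leaf 1) (BT.leaf 1)) (BT.leaf 1))) (BT.node (BT.node (BT.node (BT.leaf 1) (BT.leaf 1)) (BT.leaf 1)) (BT.node (BT.leaf 1) (BT.leaf 1)))))) (BT.node (BT.node (BT.node (BT.node (BT.node (BT.node (BT.leaf 1) (BT.leaf 1)) (BT.leaf 1)) (BT.node (BT.node (BT.leaf 2) (BT.leaf 1)) (BT.leaf 1))) (BT.node (BT.node (BT.node (BT.leaf 1) (BT.leaf 1)) (BT.leaf 1)) (BT.node (BT.leaf 2) (BT.leaf 1)))) (BT.node (BT.node (BT.node (BT.node (BT.leaf 1) (BT.leaf 1)) (BT.leaf 2)) (BT.node (BT.node (BT.leaf 1) (BT.leaf 2)) (BT.leaf 2))) (BT.node (BT.node (BT.node (BT.leaf 1) (BT.leaf 1)) (BT.leaf 1)) (BT.node (BT.leaf 2) (BT.leaf 2))))) (BT.node (BT.node (BT.node (BT.node (BT.node (BT.leaf 1) (BT.leaf 2)) (BT.leaf 1)) (BT.node (BT.node (BT.leaf 1)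 (BT.leaf 1)) (BT.leaf 1))) (BT.node (BT.node (BT.node (BT.leaf 1) (BT.leaf 1)) (BT.leaf 1)) (BT.node (BT.leaf 1) (BT.leaf 1)))) (BT.node (BT.node (BT.node (BT.node (BT.leaf 1) (BT.leaf 1)) (BT.leaf 2)) (BT.node (BT.node (BT.leaf 1) (BT.leaf 1)) (BT.leaf 1))) (BT.node (BT.node (BT.node (BT.leaf 2) (BT.leaf 1)) (BT.leaf 1)) (BT.node (BT.leaf 2) (BT.leaf 1))))))) (BT.node (BT.node (BT.node (BT.node (BT.node (BT.node (BT.node (BT.leaf 1) (BT.leaf 1)) (BT.leaf 1)) (BT.node (BT.node (BT.leaf 1) (BT.leaf 2)) (BT.leaf 1))) (BT.node (BT.node (BT.node (BT.leaf 1) (BT.leaf 1)) (BT.leaf 1)) (BT.node (BT.leaf 1) (BT.leaf 1)))) (BT.node (BT.node (BT.node (BT.node (BT.leaf 1) (BT.leaf 1)) (BT.leaf 1)) (BT.node (BT.node (BT.leaf 1) (BT.leaf 1)) (BT.leaf 1))) (BT.node (BT.node (BT.node (BT.leaf 2) (BT.leaf 1)) (BT.leaf 1)) (BT.node (BT.leaf 1) (BT.leaf 1))))) (BT.node (BT.node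 (BT.node (BT.node (BT.node (BT.leaf 1) (BT.leaf 1)) (BT.leaf 1)) (BT.node (BT.node (BT.leaf 1) (BT.leaf 1)) (BT.leaf 2))) (BT.node (BT.node (BT.node (BT.leaf 1) (BT.leaf 1)) (BT.leaf 2)) (BT.node (BT.leaf 2) (BT.leaf 1)))) (BT.node (BT.node (BT.node (BT.node (BT.leaf 1) (BT.leaf 1)) (BT.leaf 2)) (BT.node (BT.node (BT.leaf 1) (BT.leaf 1)) (BT.leaf 1))) (BT.node (BT.node (BT.node (BT.leaf 1) (BT.leaf 1)) (BT.leaf 1)) (BT.node (BT.leaf 1) (BT.leaf 2)))))) (BT.node (BT.node (BT.node (BT.node (BT.node (BT.node (BT.leaf 1) (BT.leaf 1)) (BT.leaf 1)) (BT.node (BT.node (BT.leaf 2) (BT.leaf 1)) (BT.leaf 1))) (BT.node (BT.node (BT.node (BT.leaf 1) (BT.leaf 1)) (BT.leaf 1)) (BT.node (BT.leaf 1) (BT.leaf 1)))) (BT.node (BT.node (BT.node (BT.node (BT.leaf 1) (BT.leaf 1)) (BT.leaf 1)) (BT.node (BT.node (BT.leaf 1) (BT.leaf 1)) (BT.leaf 1))) (BT.node (BT.node (BT.node (BT.leaf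 1) (BT.leaf 1)) (BT.leaf 2)) (BT.node (BT.leaf 1) (BT.leaf 1))))) (BT.node (BT.node (BT.node (BT.node (BT.node (BT.leaf 1) (BT.leaf 1)) (BT.leaf 1)) (BT.node (BT.node (BT.leaf 1) (BT.leaf 2)) (BT.leaf 1))) (BT.node (BT.node (BT.node (BT.leaf 1) (BT.leaf 1)) (BT.leaf 2)) (BT.node (BT.leaf 1) (BT.leaf 1)))) (BT.node (BT.node (BT.node (BT.node (BT.leaf 2) (BT.leaf 1)) (BT.leaf 1)) (BT.node (BT.node (BT.leaf 2) (BT.leaf 2)) (BT.leaf 1))) (BT.node (BT.node (BT.node (BT.leaf 1) (BT.leaf 1)) (BT.leaf 2)) (BT.node (BT.leaf 2) (BT.leaf 1)))))))) (BT.node (BT.node (BT.node (BT.node (BT.node (BT.node (BT.node (BT.node (BT.leaf 1) (BT.leaf 1)) (BT.leaf 1)) (BT.node (BT.node (BT.leaf 1) (BT.leaf 1)) (BT.leaf 2))) (BT.node (BT.node (BT.node (BT.leaf 1) (BT.leaf 1)) (BT.leaf 1)) (BT.node (BT.leaf 2) (BT.leaf 1)))) (BT.node (BT.node (BT.node (BT.node (BT.leaf 1) (BT.leaf 1))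 (BT.leaf 1)) (BT.node (BT.node (BT.leaf 1) (BT.leaf 1)) (BT.leaf 1))) (BT.node (BT.node (BT.node (BT.leaf 1) (BT.leaf 1)) (BT.leaf 1)) (BT.node (BT.leaf 1) (BT.leaf 2))))) (BT.node (BT.node (BT.node (BT.node (BT.node (BT.leaf 1) (BT.leaf 1)) (BT.leaf 1)) (BT.node (BT.node (BT.leaf 1) (BT.leaf 1)) (BT.leaf 2))) (BT.node (BT.node (BT.node (BT.leaf 2) (BT.leaf 1)) (BT.leaf 1)) (BT.node (BT.leaf 1) (BT.leaf 1)))) (BT.node (BT.node (BT.node (BT.node (BT.leaf 1) (BT.leaf 1)) (BT.leaf 2)) (BT.node (BT.node (BT.leaf 1) (BT.leaf 1)) (BT.leaf 1))) (BT.node (BT.node (BT.node (BT.leaf 1) (BT.leaf 1)) (BT.leaf 2)) (BT.node (BT.leaf 1) (BT.leaf 1)))))) (BT.node (BT.node (BT.node (BT.node (BT.node (BT.node (BT.leaf 2) (BT.leaf 1)) (BT.leaf 1)) (BT.node (BT.node (BT.leaf 1) (BT.leaf 1)) (BT.leaf 1))) (BT.node (BT.node (BT.node (BT.leaf 1) (BT.leaf 1)) (BT.leaf 1)) (BT.node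 (BT.leaf 1) (BT.leaf 2)))) (BT.node (BT.node (BT.node (BT.node (BT.leaf 1) (BT.leaf 2)) (BT.leaf 2)) (BT.node (BT.node (BT.leaf 1) (BT.leaf 1)) (BT.leaf 1))) (BT.node (BT.node (BT.node (BT.leaf 1) (BT.leaf 2)) (BT.leaf 1)) (BT.node (BT.leaf 1) (BT.leaf 1))))) (BT.node (BT.node (BT.node (BT.node (BT.node (BT.leaf 1) (BT.leaf 1)) (BT.leaf 1)) (BT.node (BT.node (BT.leaf 1) (BT.leaf 1)) (BT.leaf 2))) (BT.node (BT.node (BT.node (BT.leaf 1) (BT.leaf 1)) (BT.leaf 1)) (BT.node (BT.leaf 1) (BT.leaf 1)))) (BT.node (BT.node (BT.node (BT.node (BT.leaf 1) (BT.leaf 1)) (BT.leaf 1)) (BT.node (BT.node (BT.leaf 1) (BT.leaf 1)) (BT.leaf 1))) (BT.node (BT.node (BT.node (BT.leaf 1) (BT.leaf 1)) (BT.leaf 1)) (BT.node (BT.leaf 1) (BT.leaf 1))))))) (BT.node (BT.node (BT.node (BT.node (BT.node (BT.node (BT.node (BT.leaf 1) (BT.leaf 1)) (BT.leaf 1)) (BT.node (BT.node (BT.leaf 2) (BT.leaf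 1)) (BT.leaf 1))) (BT.node (BT.node (BT.node (BT.leaf 1) (BT.leaf 1)) (BT.leaf 1)) (BT.node (BT.leaf 1) (BT.leaf 1)))) (BT.node (BT.node (BT.node (BT.node (BT.leaf 1) (BT.leaf 1)) (BT.leaf 1)) (BT.node (BT.node (BT.leaf 1) (BT.leaf 1)) (BT.leaf 1))) (BT.node (BT.node (BT.node (BT.leaf 1) (BT.leaf 2)) (BT.leaf 1)) (BT.node (BT.leaf 1) (BT.leaf 1))))) (BT.node (BT.node (BT.node (BT.node (BT.node (BT.leaf 2) (BT.leaf 1)) (BT.leaf 1)) (BT.node (BT.node (BT.leaf 1) (BT.leaf 2)) (BT.leaf 1))) (BT.node (BT.node (BT.node (BT.leaf 1) (BT.leaf 1)) (BT.leaf 1)) (BT.node (BT.leaf 1) (BT.leaf 1)))) (BT.node (BT.node (BT.node (BT.node (BT.leaf 1) (BT.leaf 1)) (BT.leaf 1)) (BT.node (BT.node (BT.leaf 2) (BT.leaf 1)) (BT.leaf 1))) (BT.node (BT.node (BT.node (BT.leaf 1) (BT.leaf 1)) (BT.leaf 1)) (BT.node (BT.leaf 1) (BT.leaf 1)))))) (BT.node (BT.node (BT.node (BT.node (BT.node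 (BT.node (BT.leaf 2) (BT.leaf 1)) (BT.leaf 1)) (BT.node (BT.node (BT.leaf 2) (BT.leaf 1)) (BT.leaf 1))) (BT.node (BT.node (BT.node (BT.leaf 1) (BT.leaf 1)) (BT.leaf 1)) (BT.node (BT.leaf 2) (BT.leaf 1)))) (BT.node (BT.node (BT.node (BT.node (BT.leaf 2) (BT.leaf 1)) (BT.leaf 1)) (BT.node (BT.node (BT.leaf 1) (BT.leaf 1)) (BT.leaf 1))) (BT.node (BT.node (BT.node (BT.leaf 2) (BT.leaf 2)) (BT.leaf 1)) (BT.node (BT.leaf 2) (BT.leaf 1))))) (BT.node (BT.node (BT.node (BT.node (BT.node (BT.leaf 1) (BT.leaf 1)) (BT.leaf 2)) (BT.node (BT.node (BT.leaf 1) (BT.leaf 1)) (BT.leaf 1))) (BT.node (BT.node (BT.node (BT.leaf 1) (BT.leaf 1)) (BT.leaf 1)) (BT.node (BT.leaf 1) (BT.leaf 1)))) (BT.node (BT.node (BT.node (BT.node (BT.leaf 1) (BT.leaf 2)) (BT.leaf 1)) (BT.node (BT.leaf 1) (BT.leaf 1))) (BT.node (BT.node (BT.node (BT.leaf 1) (BT.leaf 1)) (BT.leaf 1)) (BT.node (BT.leaf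 1) (BT.leaf 1))))))))),
  (BT.node (BT.node (BT.node (BT.node (BT.node (BT.node (BT.node (BT.node (BT.node (BT.leaf 2) (BT.leaf 1)) (BT.leaf 2)) (BT.node (BT.node (BT.leaf 1) (BT.leaf 1)) (BT.leaf 1))) (BT.node (BT.node (BT.node (BT.leaf 1) (BT.leaf 1)) (BT.leaf 1)) (BT.node (BT.leaf 1) (BT.leaf 1)))) (BT.node (BT.node (BT.node (BT.node (BT.leaf 2) (BT.leaf 1)) (BT.leaf 1)) (BT.node (BT.node (BT.leaf 2) (BT.leaf 1)) (BT.leaf 1))) (BT.node (BT.node (BT.node (BT.leaf 2) (BT.leaf 1)) (BT.leaf 1)) (BT.node (BT.leaf 1) (BT.leaf 1))))) (BT.node (BT.node (BT.node (BT.node (BT.node (BT.leaf 2) (BT.leaf 2)) (BT.leaf 1)) (BT.node (BT.node (BT.leaf 1) (BT.leaf 1)) (BT.leaf 1))) (BT.node (BT.node (BT.node (BT.leaf 2) (BT.leaf 1)) (BT.leaf 1)) (BT.node (BT.leaf 1) (BT.leaf 1)))) (BT.node (BT.node (BT.node (BT.node (BT.leaf 1) (BT.leaf 1)) (BT.leaf 1)) (BT.node (BT.node (BT.leaf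 2) (BT.leaf 1)) (BT.leaf 1))) (BT.node (BT.node (BT.node (BT.leaf 1) (BT.leaf 1)) (BT.leaf 1)) (BT.node (BT.leaf 1) (BT.leaf 1)))))) (BT.node (BT.node (BT.node (BT.node (BT.node (BT.node (BT.leaf 1) (BT.leaf 1)) (BT.leaf 2)) (BT.node (BT.node (BT.leaf 2) (BT.leaf 1)) (BT.leaf 1))) (BT.node (BT.node (BT.node (BT.leaf 1) (BT.leaf 1)) (BT.leaf 1)) (BT.node (BT.leaf 2) (BT.leaf 1)))) (BT.node (BT.node (BT.node (BT.node (BT.leaf 1) (BT.leaf 1)) (BT.leaf 1)) (BT.node (BT.node (BT.leaf 1) (BT.leaf 1)) (BT.leaf 2))) (BT.node (BT.node (BT.node (BT.leaf 1) (BT.leaf 1)) (BT.leaf 1)) (BT.node (BT.leaf 1) (BT.leaf 1))))) (BT.node (BT.node (BT.node (BT.node (BT.node (BT.leaf 1) (BT.leaf 2)) (BT.leaf 1)) (BT.node (BT.node (BT.leaf 1) (BT.leaf 1)) (BT.leaf 1))) (BT.node (BT.node (BT.node (BT.leaf 1) (BT.leaf 1)) (BT.leaf 1)) (BT.node (BT.leaf 1) (BT.leaf 1)))) (BT.node (BT.node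 (BT.node (BT.node (BT.leaf 1) (BT.leaf 1)) (BT.leaf 1)) (BT.node (BT.node (BT.leaf 1) (BT.leaf 1)) (BT.leaf 1))) (BT.node (BT.node (BT.node (BT.leaf 2) (BT.leaf 1)) (BT.leaf 1)) (BT.node (BT.leaf 2) (BT.leaf 1))))))) (BT.node (BT.node (BT.node (BT.node (BT.node (BT.node (BT.node (BT.leaf 1) (BT.leaf 1)) (BT.leaf 1)) (BT.node (BT.node (BT.leaf 1) (BT.leaf 1)) (BT.leaf 1))) (BT.node (BT.node (BT.node (BT.leaf 1) (BT.leaf 1)) (BT.leaf 1)) (BT.node (BT.leaf 1) (BT.leaf 1)))) (BT.node (BT.node (BT.node (BT.node (BT.leaf 1) (BT.leaf 1)) (BT.leaf 1)) (BT.node (BT.node (BT.leaf 1) (BT.leaf 1)) (BT.leaf 2))) (BT.node (BT.node (BT.node (BT.leaf 2) (BT.leaf 1)) (BT.leaf 2)) (BT.node (BT.leaf 1) (BT.leaf 1))))) (BT.node (BT.node (BT.node (BT.node (BT.node (BT.leaf 1) (BT.leaf 1)) (BT.leaf 1)) (BT.node (BT.node (BT.leaf 1) (BT.leaf 1)) (BT.leaf 1))) (BT.node (BT.node (BT.node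 (BT.leaf 1) (BT.leaf 1)) (BT.leaf 2)) (BT.node (BT.leaf 1) (BT.leaf 1)))) (BT.node (BT.node (BT.node (BT.node (BT.leaf 1) (BT.leaf 1)) (BT.leaf 2)) (BT.node (BT.node (BT.leaf 1) (BT.leaf 1)) (BT.leaf 1))) (BT.node (BT.node (BT.node (BT.leaf 1) (BT.leaf 1)) (BT.leaf 1)) (BT.node (BT.leaf 1) (BT.leaf 1)))))) (BT.node (BT.node (BT.node (BT.node (BT.node (BT.node (BT.leaf 1) (BT.leaf 1)) (BT.leaf 2)) (BT.node (BT.node (BT.leaf 2) (BT.leaf 1)) (BT.leaf 1))) (BT.node (BT.node (BT.node (BT.leaf 2) (BT.leaf 1)) (BT.leaf 2)) (BT.node (BT.leaf 2) (BT.leaf 1)))) (BT.node (BT.node (BT.node (BT.node (BT.leaf 2) (BT.leaf 1)) (BT.leaf 1)) (BT.node (BT.node (BT.leaf 1) (BT.leaf 1)) (BT.leaf 1))) (BT.node (BT.node (BT.node (BT.leaf 1) (BT.leaf 1)) (BT.leaf 2)) (BT.node (BT.leaf 1) (BT.leaf 2))))) (BT.node (BT.node (BT.node (BT.node (BT.node (BT.leaf 1) (BT.leaf 1)) (BT.leaf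 1)) (BT.node (BT.node (BT.leaf 2) (BT.leaf 1)) (BT.leaf 1))) (BT.node (BT.node (BT.node (BT.leaf 1) (BT.leaf 1)) (BT.leaf 1)) (BT.node (BT.leaf 1) (BT.leaf 1)))) (BT.node (BT.node (BT.node (BT.node (BT.leaf 1) (BT.leaf 1)) (BT.leaf 1)) (BT.node (BT.node (BT.leaf 2) (BT.leaf 1)) (BT.leaf 1))) (BT.node (BT.node (BT.node (BT.leaf 1) (BT.leaf 1)) (BT.leaf 1)) (BT.node (BT.leaf 1) (BT.leaf 1)))))))) (BT.node (BT.node (BT.node (BT.node (BT.node (BT.node (BT.node (BT.node (BT.leaf 2) (BT.leaf 1)) (BT.leaf 1)) (BT.node (BT.node (BT.leaf 1) (BT.leaf 1)) (BT.leaf 2))) (BT.node (BT.node (BT.node (BT.leaf 1) (BT.leaf 1)) (BT.leaf 1)) (BT.node (BT.leaf 2) (BT.leaf 1)))) (BT.node (BT.node (BT.node (BT.node (BT.leaf 2) (BT.leaf 1)) (BT.leaf 1)) (BT.node (BT.node (BT.leaf 1) (BT.leaf 1)) (BT.leaf 1))) (BT.node (BT.node (BT.node (BT.leaf 1) (BT.leaf 1)) (BT.leaf 1)) (BT.node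 (BT.leaf 1) (BT.leaf 1))))) (BT.node (BT.node (BT.node (BT.node (BT.node (BT.leaf 2) (BT.leaf 1)) (BT.leaf 1)) (BT.node (BT.node (BT.leaf 1) (BT.leaf 1)) (BT.leaf 2))) (BT.node (BT.node (BT.node (BT.leaf 2) (BT.leaf 1)) (BT.leaf 1)) (BT.node (BT.leaf 1) (BT.leaf 1)))) (BT.node (BT.node (BT.node (BT.node (BT.leaf 1) (BT.leaf 1)) (BT.leaf 1)) (BT.node (BT.node (BT.leaf 1) (BT.leaf 1)) (BT.leaf 1))) (BT.node (BT.node (BT.node (BT.leaf 1) (BT.leaf 1)) (BT.leaf 2)) (BT.node (BT.leaf 1) (BT.leaf 1)))))) (BT.node (BT.node (BT.node (BT.node (BT.node (BT.node (BT.leaf 2) (BT.leaf 1)) (BT.leaf 1)) (BT.node (BT.node (BT.leaf 1) (BT.leaf 1)) (BT.leaf 1))) (BT.node (BT.node (BT.node (BT.leaf 1) (BT.leaf 1)) (BT.leaf 1)) (BT.node (BT.leaf 1) (BT.leaf 2)))) (BT.node (BT.node (BT.node (BT.node (BT.leaf 1) (BT.leaf 2)) (BT.leaf 1)) (BT.node (BT.node (BT.leaf 1) (BT.leaf 1))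 (BT.leaf 1))) (BT.node (BT.node (BT.node (BT.leaf 2) (BT.leaf 1)) (BT.leaf 1)) (BT.node (BT.leaf 1) (BT.leaf 1))))) (BT.node (BT.node (BT.node (BT.node (BT.node (BT.leaf 2) (BT.leaf 1)) (BT.leaf 1)) (BT.node (BT.node (BT.leaf 1) (BT.leaf 1)) (BT.leaf 2))) (BT.node (BT.node (BT.node (BT.leaf 1) (BT.leaf 1)) (BT.leaf 1)) (BT.node (BT.leaf 1) (BT.leaf 1)))) (BT.node (BT.node (BT.node (BT.node (BT.leaf 1) (BT.leaf 1)) (BT.leaf 1)) (BT.node (BT.node (BT.leaf 1) (BT.leaf 1)) (BT.leaf 1))) (BT.node (BT.node (BT.node (BT.leaf 1) (BT.leaf 1)) (BT.leaf 1)) (BT.node (BT.leaf 1) (BT.leaf 1))))))) (BT.node (BT.node (BT.node (BT.node (BT.node (BT.node (BT.node (BT.leaf 1) (BT.leaf 1)) (BT.leaf 1)) (BT.node (BT.node (BT.leaf 1) (BT.leaf 1)) (BT.leaf 1))) (BT.node (BT.node (BT.node (BT.leaf 1) (BT.leaf 2)) (BT.leaf 2)) (BT.node (BT.leaf 1) (BT.leaf 1)))) (BT.node (BT.node (BT.node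 (BT.node (BT.leaf 1) (BT.leaf 1)) (BT.leaf 1)) (BT.node (BT.node (BT.leaf 1) (BT.leaf 1)) (BT.leaf 1))) (BT.node (BT.node (BT.node (BT.leaf 1) (BT.leaf 1)) (BT.leaf 1)) (BT.node (BT.leaf 1) (BT.leaf 1))))) (BT.node (BT.node (BT.node (BT.node (BT.node (BT.leaf 2) (BT.leaf 1)) (BT.leaf 1)) (BT.node (BT.node (BT.leaf 1) (BT.leaf 1)) (BT.leaf 1))) (BT.node (BT.node (BT.node (BT.leaf 1) (BT.leaf 1)) (BT.leaf 1)) (BT.node (BT.leaf 1) (BT.leaf 1)))) (BT.node (BT.node (BT.node (BT.node (BT.leaf 1) (BT.leaf 1)) (BT.leaf 1)) (BT.node (BT.node (BT.leaf 1) (BT.leaf 1)) (BT.leaf 1))) (BT.node (BT.node (BT.node (BT.leaf 1) (BT.leaf 1)) (BT.leaf 1)) (BT.node (BT.leaf 1) (BT.leaf 1)))))) (BT.node (BT.node (BT.node (BT.node (BT.node (BT.node (BT.leaf 2) (BT.leaf 1)) (BT.leaf 1)) (BT.node (BT.node (BT.leaf 1) (BT.leaf 1)) (BT.leaf 1))) (BT.node (BT.node (BT.node (BT.leaf 1) (BT.leaf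 1)) (BT.leaf 1)) (BT.node (BT.leaf 2) (BT.leaf 1)))) (BT.node (BT.node (BT.node (BT.node (BT.leaf 1) (BT.leaf 1)) (BT.leaf 1)) (BT.node (BT.node (BT.leaf 1) (BT.leaf 1)) (BT.leaf 1))) (BT.node (BT.node (BT.node (BT.leaf 2) (BT.leaf 1)) (BT.leaf 1)) (BT.node (BT.leaf 1) (BT.leaf 1))))) (BT.node (BT.node (BT.node (BT.node (BT.node (BT.leaf 1) (BT.leaf 1)) (BT.leaf 2)) (BT.node (BT.node (BT.leaf 1) (BT.leaf 1)) (BT.leaf 1))) (BT.node (BT.node (BT.node (BT.leaf 1) (BT.leaf 1)) (BT.leaf 1)) (BT.node (BT.leaf 2) (BT.leaf 1)))) (BT.node (BT.node (BT.node (BT.node (BT.leaf 1) (BT.leaf 1)) (BT.leaf 1)) (BT.node (BT.leaf 1) (BT.leaf 1))) (BT.node (BT.node (BT.node (BT.leaf 1) (BT.leaf 1)) (BT.leaf 1)) (BT.node (BT.leaf 2) (BT.leaf 1))))))))),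
  (BT.node (BT.node (BT.node (BT.node (BT.node (BT.node (BT.node (BT.node (BT.node (BT.leaf 2) (BT.leaf 2)) (BT.leaf 1)) (BT.node (BT.node (BT.leaf 1) (BT.leaf 1)) (BT.leaf 2))) (BT.node (BT.node (BT.node (BT.leaf 1) (BT.leaf 1)) (BT.leaf 2)) (BT.node (BT.leaf 1) (BT.leaf 1)))) (BT.node (BT.node (BT.node (BT.node (BT.leaf 1) (BT.leaf 2)) (BT.leaf 1)) (BT.node (BT.node (BT.leaf 2) (BT.leaf 2)) (BT.leaf 1))) (BT.node (BT.node (BT.node (BT.leaf 1) (BT.leaf 2)) (BT.leaf 1)) (BT.node (BT.leaf 2) (BT.leaf 2))))) (BT.node (BT.node (BT.node (BT.node (BT.node (BT.leaf 2) (BT.leaf 2)) (BT.leaf 2)) (BT.node (BT.node (BT.leaf 1) (BT.leaf 2)) (BT.leaf 1))) (BT.node (BT.node (BT.node (BT.leaf 1) (BT.leaf 2)) (BT.leaf 1)) (BT.node (BT.leaf 2) (BT.leaf 2)))) (BT.node (BT.node (BT.node (BT.node (BT.leaf 2) (BT.leaf 2)) (BT.leaf 2)) (BT.node (BT.node (BT.leaf 1) (BT.leaf 2))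 (BT.leaf 2))) (BT.node (BT.node (BT.node (BT.leaf 1) (BT.leaf 1)) (BT.leaf 1)) (BT.node (BT.leaf 2) (BT.leaf 1)))))) (BT.node (BT.node (BT.node (BT.node (BT.node (BT.node (BT.leaf 1) (BT.leaf 1)) (BT.leaf 1)) (BT.node (BT.node (BT.leaf 1) (BT.leaf 2)) (BT.leaf 2))) (BT.node (BT.node (BT.node (BT.leaf 2) (BT.leaf 1)) (BT.leaf 2)) (BT.node (BT.leaf 1) (BT.leaf 2)))) (BT.node (BT.node (BT.node (BT.node (BT.leaf 1) (BT.leaf 2)) (BT.leaf 1)) (BT.node (BT.node (BT.leaf 2) (BT.leaf 2)) (BT.leaf 2))) (BT.node (BT.node (BT.node (BT.leaf 2) (BT.leaf 1)) (BT.leaf 2)) (BT.node (BT.leaf 1) (BT.leaf 2))))) (BT.node (BT.node (BT.node (BT.node (BT.node (BT.leaf 1) (BT.leaf 2)) (BT.leaf 2)) (BT.node (BT.node (BT.leaf 1) (BT.leaf 1)) (BT.leaf 2))) (BT.node (BT.node (BT.node (BT.leaf 1) (BT.leaf 2)) (BT.leaf 1)) (BT.node (BT.leaf 2) (BT.leaf 1)))) (BT.node (BT.node (BT.node (BT.node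 (BT.leaf 2) (BT.leaf 2)) (BT.leaf 1)) (BT.node (BT.node (BT.leaf 2) (BT.leaf 1)) (BT.leaf 1))) (BT.node (BT.node (BT.node (BT.leaf 2) (BT.leaf 1)) (BT.leaf 1)) (BT.node (BT.leaf 1) (BT.leaf 2))))))) (BT.node (BT.node (BT.node (BT.node (BT.node (BT.node (BT.node (BT.leaf 2) (BT.leaf 2)) (BT.leaf 1)) (BT.node (BT.node (BT.leaf 1) (BT.leaf 1)) (BT.leaf 1))) (BT.node (BT.node (BT.node (BT.leaf 2) (BT.leaf 1)) (BT.leaf 1)) (BT.node (BT.leaf 2) (BT.leaf 2)))) (BT.node (BT.node (BT.node (BT.node (BT.leaf 1) (BT.leaf 2)) (BT.leaf 2)) (BT.node (BT.node (BT.leaf 2) (BT.leaf 2)) (BT.leaf 1))) (BT.node (BT.node (BT.node (BT.leaf 2) (BT.leaf 1)) (BT.leaf 2)) (BT.node (BT.leaf 2) (BT.leaf 1))))) (BT.node (BT.node (BT.node (BT.node (BT.node (BT.leaf 1) (BT.leaf 2)) (BT.leaf 1)) (BT.node (BT.node (BT.leaf 1) (BT.leaf 1)) (BT.leaf 2))) (BT.node (BT.node (BT.node (BT.leaf 1)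 (BT.leaf 2)) (BT.leaf 1)) (BT.node (BT.leaf 2) (BT.leaf 2)))) (BT.node (BT.node (BT.node (BT.node (BT.leaf 1) (BT.leaf 2)) (BT.leaf 1)) (BT.node (BT.node (BT.leaf 2) (BT.leaf 1)) (BT.leaf 1))) (BT.node (BT.node (BT.node (BT.leaf 2) (BT.leaf 1)) (BT.leaf 2)) (BT.node (BT.leaf 1) (BT.leaf 2)))))) (BT.node (BT.node (BT.node (BT.node (BT.node (BT.node (BT.leaf 1) (BT.leaf 2)) (BT.leaf 1)) (BT.node (BT.node (BT.leaf 2) (BT.leaf 1)) (BT.leaf 2))) (BT.node (BT.node (BT.node (BT.leaf 2) (BT.leaf 2)) (BT.leaf 2)) (BT.node (BT.leaf 1) (BT.leaf 1)))) (BT.node (BT.node (BT.node (BT.node (BT.leaf 1) (BT.leaf 2)) (BT.leaf 2)) (BT.node (BT.node (BT.leaf 1) (BT.leaf 2)) (BT.leaf 1))) (BT.node (BT.node (BT.node (BT.leaf 1) (BT.leaf 1)) (BT.leaf 1)) (BT.node (BT.leaf 2) (BT.leaf 2))))) (BT.node (BT.node (BT.node (BT.node (BT.node (BT.leaf 2) (BT.leaf 1)) (BT.leaf 1)) (BT.node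 (BT.node (BT.leaf 2) (BT.leaf 1)) (BT.leaf 2))) (BT.node (BT.node (BT.node (BT.leaf 2) (BT.leaf 1)) (BT.leaf 1)) (BT.node (BT.leaf 1) (BT.leaf 1)))) (BT.node (BT.node (BT.node (BT.node (BT.leaf 1) (BT.leaf 2)) (BT.leaf 2)) (BT.node (BT.node (BT.leaf 1) (BT.leaf 1)) (BT.leaf 2))) (BT.node (BT.node (BT.node (BT.leaf 1) (BT.leaf 2)) (BT.leaf 2)) (BT.node (BT.leaf 1) (BT.leaf 1)))))))) (BT.node (BT.node (BT.node (BT.node (BT.node (BT.node (BT.node (BT.node (BT.leaf 1) (BT.leaf 2)) (BT.leaf 2)) (BT.node (BT.node (BT.leaf 2) (BT.leaf 1)) (BT.leaf 1))) (BT.node (BT.node (BT.node (BT.leaf 1) (BT.leaf 2)) (BT.leaf 1)) (BT.node (BT.leaf 1) (BT.leaf 1)))) (BT.node (BT.node (BT.node (BT.node (BT.leaf 1) (BT.leaf 1)) (BT.leaf 1)) (BT.node (BT.node (BT.leaf 1) (BT.leaf 1)) (BT.leaf 2))) (BT.node (BT.node (BT.node (BT.leaf 2) (BT.leaf 1)) (BT.leaf 1)) (BT.node (BT.leaf 2)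 (BT.leaf 1))))) (BT.node (BT.node (BT.node (BT.node (BT.node (BT.leaf 1) (BT.leaf 1)) (BT.leaf 1)) (BT.node (BT.node (BT.leaf 1) (BT.leaf 1)) (BT.leaf 2))) (BT.node (BT.node (BT.node (BT.leaf 2) (BT.leaf 2)) (BT.leaf 1)) (BT.node (BT.leaf 2) (BT.leaf 2)))) (BT.node (BT.node (BT.node (BT.node (BT.leaf 1) (BT.leaf 2)) (BT.leaf 2)) (BT.node (BT.node (BT.leaf 2) (BT.leaf 1)) (BT.leaf 2))) (BT.node (BT.node (BT.node (BT.leaf 2) (BT.leaf 2)) (BT.leaf 1)) (BT.node (BT.leaf 2) (BT.leaf 2)))))) (BT.node (BT.node (BT.node (BT.node (BT.node (BT.node (BT.leaf 2) (BT.leaf 1)) (BT.leaf 2)) (BT.node (BT.node (BT.leaf 1) (BT.leaf 1)) (BT.leaf 1))) (BT.node (BT.node (BT.node (BT.leaf 1) (BT.leaf 2)) (BT.leaf 2)) (BT.node (BT.leaf 1) (BT.leaf 2)))) (BT.node (BT.node (BT.node (BT.node (BT.leaf 2) (BT.leaf 1)) (BT.leaf 2)) (BT.node (BT.node (BT.leaf 1) (BT.leaf 1)) (BT.leaf 1)))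 (BT.node (BT.node (BT.node (BT.leaf 1) (BT.leaf 1)) (BT.leaf 1)) (BT.node (BT.leaf 2) (BT.leaf 1))))) (BT.node (BT.node (BT.node (BT.node (BT.node (BT.leaf 2) (BT.leaf 1)) (BT.leaf 2)) (BT.node (BT.node (BT.leaf 1) (BT.leaf 2)) (BT.leaf 1))) (BT.node (BT.node (BT.node (BT.leaf 2) (BT.leaf 2)) (BT.leaf 1)) (BT.node (BT.leaf 2) (BT.leaf 1)))) (BT.node (BT.node (BT.node (BT.node (BT.leaf 2) (BT.leaf 2)) (BT.leaf 1)) (BT.node (BT.node (BT.leaf 1) (BT.leaf 2)) (BT.leaf 1))) (BT.node (BT.node (BT.node (BT.leaf 1) (BT.leaf 2)) (BT.leaf 1)) (BT.node (BT.leaf 1) (BT.leaf 1))))))) (BT.node (BT.node (BT.node (BT.node (BT.node (BT.node (BT.node (BT.leaf 1) (BT.leaf 1)) (BT.leaf 1)) (BT.node (BT.node (BT.leaf 1) (BT.leaf 1)) (BT.leaf 1))) (BT.node (BT.node (BT.node (BT.leaf 2) (BT.leaf 1)) (BT.leaf 1)) (BT.node (BT.leaf 2) (BT.leaf 2)))) (BT.node (BT.node (BT.node (BT.node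 (BT.leaf 2) (BT.leaf 1)) (BT.leaf 2)) (BT.node (BT.node (BT.leaf 2) (BT.leaf 1)) (BT.leaf 2))) (BT.node (BT.node (BT.node (BT.leaf 2) (BT.leaf 1)) (BT.leaf 2)) (BT.node (BT.leaf 1) (BT.leaf 2))))) (BT.node (BT.node (BT.node (BT.node (BT.node (BT.leaf 1) (BT.leaf 2)) (BT.leaf 2)) (BT.node (BT.node (BT.leaf 2) (BT.leaf 2)) (BT.leaf 1))) (BT.node (BT.node (BT.node (BT.leaf 1) (BT.leaf 2)) (BT.leaf 2)) (BT.node (BT.leaf 2) (BT.leaf 2)))) (BT.node (BT.node (BT.node (BT.node (BT.leaf 1) (BT.leaf 1)) (BT.leaf 1)) (BT.node (BT.node (BT.leaf 1) (BT.leaf 1)) (BT.leaf 1))) (BT.node (BT.node (BT.node (BT.leaf 1) (BT.leaf 2)) (BT.leaf 1)) (BT.node (BT.leaf 2) (BT.leaf 1)))))) (BT.node (BT.node (BT.node (BT.node (BT.node (BT.node (BT.leaf 1) (BT.leaf 2)) (BT.leaf 1)) (BT.node (BT.node (BT.leaf 1) (BT.leaf 2)) (BT.leaf 2))) (BT.node (BT.node (BT.node (BT.leaf 2) (BT.leaf 1))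 (BT.leaf 2)) (BT.node (BT.leaf 1) (BT.leaf 2)))) (BT.node (BT.node (BT.node (BT.node (BT.leaf 1) (BT.leaf 1)) (BT.leaf 1)) (BT.node (BT.node (BT.leaf 1) (BT.leaf 2)) (BT.leaf 1))) (BT.node (BT.node (BT.node (BT.leaf 1) (BT.leaf 2)) (BT.leaf 2)) (BT.node (BT.leaf 1) (BT.leaf 1))))) (BT.node (BT.node (BT.node (BT.node (BT.node (BT.leaf 1) (BT.leaf 2)) (BT.leaf 2)) (BT.node (BT.node (BT.leaf 2) (BT.leaf 1)) (BT.leaf 2))) (BT.node (BT.node (BT.node (BT.leaf 2) (BT.leaf 2)) (BT.leaf 1)) (BT.node (BT.leaf 1) (BT.leaf 2)))) (BT.node (BT.node (BT.node (BT.node (BT.leaf 1) (BT.leaf 1)) (BT.leaf 2)) (BT.node (BT.leaf 2) (BT.leaf 2))) (BT.node (BT.node (BT.node (BT.leaf 2) (BT.leaf 2)) (BT.leaf 2)) (BT.node (BT.leaf 2) (BT.leaf 1))))))))),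
  (BT.node (BT.node (BT.node (BT.node (BT.node (BT.node (BT.node (BT.node (BT.node (BT.leaf 1) (BT.leaf 1)) (BT.leaf 2)) (BT.node (BT.node (BT.leaf 2) (BT.leaf 1)) (BT.leaf 1))) (BT.node (BT.node (BT.node (BT.leaf 1) (BT.leaf 1)) (BT.leaf 1)) (BT.node (BT.leaf 1) (BT.leaf 2)))) (BT.node (BT.node (BT.node (BT.node (BT.leaf 1) (BT.leaf 2)) (BT.leaf 1)) (BT.node (BT.node (BT.leaf 1) (BT.leaf 2)) (BT.leaf 2))) (BT.node (BT.node (BT.node (BT.leaf 2) (BT.leaf 1)) (BT.leaf 1)) (BT.node (BT.leaf 2) (BT.leaf 2))))) (BT.node (BT.node (BT.node (BT.node (BT.node (BT.leaf 1) (BT.leaf 1)) (BT.leaf 1)) (BT.node (BT.node (BT.leaf 1) (BT.leaf 1)) (BT.leaf 2))) (BT.node (BT.node (BT.node (BT.leaf 1) (BT.leaf 2)) (BT.leaf 2)) (BT.node (BT.leaf 1) (BT.leaf 1)))) (BT.node (BT.node (BT.node (BT.node (BT.leaf 2) (BT.leaf 1)) (BT.leaf 2)) (BT.node (BT.node (BT.leaf 2) (BT.leaf 1))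 (BT.leaf 2))) (BT.node (BT.node (BT.node (BT.leaf 1) (BT.leaf 2)) (BT.leaf 1)) (BT.node (BT.leaf 1) (BT.leaf 1)))))) (BT.node (BT.node (BT.node (BT.node (BT.node (BT.node (BT.leaf 1) (BT.leaf 1)) (BT.leaf 1)) (BT.node (BT.node (BT.leaf 1) (BT.leaf 2)) (BT.leaf 1))) (BT.node (BT.node (BT.node (BT.leaf 1) (BT.leaf 1)) (BT.leaf 1)) (BT.node (BT.leaf 2) (BT.leaf 2)))) (BT.node (BT.node (BT.node (BT.node (BT.leaf 1) (BT.leaf 2)) (BT.leaf 2)) (BT.node (BT.node (BT.leaf 2) (BT.leaf 1)) (BT.leaf 1))) (BT.node (BT.node (BT.node (BT.leaf 2) (BT.leaf 2)) (BT.leaf 2)) (BT.node (BT.leaf 2) (BT.leaf 1))))) (BT.node (BT.node (BT.node (BT.node (BT.node (BT.leaf 1) (BT.leaf 2)) (BT.leaf 2)) (BT.node (BT.node (BT.leaf 2) (BT.leaf 2)) (BT.leaf 2))) (BT.node (BT.node (BT.node (BT.leaf 1) (BT.leaf 2)) (BT.leaf 1)) (BT.node (BT.leaf 1) (BT.leaf 1)))) (BT.node (BT.node (BT.node (BT.node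 (BT.leaf 1) (BT.leaf 1)) (BT.leaf 2)) (BT.node (BT.node (BT.leaf 2) (BT.leaf 2)) (BT.leaf 1))) (BT.node (BT.node (BT.node (BT.leaf 2) (BT.leaf 2)) (BT.leaf 1)) (BT.node (BT.leaf 1) (BT.leaf 2))))))) (BT.node (BT.node (BT.node (BT.node (BT.node (BT.node (BT.node (BT.leaf 2) (BT.leaf 1)) (BT.leaf 2)) (BT.node (BT.node (BT.leaf 2) (BT.leaf 1)) (BT.leaf 2))) (BT.node (BT.node (BT.node (BT.leaf 2) (BT.leaf 2)) (BT.leaf 2)) (BT.node (BT.leaf 1) (BT.leaf 2)))) (BT.node (BT.node (BT.node (BT.node (BT.leaf 1) (BT.leaf 2)) (BT.leaf 2)) (BT.node (BT.node (BT.leaf 2) (BT.leaf 2)) (BT.leaf 1))) (BT.node (BT.node (BT.node (BT.leaf 1) (BT.leaf 2)) (BT.leaf 2)) (BT.node (BT.leaf 1) (BT.leaf 2))))) (BT.node (BT.node (BT.node (BT.node (BT.node (BT.leaf 1) (BT.leaf 1)) (BT.leaf 2)) (BT.node (BT.node (BT.leaf 1) (BT.leaf 1)) (BT.leaf 1))) (BT.node (BT.node (BT.node (BT.leaf 1)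 (BT.leaf 2)) (BT.leaf 1)) (BT.node (BT.leaf 1) (BT.leaf 2)))) (BT.node (BT.node (BT.node (BT.node (BT.leaf 1) (BT.leaf 1)) (BT.leaf 2)) (BT.node (BT.node (BT.leaf 1) (BT.leaf 2)) (BT.leaf 2))) (BT.node (BT.node (BT.node (BT.leaf 2) (BT.leaf 1)) (BT.leaf 1)) (BT.node (BT.leaf 2) (BT.leaf 2)))))) (BT.node (BT.node (BT.node (BT.node (BT.node (BT.node (BT.leaf 1) (BT.leaf 1)) (BT.leaf 2)) (BT.node (BT.node (BT.leaf 2) (BT.leaf 2)) (BT.leaf 1))) (BT.node (BT.node (BT.node (BT.leaf 2) (BT.leaf 1)) (BT.leaf 1)) (BT.node (BT.leaf 1) (BT.leaf 2)))) (BT.node (BT.node (BT.node (BT.node (BT.leaf 2) (BT.leaf 2)) (BT.leaf 2)) (BT.node (BT.node (BT.leaf 2) (BT.leaf 2)) (BT.leaf 2))) (BT.node (BT.node (BT.node (BT.leaf 1) (BT.leaf 2)) (BT.leaf 2)) (BT.node (BT.leaf 2) (BT.leaf 1))))) (BT.node (BT.node (BT.node (BT.node (BT.node (BT.leaf 2) (BT.leaf 1)) (BT.leaf 1)) (BT.node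 (BT.node (BT.leaf 1) (BT.leaf 2)) (BT.leaf 2))) (BT.node (BT.node (BT.node (BT.leaf 1) (BT.leaf 2)) (BT.leaf 2)) (BT.node (BT.leaf 2) (BT.leaf 2)))) (BT.node (BT.node (BT.node (BT.node (BT.leaf 2) (BT.leaf 1)) (BT.leaf 2)) (BT.node (BT.node (BT.leaf 1) (BT.leaf 1)) (BT.leaf 1))) (BT.node (BT.node (BT.node (BT.leaf 2) (BT.leaf 2)) (BT.leaf 2)) (BT.node (BT.leaf 1) (BT.leaf 2)))))))) (BT.node (BT.node (BT.node (BT.node (BT.node (BT.node (BT.node (BT.node (BT.leaf 2) (BT.leaf 1)) (BT.leaf 1)) (BT.node (BT.node (BT.leaf 1) (BT.leaf 2)) (BT.leaf 2))) (BT.node (BT.node (BT.node (BT.leaf 2) (BT.leaf 2)) (BT.leaf 2)) (BT.node (BT.leaf 1) (BT.leaf 2)))) (BT.node (BT.node (BT.node (BT.node (BT.leaf 2) (BT.leaf 1)) (BT.leaf 1)) (BT.node (BT.node (BT.leaf 1) (BT.leaf 1)) (BT.leaf 2))) (BT.node (BT.node (BT.node (BT.leaf 1) (BT.leaf 2)) (BT.leaf 2)) (BT.node (BT.leaf 1)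 (BT.leaf 2))))) (BT.node (BT.node (BT.node (BT.node (BT.node (BT.leaf 1) (BT.leaf 1)) (BT.leaf 1)) (BT.node (BT.node (BT.leaf 2) (BT.leaf 2)) (BT.leaf 1))) (BT.node (BT.node (BT.node (BT.leaf 1) (BT.leaf 2)) (BT.leaf 2)) (BT.node (BT.leaf 2) (BT.leaf 2)))) (BT.node (BT.node (BT.node (BT.node (BT.leaf 1) (BT.leaf 1)) (BT.leaf 2)) (BT.node (BT.node (BT.leaf 1) (BT.leaf 2)) (BT.leaf 2))) (BT.node (BT.node (BT.node (BT.leaf 2) (BT.leaf 2)) (BT.leaf 1)) (BT.node (BT.leaf 1) (BT.leaf 2)))))) (BT.node (BT.node (BT.node (BT.node (BT.node (BT.node (BT.leaf 1) (BT.leaf 1)) (BT.leaf 1)) (BT.node (BT.node (BT.leaf 2) (BT.leaf 1)) (BT.leaf 1))) (BT.node (BT.node (BT.node (BT.leaf 2) (BT.leaf 2)) (BT.leaf 2)) (BT.node (BT.leaf 2) (BT.leaf 2)))) (BT.node (BT.node (BT.node (BT.node (BT.leaf 2) (BT.leaf 1)) (BT.leaf 2)) (BT.node (BT.node (BT.leaf 1) (BT.leaf 1)) (BT.leaf 1)))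 (BT.node (BT.node (BT.node (BT.leaf 2) (BT.leaf 1)) (BT.leaf 2)) (BT.node (BT.leaf 2) (BT.leaf 1))))) (BT.node (BT.node (BT.node (BT.node (BT.node (BT.leaf 1) (BT.leaf 1)) (BT.leaf 1)) (BT.node (BT.node (BT.leaf 1) (BT.leaf 1)) (BT.leaf 2))) (BT.node (BT.node (BT.node (BT.leaf 1) (BT.leaf 2)) (BT.leaf 1)) (BT.node (BT.leaf 2) (BT.leaf 1)))) (BT.node (BT.node (BT.node (BT.node (BT.leaf 2) (BT.leaf 1)) (BT.leaf 2)) (BT.node (BT.node (BT.leaf 2) (BT.leaf 1)) (BT.leaf 2))) (BT.node (BT.node (BT.node (BT.leaf 1) (BT.leaf 2)) (BT.leaf 1)) (BT.node (BT.leaf 2) (BT.leaf 2))))))) (BT.node (BT.node (BT.node (BT.node (BT.node (BT.node (BT.node (BT.leaf 2) (BT.leaf 1)) (BT.leaf 2)) (BT.node (BT.node (BT.leaf 2) (BT.leaf 1)) (BT.leaf 2))) (BT.node (BT.node (BT.node (BT.leaf 2) (BT.leaf 1)) (BT.leaf 2)) (BT.node (BT.leaf 2) (BT.leaf 1)))) (BT.node (BT.node (BT.node (BT.node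 (BT.leaf 2) (BT.leaf 2)) (BT.leaf 1)) (BT.node (BT.node (BT.leaf 2) (BT.leaf 1)) (BT.leaf 1))) (BT.node (BT.node (BT.node (BT.leaf 1) (BT.leaf 2)) (BT.leaf 2)) (BT.node (BT.leaf 2) (BT.leaf 1))))) (BT.node (BT.node (BT.node (BT.node (BT.node (BT.leaf 2) (BT.leaf 2)) (BT.leaf 2)) (BT.node (BT.node (BT.leaf 1) (BT.leaf 2)) (BT.leaf 1))) (BT.node (BT.node (BT.node (BT.leaf 1) (BT.leaf 2)) (BT.leaf 1)) (BT.node (BT.leaf 1) (BT.leaf 1)))) (BT.node (BT.node (BT.node (BT.node (BT.leaf 1) (BT.leaf 2)) (BT.leaf 2)) (BT.node (BT.node (BT.leaf 1) (BT.leaf 1)) (BT.leaf 1))) (BT.node (BT.node (BT.node (BT.leaf 1) (BT.leaf 2)) (BT.leaf 1)) (BT.node (BT.leaf 2) (BT.leaf 2)))))) (BT.node (BT.node (BT.node (BT.node (BT.node (BT.node (BT.leaf 1) (BT.leaf 1)) (BT.leaf 2)) (BT.node (BT.node (BT.leaf 2) (BT.leaf 2)) (BT.leaf 1))) (BT.node (BT.node (BT.node (BT.leaf 2) (BT.leaf 2))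 (BT.leaf 2)) (BT.node (BT.leaf 2) (BT.leaf 1)))) (BT.node (BT.node (BT.node (BT.node (BT.leaf 2) (BT.leaf 2)) (BT.leaf 1)) (BT.node (BT.node (BT.leaf 2) (BT.leaf 1)) (BT.leaf 1))) (BT.node (BT.node (BT.node (BT.leaf 2) (BT.leaf 1)) (BT.leaf 2)) (BT.node (BT.leaf 1) (BT.leaf 1))))) (BT.node (BT.node (BT.node (BT.node (BT.node (BT.leaf 2) (BT.leaf 1)) (BT.leaf 1)) (BT.node (BT.node (BT.leaf 1) (BT.leaf 2)) (BT.leaf 2))) (BT.node (BT.node (BT.node (BT.leaf 1) (BT.leaf 1)) (BT.leaf 2)) (BT.node (BT.leaf 2) (BT.leaf 1)))) (BT.node (BT.node (BT.node (BT.node (BT.leaf 1) (BT.leaf 1)) (BT.leaf 2)) (BT.node (BT.leaf 2) (BT.leaf 2))) (BT.node (BT.node (BT.node (BT.leaf 1) (BT.leaf 2)) (BT.leaf 1)) (BT.node (BT.leaf 2) (BT.leaf 1))))))))),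
  (BT.node (BT.node (BT.node (BT.node (BT.node (BT.node (BT.node (BT.node (BT.node (BT.leaf 1) (BT.leaf 1)) (BT.leaf 2)) (BT.node (BT.node (BT.leaf 1) (BT.leaf 1)) (BT.leaf 2))) (BT.node (BT.node (BT.node (BT.leaf 2) (BT.leaf 1)) (BT.leaf 2)) (BT.node (BT.leaf 2) (BT.leaf 1)))) (BT.node (BT.node (BT.node (BT.node (BT.leaf 1) (BT.leaf 2)) (BT.leaf 2)) (BT.node (BT.node (BT.leaf 2) (BT.leaf 1)) (BT.leaf 2))) (BT.node (BT.node (BT.node (BT.leaf 2) (BT.leaf 1)) (BT.leaf 2)) (BT.node (BT.leaf 1) (BT.leaf 2))))) (BT.node (BT.node (BT.node (BT.node (BT.node (BT.leaf 1) (BT.leaf 1)) (BT.leaf 1)) (BT.node (BT.node (BT.leaf 2) (BT.leaf 2)) (BT.leaf 2))) (BT.node (BT.node (BT.node (BT.leaf 1) (BT.leaf 2)) (BT.leaf 2)) (BT.node (BT.leaf 1) (BT.leaf 1)))) (BT.node (BT.node (BT.node (BT.node (BT.leaf 2) (BT.leaf 2)) (BT.leaf 1)) (BT.node (BT.node (BT.leaf 1) (BT.leaf 1))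 (BT.leaf 1))) (BT.node (BT.node (BT.node (BT.leaf 2) (BT.leaf 1)) (BT.leaf 1)) (BT.node (BT.leaf 2) (BT.leaf 2)))))) (BT.node (BT.node (BT.node (BT.node (BT.node (BT.node (BT.leaf 2) (BT.leaf 1)) (BT.leaf 1)) (BT.node (BT.node (BT.leaf 2) (BT.leaf 1)) (BT.leaf 1))) (BT.node (BT.node (BT.node (BT.leaf 2) (BT.leaf 2)) (BT.leaf 2)) (BT.node (BT.leaf 1) (BT.leaf 2)))) (BT.node (BT.node (BT.node (BT.node (BT.leaf 1) (BT.leaf 1)) (BT.leaf 1)) (BT.node (BT.node (BT.leaf 1) (BT.leaf 2)) (BT.leaf 2))) (BT.node (BT.node (BT.node (BT.leaf 2) (BT.leaf 1)) (BT.leaf 1)) (BT.node (BT.leaf 1) (BT.leaf 1))))) (BT.node (BT.node (BT.node (BT.node (BT.node (BT.leaf 1) (BT.leaf 2)) (BT.leaf 2)) (BT.node (BT.node (BT.leaf 2) (BT.leaf 1)) (BT.leaf 1))) (BT.node (BT.node (BT.node (BT.leaf 2) (BT.leaf 1)) (BT.leaf 2)) (BT.node (BT.leaf 2) (BT.leaf 1)))) (BT.node (BT.node (BT.node (BT.node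 (BT.leaf 2) (BT.leaf 1)) (BT.leaf 2)) (BT.node (BT.node (BT.leaf 1) (BT.leaf 1)) (BT.leaf 1))) (BT.node (BT.node (BT.node (BT.leaf 2) (BT.leaf 2)) (BT.leaf 1)) (BT.node (BT.leaf 2) (BT.leaf 2))))))) (BT.node (BT.node (BT.node (BT.node (BT.node (BT.node (BT.node (BT.leaf 2) (BT.leaf 1)) (BT.leaf 2)) (BT.node (BT.node (BT.leaf 2) (BT.leaf 2)) (BT.leaf 2))) (BT.node (BT.node (BT.node (BT.leaf 2) (BT.leaf 2)) (BT.leaf 2)) (BT.node (BT.leaf 2) (BT.leaf 2)))) (BT.node (BT.node (BT.node (BT.node (BT.leaf 2) (BT.leaf 1)) (BT.leaf 1)) (BT.node (BT.node (BT.leaf 2) (BT.leaf 2)) (BT.leaf 2))) (BT.node (BT.node (BT.node (BT.leaf 1) (BT.leaf 1)) (BT.leaf 1)) (BT.node (BT.leaf 1) (BT.leaf 1))))) (BT.node (BT.node (BT.node (BT.node (BT.node (BT.leaf 2) (BT.leaf 2)) (BT.leaf 2)) (BT.node (BT.node (BT.leaf 2) (BT.leaf 1)) (BT.leaf 2))) (BT.node (BT.node (BT.node (BT.leaf 1)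 (BT.leaf 1)) (BT.leaf 2)) (BT.node (BT.leaf 2) (BT.leaf 2)))) (BT.node (BT.node (BT.node (BT.node (BT.leaf 1) (BT.leaf 1)) (BT.leaf 1)) (BT.node (BT.node (BT.leaf 2) (BT.leaf 1)) (BT.leaf 1))) (BT.node (BT.node (BT.node (BT.leaf 2) (BT.leaf 1)) (BT.leaf 2)) (BT.node (BT.leaf 2) (BT.leaf 1)))))) (BT.node (BT.node (BT.node (BT.node (BT.node (BT.node (BT.leaf 2) (BT.leaf 1)) (BT.leaf 2)) (BT.node (BT.node (BT.leaf 2) (BT.leaf 1)) (BT.leaf 1))) (BT.node (BT.node (BT.node (BT.leaf 1) (BT.leaf 1)) (BT.leaf 1)) (BT.node (BT.leaf 1) (BT.leaf 1)))) (BT.node (BT.node (BT.node (BT.node (BT.leaf 1) (BT.leaf 2)) (BT.leaf 2)) (BT.node (BT.node (BT.leaf 1) (BT.leaf 1)) (BT.leaf 2))) (BT.node (BT.node (BT.node (BT.leaf 2) (BT.leaf 1)) (BT.leaf 2)) (BT.node (BT.leaf 1) (BT.leaf 2))))) (BT.node (BT.node (BT.node (BT.node (BT.node (BT.leaf 2) (BT.leaf 1)) (BT.leaf 2)) (BT.node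 (BT.node (BT.leaf 2) (BT.leaf 2)) (BT.leaf 2))) (BT.node (BT.node (BT.node (BT.leaf 2) (BT.leaf 1)) (BT.leaf 1)) (BT.node (BT.leaf 1) (BT.leaf 2)))) (BT.node (BT.node (BT.node (BT.node (BT.leaf 1) (BT.leaf 1)) (BT.leaf 2)) (BT.node (BT.node (BT.leaf 1) (BT.leaf 2)) (BT.leaf 1))) (BT.node (BT.node (BT.node (BT.leaf 2) (BT.leaf 1)) (BT.leaf 1)) (BT.node (BT.leaf 2) (BT.leaf 1)))))))) (BT.node (BT.node (BT.node (BT.node (BT.node (BT.node (BT.node (BT.node (BT.leaf 2) (BT.leaf 1)) (BT.leaf 2)) (BT.node (BT.node (BT.leaf 2) (BT.leaf 1)) (BT.leaf 2))) (BT.node (BT.node (BT.node (BT.leaf 2) (BT.leaf 1)) (BT.leaf 1)) (BT.node (BT.leaf 1) (BT.leaf 1)))) (BT.node (BT.node (BT.node (BT.node (BT.leaf 1) (BT.leaf 1)) (BT.leaf 2)) (BT.node (BT.node (BT.leaf 2) (BT.leaf 1)) (BT.leaf 1))) (BT.node (BT.node (BT.node (BT.leaf 2) (BT.leaf 1)) (BT.leaf 1)) (BT.node (BT.leaf 1)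 (BT.leaf 2))))) (BT.node (BT.node (BT.node (BT.node (BT.node (BT.leaf 2) (BT.leaf 2)) (BT.leaf 2)) (BT.node (BT.node (BT.leaf 1) (BT.leaf 2)) (BT.leaf 1))) (BT.node (BT.node (BT.node (BT.leaf 1) (BT.leaf 1)) (BT.leaf 2)) (BT.node (BT.leaf 2) (BT.leaf 2)))) (BT.node (BT.node (BT.node (BT.node (BT.leaf 2) (BT.leaf 1)) (BT.leaf 1)) (BT.node (BT.node (BT.leaf 2) (BT.leaf 1)) (BT.leaf 2))) (BT.node (BT.node (BT.node (BT.leaf 1) (BT.leaf 2)) (BT.leaf 2)) (BT.node (BT.leaf 2) (BT.leaf 1)))))) (BT.node (BT.node (BT.node (BT.node (BT.node (BT.node (BT.leaf 1) (BT.leaf 1)) (BT.leaf 2)) (BT.node (BT.node (BT.leaf 1) (BT.leaf 2)) (BT.leaf 2))) (BT.node (BT.node (BT.node (BT.leaf 2) (BT.leaf 1)) (BT.leaf 2)) (BT.node (BT.leaf 2) (BT.leaf 1)))) (BT.node (BT.node (BT.node (BT.node (BT.leaf 2) (BT.leaf 1)) (BT.leaf 1)) (BT.node (BT.node (BT.leaf 1) (BT.leaf 1)) (BT.leaf 2)))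 (BT.node (BT.node (BT.node (BT.leaf 2) (BT.leaf 2)) (BT.leaf 2)) (BT.node (BT.leaf 2) (BT.leaf 1))))) (BT.node (BT.node (BT.node (BT.node (BT.node (BT.leaf 2) (BT.leaf 2)) (BT.leaf 1)) (BT.node (BT.node (BT.leaf 1) (BT.leaf 1)) (BT.leaf 2))) (BT.node (BT.node (BT.node (BT.leaf 2) (BT.leaf 1)) (BT.leaf 2)) (BT.node (BT.leaf 2) (BT.leaf 2)))) (BT.node (BT.node (BT.node (BT.node (BT.leaf 1) (BT.leaf 1)) (BT.leaf 2)) (BT.node (BT.node (BT.leaf 1) (BT.leaf 2)) (BT.leaf 2))) (BT.node (BT.node (BT.node (BT.leaf 2) (BT.leaf 1)) (BT.leaf 2)) (BT.node (BT.leaf 2) (BT.leaf 2))))))) (BT.node (BT.node (BT.node (BT.node (BT.node (BT.node (BT.node (BT.leaf 1) (BT.leaf 2)) (BT.leaf 2)) (BT.node (BT.node (BT.leaf 1) (BT.leaf 1)) (BT.leaf 2))) (BT.node (BT.node (BT.node (BT.leaf 2) (BT.leaf 2)) (BT.leaf 1)) (BT.node (BT.leaf 2) (BT.leaf 1)))) (BT.node (BT.node (BT.node (BT.node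 (BT.leaf 2) (BT.leaf 1)) (BT.leaf 2)) (BT.node (BT.node (BT.leaf 2) (BT.leaf 2)) (BT.leaf 1))) (BT.node (BT.node (BT.node (BT.leaf 1) (BT.leaf 1)) (BT.leaf 2)) (BT.node (BT.leaf 2) (BT.leaf 2))))) (BT.node (BT.node (BT.node (BT.node (BT.node (BT.leaf 2) (BT.leaf 2)) (BT.leaf 2)) (BT.node (BT.node (BT.leaf 2) (BT.leaf 1)) (BT.leaf 1))) (BT.node (BT.node (BT.node (BT.leaf 1) (BT.leaf 1)) (BT.leaf 2)) (BT.node (BT.leaf 1) (BT.leaf 1)))) (BT.node (BT.node (BT.node (BT.node (BT.leaf 2) (BT.leaf 1)) (BT.leaf 1)) (BT.node (BT.node (BT.leaf 1) (BT.leaf 1)) (BT.leaf 2))) (BT.node (BT.node (BT.node (BT.leaf 1) (BT.leaf 1)) (BT.leaf 1)) (BT.node (BT.leaf 2) (BT.leaf 2)))))) (BT.node (BT.node (BT.node (BT.node (BT.node (BT.node (BT.leaf 1) (BT.leaf 1)) (BT.leaf 2)) (BT.node (BT.node (BT.leaf 1) (BT.leaf 1)) (BT.leaf 2))) (BT.node (BT.node (BT.node (BT.leaf 2) (BT.leaf 1))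 (BT.leaf 1)) (BT.node (BT.leaf 2) (BT.leaf 2)))) (BT.node (BT.node (BT.node (BT.node (BT.leaf 2) (BT.leaf 2)) (BT.leaf 1)) (BT.node (BT.node (BT.leaf 2) (BT.leaf 1)) (BT.leaf 1))) (BT.node (BT.node (BT.node (BT.leaf 2) (BT.leaf 2)) (BT.leaf 1)) (BT.node (BT.leaf 2) (BT.leaf 1))))) (BT.node (BT.node (BT.node (BT.node (BT.node (BT.leaf 1) (BT.leaf 1)) (BT.leaf 2)) (BT.node (BT.node (BT.leaf 1) (BT.leaf 1)) (BT.leaf 1))) (BT.node (BT.node (BT.node (BT.leaf 2) (BT.leaf 2)) (BT.leaf 1)) (BT.node (BT.leaf 1) (BT.leaf 1)))) (BT.node (BT.node (BT.node (BT.node (BT.leaf 2) (BT.leaf 2)) (BT.leaf 1)) (BT.node (BT.leaf 2) (BT.leaf 1))) (BT.node (BT.node (BT.node (BT.leaf 2) (BT.leaf 2)) (BT.leaf 2)) (BT.node (BT.leaf 1) (BT.leaf 2))))))))),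
  (BT.node (BT.node (BT.node (BT.node (BT.node (BT.node (BT.node (BT.node (BT.node (BT.leaf 2) (BT.leaf 1)) (BT.leaf 1)) (BT.node (BT.node (BT.leaf 1) (BT.leaf 1)) (BT.leaf 1))) (BT.node (BT.node (BT.node (BT.leaf 1) (BT.leaf 1)) (BT.leaf 1)) (BT.node (BT.leaf 1) (BT.leaf 1)))) (BT.node (BT.node (BT.node (BT.node (BT.leaf 1) (BT.leaf 1)) (BT.leaf 1)) (BT.node (BT.node (BT.leaf 1) (BT.leaf 1)) (BT.leaf 1))) (BT.node (BT.node (BT.node (BT.leaf 1) (BT.leaf 1)) (BT.leaf 1)) (BT.node (BT.leaf 1) (BT.leaf 1))))) (BT.node (BT.node (BT.node (BT.node (BT.node (BT.leaf 2) (BT.leaf 1)) (BT.leaf 1)) (BT.node (BT.node (BT.leaf 1) (BT.leaf 1)) (BT.leaf 1))) (BT.node (BT.node (BT.node (BT.leaf 2) (BT.leaf 1)) (BT.leaf 1)) (BT.node (BT.leaf 1) (BT.leaf 1)))) (BT.node (BT.node (BT.node (BT.node (BT.leaf 2) (BT.leaf 1)) (BT.leaf 1)) (BT.node (BT.node (BT.leaf 1) (BT.leaf 1))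 (BT.leaf 1))) (BT.node (BT.node (BT.node (BT.leaf 1) (BT.leaf 1)) (BT.leaf 1)) (BT.node (BT.leaf 1) (BT.leaf 1)))))) (BT.node (BT.node (BT.node (BT.node (BT.node (BT.node (BT.leaf 1) (BT.leaf 1)) (BT.leaf 1)) (BT.node (BT.node (BT.leaf 1) (BT.leaf 1)) (BT.leaf 1))) (BT.node (BT.node (BT.node (BT.leaf 1) (BT.leaf 1)) (BT.leaf 1)) (BT.node (BT.leaf 1) (BT.leaf 1)))) (BT.node (BT.node (BT.node (BT.node (BT.leaf 1) (BT.leaf 1)) (BT.leaf 1)) (BT.node (BT.node (BT.leaf 1) (BT.leaf 1)) (BT.leaf 1))) (BT.node (BT.node (BT.node (BT.leaf 1) (BT.leaf 1)) (BT.leaf 1)) (BT.node (BT.leaf 1) (BT.leaf 1))))) (BT.node (BT.node (BT.node (BT.node (BT.node (BT.leaf 1) (BT.leaf 1)) (BT.leaf 1)) (BT.node (BT.node (BT.leaf 1) (BT.leaf 1)) (BT.leaf 1))) (BT.node (BT.node (BT.node (BT.leaf 1) (BT.leaf 1)) (BT.leaf 1)) (BT.node (BT.leaf 1) (BT.leaf 1)))) (BT.node (BT.node (BT.node (BT.node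 (BT.leaf 1) (BT.leaf 1)) (BT.leaf 1)) (BT.node (BT.node (BT.leaf 1) (BT.leaf 1)) (BT.leaf 1))) (BT.node (BT.node (BT.node (BT.leaf 1) (BT.leaf 1)) (BT.leaf 1)) (BT.node (BT.leaf 1) (BT.leaf 1))))))) (BT.node (BT.node (BT.node (BT.node (BT.node (BT.node (BT.node (BT.leaf 2) (BT.leaf 1)) (BT.leaf 1)) (BT.node (BT.node (BT.leaf 1) (BT.leaf 1)) (BT.leaf 1))) (BT.node (BT.node (BT.node (BT.leaf 1) (BT.leaf 1)) (BT.leaf 1)) (BT.node (BT.leaf 1) (BT.leaf 1)))) (BT.node (BT.node (BT.node (BT.node (BT.leaf 1) (BT.leaf 1)) (BT.leaf 1)) (BT.node (BT.node (BT.leaf 1) (BT.leaf 1)) (BT.leaf 1))) (BT.node (BT.node (BT.node (BT.leaf 1) (BT.leaf 1)) (BT.leaf 2)) (BT.node (BT.leaf 1) (BT.leaf 1))))) (BT.node (BT.node (BT.node (BT.node (BT.node (BT.leaf 1) (BT.leaf 1)) (BT.leaf 1)) (BT.node (BT.node (BT.leaf 1) (BT.leaf 1)) (BT.leaf 1))) (BT.node (BT.node (BT.node (BT.leaf 1)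 (BT.leaf 1)) (BT.leaf 1)) (BT.node (BT.leaf 1) (BT.leaf 1)))) (BT.node (BT.node (BT.node (BT.node (BT.leaf 1) (BT.leaf 1)) (BT.leaf 1)) (BT.node (BT.node (BT.leaf 1) (BT.leaf 1)) (BT.leaf 1))) (BT.node (BT.node (BT.node (BT.leaf 1) (BT.leaf 1)) (BT.leaf 1)) (BT.node (BT.leaf 1) (BT.leaf 1)))))) (BT.node (BT.node (BT.node (BT.node (BT.node (BT.node (BT.leaf 1) (BT.leaf 1)) (BT.leaf 1)) (BT.node (BT.node (BT.leaf 1) (BT.leaf 1)) (BT.leaf 1))) (BT.node (BT.node (BT.node (BT.leaf 2) (BT.leaf 1)) (BT.leaf 1)) (BT.node (BT.leaf 1) (BT.leaf 1)))) (BT.node (BT.node (BT.node (BT.node (BT.leaf 2) (BT.leaf 1)) (BT.leaf 1)) (BT.node (BT.node (BT.leaf 1) (BT.leaf 1)) (BT.leaf 1))) (BT.node (BT.node (BT.node (BT.leaf 1) (BT.leaf 1)) (BT.leaf 1)) (BT.node (BT.leaf 1) (BT.leaf 1))))) (BT.node (BT.node (BT.node (BT.node (BT.node (BT.leaf 1) (BT.leaf 1)) (BT.leaf 1)) (BT.node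 (BT.node (BT.leaf 1) (BT.leaf 1)) (BT.leaf 1))) (BT.node (BT.node (BT.node (BT.leaf 1) (BT.leaf 1)) (BT.leaf 1)) (BT.node (BT.leaf 1) (BT.leaf 1)))) (BT.node (BT.node (BT.node (BT.node (BT.leaf 1) (BT.leaf 1)) (BT.leaf 1)) (BT.node (BT.node (BT.leaf 1) (BT.leaf 1)) (BT.leaf 1))) (BT.node (BT.node (BT.node (BT.leaf 1) (BT.leaf 1)) (BT.leaf 1)) (BT.node (BT.leaf 2) (BT.leaf 1)))))))) (BT.node (BT.node (BT.node (BT.node (BT.node (BT.node (BT.node (BT.node (BT.leaf 1) (BT.leaf 1)) (BT.leaf 1)) (BT.node (BT.node (BT.leaf 1) (BT.leaf 1)) (BT.leaf 1))) (BT.node (BT.node (BT.node (BT.leaf 1) (BT.leaf 1)) (BT.leaf 1)) (BT.node (BT.leaf 1) (BT.leaf 1)))) (BT.node (BT.node (BT.node (BT.node (BT.leaf 1) (BT.leaf 1)) (BT.leaf 1)) (BT.node (BT.node (BT.leaf 1) (BT.leaf 1)) (BT.leaf 1))) (BT.node (BT.node (BT.node (BT.leaf 1) (BT.leaf 1)) (BT.leaf 1)) (BT.node (BT.leaf 1)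 (BT.leaf 1))))) (BT.node (BT.node (BT.node (BT.node (BT.node (BT.leaf 1) (BT.leaf 1)) (BT.leaf 1)) (BT.node (BT.node (BT.leaf 1) (BT.leaf 1)) (BT.leaf 1))) (BT.node (BT.node (BT.node (BT.leaf 2) (BT.leaf 1)) (BT.leaf 1)) (BT.node (BT.leaf 1) (BT.leaf 1)))) (BT.node (BT.node (BT.node (BT.node (BT.leaf 1) (BT.leaf 1)) (BT.leaf 1)) (BT.node (BT.node (BT.leaf 1) (BT.leaf 1)) (BT.leaf 1))) (BT.node (BT.node (BT.node (BT.leaf 1) (BT.leaf 1)) (BT.leaf 1)) (BT.node (BT.leaf 1) (BT.leaf 1)))))) (BT.node (BT.node (BT.node (BT.node (BT.node (BT.node (BT.leaf 2) (BT.leaf 1)) (BT.leaf 1)) (BT.node (BT.node (BT.leaf 1) (BT.leaf 1)) (BT.leaf 1))) (BT.node (BT.node (BT.node (BT.leaf 1) (BT.leaf 1)) (BT.leaf 1)) (BT.node (BT.leaf 1) (BT.leaf 1)))) (BT.node (BT.node (BT.node (BT.node (BT.leaf 1) (BT.leaf 1)) (BT.leaf 1)) (BT.node (BT.node (BT.leaf 1) (BT.leaf 1)) (BT.leaf 1)))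 (BT.node (BT.node (BT.node (BT.leaf 1) (BT.leaf 1)) (BT.leaf 1)) (BT.node (BT.leaf 1) (BT.leaf 1))))) (BT.node (BT.node (BT.node (BT.node (BT.node (BT.leaf 1) (BT.leaf 1)) (BT.leaf 1)) (BT.node (BT.node (BT.leaf 1) (BT.leaf 1)) (BT.leaf 1))) (BT.node (BT.node (BT.node (BT.leaf 1) (BT.leaf 1)) (BT.leaf 1)) (BT.node (BT.leaf 1) (BT.leaf 1)))) (BT.node (BT.node (BT.node (BT.node (BT.leaf 1) (BT.leaf 1)) (BT.leaf 1)) (BT.node (BT.node (BT.leaf 1) (BT.leaf 1)) (BT.leaf 1))) (BT.node (BT.node (BT.node (BT.leaf 1) (BT.leaf 1)) (BT.leaf 1)) (BT.node (BT.leaf 1) (BT.leaf 1))))))) (BT.node (BT.node (BT.node (BT.node (BT.node (BT.node (BT.node (BT.leaf 1) (BT.leaf 1)) (BT.leaf 1)) (BT.node (BT.node (BT.leaf 1) (BT.leaf 1)) (BT.leaf 1))) (BT.node (BT.node (BT.node (BT.leaf 1) (BT.leaf 1)) (BT.leaf 2)) (BT.node (BT.leaf 1) (BT.leaf 1)))) (BT.node (BT.node (BT.node (BT.node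 (BT.leaf 1) (BT.leaf 1)) (BT.leaf 1)) (BT.node (BT.node (BT.leaf 1) (BT.leaf 1)) (BT.leaf 1))) (BT.node (BT.node (BT.node (BT.leaf 1) (BT.leaf 1)) (BT.leaf 1)) (BT.node (BT.leaf 1) (BT.leaf 1))))) (BT.node (BT.node (BT.node (BT.node (BT.node (BT.leaf 1) (BT.leaf 1)) (BT.leaf 1)) (BT.node (BT.node (BT.leaf 1) (BT.leaf 1)) (BT.leaf 1))) (BT.node (BT.node (BT.node (BT.leaf 1) (BT.leaf 1)) (BT.leaf 1)) (BT.node (BT.leaf 1) (BT.leaf 1)))) (BT.node (BT.node (BT.node (BT.node (BT.leaf 1) (BT.leaf 1)) (BT.leaf 1)) (BT.node (BT.node (BT.leaf 1) (BT.leaf 1)) (BT.leaf 1))) (BT.node (BT.node (BT.node (BT.leaf 1) (BT.leaf 1)) (BT.leaf 1)) (BT.node (BT.leaf 1) (BT.leaf 1)))))) (BT.node (BT.node (BT.node (BT.node (BT.node (BT.node (BT.leaf 2) (BT.leaf 1)) (BT.leaf 1)) (BT.node (BT.node (BT.leaf 1) (BT.leaf 1)) (BT.leaf 1))) (BT.node (BT.node (BT.node (BT.leaf 1) (BT.leaf 1))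 (BT.leaf 1)) (BT.node (BT.leaf 1) (BT.leaf 1)))) (BT.node (BT.node (BT.node (BT.node (BT.leaf 2) (BT.leaf 1)) (BT.leaf 1)) (BT.node (BT.node (BT.leaf 1) (BT.leaf 1)) (BT.leaf 1))) (BT.node (BT.node (BT.node (BT.leaf 1) (BT.leaf 2)) (BT.leaf 1)) (BT.node (BT.leaf 2) (BT.leaf 1))))) (BT.node (BT.node (BT.node (BT.node (BT.node (BT.leaf 1) (BT.leaf 1)) (BT.leaf 1)) (BT.node (BT.node (BT.leaf 1) (BT.leaf 1)) (BT.leaf 1))) (BT.node (BT.node (BT.node (BT.leaf 1) (BT.leaf 1)) (BT.leaf 1)) (BT.node (BT.leaf 2) (BT.leaf 1)))) (BT.node (BT.node (BT.node (BT.node (BT.leaf 1) (BT.leaf 1)) (BT.leaf 1)) (BT.node (BT.leaf 1) (BT.leaf 1))) (BT.node (BT.node (BT.node (BT.leaf 1) (BT.leaf 1)) (BT.leaf 1)) (BT.node (BT.leaf 2) (BT.leaf 1))))))))),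
  (BT.node (BT.node (BT.node (BT.node (BT.node (BT.node (BT.node (BT.node (BT.node (BT.leaf 1) (BT.leaf 1)) (BT.leaf 1)) (BT.node (BT.node (BT.leaf 1) (BT.leaf 1)) (BT.leaf 1))) (BT.node (BT.node (BT.node (BT.leaf 1) (BT.leaf 1)) (BT.leaf 1)) (BT.node (BT.leaf 1) (BT.leaf 1)))) (BT.node (BT.node (BT.node (BT.node (BT.leaf 1) (BT.leaf 1)) (BT.leaf 1)) (BT.node (BT.node (BT.leaf 1) (BT.leaf 1)) (BT.leaf 1))) (BT.node (BT.node (BT.node (BT.leaf 1) (BT.leaf 1)) (BT.leaf 1)) (BT.node (BT.leaf 1) (BT.leaf 1))))) (BT.node (BT.node (BT.node (BT.node (BT.node (BT.leaf 1) (BT.leaf 1)) (BT.leaf 1)) (BT.node (BT.node (BT.leaf 1) (BT.leaf 1)) (BT.leaf 1))) (BT.node (BT.node (BT.node (BT.leaf 1) (BT.leaf 1)) (BT.leaf 1)) (BT.node (BT.leaf 1) (BT.leaf 1)))) (BT.node (BT.node (BT.node (BT.node (BT.leaf 1) (BT.leaf 1)) (BT.leaf 1)) (BT.node (BT.node (BT.leaf 1) (BT.leaf 1))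 (BT.leaf 1))) (BT.node (BT.node (BT.node (BT.leaf 1) (BT.leaf 1)) (BT.leaf 1)) (BT.node (BT.leaf 1) (BT.leaf 1)))))) (BT.node (BT.node (BT.node (BT.node (BT.node (BT.node (BT.leaf 1) (BT.leaf 1)) (BT.leaf 1)) (BT.node (BT.node (BT.leaf 1) (BT.leaf 1)) (BT.leaf 1))) (BT.node (BT.node (BT.node (BT.leaf 1) (BT.leaf 1)) (BT.leaf 1)) (BT.node (BT.leaf 1) (BT.leaf 1)))) (BT.node (BT.node (BT.node (BT.node (BT.leaf 1) (BT.leaf 1)) (BT.leaf 1)) (BT.node (BT.node (BT.leaf 1) (BT.leaf 1)) (BT.leaf 1))) (BT.node (BT.node (BT.node (BT.leaf 1) (BT.leaf 1)) (BT.leaf 1)) (BT.node (BT.leaf 1) (BT.leaf 1))))) (BT.node (BT.node (BT.node (BT.node (BT.node (BT.leaf 1) (BT.leaf 1)) (BT.leaf 1)) (BT.node (BT.node (BT.leaf 1) (BT.leaf 1)) (BT.leaf 1))) (BT.node (BT.node (BT.node (BT.leaf 1) (BT.leaf 1)) (BT.leaf 1)) (BT.node (BT.leaf 1) (BT.leaf 1)))) (BT.node (BT.node (BT.node (BT.node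 (BT.leaf 1) (BT.leaf 1)) (BT.leaf 1)) (BT.node (BT.node (BT.leaf 1) (BT.leaf 1)) (BT.leaf 1))) (BT.node (BT.node (BT.node (BT.leaf 1) (BT.leaf 1)) (BT.leaf 1)) (BT.node (BT.leaf 1) (BT.leaf 1))))))) (BT.node (BT.node (BT.node (BT.node (BT.node (BT.node (BT.node (BT.leaf 1) (BT.leaf 1)) (BT.leaf 1)) (BT.node (BT.node (BT.leaf 1) (BT.leaf 1)) (BT.leaf 1))) (BT.node (BT.node (BT.node (BT.leaf 1) (BT.leaf 1)) (BT.leaf 1)) (BT.node (BT.leaf 1) (BT.leaf 1)))) (BT.node (BT.node (BT.node (BT.node (BT.leaf 1) (BT.leaf 1)) (BT.leaf 1)) (BT.node (BT.node (BT.leaf 1) (BT.leaf 1)) (BT.leaf 1))) (BT.node (BT.node (BT.node (BT.leaf 1) (BT.leaf 1)) (BT.leaf 1)) (BT.node (BT.leaf 1) (BT.leaf 1))))) (BT.node (BT.node (BT.node (BT.node (BT.node (BT.leaf 1) (BT.leaf 1)) (BT.leaf 1)) (BT.node (BT.node (BT.leaf 1) (BT.leaf 1)) (BT.leaf 1))) (BT.node (BT.node (BT.node (BT.leaf 1)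 (BT.leaf 1)) (BT.leaf 1)) (BT.node (BT.leaf 1) (BT.leaf 1)))) (BT.node (BT.node (BT.node (BT.node (BT.leaf 1) (BT.leaf 1)) (BT.leaf 1)) (BT.node (BT.node (BT.leaf 1) (BT.leaf 1)) (BT.leaf 1))) (BT.node (BT.node (BT.node (BT.leaf 1) (BT.leaf 1)) (BT.leaf 1)) (BT.node (BT.leaf 1) (BT.leaf 1)))))) (BT.node (BT.node (BT.node (BT.node (BT.node (BT.node (BT.leaf 1) (BT.leaf 1)) (BT.leaf 1)) (BT.node (BT.node (BT.leaf 1) (BT.leaf 1)) (BT.leaf 1))) (BT.node (BT.node (BT.node (BT.leaf 1) (BT.leaf 1)) (BT.leaf 1)) (BT.node (BT.leaf 1) (BT.leaf 1)))) (BT.node (BT.node (BT.node (BT.node (BT.leaf 1) (BT.leaf 1)) (BT.leaf 1)) (BT.node (BT.node (BT.leaf 1) (BT.leaf 1)) (BT.leaf 1))) (BT.node (BT.node (BT.node (BT.leaf 1) (BT.leaf 1)) (BT.leaf 1)) (BT.node (BT.leaf 1) (BT.leaf 1))))) (BT.node (BT.node (BT.node (BT.node (BT.node (BT.leaf 1) (BT.leaf 1)) (BT.leaf 1)) (BT.node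 (BT.node (BT.leaf 1) (BT.leaf 1)) (BT.leaf 1))) (BT.node (BT.node (BT.node (BT.leaf 1) (BT.leaf 1)) (BT.leaf 1)) (BT.node (BT.leaf 1) (BT.leaf 1)))) (BT.node (BT.node (BT.node (BT.node (BT.leaf 1) (BT.leaf 1)) (BT.leaf 1)) (BT.node (BT.node (BT.leaf 1) (BT.leaf 1)) (BT.leaf 1))) (BT.node (BT.node (BT.node (BT.leaf 1) (BT.leaf 1)) (BT.leaf 1)) (BT.node (BT.leaf 1) (BT.leaf 1)))))))) (BT.node (BT.node (BT.node (BT.node (BT.node (BT.node (BT.node (BT.node (BT.leaf 1) (BT.leaf 1)) (BT.leaf 1)) (BT.node (BT.node (BT.leaf 1) (BT.leaf 1)) (BT.leaf 1))) (BT.node (BT.node (BT.node (BT.leaf 1) (BT.leaf 1)) (BT.leaf 1)) (BT.node (BT.leaf 1) (BT.leaf 1)))) (BT.node (BT.node (BT.node (BT.node (BT.leaf 1) (BT.leaf 1)) (BT.leaf 1)) (BT.node (BT.node (BT.leaf 1) (BT.leaf 1)) (BT.leaf 1))) (BT.node (BT.node (BT.node (BT.leaf 1) (BT.leaf 1)) (BT.leaf 1)) (BT.node (BT.leaf 1)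 (BT.leaf 1))))) (BT.node (BT.node (BT.node (BT.node (BT.node (BT.leaf 1) (BT.leaf 1)) (BT.leaf 1)) (BT.node (BT.node (BT.leaf 1) (BT.leaf 1)) (BT.leaf 1))) (BT.node (BT.node (BT.node (BT.leaf 1) (BT.leaf 1)) (BT.leaf 1)) (BT.node (BT.leaf 1) (BT.leaf 1)))) (BT.node (BT.node (BT.node (BT.node (BT.leaf 1) (BT.leaf 1)) (BT.leaf 1)) (BT.node (BT.node (BT.leaf 1) (BT.leaf 1)) (BT.leaf 1))) (BT.node (BT.node (BT.node (BT.leaf 1) (BT.leaf 1)) (BT.leaf 1)) (BT.node (BT.leaf 1) (BT.leaf 1)))))) (BT.node (BT.node (BT.node (BT.node (BT.node (BT.node (BT.leaf 1) (BT.leaf 1)) (BT.leaf 1)) (BT.node (BT.node (BT.leaf 1) (BT.leaf 1)) (BT.leaf 1))) (BT.node (BT.node (BT.node (BT.leaf 1) (BT.leaf 1)) (BT.leaf 1)) (BT.node (BT.leaf 1) (BT.leaf 1)))) (BT.node (BT.node (BT.node (BT.node (BT.leaf 1) (BT.leaf 1)) (BT.leaf 1)) (BT.node (BT.node (BT.leaf 1) (BT.leaf 1)) (BT.leaf 1)))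 (BT.node (BT.node (BT.node (BT.leaf 1) (BT.leaf 1)) (BT.leaf 1)) (BT.node (BT.leaf 1) (BT.leaf 1))))) (BT.node (BT.node (BT.node (BT.node (BT.node (BT.leaf 1) (BT.leaf 1)) (BT.leaf 1)) (BT.node (BT.node (BT.leaf 1) (BT.leaf 1)) (BT.leaf 1))) (BT.node (BT.node (BT.node (BT.leaf 1) (BT.leaf 1)) (BT.leaf 1)) (BT.node (BT.leaf 1) (BT.leaf 1)))) (BT.node (BT.node (BT.node (BT.node (BT.leaf 1) (BT.leaf 1)) (BT.leaf 1)) (BT.node (BT.node (BT.leaf 1) (BT.leaf 1)) (BT.leaf 1))) (BT.node (BT.node (BT.node (BT.leaf 1) (BT.leaf 1)) (BT.leaf 1)) (BT.node (BT.leaf 1) (BT.leaf 1))))))) (BT.node (BT.node (BT.node (BT.node (BT.node (BT.node (BT.node (BT.leaf 1) (BT.leaf 1)) (BT.leaf 1)) (BT.node (BT.node (BT.leaf 1) (BT.leaf 1)) (BT.leaf 1))) (BT.node (BT.node (BT.node (BT.leaf 1) (BT.leaf 1)) (BT.leaf 1)) (BT.node (BT.leaf 1) (BT.leaf 1)))) (BT.node (BT.node (BT.node (BT.node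 (BT.leaf 1) (BT.leaf 1)) (BT.leaf 1)) (BT.node (BT.node (BT.leaf 1) (BT.leaf 1)) (BT.leaf 1))) (BT.node (BT.node (BT.node (BT.leaf 1) (BT.leaf 1)) (BT.leaf 1)) (BT.node (BT.leaf 1) (BT.leaf 1))))) (BT.node (BT.node (BT.node (BT.node (BT.node (BT.leaf 1) (BT.leaf 1)) (BT.leaf 1)) (BT.node (BT.node (BT.leaf 1) (BT.leaf 1)) (BT.leaf 1))) (BT.node (BT.node (BT.node (BT.leaf 1) (BT.leaf 1)) (BT.leaf 1)) (BT.node (BT.leaf 1) (BT.leaf 1)))) (BT.node (BT.node (BT.node (BT.node (BT.leaf 1) (BT.leaf 1)) (BT.leaf 1)) (BT.node (BT.node (BT.leaf 1) (BT.leaf 1)) (BT.leaf 1))) (BT.node (BT.node (BT.node (BT.leaf 1) (BT.leaf 1)) (BT.leaf 1)) (BT.node (BT.leaf 1) (BT.leaf 1)))))) (BT.node (BT.node (BT.node (BT.node (BT.node (BT.node (BT.leaf 1) (BT.leaf 1)) (BT.leaf 1)) (BT.node (BT.node (BT.leaf 1) (BT.leaf 1)) (BT.leaf 1))) (BT.node (BT.node (BT.node (BT.leaf 1) (BT.leaf 1))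 (BT.leaf 1)) (BT.node (BT.leaf 1) (BT.leaf 1)))) (BT.node (BT.node (BT.node (BT.node (BT.leaf 1) (BT.leaf 1)) (BT.leaf 1)) (BT.node (BT.node (BT.leaf 1) (BT.leaf 1)) (BT.leaf 1))) (BT.node (BT.node (BT.node (BT.leaf 1) (BT.leaf 1)) (BT.leaf 1)) (BT.node (BT.leaf 1) (BT.leaf 1))))) (BT.node (BT.node (BT.node (BT.node (BT.node (BT.leaf 1) (BT.leaf 1)) (BT.leaf 1)) (BT.node (BT.node (BT.leaf 1) (BT.leaf 1)) (BT.leaf 1))) (BT.node (BT.node (BT.node (BT.leaf 1) (BT.leaf 1)) (BT.leaf 1)) (BT.node (BT.leaf 1) (BT.leaf 1)))) (BT.node (BT.node (BT.node (BT.node (BT.leaf 1) (BT.leaf 1)) (BT.leaf 1)) (BT.node (BT.leaf 1) (BT.leaf 1))) (BT.node (BT.node (BT.node (BT.leaf 1) (BT.leaf 1)) (BT.leaf 1)) (BT.node (BT.leaf 1) (BT.leaf 1))))))))),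
  (BT.node (BT.node (BT.node (BT.node (BT.node (BT.node (BT.node (BT.node (BT.node (BT.leaf 1) (BT.leaf 1)) (BT.leaf 1)) (BT.node (BT.node (BT.leaf 2) (BT.leaf 2)) (BT.leaf 2))) (BT.node (BT.node (BT.node (BT.leaf 1) (BT.leaf 2)) (BT.leaf 1)) (BT.node (BT.leaf 1) (BT.leaf 1)))) (BT.node (BT.node (BT.node (BT.node (BT.leaf 1) (BT.leaf 1)) (BT.leaf 1)) (BT.node (BT.node (BT.leaf 1) (BT.leaf 1)) (BT.leaf 1))) (BT.node (BT.node (BT.node (BT.leaf 1) (BT.leaf 2)) (BT.leaf 2)) (BT.node (BT.leaf 2) (BT.leaf 2))))) (BT.node (BT.node (BT.node (BT.node (BT.node (BT.leaf 1) (BT.leaf 1)) (BT.leaf 1)) (BT.node (BT.node (BT.leaf 2) (BT.leaf 1)) (BT.leaf 2))) (BT.node (BT.node (BT.node (BT.leaf 1) (BT.leaf 1)) (BT.leaf 1)) (BT.node (BT.leaf 1) (BT.leaf 2)))) (BT.node (BT.node (BT.node (BT.node (BT.leaf 2) (BT.leaf 1)) (BT.leaf 1)) (BT.node (BT.node (BT.leaf 2) (BT.leaf 1))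 (BT.leaf 1))) (BT.node (BT.node (BT.node (BT.leaf 2) (BT.leaf 1)) (BT.leaf 1)) (BT.node (BT.leaf 2) (BT.leaf 1)))))) (BT.node (BT.node (BT.node (BT.node (BT.node (BT.node (BT.leaf 2) (BT.leaf 2)) (BT.leaf 1)) (BT.node (BT.node (BT.leaf 2) (BT.leaf 1)) (BT.leaf 2))) (BT.node (BT.node (BT.node (BT.leaf 2) (BT.leaf 1)) (BT.leaf 2)) (BT.node (BT.leaf 1) (BT.leaf 1)))) (BT.node (BT.node (BT.node (BT.node (BT.leaf 2) (BT.leaf 1)) (BT.leaf 2)) (BT.node (BT.node (BT.leaf 2) (BT.leaf 1)) (BT.leaf 1))) (BT.node (BT.node (BT.node (BT.leaf 2) (BT.leaf 1)) (BT.leaf 2)) (BT.node (BT.leaf 1) (BT.leaf 2))))) (BT.node (BT.node (BT.node (BT.node (BT.node (BT.leaf 2) (BT.leaf 1)) (BT.leaf 2)) (BT.node (BT.node (BT.leaf 1) (BT.leaf 1)) (BT.leaf 2))) (BT.node (BT.node (BT.node (BT.leaf 2) (BT.leaf 2)) (BT.leaf 1)) (BT.node (BT.leaf 2) (BT.leaf 2)))) (BT.node (BT.node (BT.node (BT.node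 (BT.leaf 2) (BT.leaf 2)) (BT.leaf 1)) (BT.node (BT.node (BT.leaf 2) (BT.leaf 2)) (BT.leaf 1))) (BT.node (BT.node (BT.node (BT.leaf 2) (BT.leaf 1)) (BT.leaf 1)) (BT.node (BT.leaf 1) (BT.leaf 1))))))) (BT.node (BT.node (BT.node (BT.node (BT.node (BT.node (BT.node (BT.leaf 2) (BT.leaf 1)) (BT.leaf 1)) (BT.node (BT.node (BT.leaf 2) (BT.leaf 1)) (BT.leaf 2))) (BT.node (BT.node (BT.node (BT.leaf 2) (BT.leaf 2)) (BT.leaf 2)) (BT.node (BT.leaf 2) (BT.leaf 1)))) (BT.node (BT.node (BT.node (BT.node (BT.leaf 1) (BT.leaf 1)) (BT.leaf 2)) (BT.node (BT.node (BT.leaf 2) (BT.leaf 1)) (BT.leaf 1))) (BT.node (BT.node (BT.node (BT.leaf 1) (BT.leaf 2)) (BT.leaf 1)) (BT.node (BT.leaf 2) (BT.leaf 2))))) (BT.node (BT.node (BT.node (BT.node (BT.node (BT.leaf 2) (BT.leaf 1)) (BT.leaf 2)) (BT.node (BT.node (BT.leaf 1) (BT.leaf 2)) (BT.leaf 1))) (BT.node (BT.node (BT.node (BT.leaf 2)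 (BT.leaf 1)) (BT.leaf 2)) (BT.node (BT.leaf 1) (BT.leaf 2)))) (BT.node (BT.node (BT.node (BT.node (BT.leaf 1) (BT.leaf 1)) (BT.leaf 1)) (BT.node (BT.node (BT.leaf 1) (BT.leaf 1)) (BT.leaf 1))) (BT.node (BT.node (BT.node (BT.leaf 2) (BT.leaf 1)) (BT.leaf 2)) (BT.node (BT.leaf 1) (BT.leaf 2)))))) (BT.node (BT.node (BT.node (BT.node (BT.node (BT.node (BT.leaf 2) (BT.leaf 1)) (BT.leaf 1)) (BT.node (BT.node (BT.leaf 1) (BT.leaf 1)) (BT.leaf 1))) (BT.node (BT.node (BT.node (BT.leaf 1) (BT.leaf 1)) (BT.leaf 1)) (BT.node (BT.leaf 1) (BT.leaf 2)))) (BT.node (BT.node (BT.node (BT.node (BT.leaf 2) (BT.leaf 2)) (BT.leaf 2)) (BT.node (BT.node (BT.leaf 1) (BT.leaf 1)) (BT.leaf 1))) (BT.node (BT.node (BT.node (BT.leaf 2) (BT.leaf 2)) (BT.leaf 1)) (BT.node (BT.leaf 2) (BT.leaf 1))))) (BT.node (BT.node (BT.node (BT.node (BT.node (BT.leaf 2) (BT.leaf 1)) (BT.leaf 2)) (BT.node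 (BT.node (BT.leaf 1) (BT.leaf 1)) (BT.leaf 1))) (BT.node (BT.node (BT.node (BT.leaf 2) (BT.leaf 2)) (BT.leaf 1)) (BT.node (BT.leaf 2) (BT.leaf 1)))) (BT.node (BT.node (BT.node (BT.node (BT.leaf 1) (BT.leaf 2)) (BT.leaf 2)) (BT.node (BT.node (BT.leaf 1) (BT.leaf 1)) (BT.leaf 1))) (BT.node (BT.node (BT.node (BT.leaf 2) (BT.leaf 2)) (BT.leaf 1)) (BT.node (BT.leaf 2) (BT.leaf 1)))))))) (BT.node (BT.node (BT.node (BT.node (BT.node (BT.node (BT.node (BT.node (BT.leaf 2) (BT.leaf 1)) (BT.leaf 2)) (BT.node (BT.node (BT.leaf 2) (BT.leaf 1)) (BT.leaf 1))) (BT.node (BT.node (BT.node (BT.leaf 2) (BT.leaf 2)) (BT.leaf 2)) (BT.node (BT.leaf 2) (BT.leaf 2)))) (BT.node (BT.node (BT.node (BT.node (BT.leaf 1) (BT.leaf 2)) (BT.leaf 2)) (BT.node (BT.node (BT.leaf 1) (BT.leaf 1)) (BT.leaf 2))) (BT.node (BT.node (BT.node (BT.leaf 2) (BT.leaf 2)) (BT.leaf 2)) (BT.node (BT.leaf 2)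 (BT.leaf 2))))) (BT.node (BT.node (BT.node (BT.node (BT.node (BT.leaf 2) (BT.leaf 1)) (BT.leaf 1)) (BT.node (BT.node (BT.leaf 1) (BT.leaf 2)) (BT.leaf 1))) (BT.node (BT.node (BT.node (BT.leaf 1) (BT.leaf 1)) (BT.leaf 1)) (BT.node (BT.leaf 1) (BT.leaf 1)))) (BT.node (BT.node (BT.node (BT.node (BT.leaf 1) (BT.leaf 1)) (BT.leaf 1)) (BT.node (BT.node (BT.leaf 2) (BT.leaf 1)) (BT.leaf 1))) (BT.node (BT.node (BT.node (BT.leaf 1) (BT.leaf 1)) (BT.leaf 1)) (BT.node (BT.leaf 1) (BT.leaf 1)))))) (BT.node (BT.node (BT.node (BT.node (BT.node (BT.node (BT.leaf 1) (BT.leaf 1)) (BT.leaf 2)) (BT.node (BT.node (BT.leaf 2) (BT.leaf 2)) (BT.leaf 2))) (BT.node (BT.node (BT.node (BT.leaf 2) (BT.leaf 1)) (BT.leaf 2)) (BT.node (BT.leaf 1) (BT.leaf 2)))) (BT.node (BT.node (BT.node (BT.node (BT.leaf 1) (BT.leaf 1)) (BT.leaf 1)) (BT.node (BT.node (BT.leaf 1) (BT.leaf 1)) (BT.leaf 2)))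 (BT.node (BT.node (BT.node (BT.leaf 2) (BT.leaf 1)) (BT.leaf 2)) (BT.node (BT.leaf 2) (BT.leaf 2))))) (BT.node (BT.node (BT.node (BT.node (BT.node (BT.leaf 1) (BT.leaf 1)) (BT.leaf 1)) (BT.node (BT.node (BT.leaf 2) (BT.leaf 1)) (BT.leaf 1))) (BT.node (BT.node (BT.node (BT.leaf 2) (BT.leaf 2)) (BT.leaf 2)) (BT.node (BT.leaf 1) (BT.leaf 2)))) (BT.node (BT.node (BT.node (BT.node (BT.leaf 1) (BT.leaf 2)) (BT.leaf 1)) (BT.node (BT.node (BT.leaf 1) (BT.leaf 1)) (BT.leaf 1))) (BT.node (BT.node (BT.node (BT.leaf 2) (BT.leaf 1)) (BT.leaf 2)) (BT.node (BT.leaf 1) (BT.leaf 1))))))) (BT.node (BT.node (BT.node (BT.node (BT.node (BT.node (BT.node (BT.leaf 1) (BT.leaf 2)) (BT.leaf 1)) (BT.node (BT.node (BT.leaf 2) (BT.leaf 2)) (BT.leaf 1))) (BT.node (BT.node (BT.node (BT.leaf 2) (BT.leaf 1)) (BT.leaf 1)) (BT.node (BT.leaf 1) (BT.leaf 2)))) (BT.node (BT.node (BT.node (BT.node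 (BT.leaf 1) (BT.leaf 1)) (BT.leaf 2)) (BT.node (BT.node (BT.leaf 1) (BT.leaf 1)) (BT.leaf 1))) (BT.node (BT.node (BT.node (BT.leaf 2) (BT.leaf 1)) (BT.leaf 2)) (BT.node (BT.leaf 2) (BT.leaf 1))))) (BT.node (BT.node (BT.node (BT.node (BT.node (BT.leaf 2) (BT.leaf 2)) (BT.leaf 2)) (BT.node (BT.node (BT.leaf 1) (BT.leaf 1)) (BT.leaf 2))) (BT.node (BT.node (BT.node (BT.leaf 2) (BT.leaf 1)) (BT.leaf 2)) (BT.node (BT.leaf 2) (BT.leaf 1)))) (BT.node (BT.node (BT.node (BT.node (BT.leaf 2) (BT.leaf 2)) (BT.leaf 1)) (BT.node (BT.node (BT.leaf 2) (BT.leaf 1)) (BT.leaf 2))) (BT.node (BT.node (BT.node (BT.leaf 2) (BT.leaf 2)) (BT.leaf 1)) (BT.node (BT.leaf 1) (BT.leaf 1)))))) (BT.node (BT.node (BT.node (BT.node (BT.node (BT.node (BT.leaf 1) (BT.leaf 1)) (BT.leaf 1)) (BT.node (BT.node (BT.leaf 2) (BT.leaf 1)) (BT.leaf 2))) (BT.node (BT.node (BT.node (BT.leaf 2) (BT.leaf 1))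 (BT.leaf 1)) (BT.node (BT.leaf 2) (BT.leaf 2)))) (BT.node (BT.node (BT.node (BT.node (BT.leaf 2) (BT.leaf 1)) (BT.leaf 2)) (BT.node (BT.node (BT.leaf 2) (BT.leaf 1)) (BT.leaf 2))) (BT.node (BT.node (BT.node (BT.leaf 1) (BT.leaf 2)) (BT.leaf 2)) (BT.node (BT.leaf 2) (BT.leaf 1))))) (BT.node (BT.node (BT.node (BT.node (BT.node (BT.leaf 2) (BT.leaf 1)) (BT.leaf 2)) (BT.node (BT.node (BT.leaf 1) (BT.leaf 1)) (BT.leaf 2))) (BT.node (BT.node (BT.node (BT.leaf 2) (BT.leaf 1)) (BT.leaf 2)) (BT.node (BT.leaf 2) (BT.leaf 2)))) (BT.node (BT.node (BT.node (BT.node (BT.leaf 2) (BT.leaf 1)) (BT.leaf 1)) (BT.node (BT.leaf 2) (BT.leaf 1))) (BT.node (BT.node (BT.node (BT.leaf 2) (BT.leaf 1)) (BT.leaf 1)) (BT.node (BT.leaf 2) (BT.leaf 1))))))))),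
  (BT.node (BT.node (BT.node (BT.node (BT.node (BT.node (BT.node (BT.node (BT.node (BT.leaf 1) (BT.leaf 2)) (BT.leaf 1)) (BT.node (BT.node (BT.leaf 1) (BT.leaf 2)) (BT.leaf 2))) (BT.node (BT.node (BT.node (BT.leaf 2) (BT.leaf 2)) (BT.leaf 2)) (BT.node (BT.leaf 1) (BT.leaf 2)))) (BT.node (BT.node (BT.node (BT.node (BT.leaf 1) (BT.leaf 2)) (BT.leaf 2)) (BT.node (BT.node (BT.leaf 2) (BT.leaf 2)) (BT.leaf 2))) (BT.node (BT.node (BT.node (BT.leaf 1) (BT.leaf 2)) (BT.leaf 2)) (BT.node (BT.leaf 2) (BT.leaf 2))))) (BT.node (BT.node (BT.node (BT.node (BT.node (BT.leaf 1) (BT.leaf 2)) (BT.leaf 1)) (BT.node (BT.node (BT.leaf 2) (BT.leaf 1)) (BT.leaf 2))) (BT.node (BT.node (BT.node (BT.leaf 1) (BT.leaf 2)) (BT.leaf 2)) (BT.node (BT.leaf 1) (BT.leaf 2)))) (BT.node (BT.node (BT.node (BT.node (BT.leaf 1) (BT.leaf 1)) (BT.leaf 1)) (BT.node (BT.node (BT.leaf 2) (BT.leaf 1))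 (BT.leaf 2))) (BT.node (BT.node (BT.node (BT.leaf 1) (BT.leaf 2)) (BT.leaf 1)) (BT.node (BT.leaf 2) (BT.leaf 1)))))) (BT.node (BT.node (BT.node (BT.node (BT.node (BT.node (BT.leaf 1) (BT.leaf 2)) (BT.leaf 1)) (BT.node (BT.node (BT.leaf 1) (BT.leaf 1)) (BT.leaf 1))) (BT.node (BT.node (BT.node (BT.leaf 1) (BT.leaf 2)) (BT.leaf 1)) (BT.node (BT.leaf 2) (BT.leaf 2)))) (BT.node (BT.node (BT.node (BT.node (BT.leaf 2) (BT.leaf 1)) (BT.leaf 1)) (BT.node (BT.node (BT.leaf 2) (BT.leaf 1)) (BT.leaf 1))) (BT.node (BT.node (BT.node (BT.leaf 1) (BT.leaf 2)) (BT.leaf 2)) (BT.node (BT.leaf 1) (BT.leaf 1))))) (BT.node (BT.node (BT.node (BT.node (BT.node (BT.leaf 2) (BT.leaf 2)) (BT.leaf 1)) (BT.node (BT.node (BT.leaf 1) (BT.leaf 1)) (BT.leaf 1))) (BT.node (BT.node (BT.node (BT.leaf 1) (BT.leaf 2)) (BT.leaf 2)) (BT.node (BT.leaf 2) (BT.leaf 1)))) (BT.node (BT.node (BT.node (BT.node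 (BT.leaf 1) (BT.leaf 1)) (BT.leaf 2)) (BT.node (BT.node (BT.leaf 1) (BT.leaf 2)) (BT.leaf 1))) (BT.node (BT.node (BT.node (BT.leaf 1) (BT.leaf 2)) (BT.leaf 1)) (BT.node (BT.leaf 2) (BT.leaf 2))))))) (BT.node (BT.node (BT.node (BT.node (BT.node (BT.node (BT.node (BT.leaf 1) (BT.leaf 1)) (BT.leaf 1)) (BT.node (BT.node (BT.leaf 2) (BT.leaf 1)) (BT.leaf 2))) (BT.node (BT.node (BT.node (BT.leaf 1) (BT.leaf 1)) (BT.leaf 1)) (BT.node (BT.leaf 2) (BT.leaf 2)))) (BT.node (BT.node (BT.node (BT.node (BT.leaf 1) (BT.leaf 1)) (BT.leaf 2)) (BT.node (BT.node (BT.leaf 1) (BT.leaf 2)) (BT.leaf 1))) (BT.node (BT.node (BT.node (BT.leaf 1) (BT.leaf 2)) (BT.leaf 1)) (BT.node (BT.leaf 2) (BT.leaf 1))))) (BT.node (BT.node (BT.node (BT.node (BT.node (BT.leaf 1) (BT.leaf 1)) (BT.leaf 2)) (BT.node (BT.node (BT.leaf 2) (BT.leaf 1)) (BT.leaf 1))) (BT.node (BT.node (BT.node (BT.leaf 1)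 (BT.leaf 2)) (BT.leaf 1)) (BT.node (BT.leaf 1) (BT.leaf 1)))) (BT.node (BT.node (BT.node (BT.node (BT.leaf 1) (BT.leaf 1)) (BT.leaf 2)) (BT.node (BT.node (BT.leaf 1) (BT.leaf 2)) (BT.leaf 2))) (BT.node (BT.node (BT.node (BT.leaf 2) (BT.leaf 1)) (BT.leaf 1)) (BT.node (BT.leaf 2) (BT.leaf 1)))))) (BT.node (BT.node (BT.node (BT.node (BT.node (BT.node (BT.leaf 1) (BT.leaf 1)) (BT.leaf 2)) (BT.node (BT.node (BT.leaf 1) (BT.leaf 2)) (BT.leaf 1))) (BT.node (BT.node (BT.node (BT.leaf 1) (BT.leaf 1)) (BT.leaf 2)) (BT.node (BT.leaf 2) (BT.leaf 1)))) (BT.node (BT.node (BT.node (BT.node (BT.leaf 1) (BT.leaf 2)) (BT.leaf 1)) (BT.node (BT.node (BT.leaf 1) (BT.leaf 2)) (BT.leaf 1))) (BT.node (BT.node (BT.node (BT.leaf 2) (BT.leaf 2)) (BT.leaf 1)) (BT.node (BT.leaf 2) (BT.leaf 1))))) (BT.node (BT.node (BT.node (BT.node (BT.node (BT.leaf 1) (BT.leaf 2)) (BT.leaf 2)) (BT.node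 (BT.node (BT.leaf 1) (BT.leaf 2)) (BT.leaf 2))) (BT.node (BT.node (BT.node (BT.leaf 1) (BT.leaf 2)) (BT.leaf 1)) (BT.node (BT.leaf 2) (BT.leaf 2)))) (BT.node (BT.node (BT.node (BT.node (BT.leaf 1) (BT.leaf 2)) (BT.leaf 2)) (BT.node (BT.node (BT.leaf 1) (BT.leaf 1)) (BT.leaf 2))) (BT.node (BT.node (BT.node (BT.leaf 1) (BT.leaf 1)) (BT.leaf 1)) (BT.node (BT.leaf 1) (BT.leaf 2)))))))) (BT.node (BT.node (BT.node (BT.node (BT.node (BT.node (BT.node (BT.node (BT.leaf 1) (BT.leaf 2)) (BT.leaf 2)) (BT.node (BT.node (BT.leaf 1) (BT.leaf 1)) (BT.leaf 1))) (BT.node (BT.node (BT.node (BT.leaf 1) (BT.leaf 1)) (BT.leaf 1)) (BT.node (BT.leaf 2) (BT.leaf 2)))) (BT.node (BT.node (BT.node (BT.node (BT.leaf 2) (BT.leaf 2)) (BT.leaf 1)) (BT.node (BT.node (BT.leaf 1) (BT.leaf 2)) (BT.leaf 2))) (BT.node (BT.node (BT.node (BT.leaf 1) (BT.leaf 1)) (BT.leaf 2)) (BT.node (BT.leaf 2)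 (BT.leaf 2))))) (BT.node (BT.node (BT.node (BT.node (BT.node (BT.leaf 1) (BT.leaf 1)) (BT.leaf 1)) (BT.node (BT.node (BT.leaf 2) (BT.leaf 2)) (BT.leaf 1))) (BT.node (BT.node (BT.node (BT.leaf 1) (BT.leaf 2)) (BT.leaf 1)) (BT.node (BT.leaf 1) (BT.leaf 1)))) (BT.node (BT.node (BT.node (BT.node (BT.leaf 1) (BT.leaf 1)) (BT.leaf 1)) (BT.node (BT.node (BT.leaf 2) (BT.leaf 2)) (BT.leaf 2))) (BT.node (BT.node (BT.node (BT.leaf 2) (BT.leaf 2)) (BT.leaf 1)) (BT.node (BT.leaf 2) (BT.leaf 2)))))) (BT.node (BT.node (BT.node (BT.node (BT.node (BT.node (BT.leaf 1) (BT.leaf 2)) (BT.leaf 2)) (BT.node (BT.node (BT.leaf 2) (BT.leaf 2)) (BT.leaf 1))) (BT.node (BT.node (BT.node (BT.leaf 2) (BT.leaf 1)) (BT.leaf 1)) (BT.node (BT.leaf 1) (BT.leaf 2)))) (BT.node (BT.node (BT.node (BT.node (BT.leaf 2) (BT.leaf 1)) (BT.leaf 1)) (BT.node (BT.node (BT.leaf 1) (BT.leaf 1)) (BT.leaf 1)))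 (BT.node (BT.node (BT.node (BT.leaf 2) (BT.leaf 1)) (BT.leaf 1)) (BT.node (BT.leaf 1) (BT.leaf 1))))) (BT.node (BT.node (BT.node (BT.node (BT.node (BT.leaf 1) (BT.leaf 2)) (BT.leaf 1)) (BT.node (BT.node (BT.leaf 2) (BT.leaf 1)) (BT.leaf 2))) (BT.node (BT.node (BT.node (BT.leaf 1) (BT.leaf 2)) (BT.leaf 2)) (BT.node (BT.leaf 1) (BT.leaf 2)))) (BT.node (BT.node (BT.node (BT.node (BT.leaf 1) (BT.leaf 1)) (BT.leaf 2)) (BT.node (BT.node (BT.leaf 1) (BT.leaf 2)) (BT.leaf 2))) (BT.node (BT.node (BT.node (BT.leaf 2) (BT.leaf 2)) (BT.leaf 2)) (BT.node (BT.leaf 2) (BT.leaf 1))))))) (BT.node (BT.node (BT.node (BT.node (BT.node (BT.node (BT.node (BT.leaf 1) (BT.leaf 2)) (BT.leaf 1)) (BT.node (BT.node (BT.leaf 1) (BT.leaf 2)) (BT.leaf 1))) (BT.node (BT.node (BT.node (BT.leaf 1) (BT.leaf 2)) (BT.leaf 1)) (BT.node (BT.leaf 2) (BT.leaf 1)))) (BT.node (BT.node (BT.node (BT.node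 (BT.leaf 1) (BT.leaf 1)) (BT.leaf 1)) (BT.node (BT.node (BT.leaf 1) (BT.leaf 2)) (BT.leaf 2))) (BT.node (BT.node (BT.node (BT.leaf 2) (BT.leaf 1)) (BT.leaf 1)) (BT.node (BT.leaf 2) (BT.leaf 2))))) (BT.node (BT.node (BT.node (BT.node (BT.node (BT.leaf 1) (BT.leaf 2)) (BT.leaf 1)) (BT.node (BT.node (BT.leaf 1) (BT.leaf 1)) (BT.leaf 2))) (BT.node (BT.node (BT.node (BT.leaf 2) (BT.leaf 2)) (BT.leaf 1)) (BT.node (BT.leaf 2) (BT.leaf 1)))) (BT.node (BT.node (BT.node (BT.node (BT.leaf 1) (BT.leaf 2)) (BT.leaf 2)) (BT.node (BT.node (BT.leaf 1) (BT.leaf 1)) (BT.leaf 2))) (BT.node (BT.node (BT.node (BT.leaf 1) (BT.leaf 2)) (BT.leaf 2)) (BT.node (BT.leaf 2) (BT.leaf 2)))))) (BT.node (BT.node (BT.node (BT.node (BT.node (BT.node (BT.leaf 1) (BT.leaf 1)) (BT.leaf 1)) (BT.node (BT.node (BT.leaf 1) (BT.leaf 2)) (BT.leaf 2))) (BT.node (BT.node (BT.node (BT.leaf 1) (BT.leaf 2))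 (BT.leaf 2)) (BT.node (BT.leaf 2) (BT.leaf 2)))) (BT.node (BT.node (BT.node (BT.node (BT.leaf 1) (BT.leaf 1)) (BT.leaf 1)) (BT.node (BT.node (BT.leaf 1) (BT.leaf 1)) (BT.leaf 1))) (BT.node (BT.node (BT.node (BT.leaf 1) (BT.leaf 1)) (BT.leaf 2)) (BT.node (BT.leaf 1) (BT.leaf 2))))) (BT.node (BT.node (BT.node (BT.node (BT.node (BT.leaf 1) (BT.leaf 1)) (BT.leaf 2)) (BT.node (BT.node (BT.leaf 1) (BT.leaf 1)) (BT.leaf 2))) (BT.node (BT.node (BT.node (BT.leaf 2) (BT.leaf 1)) (BT.leaf 2)) (BT.node (BT.leaf 1) (BT.leaf 2)))) (BT.node (BT.node (BT.node (BT.node (BT.leaf 2) (BT.leaf 1)) (BT.leaf 2)) (BT.node (BT.leaf 2) (BT.leaf 2))) (BT.node (BT.node (BT.node (BT.leaf 1) (BT.leaf 2)) (BT.leaf 1)) (BT.node (BT.leaf 1) (BT.leaf 2))))))))),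
  (BT.node (BT.node (BT.node (BT.node (BT.node (BT.node (BT.node (BT.node (BT.node (BT.leaf 1) (BT.leaf 1)) (BT.leaf 2)) (BT.node (BT.node (BT.leaf 1) (BT.leaf 2)) (BT.leaf 1))) (BT.node (BT.node (BT.node (BT.leaf 1) (BT.leaf 1)) (BT.leaf 1)) (BT.node (BT.leaf 1) (BT.leaf 1)))) (BT.node (BT.node (BT.node (BT.node (BT.leaf 1) (BT.leaf 1)) (BT.leaf 2)) (BT.node (BT.node (BT.leaf 2) (BT.leaf 1)) (BT.leaf 1))) (BT.node (BT.node (BT.node (BT.leaf 2) (BT.leaf 1)) (BT.leaf 1)) (BT.node (BT.leaf 1) (BT.leaf 1))))) (BT.node (BT.node (BT.node (BT.node (BT.node (BT.leaf 1) (BT.leaf 2)) (BT.leaf 1)) (BT.node (BT.node (BT.leaf 1) (BT.leaf 1)) (BT.leaf 2))) (BT.node (BT.node (BT.node (BT.leaf 1) (BT.leaf 1)) (BT.leaf 1)) (BT.node (BT.leaf 1) (BT.leaf 2)))) (BT.node (BT.node (BT.node (BT.node (BT.leaf 1) (BT.leaf 1)) (BT.leaf 2)) (BT.node (BT.node (BT.leaf 2) (BT.leaf 1))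 (BT.leaf 1))) (BT.node (BT.node (BT.node (BT.leaf 2) (BT.leaf 1)) (BT.leaf 1)) (BT.node (BT.leaf 1) (BT.leaf 1)))))) (BT.node (BT.node (BT.node (BT.node (BT.node (BT.node (BT.leaf 1) (BT.leaf 2)) (BT.leaf 1)) (BT.node (BT.node (BT.leaf 2) (BT.leaf 1)) (BT.leaf 1))) (BT.node (BT.node (BT.node (BT.leaf 1) (BT.leaf 2)) (BT.leaf 1)) (BT.node (BT.leaf 2) (BT.leaf 1)))) (BT.node (BT.node (BT.node (BT.node (BT.leaf 1) (BT.leaf 1)) (BT.leaf 2)) (BT.node (BT.node (BT.leaf 1) (BT.leaf 1)) (BT.leaf 2))) (BT.node (BT.node (BT.node (BT.leaf 1) (BT.leaf 2)) (BT.leaf 1)) (BT.node (BT.leaf 2) (BT.leaf 2))))) (BT.node (BT.node (BT.node (BT.node (BT.node (BT.leaf 2) (BT.leaf 2)) (BT.leaf 2)) (BT.node (BT.node (BT.leaf 1) (BT.leaf 2)) (BT.leaf 1))) (BT.node (BT.node (BT.node (BT.leaf 1) (BT.leaf 1)) (BT.leaf 1)) (BT.node (BT.leaf 1) (BT.leaf 2)))) (BT.node (BT.node (BT.node (BT.node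 (BT.leaf 2) (BT.leaf 2)) (BT.leaf 2)) (BT.node (BT.node (BT.leaf 2) (BT.leaf 1)) (BT.leaf 2))) (BT.node (BT.node (BT.node (BT.leaf 2) (BT.leaf 2)) (BT.leaf 2)) (BT.node (BT.leaf 2) (BT.leaf 2))))))) (BT.node (BT.node (BT.node (BT.node (BT.node (BT.node (BT.node (BT.leaf 1) (BT.leaf 1)) (BT.leaf 1)) (BT.node (BT.node (BT.leaf 1) (BT.leaf 1)) (BT.leaf 2))) (BT.node (BT.node (BT.node (BT.leaf 1) (BT.leaf 1)) (BT.leaf 1)) (BT.node (BT.leaf 2) (BT.leaf 1)))) (BT.node (BT.node (BT.node (BT.node (BT.leaf 1) (BT.leaf 1)) (BT.leaf 1)) (BT.node (BT.node (BT.leaf 1) (BT.leaf 1)) (BT.leaf 2))) (BT.node (BT.node (BT.node (BT.leaf 1) (BT.leaf 2)) (BT.leaf 1)) (BT.node (BT.leaf 1) (BT.leaf 2))))) (BT.node (BT.node (BT.node (BT.node (BT.node (BT.leaf 2) (BT.leaf 1)) (BT.leaf 2)) (BT.node (BT.node (BT.leaf 1) (BT.leaf 2)) (BT.leaf 1))) (BT.node (BT.node (BT.node (BT.leaf 1)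 (BT.leaf 1)) (BT.leaf 2)) (BT.node (BT.leaf 1) (BT.leaf 1)))) (BT.node (BT.node (BT.node (BT.node (BT.leaf 2) (BT.leaf 1)) (BT.leaf 2)) (BT.node (BT.node (BT.leaf 1) (BT.leaf 1)) (BT.leaf 1))) (BT.node (BT.node (BT.node (BT.leaf 2) (BT.leaf 2)) (BT.leaf 1)) (BT.node (BT.leaf 1) (BT.leaf 2)))))) (BT.node (BT.node (BT.node (BT.node (BT.node (BT.node (BT.leaf 1) (BT.leaf 2)) (BT.leaf 2)) (BT.node (BT.node (BT.leaf 2) (BT.leaf 1)) (BT.leaf 1))) (BT.node (BT.node (BT.node (BT.leaf 1) (BT.leaf 1)) (BT.leaf 2)) (BT.node (BT.leaf 2) (BT.leaf 1)))) (BT.node (BT.node (BT.node (BT.node (BT.leaf 1) (BT.leaf 2)) (BT.leaf 1)) (BT.node (BT.node (BT.leaf 1) (BT.leaf 1)) (BT.leaf 2))) (BT.node (BT.node (BT.node (BT.leaf 1) (BT.leaf 1)) (BT.leaf 2)) (BT.node (BT.leaf 1) (BT.leaf 2))))) (BT.node (BT.node (BT.node (BT.node (BT.node (BT.leaf 2) (BT.leaf 2)) (BT.leaf 2)) (BT.node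 (BT.node (BT.leaf 2) (BT.leaf 2)) (BT.leaf 2))) (BT.node (BT.node (BT.node (BT.leaf 1) (BT.leaf 1)) (BT.leaf 2)) (BT.node (BT.leaf 1) (BT.leaf 1)))) (BT.node (BT.node (BT.node (BT.node (BT.leaf 2) (BT.leaf 2)) (BT.leaf 2)) (BT.node (BT.node (BT.leaf 1) (BT.leaf 1)) (BT.leaf 1))) (BT.node (BT.node (BT.node (BT.leaf 2) (BT.leaf 1)) (BT.leaf 2)) (BT.node (BT.leaf 1) (BT.leaf 2)))))))) (BT.node (BT.node (BT.node (BT.node (BT.node (BT.node (BT.node (BT.node (BT.leaf 2) (BT.leaf 1)) (BT.leaf 2)) (BT.node (BT.node (BT.leaf 2) (BT.leaf 1)) (BT.leaf 2))) (BT.node (BT.node (BT.node (BT.leaf 1) (BT.leaf 1)) (BT.leaf 1)) (BT.node (BT.leaf 2) (BT.leaf 2)))) (BT.node (BT.node (BT.node (BT.node (BT.leaf 2) (BT.leaf 2)) (BT.leaf 1)) (BT.node (BT.node (BT.leaf 2) (BT.leaf 1)) (BT.leaf 1))) (BT.node (BT.node (BT.node (BT.leaf 1) (BT.leaf 2)) (BT.leaf 2)) (BT.node (BT.leaf 1)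 (BT.leaf 2))))) (BT.node (BT.node (BT.node (BT.node (BT.node (BT.leaf 2) (BT.leaf 2)) (BT.leaf 1)) (BT.node (BT.node (BT.leaf 2) (BT.leaf 2)) (BT.leaf 1))) (BT.node (BT.node (BT.node (BT.leaf 1) (BT.leaf 1)) (BT.leaf 2)) (BT.node (BT.leaf 1) (BT.leaf 1)))) (BT.node (BT.node (BT.node (BT.node (BT.leaf 1) (BT.leaf 1)) (BT.leaf 2)) (BT.node (BT.node (BT.leaf 1) (BT.leaf 1)) (BT.leaf 2))) (BT.node (BT.node (BT.node (BT.leaf 1) (BT.leaf 1)) (BT.leaf 2)) (BT.node (BT.leaf 1) (BT.leaf 2)))))) (BT.node (BT.node (BT.node (BT.node (BT.node (BT.node (BT.leaf 1) (BT.leaf 2)) (BT.leaf 2)) (BT.node (BT.node (BT.leaf 2) (BT.leaf 2)) (BT.leaf 2))) (BT.node (BT.node (BT.node (BT.leaf 1) (BT.leaf 1)) (BT.leaf 1)) (BT.node (BT.leaf 1) (BT.leaf 2)))) (BT.node (BT.node (BT.node (BT.node (BT.leaf 1) (BT.leaf 1)) (BT.leaf 2)) (BT.node (BT.node (BT.leaf 1) (BT.leaf 2)) (BT.leaf 2)))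 (BT.node (BT.node (BT.node (BT.leaf 2) (BT.leaf 1)) (BT.leaf 1)) (BT.node (BT.leaf 1) (BT.leaf 2))))) (BT.node (BT.node (BT.node (BT.node (BT.node (BT.leaf 2) (BT.leaf 2)) (BT.leaf 2)) (BT.node (BT.node (BT.leaf 2) (BT.leaf 2)) (BT.leaf 2))) (BT.node (BT.node (BT.node (BT.leaf 1) (BT.leaf 1)) (BT.leaf 2)) (BT.node (BT.leaf 1) (BT.leaf 2)))) (BT.node (BT.node (BT.node (BT.node (BT.leaf 2) (BT.leaf 1)) (BT.leaf 2)) (BT.node (BT.node (BT.leaf 2) (BT.leaf 2)) (BT.leaf 1))) (BT.node (BT.node (BT.node (BT.leaf 2) (BT.leaf 2)) (BT.leaf 1)) (BT.node (BT.leaf 2) (BT.leaf 1))))))) (BT.node (BT.node (BT.node (BT.node (BT.node (BT.node (BT.node (BT.leaf 2) (BT.leaf 2)) (BT.leaf 1)) (BT.node (BT.node (BT.leaf 2) (BT.leaf 2)) (BT.leaf 2))) (BT.node (BT.node (BT.node (BT.leaf 1) (BT.leaf 2)) (BT.leaf 1)) (BT.node (BT.leaf 2) (BT.leaf 2)))) (BT.node (BT.node (BT.node (BT.node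 (BT.leaf 1) (BT.leaf 1)) (BT.leaf 1)) (BT.node (BT.node (BT.leaf 1) (BT.leaf 2)) (BT.leaf 1))) (BT.node (BT.node (BT.node (BT.leaf 2) (BT.leaf 2)) (BT.leaf 1)) (BT.node (BT.leaf 2) (BT.leaf 1))))) (BT.node (BT.node (BT.node (BT.node (BT.node (BT.leaf 2) (BT.leaf 1)) (BT.leaf 1)) (BT.node (BT.node (BT.leaf 1) (BT.leaf 2)) (BT.leaf 2))) (BT.node (BT.node (BT.node (BT.leaf 1) (BT.leaf 2)) (BT.leaf 2)) (BT.node (BT.leaf 1) (BT.leaf 2)))) (BT.node (BT.node (BT.node (BT.node (BT.leaf 1) (BT.leaf 2)) (BT.leaf 1)) (BT.node (BT.node (BT.leaf 2) (BT.leaf 2)) (BT.leaf 2))) (BT.node (BT.node (BT.node (BT.leaf 2) (BT.leaf 2)) (BT.leaf 1)) (BT.node (BT.leaf 1) (BT.leaf 1)))))) (BT.node (BT.node (BT.node (BT.node (BT.node (BT.node (BT.leaf 1) (BT.leaf 2)) (BT.leaf 1)) (BT.node (BT.node (BT.leaf 2) (BT.leaf 1)) (BT.leaf 1))) (BT.node (BT.node (BT.node (BT.leaf 1) (BT.leaf 1))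 (BT.leaf 1)) (BT.node (BT.leaf 2) (BT.leaf 1)))) (BT.node (BT.node (BT.node (BT.node (BT.leaf 1) (BT.leaf 2)) (BT.leaf 2)) (BT.node (BT.node (BT.leaf 2) (BT.leaf 2)) (BT.leaf 2))) (BT.node (BT.node (BT.node (BT.leaf 2) (BT.leaf 1)) (BT.leaf 2)) (BT.node (BT.leaf 1) (BT.leaf 2))))) (BT.node (BT.node (BT.node (BT.node (BT.node (BT.leaf 2) (BT.leaf 1)) (BT.leaf 2)) (BT.node (BT.node (BT.leaf 2) (BT.leaf 2)) (BT.leaf 2))) (BT.node (BT.node (BT.node (BT.leaf 2) (BT.leaf 1)) (BT.leaf 1)) (BT.node (BT.leaf 1) (BT.leaf 1)))) (BT.node (BT.node (BT.node (BT.node (BT.leaf 2) (BT.leaf 1)) (BT.leaf 1)) (BT.node (BT.leaf 1) (BT.leaf 1))) (BT.node (BT.node (BT.node (BT.leaf 2) (BT.leaf 1)) (BT.leaf 1)) (BT.node (BT.leaf 1) (BT.leaf 2))))))))),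
  (BT.node (BT.node (BT.node (BT.node (BT.node (BT.node (BT.node (BT.node (BT.node (BT.leaf 1) (BT.leaf 1)) (BT.leaf 1)) (BT.node (BT.node (BT.leaf 1) (BT.leaf 1)) (BT.leaf 1))) (BT.node (BT.node (BT.node (BT.leaf 1) (BT.leaf 1)) (BT.leaf 1)) (BT.node (BT.leaf 1) (BT.leaf 1)))) (BT.node (BT.node (BT.node (BT.node (BT.leaf 1) (BT.leaf 1)) (BT.leaf 1)) (BT.node (BT.node (BT.leaf 1) (BT.leaf 1)) (BT.leaf 1))) (BT.node (BT.node (BT.node (BT.leaf 1) (BT.leaf 1)) (BT.leaf 1)) (BT.node (BT.leaf 1) (BT.leaf 1))))) (BT.node (BT.node (BT.node (BT.node (BT.node (BT.leaf 1) (BT.leaf 1)) (BT.leaf 1)) (BT.node (BT.node (BT.leaf 1) (BT.leaf 1)) (BT.leaf 1))) (BT.node (BT.node (BT.node (BT.leaf 1) (BT.leaf 1)) (BT.leaf 1)) (BT.node (BT.leaf 1) (BT.leaf 1)))) (BT.node (BT.node (BT.node (BT.node (BT.leaf 1) (BT.leaf 1)) (BT.leaf 1)) (BT.node (BT.node (BT.leaf 1) (BT.leaf 1))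 (BT.leaf 1))) (BT.node (BT.node (BT.node (BT.leaf 1) (BT.leaf 1)) (BT.leaf 1)) (BT.node (BT.leaf 1) (BT.leaf 1)))))) (BT.node (BT.node (BT.node (BT.node (BT.node (BT.node (BT.leaf 1) (BT.leaf 1)) (BT.leaf 1)) (BT.node (BT.node (BT.leaf 1) (BT.leaf 1)) (BT.leaf 1))) (BT.node (BT.node (BT.node (BT.leaf 1) (BT.leaf 1)) (BT.leaf 1)) (BT.node (BT.leaf 1) (BT.leaf 1)))) (BT.node (BT.node (BT.node (BT.node (BT.leaf 1) (BT.leaf 1)) (BT.leaf 1)) (BT.node (BT.node (BT.leaf 1) (BT.leaf 1)) (BT.leaf 1))) (BT.node (BT.node (BT.node (BT.leaf 1) (BT.leaf 1)) (BT.leaf 1)) (BT.node (BT.leaf 1) (BT.leaf 1))))) (BT.node (BT.node (BT.node (BT.node (BT.node (BT.leaf 1) (BT.leaf 1)) (BT.leaf 1)) (BT.node (BT.node (BT.leaf 1) (BT.leaf 1)) (BT.leaf 1))) (BT.node (BT.node (BT.node (BT.leaf 1) (BT.leaf 1)) (BT.leaf 1)) (BT.node (BT.leaf 1) (BT.leaf 1)))) (BT.node (BT.node (BT.node (BT.node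 (BT.leaf 1) (BT.leaf 1)) (BT.leaf 1)) (BT.node (BT.node (BT.leaf 1) (BT.leaf 1)) (BT.leaf 1))) (BT.node (BT.node (BT.node (BT.leaf 1) (BT.leaf 1)) (BT.leaf 1)) (BT.node (BT.leaf 1) (BT.leaf 1))))))) (BT.node (BT.node (BT.node (BT.node (BT.node (BT.node (BT.node (BT.leaf 1) (BT.leaf 1)) (BT.leaf 1)) (BT.node (BT.node (BT.leaf 1) (BT.leaf 1)) (BT.leaf 1))) (BT.node (BT.node (BT.node (BT.leaf 1) (BT.leaf 1)) (BT.leaf 1)) (BT.node (BT.leaf 1) (BT.leaf 1)))) (BT.node (BT.node (BT.node (BT.node (BT.leaf 1) (BT.leaf 1)) (BT.leaf 1)) (BT.node (BT.node (BT.leaf 1) (BT.leaf 1)) (BT.leaf 1))) (BT.node (BT.node (BT.node (BT.leaf 1) (BT.leaf 1)) (BT.leaf 1)) (BT.node (BT.leaf 1) (BT.leaf 1))))) (BT.node (BT.node (BT.node (BT.node (BT.node (BT.leaf 1) (BT.leaf 1)) (BT.leaf 1)) (BT.node (BT.node (BT.leaf 1) (BT.leaf 1)) (BT.leaf 1))) (BT.node (BT.node (BT.node (BT.leaf 1)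 (BT.leaf 1)) (BT.leaf 1)) (BT.node (BT.leaf 1) (BT.leaf 1)))) (BT.node (BT.node (BT.node (BT.node (BT.leaf 1) (BT.leaf 1)) (BT.leaf 1)) (BT.node (BT.node (BT.leaf 1) (BT.leaf 1)) (BT.leaf 1))) (BT.node (BT.node (BT.node (BT.leaf 1) (BT.leaf 1)) (BT.leaf 1)) (BT.node (BT.leaf 1) (BT.leaf 1)))))) (BT.node (BT.node (BT.node (BT.node (BT.node (BT.node (BT.leaf 1) (BT.leaf 1)) (BT.leaf 1)) (BT.node (BT.node (BT.leaf 1) (BT.leaf 1)) (BT.leaf 1))) (BT.node (BT.node (BT.node (BT.leaf 1) (BT.leaf 1)) (BT.leaf 1)) (BT.node (BT.leaf 1) (BT.leaf 1)))) (BT.node (BT.node (BT.node (BT.node (BT.leaf 1) (BT.leaf 1)) (BT.leaf 1)) (BT.node (BT.node (BT.leaf 1) (BT.leaf 1)) (BT.leaf 1))) (BT.node (BT.node (BT.node (BT.leaf 1) (BT.leaf 1)) (BT.leaf 1)) (BT.node (BT.leaf 1) (BT.leaf 1))))) (BT.node (BT.node (BT.node (BT.node (BT.node (BT.leaf 1) (BT.leaf 1)) (BT.leaf 1)) (BT.node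 (BT.node (BT.leaf 1) (BT.leaf 1)) (BT.leaf 1))) (BT.node (BT.node (BT.node (BT.leaf 1) (BT.leaf 1)) (BT.leaf 1)) (BT.node (BT.leaf 1) (BT.leaf 1)))) (BT.node (BT.node (BT.node (BT.node (BT.leaf 1) (BT.leaf 1)) (BT.leaf 1)) (BT.node (BT.node (BT.leaf 1) (BT.leaf 1)) (BT.leaf 1))) (BT.node (BT.node (BT.node (BT.leaf 1) (BT.leaf 1)) (BT.leaf 1)) (BT.node (BT.leaf 1) (BT.leaf 1)))))))) (BT.node (BT.node (BT.node (BT.node (BT.node (BT.node (BT.node (BT.node (BT.leaf 1) (BT.leaf 1)) (BT.leaf 1)) (BT.node (BT.node (BT.leaf 1) (BT.leaf 1)) (BT.leaf 1))) (BT.node (BT.node (BT.node (BT.leaf 1) (BT.leaf 1)) (BT.leaf 1)) (BT.node (BT.leaf 1) (BT.leaf 1)))) (BT.node (BT.node (BT.node (BT.node (BT.leaf 1) (BT.leaf 1)) (BT.leaf 1)) (BT.node (BT.node (BT.leaf 1) (BT.leaf 1)) (BT.leaf 1))) (BT.node (BT.node (BT.node (BT.leaf 1) (BT.leaf 1)) (BT.leaf 1)) (BT.node (BT.leaf 1)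 (BT.leaf 1))))) (BT.node (BT.node (BT.node (BT.node (BT.node (BT.leaf 1) (BT.leaf 1)) (BT.leaf 1)) (BT.node (BT.node (BT.leaf 1) (BT.leaf 1)) (BT.leaf 1))) (BT.node (BT.node (BT.node (BT.leaf 1) (BT.leaf 1)) (BT.leaf 1)) (BT.node (BT.leaf 1) (BT.leaf 1)))) (BT.node (BT.node (BT.node (BT.node (BT.leaf 1) (BT.leaf 1)) (BT.leaf 1)) (BT.node (BT.node (BT.leaf 1) (BT.leaf 1)) (BT.leaf 1))) (BT.node (BT.node (BT.node (BT.leaf 1) (BT.leaf 1)) (BT.leaf 1)) (BT.node (BT.leaf 1) (BT.leaf 1)))))) (BT.node (BT.node (BT.node (BT.node (BT.node (BT.node (BT.leaf 1) (BT.leaf 1)) (BT.leaf 1)) (BT.node (BT.node (BT.leaf 1) (BT.leaf 1)) (BT.leaf 1))) (BT.node (BT.node (BT.node (BT.leaf 1) (BT.leaf 1)) (BT.leaf 1)) (BT.node (BT.leaf 1) (BT.leaf 1)))) (BT.node (BT.node (BT.node (BT.node (BT.leaf 1) (BT.leaf 1)) (BT.leaf 1)) (BT.node (BT.node (BT.leaf 1) (BT.leaf 1)) (BT.leaf 1)))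 (BT.node (BT.node (BT.node (BT.leaf 1) (BT.leaf 1)) (BT.leaf 1)) (BT.node (BT.leaf 1) (BT.leaf 1))))) (BT.node (BT.node (BT.node (BT.node (BT.node (BT.leaf 1) (BT.leaf 1)) (BT.leaf 1)) (BT.node (BT.node (BT.leaf 1) (BT.leaf 1)) (BT.leaf 1))) (BT.node (BT.node (BT.node (BT.leaf 1) (BT.leaf 1)) (BT.leaf 1)) (BT.node (BT.leaf 1) (BT.leaf 1)))) (BT.node (BT.node (BT.node (BT.node (BT.leaf 1) (BT.leaf 1)) (BT.leaf 1)) (BT.node (BT.node (BT.leaf 1) (BT.leaf 1)) (BT.leaf 1))) (BT.node (BT.node (BT.node (BT.leaf 1) (BT.leaf 1)) (BT.leaf 1)) (BT.node (BT.leaf 1) (BT.leaf 1))))))) (BT.node (BT.node (BT.node (BT.node (BT.node (BT.node (BT.node (BT.leaf 1) (BT.leaf 1)) (BT.leaf 1)) (BT.node (BT.node (BT.leaf 1) (BT.leaf 1)) (BT.leaf 1))) (BT.node (BT.node (BT.node (BT.leaf 1) (BT.leaf 1)) (BT.leaf 1)) (BT.node (BT.leaf 1) (BT.leaf 1)))) (BT.node (BT.node (BT.node (BT.node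 (BT.leaf 1) (BT.leaf 1)) (BT.leaf 1)) (BT.node (BT.node (BT.leaf 1) (BT.leaf 1)) (BT.leaf 1))) (BT.node (BT.node (BT.node (BT.leaf 1) (BT.leaf 1)) (BT.leaf 1)) (BT.node (BT.leaf 1) (BT.leaf 1))))) (BT.node (BT.node (BT.node (BT.node (BT.node (BT.leaf 1) (BT.leaf 1)) (BT.leaf 1)) (BT.node (BT.node (BT.leaf 1) (BT.leaf 1)) (BT.leaf 1))) (BT.node (BT.node (BT.node (BT.leaf 1) (BT.leaf 1)) (BT.leaf 1)) (BT.node (BT.leaf 1) (BT.leaf 1)))) (BT.node (BT.node (BT.node (BT.node (BT.leaf 1) (BT.leaf 1)) (BT.leaf 1)) (BT.node (BT.node (BT.leaf 1) (BT.leaf 1)) (BT.leaf 1))) (BT.node (BT.node (BT.node (BT.leaf 1) (BT.leaf 1)) (BT.leaf 1)) (BT.node (BT.leaf 1) (BT.leaf 1)))))) (BT.node (BT.node (BT.node (BT.node (BT.node (BT.node (BT.leaf 1) (BT.leaf 1)) (BT.leaf 1)) (BT.node (BT.node (BT.leaf 1) (BT.leaf 1)) (BT.leaf 1))) (BT.node (BT.node (BT.node (BT.leaf 1) (BT.leaf 1))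 (BT.leaf 1)) (BT.node (BT.leaf 1) (BT.leaf 1)))) (BT.node (BT.node (BT.node (BT.node (BT.leaf 1) (BT.leaf 1)) (BT.leaf 1)) (BT.node (BT.node (BT.leaf 1) (BT.leaf 1)) (BT.leaf 1))) (BT.node (BT.node (BT.node (BT.leaf 1) (BT.leaf 1)) (BT.leaf 1)) (BT.node (BT.leaf 1) (BT.leaf 1))))) (BT.node (BT.node (BT.node (BT.node (BT.node (BT.leaf 1) (BT.leaf 1)) (BT.leaf 1)) (BT.node (BT.node (BT.leaf 1) (BT.leaf 1)) (BT.leaf 1))) (BT.node (BT.node (BT.node (BT.leaf 1) (BT.leaf 1)) (BT.leaf 1)) (BT.node (BT.leaf 1) (BT.leaf 1)))) (BT.node (BT.node (BT.node (BT.node (BT.leaf 1) (BT.leaf 1)) (BT.leaf 1)) (BT.node (BT.leaf 1) (BT.leaf 1))) (BT.node (BT.node (BT.node (BT.leaf 1) (BT.leaf 1)) (BT.leaf 1)) (BT.node (BT.leaf 1) (BT.leaf 1))))))))),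
  (BT.node (BT.node (BT.node (BT.node (BT.node (BT.node (BT.node (BT.node (BT.node (BT.leaf 1) (BT.leaf 1)) (BT.leaf 1)) (BT.node (BT.node (BT.leaf 1) (BT.leaf 1)) (BT.leaf 1))) (BT.node (BT.node (BT.node (BT.leaf 1) (BT.leaf 1)) (BT.leaf 1)) (BT.node (BT.leaf 1) (BT.leaf 1)))) (BT.node (BT.node (BT.node (BT.node (BT.leaf 1) (BT.leaf 1)) (BT.leaf 1)) (BT.node (BT.node (BT.leaf 1) (BT.leaf 1)) (BT.leaf 1))) (BT.node (BT.node (BT.node (BT.leaf 1) (BT.leaf 1)) (BT.leaf 1)) (BT.node (BT.leaf 1) (BT.leaf 1))))) (BT.node (BT.node (BT.node (BT.node (BT.node (BT.leaf 1) (BT.leaf 1)) (BT.leaf 1)) (BT.node (BT.node (BT.leaf 1) (BT.leaf 1)) (BT.leaf 1))) (BT.node (BT.node (BT.node (BT.leaf 1) (BT.leaf 1)) (BT.leaf 1)) (BT.node (BT.leaf 1) (BT.leaf 1)))) (BT.node (BT.node (BT.node (BT.node (BT.leaf 1) (BT.leaf 1)) (BT.leaf 1)) (BT.node (BT.node (BT.leaf 1) (BT.leaf 1))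 (BT.leaf 1))) (BT.node (BT.node (BT.node (BT.leaf 1) (BT.leaf 1)) (BT.leaf 1)) (BT.node (BT.leaf 1) (BT.leaf 1)))))) (BT.node (BT.node (BT.node (BT.node (BT.node (BT.node (BT.leaf 1) (BT.leaf 1)) (BT.leaf 1)) (BT.node (BT.node (BT.leaf 1) (BT.leaf 1)) (BT.leaf 1))) (BT.node (BT.node (BT.node (BT.leaf 1) (BT.leaf 1)) (BT.leaf 1)) (BT.node (BT.leaf 1) (BT.leaf 1)))) (BT.node (BT.node (BT.node (BT.node (BT.leaf 1) (BT.leaf 1)) (BT.leaf 1)) (BT.node (BT.node (BT.leaf 1) (BT.leaf 1)) (BT.leaf 1))) (BT.node (BT.node (BT.node (BT.leaf 1) (BT.leaf 1)) (BT.leaf 1)) (BT.node (BT.leaf 1) (BT.leaf 1))))) (BT.node (BT.node (BT.node (BT.node (BT.node (BT.leaf 1) (BT.leaf 1)) (BT.leaf 1)) (BT.node (BT.node (BT.leaf 1) (BT.leaf 1)) (BT.leaf 1))) (BT.node (BT.node (BT.node (BT.leaf 1) (BT.leaf 1)) (BT.leaf 1)) (BT.node (BT.leaf 1) (BT.leaf 1)))) (BT.node (BT.node (BT.node (BT.node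 (BT.leaf 1) (BT.leaf 1)) (BT.leaf 1)) (BT.node (BT.node (BT.leaf 1) (BT.leaf 1)) (BT.leaf 1))) (BT.node (BT.node (BT.node (BT.leaf 1) (BT.leaf 1)) (BT.leaf 1)) (BT.node (BT.leaf 1) (BT.leaf 1))))))) (BT.node (BT.node (BT.node (BT.node (BT.node (BT.node (BT.node (BT.leaf 1) (BT.leaf 1)) (BT.leaf 1)) (BT.node (BT.node (BT.leaf 1) (BT.leaf 1)) (BT.leaf 1))) (BT.node (BT.node (BT.node (BT.leaf 1) (BT.leaf 1)) (BT.leaf 1)) (BT.node (BT.leaf 1) (BT.leaf 1)))) (BT.node (BT.node (BT.node (BT.node (BT.leaf 1) (BT.leaf 1)) (BT.leaf 1)) (BT.node (BT.node (BT.leaf 1) (BT.leaf 1)) (BT.leaf 1))) (BT.node (BT.node (BT.node (BT.leaf 1) (BT.leaf 1)) (BT.leaf 1)) (BT.node (BT.leaf 1) (BT.leaf 1))))) (BT.node (BT.node (BT.node (BT.node (BT.node (BT.leaf 1) (BT.leaf 1)) (BT.leaf 1)) (BT.node (BT.node (BT.leaf 1) (BT.leaf 1)) (BT.leaf 1))) (BT.node (BT.node (BT.node (BT.leaf 1)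 (BT.leaf 1)) (BT.leaf 1)) (BT.node (BT.leaf 1) (BT.leaf 1)))) (BT.node (BT.node (BT.node (BT.node (BT.leaf 1) (BT.leaf 1)) (BT.leaf 1)) (BT.node (BT.node (BT.leaf 1) (BT.leaf 1)) (BT.leaf 1))) (BT.node (BT.node (BT.node (BT.leaf 1) (BT.leaf 1)) (BT.leaf 1)) (BT.node (BT.leaf 1) (BT.leaf 1)))))) (BT.node (BT.node (BT.node (BT.node (BT.node (BT.node (BT.leaf 1) (BT.leaf 1)) (BT.leaf 1)) (BT.node (BT.node (BT.leaf 1) (BT.leaf 1)) (BT.leaf 1))) (BT.node (BT.node (BT.node (BT.leaf 1) (BT.leaf 1)) (BT.leaf 1)) (BT.node (BT.leaf 1) (BT.leaf 1)))) (BT.node (BT.node (BT.node (BT.node (BT.leaf 1) (BT.leaf 1)) (BT.leaf 1)) (BT.node (BT.node (BT.leaf 1) (BT.leaf 1)) (BT.leaf 1))) (BT.node (BT.node (BT.node (BT.leaf 1) (BT.leaf 1)) (BT.leaf 1)) (BT.node (BT.leaf 1) (BT.leaf 1))))) (BT.node (BT.node (BT.node (BT.node (BT.node (BT.leaf 1) (BT.leaf 1)) (BT.leaf 1)) (BT.node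 (BT.node (BT.leaf 1) (BT.leaf 1)) (BT.leaf 1))) (BT.node (BT.node (BT.node (BT.leaf 1) (BT.leaf 1)) (BT.leaf 1)) (BT.node (BT.leaf 1) (BT.leaf 1)))) (BT.node (BT.node (BT.node (BT.node (BT.leaf 1) (BT.leaf 1)) (BT.leaf 1)) (BT.node (BT.node (BT.leaf 1) (BT.leaf 1)) (BT.leaf 1))) (BT.node (BT.node (BT.node (BT.leaf 1) (BT.leaf 1)) (BT.leaf 1)) (BT.node (BT.leaf 1) (BT.leaf 1)))))))) (BT.node (BT.node (BT.node (BT.node (BT.node (BT.node (BT.node (BT.node (BT.leaf 1) (BT.leaf 1)) (BT.leaf 1)) (BT.node (BT.node (BT.leaf 1) (BT.leaf 1)) (BT.leaf 1))) (BT.node (BT.node (BT.node (BT.leaf 1) (BT.leaf 1)) (BT.leaf 1)) (BT.node (BT.leaf 1) (BT.leaf 1)))) (BT.node (BT.node (BT.node (BT.node (BT.leaf 1) (BT.leaf 1)) (BT.leaf 1)) (BT.node (BT.node (BT.leaf 1) (BT.leaf 1)) (BT.leaf 1))) (BT.node (BT.node (BT.node (BT.leaf 1) (BT.leaf 1)) (BT.leaf 1)) (BT.node (BT.leaf 1)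 (BT.leaf 1))))) (BT.node (BT.node (BT.node (BT.node (BT.node (BT.leaf 1) (BT.leaf 1)) (BT.leaf 1)) (BT.node (BT.node (BT.leaf 1) (BT.leaf 1)) (BT.leaf 1))) (BT.node (BT.node (BT.node (BT.leaf 1) (BT.leaf 1)) (BT.leaf 1)) (BT.node (BT.leaf 1) (BT.leaf 1)))) (BT.node (BT.node (BT.node (BT.node (BT.leaf 1) (BT.leaf 1)) (BT.leaf 1)) (BT.node (BT.node (BT.leaf 1) (BT.leaf 1)) (BT.leaf 1))) (BT.node (BT.node (BT.node (BT.leaf 1) (BT.leaf 1)) (BT.leaf 1)) (BT.node (BT.leaf 1) (BT.leaf 1)))))) (BT.node (BT.node (BT.node (BT.node (BT.node (BT.node (BT.leaf 1) (BT.leaf 1)) (BT.leaf 1)) (BT.node (BT.node (BT.leaf 1) (BT.leaf 1)) (BT.leaf 1))) (BT.node (BT.node (BT.node (BT.leaf 1) (BT.leaf 1)) (BT.leaf 1)) (BT.node (BT.leaf 1) (BT.leaf 1)))) (BT.node (BT.node (BT.node (BT.node (BT.leaf 1) (BT.leaf 1)) (BT.leaf 1)) (BT.node (BT.node (BT.leaf 1) (BT.leaf 1)) (BT.leaf 1)))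 (BT.node (BT.node (BT.node (BT.leaf 1) (BT.leaf 1)) (BT.leaf 1)) (BT.node (BT.leaf 1) (BT.leaf 1))))) (BT.node (BT.node (BT.node (BT.node (BT.node (BT.leaf 1) (BT.leaf 1)) (BT.leaf 1)) (BT.node (BT.node (BT.leaf 1) (BT.leaf 1)) (BT.leaf 1))) (BT.node (BT.node (BT.node (BT.leaf 1) (BT.leaf 1)) (BT.leaf 1)) (BT.node (BT.leaf 1) (BT.leaf 1)))) (BT.node (BT.node (BT.node (BT.node (BT.leaf 1) (BT.leaf 1)) (BT.leaf 1)) (BT.node (BT.node (BT.leaf 1) (BT.leaf 1)) (BT.leaf 1))) (BT.node (BT.node (BT.node (BT.leaf 1) (BT.leaf 1)) (BT.leaf 1)) (BT.node (BT.leaf 1) (BT.leaf 1))))))) (BT.node (BT.node (BT.node (BT.node (BT.node (BT.node (BT.node (BT.leaf 1) (BT.leaf 1)) (BT.leaf 1)) (BT.node (BT.node (BT.leaf 1) (BT.leaf 1)) (BT.leaf 1))) (BT.node (BT.node (BT.node (BT.leaf 1) (BT.leaf 1)) (BT.leaf 1)) (BT.node (BT.leaf 1) (BT.leaf 1)))) (BT.node (BT.node (BT.node (BT.node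 (BT.leaf 1) (BT.leaf 1)) (BT.leaf 1)) (BT.node (BT.node (BT.leaf 1) (BT.leaf 1)) (BT.leaf 1))) (BT.node (BT.node (BT.node (BT.leaf 1) (BT.leaf 1)) (BT.leaf 1)) (BT.node (BT.leaf 1) (BT.leaf 1))))) (BT.node (BT.node (BT.node (BT.node (BT.node (BT.leaf 1) (BT.leaf 1)) (BT.leaf 1)) (BT.node (BT.node (BT.leaf 1) (BT.leaf 1)) (BT.leaf 1))) (BT.node (BT.node (BT.node (BT.leaf 1) (BT.leaf 1)) (BT.leaf 1)) (BT.node (BT.leaf 1) (BT.leaf 1)))) (BT.node (BT.node (BT.node (BT.node (BT.leaf 1) (BT.leaf 1)) (BT.leaf 1)) (BT.node (BT.node (BT.leaf 1) (BT.leaf 1)) (BT.leaf 1))) (BT.node (BT.node (BT.node (BT.leaf 1) (BT.leaf 1)) (BT.leaf 1)) (BT.node (BT.leaf 1) (BT.leaf 1)))))) (BT.node (BT.node (BT.node (BT.node (BT.node (BT.node (BT.leaf 1) (BT.leaf 1)) (BT.leaf 1)) (BT.node (BT.node (BT.leaf 1) (BT.leaf 1)) (BT.leaf 1))) (BT.node (BT.node (BT.node (BT.leaf 1) (BT.leaf 1))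 (BT.leaf 1)) (BT.node (BT.leaf 1) (BT.leaf 1)))) (BT.node (BT.node (BT.node (BT.node (BT.leaf 1) (BT.leaf 1)) (BT.leaf 1)) (BT.node (BT.node (BT.leaf 1) (BT.leaf 1)) (BT.leaf 1))) (BT.node (BT.node (BT.node (BT.leaf 1) (BT.leaf 1)) (BT.leaf 1)) (BT.node (BT.leaf 1) (BT.leaf 1))))) (BT.node (BT.node (BT.node (BT.node (BT.node (BT.leaf 1) (BT.leaf 1)) (BT.leaf 1)) (BT.node (BT.node (BT.leaf 1) (BT.leaf 1)) (BT.leaf 1))) (BT.node (BT.node (BT.node (BT.leaf 1) (BT.leaf 1)) (BT.leaf 1)) (BT.node (BT.leaf 1) (BT.leaf 1)))) (BT.node (BT.node (BT.node (BT.node (BT.leaf 1) (BT.leaf 1)) (BT.leaf 1)) (BT.node (BT.leaf 1) (BT.leaf 1))) (BT.node (BT.node (BT.node (BT.leaf 1) (BT.leaf 1)) (BT.leaf 1)) (BT.node (BT.leaf 1) (BT.leaf 1)))))))))]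

/-- The scalars. -/
def sgf7 (r i : ℕ) : ℕ := (sgT7.getD r (BT.leaf 0)).look i

/-- The points and their negatives as numbers. -/
def codes7 : List ℕ := [36028865738440704, 18014535965212672, 18014537022177280, 36028865755217920, 36028934457917441, 2341871874952134656, 18014467228958721, 73823005160576647168, 147609981455414853632, 18014537038954496, 36028934491471873, 1170936040572059648, 18014468336254977, 147591966988202672128, 76128848169823895553, 73823005229312901120, 36028866812182528, 36028867902701568, 36028936622178305, 1170935972909547520, 18014469376442369, 149897810135912284161, 1188950440138506240, 73804990831860383744, 147591967126698590208, 36028934474694657, 2341871874968911872, 18014469393219585, 74957912335427043329, 147573952658412666880, 1188950370362064896, 36028936638955521, 36028935531659265, 2341871943671611393, 74975926733902970881,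 148762903028741177345, 73823005229296123905, 2341871876042653697, 1188950370345287680, 149897810066119065601, 76128848169790341120, 149915824464628547584, 18014467245735937, 18014468319477761, 1170935971835805697, 148744888561512218625, 147591967056905371649, 73823005162757685249, 73804990762083942400, 73804990762067165185, 147609981456488595456, 73804990831893938177, 149915824533348024321, 18014538112696320, 36028936605401089, 1170935972926324736, 18014467262513153, 149897809998490107905, 76110833773461897217, 73823005230386642944, 148744888631322214400, 36028935565213697, 2341871943705165825, 74975926665217048577, 2323857476459429889, 73804990830820196353, 2341871876025876481, 1188950440155283456, 2323857545178906624, 149897810067226361857, 148744888492809519104, 74975926733919748096, 18014468302700545, 1170935904223625217, 36028935548436481, 73823005094021431297,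 1170936042719543297, 147573952659503185921, 147591966989276413952, 147609981386712154112, 147591966990350155776, 147609981386728931329, 76128848171954601985, 76128848101087641601, 148744888562602737665, 147591967125641625601, 149897810134855319553, 2323857476476207105, 73823005231460384768, 73823005231443607553, 74975926596480794625, 76128848238526595072, 147573952727132143616, 36028866828959744, 2341871807306399744, 76128848170864082945, 2305843079006912512, 2341871945835872256, 74975926735010267137, 147573952660560150528, 74975926667347755008, 2341871808396918785, 76128848103235125248, 74957912337557749760, 73786976434441420801, 74975926736067231745, 2323857408796917760, 74939897869238272001, 147591967057979113473, 148744888562585960448, 1170936042702766081, 74975926734976712704, 149879795669757067265, 147591967059052855297, 73804990764214648833, 149897810137019580417,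 74975926597554536448, 74957912268838273025, 149879795738476544001, 76092819442564595712, 148762902962169184257, 73823005230369865729, 2323857546235871233, 76110833841074077697, 2323857478606913536, 1188950302733107201, 2305843147726389248, 148762903029814919168, 73804990763157684224, 73804990832967680001, 149915824535512285185, 74957912267747753984, 73823005161650388992, 73823005161683943425, 73804990764231426048, 2341871943688388609, 73786976432293937153, 1188950439081541633, 2341871876059430913, 149897810068283326465, 76110833840033890305, 149879795667626360832, 18014469409996801, 149897810137002803200, 76092819374935638016, 147609981457579114497, 74957912337540972545, 74957912266674012161, 74939897937974525952, 148762902891319001088, 148762902960038477825, 148726874231755767809, 147573952659486408704, 148726874163019513856, 1188950303790071808, 2323857546252648449,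 1152921575490584576, 2341871808413696001, 76128848240690855937, 148726874232795955201, 147609981525208072193, 1170935971852582913, 1188950439064764417, 74975926665183494144, 147609981524134330369, 76128848238509817857, 149915824466792808448, 74939897937957748737, 148762903029831696385, 148762902891335778305, 76110833841090854912, 73823005160610201601, 1188950302716329985, 148744888563693256705, 74939897869255049216, 149879795668700102657, 147609981456505372673, 2323857546269425665, 148762902960021700608, 76110833771280859137, 76110833772371378177, 2323857476442652673, 74957912266690789376, 74957912267781308417, 148744888630248472577, 76110833771297636352, 147609981455431630849, 1170935904206848001, 76128848170880860160, 1188950372492771329, 148762902961112219648, 147591967127789109249, 73804990763140907009, 74957912199045054464, 149915824466809585665, 149915824395942625281,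 73786976365721944065, 1188950439098318849, 73804990693364465665, 147609981526281814017, 149915824534455320577, 149915824396982812672, 149879795668683325440, 147573952728222662657, 74939897868181307393, 1170935905280589824, 76128848102178160641, 76092819373878673409, 2341871808380141569, 148744888632379179009, 2323857408813694976, 147591967126715367425, 149897810067209584640, 1170935971869360129, 148744888492826296321, 147573952658429444097, 149897809999547072513, 74957912200135573505, 149879795599980625921, 148762903030922215425, 2341871807323176960, 149915824396999589889, 73804990694438207489, 76110833704708866049, 149879795737419579393, 2305843080114208769, 74975926597537759233, 147573952728205885440, 76128848239600336897, 148762903030905438208, 2305843080097431553, 74975926667330977793, 74939897870345568257, 76110833842164596737, 149915824464645324801, 149915824395925848064,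 147573952727148920833, 1170936042736320513, 1188950302699552769, 148726874164076478465, 149915824465702289409, 1152921644210061312, 149879795667643138049, 73823005092947689473, 149915824534438543360, 2305843147743166464, 149897809997416366080, 147591966989293191169, 148762902893466484737, 76110833703668678657, 148726874231738990592, 1170935904190070785, 74975926598645055489, 2323857409887436801, 1152921505714143233, 147591966990366932993, 73786976433367678977, 73786976295928725505, 73786976297002467329, 76092819443655114752, 147573952660576927745, 147573952590783709185, 147609981387785895936, 147573952589693190144, 147609981388859637760, 147591966988219449345, 73823005091873947649, 74975926666274013185, 148744888563676479488, 147609981387802673153, 147573952591857451009, 74957912197971312641, 76128848103218348033, 148744888631338991617, 76110833702578159617,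 2305843011377954817, 76092819304068677633, 76128848102144606208, 147573952729279627264, 149897809997433143297, 149897809998473330688, 74939897799461830657, 148726874096447520769, 1152921574433619969, 149879795736345837568, 73786976363574460417, 74939897939065044993, 2305843010287435776, 1152921574400065537, 148726874165166997505, 1188950372509548545, 76110833704725643264, 76092819306216161280, 148726874233886474241, 74939897936900784129, 2323857409870659585, 148744888493866483713, 74939897800518795265, 149879795601037590529, 76092819305159196673, 76092819443638337537, 76092819374918860801, 2305843080080654337, 73804990695511949313, 73786976364648202241, 149879795736362614785, 2305843148833685505, 74939897800535572480, 2305843011394732033, 76092819373845118976, 2305843148800131073, 149879795737402802176, 1152921643119542273, 148762902892375965697, 2305843079023689728,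 76092819442598150145, 2323857409904214017, 74939897801626091521, 76092819372788154369, 149915824398056554497, 147573952729296404481, 2305843148816908289, 76110833703635124224, 1152921643153096705, 76092819441507631105, 1188950372526325761, 1152921643136319489, 74957912336484007937, 148744888494957002753, 148762902961128996865, 148726874163036291073, 148726874094300037120, 148726874094316814337, 147573952590766931968, 1152921506771107840, 149879795598923661313, 148726874095357001729, 1152921505697366017, 74957912199028277249, 147609981388876414977, 149879795599963848704, 2305843010304212992, 76092819306199384065, 149879795598906884096, 73786976294854983681, 2305843011361177601, 1152921505680588801, 147573952589709967361, 1152921574416842753, 147573952591840673792, 76092819305125642240, 18014535948435456, 36028865771995136, 36028867885924352, 18014535981989888,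 18014467228958722, 1170936040555282432, 36028934457917442, 147591967125624848384, 73804990830786641920, 36028867919478784, 18014467245735938, 2341871874985689088, 36028936622178306, 73823005091890724864, 148744888630248472578, 147591967056938926080, 18014538095919104, 18014537055731712, 18014468336254978, 2341871945819095040, 36028935531659266, 74975926667330977794, 2323857478590136320, 147609981457562337280, 73823005162724130816, 18014467262513154, 1170936040588836864, 36028935565213698, 149915824464645324802, 73786976432310714368, 2323857545195683840, 18014468319477762, 18014469376442370, 1170935971835805698, 149897810066119065602, 76110833771280859138, 147591967056905371650, 1170936042736320514, 2323857545162129408, 74975926733902970882, 148744888630231695360, 74957912335393488896, 36028934491471874, 36028936638955522, 2341871943671611394, 76128848238509817858,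 73823005229296123906, 147591967126715367426, 147609981524167884800, 147609981524134330370, 73804990832934125568, 147609981457579114498, 74957912266674012162, 36028866845736960, 18014468302700546, 2341871945852649472, 36028934474694658, 74975926598645055490, 148762903029831696386, 147591967059086409728, 76128848171971379200, 18014469393219586, 1170935971852582914, 149897810134855319554, 1188950439098318850, 147609981455431630850, 1170936042702766082, 2323857478623690752, 1188950370378842112, 74975926736067231746, 76128848101104418816, 149897810066152620032, 36028936605401090, 2341871808396918786, 18014469409996802, 147591966989293191170, 2341871876059430914, 73786976434441420802, 73823005094038208512, 73804990693381242880, 73823005092964466688, 73804990693364465666, 148744888631338991618, 148744888492826296322, 76128848240690855938, 73823005160610201602, 74975926665217048578,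 1188950439081541634, 147591967058012667904, 147591967057979113474, 149897809997433143298, 148744888561545773056, 73786976363591237632, 18014538129473536, 1170935905263812608, 148744888632379179010, 1152921644193284096, 1170935972943101952, 149897810068283326466, 73786976433384456192, 149897810135945838592, 1170935904223625218, 148744888493900038144, 149915824465735843840, 147573952659503185922, 149897810067226361858, 1188950303773294592, 149879795738476544002, 73823005231443607554, 76128848240657301504, 2341871876025876482, 149897810068266549248, 74939897937957748738, 73823005230369865730, 147609981525208072194, 74975926666274013186, 149897809999580626944, 149915824534455320578, 74939897869238272002, 148726874165150220288, 76110833841074077698, 147591967059052855298, 1188950372492771330, 148762902962169184258, 1188950440172060672, 2323857409887436802, 1152921575473807360,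 76110833773428342784, 147609981526315368448, 147609981456505372674, 74957912267781308418, 149915824535495507968, 147591967127772332032, 147591967127789109250, 147609981525241626624, 1170935971869360130, 147573952658429444098, 2323857476476207106, 1170936042719543298, 74975926735010267138, 148762902960038477826, 74939897936917561344, 36028935548436482, 74975926666290790400, 148726874232829509632, 73804990831893938178, 149915824465702289410, 149915824533348024322, 149879795669790621696, 76110833702594936832, 76110833840033890306, 76092819372788154370, 73786976434458198016, 76092819441524408320, 2323857408830472192, 1188950372526325762, 2305843147759943680, 1170935904206848002, 148744888562602737666, 76092819374918860802, 73804990764214648834, 2341871943705165826, 2323857476442652674, 149897810134838542336, 73804990762067165186, 148744888561512218626, 74957912336500785152,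 149879795669757067266, 76110833773461897218, 76110833702578159618, 148762902962202738688, 147591967125641625602, 2323857409904214018, 76128848239600336898, 149879795738510098432, 74939897939065044994, 73804990832967680002, 1188950372509548546, 76110833840000335872, 148762903028741177346, 148762903030922215426, 1188950439064764418, 149915824533381578752, 149915824535512285186, 76128848169823895554, 148762903028774731776, 73804990830820196354, 2341871808413696002, 148744888632412733440, 2323857546235871234, 76110833842181373952, 73823005161683943426, 147609981526281814018, 149915824398090108928, 74957912336484007938, 74957912197971312642, 147573952728222662658, 2323857476459429890, 147609981386728931330, 73804990763140907010, 74957912268838273026, 74957912200102019072, 74939897939031490560, 73786976365721944066, 149879795736362614786, 2341871807339954176, 148744888494957002754,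 148726874233886474242, 1170935904190070786, 76128848170864082946, 1188950303806849024, 73823005162757685250, 74975926736084008960, 2341871943688388610, 76128848101087641602, 73786976432293937154, 74975926597537759234, 149915824396999589890, 74939897801626091522, 76110833772371378178, 1170935905297367040, 74957912200135573506, 147609981388876414978, 148762902892375965698, 74939897870345568258, 1152921643136319490, 149897809999547072514, 73786976365738721280, 148744888563693256706, 76110833772388155392, 1152921643153096706, 149897810135912284162, 149879795737419579394, 148762902961128996866, 74957912335427043330, 74957912197988089856, 73786976363574460418, 2341871876042653698, 2323857409870659586, 76092819443638337538, 74957912337540972546, 2305843079040466944, 74939897936900784130, 147591966990366932994, 74957912268855050240, 1152921575507361792, 74975926596497571840,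 73823005094021431298, 76110833703668678658, 148762902893466484738, 76092819372804931584, 2341871808380141570, 149897809998490107906, 1188950302733107202, 2305843011377954818, 73823005092947689474, 147573952660576927746, 147573952591857451010, 147573952590783709186, 148726874164110032896, 73786976433367678978, 73786976297002467330, 73804990695528726528, 73786976294871760896, 73804990694454984704, 73823005091873947650, 147591966988219449346, 149897810137019580418, 76128848239617114112, 73804990695511949314, 73786976295928725506, 149915824395942625282, 148744888493866483714, 76128848171954601986, 148762902891335778306, 1152921505714143234, 148726874094316814338, 148744888494940225536, 73786976364664979456, 74975926596480794626, 74975926598611501056, 149879795598923661314, 76092819305159196674, 2305843148816908290, 74939897868198084608, 147573952727148920834, 149879795668700102658,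 1152921506754330624, 2305843148800131074, 76092819442598150146, 2323857546269425666, 148762902892409520128, 148726874095390556160, 76092819373878673410, 149879795667643138050, 1188950302699552770, 76128848103218348034, 149879795601037590530, 74939897800518795266, 148726874096447520770, 148726874164076478466, 148726874232795955202, 1152921643119542274, 147609981387802673154, 147573952729296404482, 74939897868181307394, 1152921574416842754, 149879795601071144960, 1152921505697366018, 148726874233869697024, 1152921574400065538, 74939897870312013824, 2305843080080654338, 76110833704708866050, 1152921644226838528, 148726874165166997506, 1188950302716329986, 149879795599980625922, 148726874231755767810, 74957912199028277250, 73786976364648202242, 1152921574433619970, 148762902893449707520, 2305843080097431554, 148726874163036291074, 2323857546252648450, 2305843080114208770,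 149915824466809585666, 76128848102178160642, 76110833842164596738, 76092819441507631106, 76092819304085454848, 76092819304068677634, 73786976297019244544, 2305843010320990208, 74939897799461830658, 76092819306199384066, 2305843011394732034, 149915824398056554498, 73804990694438207490, 74939897801592537088, 1152921506787885056, 148726874095357001730, 74939897799478607872, 147573952589709967362, 1152921505680588802, 2305843011361177602, 73786976294854983682, 2305843148833685506, 73786976295945502720, 148726874096430743552]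

/-- A tree: the parent of each point, -/
def par7 : List ℕ := [0, 0, 0, 0, 0, 0, 0, 0, 0, 1, 1, 1, 1, 1, 1, 1, 2, 2, 2, 2, 2, 2, 2, 2, 2, 3, 3, 3, 3, 3, 3, 4, 4, 4, 4, 4, 4, 5, 5, 5, 5, 5, 6, 6, 6, 6, 6, 7, 7, 7, 8, 8, 8, 9, 9, 9, 9, 9, 9, 9, 9, 10, 10, 10, 10, 10, 11, 11, 11, 11, 11, 11, 12, 12, 12, 12, 12, 12, 13, 13, 13, 13, 14, 14, 14, 14, 14, 14, 15, 15, 15, 15, 15, 16, 16, 16, 16, 17, 17, 17, 17, 18, 18, 18, 18, 18, 19, 19, 19, 19, 20, 20, 20, 20, 20, 21, 21, 21, 21, 21, 21, 21, 21, 21, 22, 22, 22, 22, 23, 23, 23, 23, 24, 24, 24, 25, 25, 25, 26, 26, 26, 26, 27, 27, 27, 27, 28, 28, 28, 28, 28, 28, 29, 29, 30, 30, 30, 31, 31, 32, 32, 33, 33, 33, 33, 33, 34, 34, 35, 35, 35, 36, 37, 37, 37, 37, 37, 38, 38, 39, 40, 40, 41, 41, 42, 42, 42, 43, 43, 44, 45, 47, 47, 47, 47, 48, 48, 48, 49, 49, 50, 50, 50, 51, 52, 53, 53, 53, 54, 54, 55, 55, 55, 56, 56, 56, 57,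 57, 57, 57, 57, 57, 57, 58, 58, 58, 59, 59, 60, 60, 61, 63, 63, 63, 64, 65, 65, 66, 66, 66, 66, 67, 67, 67, 67, 68, 68, 69, 69, 70, 71, 72, 73, 73, 73, 74, 74, 75, 75, 76, 77, 77, 78, 79, 79, 79, 80, 80, 80, 81, 81, 81, 82, 83, 83, 83, 83, 84, 85, 86, 86, 90, 90, 91, 91, 92, 93, 94, 95, 98, 101, 101, 102, 104, 105, 106, 106, 107, 107, 107, 107, 111, 112, 114, 114, 115, 115, 116, 116, 118, 118, 119, 121, 123, 124, 124, 125, 125, 127, 128, 129, 130, 131, 134, 135, 137, 137, 138, 138, 138, 140, 149, 151, 152, 154, 157, 159, 172, 182, 198, 201, 210, 216, 217, 222, 223, 226, 236, 237, 263, 277]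

/-- and the root element that maps the parent to it. -/
def gen7 : List ℕ := [0, 1, 2, 3, 4, 6, 7, 8, 10, 2, 4, 6, 7, 8, 9, 10, 2, 3, 4, 6, 7, 8, 9, 10, 11, 4, 6, 7, 9, 10, 11, 3, 5, 6, 8, 9, 10, 3, 6, 7, 8, 10, 1, 2, 6, 8, 10, 2, 3, 7, 0, 2, 4, 2, 4, 6, 7, 8, 9, 10, 11, 5, 6, 8, 9, 10, 3, 5, 6, 7, 8, 10, 1, 6, 7, 8, 9, 10, 0, 3, 7, 9, 0, 1, 2, 4, 9, 10, 0, 2, 4, 6, 10, 3, 6, 8, 9, 6, 9, 10, 11, 6, 8, 9, 10, 11, 6, 7, 8, 10, 6, 8, 9, 10, 11, 0, 2, 3, 5, 7, 8, 9, 10, 11, 1, 4, 9, 11, 1, 2, 4, 6, 0, 2, 3, 6, 10, 11, 3, 7, 9, 10, 1, 8, 9, 10, 0, 1, 3, 4, 9, 10, 0, 11, 2, 3, 5, 6, 11, 9, 11, 3, 6, 7, 9, 10, 3, 5, 0, 1, 2, 1, 6, 8, 9, 10, 11, 3, 10, 10, 3, 7, 1, 2, 8, 9, 10, 6, 9, 5, 3, 2, 3, 8, 11, 4, 7, 9, 1, 2, 4, 6, 9, 10, 3, 6, 8, 9, 6, 9, 6, 8, 11, 6, 8, 10, 0, 3, 5, 8, 9, 10, 11, 1, 9, 10, 4, 10, 2, 5, 9, 0, 5, 7, 10, 4, 10, 3, 6, 9, 10, 5, 7, 8, 11, 5, 8,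 6, 8, 3, 10, 6, 7, 9, 10, 8, 10, 7, 10, 9, 0, 6, 3, 3, 7, 9, 2, 4, 6, 0, 3, 4, 1, 2, 5, 7, 10, 2, 7, 1, 2, 5, 7, 7, 10, 2, 9, 9, 9, 9, 6, 9, 10, 11, 5, 3, 8, 1, 2, 4, 7, 7, 11, 1, 3, 5, 10, 5, 9, 8, 10, 10, 9, 2, 5, 9, 4, 7, 3, 4, 10, 10, 6, 9, 10, 2, 5, 7, 8, 11, 3, 5, 1, 6, 5, 7, 1, 5, 2, 2, 9, 5, 9, 3, 3, 9, 9, 1, 9, 7, 9]

theorem cert7 : PCert 351 tb7 lgf7 sgf7 codes7 where
  pos := by norm_num
  normv := by decide +kernel
  act := by decide +kernel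
  codes_eq := by decide +kernel
  nodup := by decide +kernel

theorem trans7 : ∀ i : Fin 351, ∃ g : ↥G23, piP cert7 g ⟨0, cert7.pos⟩ = i :=
  piP_trans cert7 par7 gen7 (by decide +kernel)

end Cfsg.Agent.Helper37.G3
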