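import Mathlib
import Cfsg.Agent.Lib.Helper37.G3G
import Cfsg.Agent.Lib.Helper37.G3P7a
import Cfsg.Agent.Lib.Helper37.G3P7b

/-!
# `G_2(3)` has no elements of order `7 s`
-/

set_option autoImplicit false
set_option maxRecDepth 1000000

namespace Cfsg.Agent.Helper37.G3

open Matrix Cfsg.Lie Equiv Cfsg.Agent.Helper37.Exc

/-- Where the elements of order 7 are in the table. -/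
def ysI7 : List ℕ := [40, 42, 44, 46, 48, 50, 52, 54, 56, 58, 60, 62, 64, 66, 68, 70, 72, 74, 76, 78, 80, 82, 84, 86, 88, 90, 92, 94, 96, 98, 100, 102, 104, 106, 108, 110, 112, 114, 116, 118, 120, 122, 124, 126, 128, 130, 132, 134, 136, 138, 140, 142, 144, 146, 148, 150, 152, 154, 156, 158, 160, 162, 164, 166, 168]

/-- The elements of order 7. -/
def Y7 (j : ℕ) : List ℕ := T7.getD (ysI7.getD j 0) []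

/-- The element of the normalizer. -/
def N7 : List ℕ := T7.getD 172 []

/-- The test vector. -/
def u7 : List ℕ := [1, 2, 1, 1, 2, 2, 0, 0, 2, 1, 2, 2, 0, 0]

/-- The orbits of the test vector. -/
def Ov7 : List (List (List ℕ)) :=
  [[[1, 2, 1, 1, 2, 2, 0, 0, 2, 1, 2, 2, 0, 0], [1, 1, 2, 0, 1, 0, 0, 0, 0, 1, 1, 0, 0, 0], [1, 2, 1, 1, 1, 0, 0, 0, 0, 1, 2, 0, 0, 0], [2, 1, 0, 1, 1, 2, 1, 0, 1, 1, 0, 0, 0, 0], [2, 0, 2, 0, 0, 0, 0, 1, 0, 2, 1, 0, 0, 2], [1, 2, 2, 0, 0, 2, 0, 2, 0, 2, 1, 0, 2, 0], [0, 2, 0, 1, 1, 1, 0, 0, 1, 0, 1, 0, 0, 2]],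
  [[1, 2, 1, 1, 2, 2, 0, 0, 2, 1, 2, 2, 0, 0], [1, 1, 0, 0, 1, 0, 0, 2, 0, 2, 1, 0, 2, 0], [2, 2, 2, 2, 2, 1, 2, 1, 1, 2, 0, 0, 0, 1], [2, 0, 2, 0, 2, 0, 2, 2, 1, 1, 2, 0, 0, 1], [2, 2, 2, 1, 1, 1, 2, 2, 1, 2, 2, 1, 0, 2], [0, 1, 1, 2, 1, 0, 0, 1, 1, 2, 0, 2, 0, 2], [1, 1, 1, 0, 0, 2, 1, 1, 0, 1, 2, 1, 1, 0]],
  [[1, 2, 1, 1, 2, 2, 0, 0, 2, 1, 2, 2, 0, 0], [1, 0, 2, 1, 1, 2, 0, 0, 0, 2, 0, 0, 0, 2], [0, 1, 1, 2, 2, 2, 1, 1, 0, 1, 2, 0, 2, 2], [0, 1, 0, 0, 2, 2, 2, 0, 1, 0, 1, 0, 2, 1], [0, 2, 1, 0, 2, 1, 2, 0, 0, 1, 0, 0, 2, 0], [2, 2, 1, 2, 2, 0, 2, 1, 2, 1, 2, 0, 1, 2], [1, 2, 1, 2, 1, 2, 2, 1, 2, 0, 0, 0, 0, 1]],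
  [[1, 2, 1, 1, 2, 2, 0, 0, 2, 1, 2, 2, 0, 0], [0, 2, 2, 0, 1, 2, 2, 2, 0, 0, 1, 0, 1, 0], [1, 0, 1, 1, 0, 1, 0, 0, 0, 2, 2, 0, 1, 0], [1, 0, 2, 2, 1, 1, 0, 2, 0, 1, 1, 0, 1, 1], [0, 2, 0, 1, 2, 2, 1, 2, 0, 2, 2, 2, 0, 0], [1, 0, 1, 1, 0, 1, 0, 1, 2, 1, 2, 1, 0, 2], [2, 0, 2, 0, 0, 0, 1, 2, 2, 1, 2, 1, 0, 0]],
  [[1, 2, 1, 1, 2, 2, 0, 0, 2, 1, 2, 2, 0, 0], [1, 0, 1, 1, 0, 1, 2, 1, 1, 1, 0, 0, 1, 2], [0, 2, 2, 0, 2, 1, 2, 2, 1, 1, 2, 0, 2, 2], [0, 1, 2, 1, 0, 1, 0, 0, 2, 1, 1, 1, 0, 0], [2, 2, 0, 1, 1, 2, 2, 0, 1, 2, 2, 0, 0, 2], [2, 2, 2, 1, 1, 2, 2, 2, 2, 2, 0, 0, 0, 1], [0, 0, 2, 0, 1, 2, 1, 0, 1, 1, 2, 2, 0, 2]],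
  [[1, 2, 1, 1, 2, 2, 0, 0, 2, 1, 2, 2, 0, 0], [1, 0, 1, 0, 0, 0, 0, 0, 1, 2, 1, 1, 0, 1], [1, 2, 0, 0, 0, 0, 2, 1, 0, 2, 2, 1, 1, 0], [1, 1, 0, 0, 2, 0, 1, 1, 0, 1, 2, 2, 0, 1], [2, 1, 1, 0, 2, 2, 1, 0, 1, 0, 2, 2, 0, 0], [2, 2, 1, 2, 2, 2, 0, 0, 0, 1, 2, 0, 0, 0], [1, 1, 2, 0, 2, 0, 0, 0, 0, 1, 2, 0, 0, 0]],
  [[1, 2, 1, 1, 2, 2, 0, 0, 2, 1, 2, 2, 0, 0], [2, 1, 0, 1, 2, 0, 2, 2, 2, 1, 1, 2, 2, 2], [2, 0, 0, 0, 1, 1, 1, 1, 1, 2, 1, 0, 2, 0], [0, 2, 2, 1, 2, 1, 1, 1, 0, 1, 1, 2, 1, 1], [0, 2, 2, 2, 2, 1, 2, 1, 2, 2, 0, 2, 0, 2], [1, 1, 2, 1, 0, 1, 0, 1, 0, 1, 1, 0, 2, 2], [0, 1, 0, 2, 0, 2, 0, 0, 2, 1, 1, 1, 0, 2]],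
  [[1, 2, 1, 1, 2, 2, 0, 0, 2, 1, 2, 2, 0, 0], [0, 2, 1, 2, 1, 1, 2, 1, 1, 2, 0, 2, 0, 2], [2, 1, 0, 0, 2, 2, 1, 0, 1, 2, 2, 1, 0, 1], [1, 2, 1, 2, 0, 1, 0, 1, 0, 2, 1, 1, 1, 1], [0, 0, 0, 2, 1, 1, 2, 2, 1, 1, 2, 2, 1, 1], [2, 2, 2, 1, 0, 1, 0, 0, 0, 1, 1, 0, 0, 0], [0, 0, 1, 1, 0, 1, 0, 2, 1, 1, 1, 1, 1, 1]],
  [[1, 2, 1, 1, 2, 2, 0, 0, 2, 1, 2, 2, 0, 0], [0, 2, 0, 0, 2, 1, 2, 1, 0, 1, 2, 2, 1, 1], [1, 2, 0, 0, 2, 0, 1, 0, 1, 2, 1, 0, 1, 2], [2, 2, 1, 0, 0, 1, 1, 2, 2, 1, 1, 2, 0, 2], [0, 2, 0, 2, 0, 0, 1, 1, 1, 0, 1, 2, 1, 0], [2, 2, 1, 1, 0, 1, 0, 0, 1, 2, 2, 0, 1, 2], [0, 0, 2, 0, 1, 2, 1, 1, 0, 2, 0, 0, 2, 2]],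
  [[1, 2, 1, 1, 2, 2, 0, 0, 2, 1, 2, 2, 0, 0], [0, 0, 0, 0, 1, 1, 2, 1, 1, 1, 0, 2, 1, 2], [2, 0, 1, 0, 2, 1, 2, 1, 2, 0, 2, 0, 2, 2], [1, 2, 1, 2, 1, 2, 1, 0, 2, 1, 2, 2, 0, 0], [0, 0, 0, 0, 1, 1, 2, 1, 1, 0, 1, 2, 0, 0], [0, 1, 0, 0, 1, 2, 1, 2, 0, 1, 0, 1, 0, 1], [2, 1, 2, 2, 1, 2, 1, 1, 2, 2, 2, 2, 0, 2]],
  [[1, 2, 1, 1, 2, 2, 0, 0, 2, 1, 2, 2, 0, 0], [1, 1, 1, 2, 0, 1, 2, 0, 1, 2, 1, 1, 1, 1], [2, 0, 0, 1, 1, 2, 2, 0, 1, 0, 2, 1, 1, 0], [0, 0, 2, 2, 1, 1, 2, 2, 0, 2, 1, 2, 2, 0], [2, 1, 0, 2, 1, 1, 1, 1, 1, 0, 1, 1, 1, 2], [1, 0, 0, 0, 2, 2, 0, 2, 2, 2, 2, 2, 1, 2], [1, 0, 1, 2, 0, 1, 0, 0, 1, 1, 1, 1, 1, 2]],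
  [[1, 2, 1, 1, 2, 2, 0, 0, 2, 1, 2, 2, 0, 0], [1, 2, 0, 2, 0, 1, 1, 1, 0, 2, 1, 0, 0, 0], [2, 0, 0, 1, 1, 2, 1, 0, 2, 0, 0, 2, 1, 2], [0, 1, 1, 0, 2, 2, 2, 0, 1, 2, 0, 1, 2, 0], [1, 2, 0, 0, 0, 0, 2, 2, 0, 1, 2, 1, 2, 1], [0, 0, 2, 0, 0, 0, 0, 2, 1, 1, 2, 1, 1, 1], [0, 0, 1, 1, 2, 1, 1, 0, 0, 1, 2, 2, 0, 1]],
  [[1, 2, 1, 1, 2, 2, 0, 0, 2, 1, 2, 2, 0, 0], [1, 2, 1, 1, 2, 1, 2, 2, 1, 0, 0, 0, 0, 1], [2, 0, 2, 0, 1, 1, 1, 0, 1, 0, 2, 1, 1, 2], [2, 0, 1, 0, 1, 0, 2, 2, 2, 2, 2, 1, 2, 0], [2, 0, 0, 1, 0, 2, 2, 1, 2, 2, 2, 1, 2, 2], [0, 1, 0, 2, 0, 0, 2, 0, 0, 1, 1, 2, 0, 2], [1, 1, 1, 1, 1, 0, 0, 0, 2, 0, 2, 1, 0, 0]],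
  [[1, 2, 1, 1, 2, 2, 0, 0, 2, 1, 2, 2, 0, 0], [1, 1, 2, 2, 2, 1, 2, 1, 0, 2, 1, 0, 1, 2], [0, 1, 1, 2, 0, 1, 0, 0, 0, 1, 0, 2, 0, 0], [1, 2, 1, 2, 0, 0, 2, 1, 1, 2, 1, 2, 0, 2], [1, 1, 0, 2, 0, 1, 1, 1, 2, 1, 2, 1, 2, 1], [0, 0, 2, 0, 0, 2, 2, 0, 0, 2, 1, 1, 2, 2], [0, 1, 0, 0, 2, 2, 2, 0, 1, 0, 0, 1, 2, 0]],
  [[1, 2, 1, 1, 2, 2, 0, 0, 2, 1, 2, 2, 0, 0], [1, 1, 1, 0, 2, 1, 2, 2, 2, 2, 1, 0, 0, 2], [1, 1, 1, 1, 2, 0, 2, 1, 0, 1, 1, 1, 2, 1], [1, 0, 0, 2, 0, 0, 1, 1, 1, 1, 0, 2, 0, 2], [2, 1, 0, 0, 2, 2, 1, 0, 1, 2, 1, 2, 0, 0], [1, 2, 0, 0, 1, 0, 1, 0, 2, 2, 2, 0, 2, 2], [2, 2, 0, 2, 0, 1, 2, 2, 1, 0, 2, 2, 2, 2]],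
  [[1, 2, 1, 1, 2, 2, 0, 0, 2, 1, 2, 2, 0, 0], [1, 0, 1, 2, 1, 2, 1, 2, 1, 1, 2, 1, 1, 0], [2, 0, 1, 2, 2, 2, 0, 0, 1, 1, 1, 2, 1, 2], [2, 2, 0, 1, 2, 1, 0, 2, 2, 0, 2, 2, 2, 1], [1, 1, 0, 0, 0, 0, 2, 2, 0, 2, 2, 0, 0, 1], [1, 1, 2, 2, 1, 2, 1, 2, 2, 1, 0, 1, 0, 1], [1, 0, 1, 1, 1, 0, 2, 1, 1, 0, 0, 1, 2, 1]],
  [[1, 2, 1, 1, 2, 2, 0, 0, 2, 1, 2, 2, 0, 0], [1, 0, 0, 0, 1, 0, 1, 1, 1, 2, 0, 1, 1, 0], [0, 2, 0, 0, 2, 0, 2, 0, 0, 0, 0, 0, 2, 0], [0, 2, 0, 2, 2, 1, 0, 0, 2, 0, 0, 0, 0, 2], [0, 2, 2, 1, 2, 1, 1, 1, 2, 1, 2, 1, 2, 1], [0, 0, 0, 2, 1, 2, 0, 0, 2, 2, 2, 2, 2, 2], [1, 1, 0, 0, 2, 0, 0, 1, 0, 2, 0, 0, 2, 1]],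
  [[1, 2, 1, 1, 2, 2, 0, 0, 2, 1, 2, 2, 0, 0], [1, 2, 0, 0, 1, 2, 1, 0, 0, 2, 0, 1, 1, 1], [1, 2, 2, 0, 1, 1, 2, 0, 0, 2, 1, 2, 2, 0], [1, 1, 2, 1, 1, 0, 1, 1, 2, 1, 2, 2, 0, 2], [0, 2, 2, 1, 1, 1, 0, 1, 2, 0, 0, 0, 1, 0], [0, 1, 2, 2, 0, 2, 1, 2, 1, 2, 1, 1, 2, 0], [0, 1, 0, 0, 2, 0, 2, 0, 1, 0, 1, 2, 1, 2]],
  [[1, 2, 1, 1, 2, 2, 0, 0, 2, 1, 2, 2, 0, 0], [1, 0, 1, 0, 0, 2, 0, 2, 0, 0, 2, 0, 0, 1], [2, 1, 0, 0, 1, 1, 2, 1, 0, 1, 1, 2, 0, 2], [0, 2, 2, 0, 2, 1, 1, 0, 0, 1, 1, 0, 1, 0], [2, 2, 2, 1, 2, 1, 2, 1, 0, 2, 1, 0, 1, 1], [2, 0, 2, 2, 2, 1, 0, 0, 2, 2, 0, 0, 2, 0], [2, 1, 2, 2, 0, 1, 1, 2, 0, 2, 0, 1, 0, 0]],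
  [[1, 2, 1, 1, 2, 2, 0, 0, 2, 1, 2, 2, 0, 0], [1, 1, 2, 0, 2, 1, 0, 0, 2, 0, 2, 2, 0, 0], [0, 2, 0, 2, 1, 2, 2, 1, 0, 2, 1, 0, 0, 2], [1, 0, 0, 0, 1, 2, 2, 2, 2, 2, 1, 1, 1, 1], [1, 2, 2, 2, 1, 0, 1, 1, 2, 2, 0, 0, 2, 0], [1, 1, 2, 2, 0, 2, 1, 1, 0, 1, 2, 0, 2, 1], [1, 1, 2, 0, 2, 1, 1, 1, 1, 0, 0, 1, 0, 1]],
  [[1, 2, 1, 1, 2, 2, 0, 0, 2, 1, 2, 2, 0, 0], [1, 1, 0, 0, 1, 0, 2, 0, 0, 0, 1, 0, 2, 1], [0, 0, 1, 0, 0, 2, 1, 0, 2, 1, 1, 2, 2, 1], [0, 0, 0, 0, 1, 1, 2, 1, 1, 1, 2, 0, 2, 2], [1, 2, 2, 0, 2, 1, 1, 1, 2, 2, 2, 2, 0, 2], [1, 2, 2, 0, 0, 1, 2, 2, 0, 0, 0, 2, 0, 0], [2, 2, 1, 2, 1, 2, 0, 1, 2, 2, 2, 1, 1, 2]],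
  [[1, 2, 1, 1, 2, 2, 0, 0, 2, 1, 2, 2, 0, 0], [1, 2, 1, 2, 1, 0, 2, 2, 1, 1, 0, 2, 1, 2], [2, 2, 0, 1, 2, 1, 0, 0, 0, 1, 1, 0, 0, 0], [2, 1, 1, 2, 2, 1, 1, 1, 2, 2, 0, 2, 2, 0], [1, 0, 0, 2, 2, 1, 1, 0, 1, 2, 2, 1, 2, 0], [1, 1, 2, 0, 2, 2, 0, 1, 1, 2, 1, 2, 1, 1], [2, 0, 0, 2, 0, 0, 1, 0, 2, 1, 2, 0, 2, 1]],
  [[1, 2, 1, 1, 2, 2, 0, 0, 2, 1, 2, 2, 0, 0], [2, 1, 1, 2, 1, 1, 0, 0, 0, 1, 0, 0, 1, 1], [1, 1, 1, 0, 2, 2, 0, 2, 1, 1, 0, 1, 1, 1], [0, 0, 1, 0, 0, 0, 1, 1, 0, 2, 2, 2, 1, 1], [0, 0, 0, 1, 0, 0, 2, 2, 2, 0, 2, 1, 0, 0], [1, 2, 2, 0, 0, 1, 2, 0, 2, 1, 1, 1, 2, 0], [1, 0, 0, 2, 1, 0, 0, 1, 2, 1, 2, 2, 1, 0]],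
  [[1, 2, 1, 1, 2, 2, 0, 0, 2, 1, 2, 2, 0, 0], [2, 0, 0, 1, 0, 2, 2, 1, 2, 1, 2, 2, 2, 1], [1, 2, 0, 0, 1, 1, 2, 1, 0, 1, 1, 2, 0, 2], [2, 2, 0, 1, 2, 2, 0, 2, 0, 0, 0, 1, 0, 2], [0, 0, 2, 2, 1, 0, 0, 0, 2, 1, 2, 0, 0, 2], [2, 2, 1, 2, 2, 2, 1, 1, 1, 1, 0, 0, 0, 2], [0, 2, 0, 0, 2, 1, 2, 0, 0, 0, 1, 1, 0, 0]],
  [[1, 2, 1, 1, 2, 2, 0, 0, 2, 1, 2, 2, 0, 0], [1, 2, 2, 1, 0, 0, 1, 1, 0, 1, 1, 1, 1, 1], [0, 2, 2, 2, 2, 2, 2, 0, 1, 1, 0, 1, 1, 2], [2, 2, 0, 2, 1, 1, 0, 1, 1, 0, 2, 0, 1, 1], [2, 0, 2, 1, 0, 1, 2, 0, 2, 0, 1, 1, 2, 1], [2, 0, 0, 2, 2, 1, 2, 0, 2, 0, 1, 2, 2, 0], [1, 1, 2, 0, 2, 2, 1, 1, 1, 1, 2, 2, 2, 1]],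
  [[1, 2, 1, 1, 2, 2, 0, 0, 2, 1, 2, 2, 0, 0], [0, 1, 2, 1, 1, 1, 2, 2, 0, 2, 1, 2, 2, 2], [2, 0, 2, 1, 2, 1, 0, 1, 2, 2, 1, 1, 2, 0], [1, 0, 0, 1, 0, 2, 1, 2, 2, 1, 1, 2, 0, 2], [0, 2, 1, 0, 0, 0, 2, 1, 1, 2, 2, 2, 0, 2], [1, 2, 0, 0, 1, 2, 0, 0, 2, 1, 1, 0, 0, 2], [2, 1, 2, 2, 1, 1, 2, 2, 2, 2, 2, 1, 0, 1]],
  [[1, 2, 1, 1, 2, 2, 0, 0, 2, 1, 2, 2, 0, 0], [1, 2, 0, 2, 1, 2, 2, 1, 0, 1, 0, 1, 0, 1], [1, 1, 1, 2, 2, 2, 0, 1, 2, 1, 1, 0, 2, 0], [1, 2, 0, 0, 1, 2, 1, 2, 0, 2, 1, 1, 0, 0], [1, 1, 1, 2, 0, 1, 2, 1, 2, 1, 0, 1, 1, 2], [0, 1, 1, 0, 0, 2, 1, 2, 2, 1, 0, 2, 1, 2], [1, 0, 2, 2, 2, 1, 0, 0, 0, 2, 0, 0, 0, 2]],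
  [[1, 2, 1, 1, 2, 2, 0, 0, 2, 1, 2, 2, 0, 0], [1, 0, 1, 0, 2, 0, 0, 1, 1, 2, 1, 1, 0, 0], [2, 1, 1, 2, 2, 2, 1, 2, 1, 0, 0, 0, 1, 2], [2, 0, 0, 2, 0, 1, 1, 0, 0, 0, 2, 0, 2, 2], [2, 2, 0, 1, 0, 1, 0, 0, 2, 1, 0, 0, 0, 2], [1, 2, 0, 0, 1, 1, 2, 1, 0, 2, 2, 0, 1, 0], [0, 2, 0, 0, 2, 2, 1, 2, 0, 1, 2, 0, 2, 0]],
  [[1, 2, 1, 1, 2, 2, 0, 0, 2, 1, 2, 2, 0, 0], [1, 1, 0, 0, 1, 0, 0, 0, 0, 1, 0, 0, 0, 2], [1, 0, 0, 0, 1, 0, 2, 1, 1, 2, 0, 2, 2, 1], [1, 0, 1, 1, 1, 2, 0, 2, 1, 1, 0, 1, 0, 2], [0, 1, 2, 0, 2, 2, 2, 1, 2, 0, 1, 1, 1, 2], [0, 1, 2, 2, 1, 0, 0, 1, 2, 0, 1, 2, 2, 0], [2, 1, 0, 2, 1, 0, 2, 1, 1, 1, 2, 1, 1, 2]],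
  [[1, 2, 1, 1, 2, 2, 0, 0, 2, 1, 2, 2, 0, 0], [1, 2, 0, 0, 2, 1, 2, 0, 2, 0, 0, 2, 1, 0], [1, 1, 1, 2, 2, 0, 2, 0, 2, 0, 0, 0, 1, 1], [2, 2, 2, 2, 2, 1, 0, 1, 1, 0, 0, 0, 1, 0], [0, 0, 2, 2, 0, 0, 2, 0, 0, 1, 2, 2, 0, 2], [0, 1, 0, 2, 1, 2, 0, 1, 2, 0, 1, 0, 2, 1], [1, 1, 0, 0, 0, 0, 2, 1, 0, 2, 1, 0, 1, 2]],
  [[1, 2, 1, 1, 2, 2, 0, 0, 2, 1, 2, 2, 0, 0], [0, 0, 1, 1, 0, 2, 0, 1, 2, 1, 0, 2, 0, 2], [2, 0, 1, 2, 1, 1, 0, 2, 0, 2, 0, 0, 0, 1], [0, 2, 0, 1, 1, 2, 0, 0, 2, 0, 1, 1, 0, 0], [2, 0, 2, 0, 1, 2, 0, 1, 2, 1, 0, 0, 2, 1], [2, 1, 2, 2, 2, 2, 2, 2, 0, 0, 1, 1, 0, 0], [2, 1, 2, 2, 2, 1, 2, 0, 1, 0, 2, 0, 1, 2]],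
  [[1, 2, 1, 1, 2, 2, 0, 0, 2, 1, 2, 2, 0, 0], [2, 1, 2, 1, 2, 0, 2, 0, 2, 1, 1, 2, 1, 1], [1, 1, 1, 1, 1, 0, 0, 1, 2, 2, 0, 0, 2, 2], [1, 2, 0, 0, 1, 2, 2, 0, 1, 0, 2, 0, 2, 2], [0, 0, 1, 0, 2, 2, 2, 1, 2, 0, 1, 0, 2, 2], [0, 1, 0, 1, 2, 1, 1, 1, 2, 1, 1, 2, 1, 0], [2, 1, 0, 1, 2, 1, 2, 0, 0, 1, 1, 1, 0, 2]],
  [[1, 2, 1, 1, 2, 2, 0, 0, 2, 1, 2, 2, 0, 0], [0, 0, 1, 2, 1, 2, 0, 0, 2, 1, 0, 2, 1, 2], [1, 1, 0, 0, 1, 1, 1, 1, 0, 1, 0, 2, 1, 2], [1, 1, 1, 2, 0, 1, 0, 1, 0, 0, 1, 0, 2, 2], [2, 0, 2, 1, 0, 2, 1, 0, 1, 0, 1, 2, 1, 0], [1, 2, 0, 2, 0, 1, 1, 1, 1, 1, 1, 0, 1, 1], [1, 2, 0, 0, 2, 2, 2, 0, 0, 0, 0, 1, 2, 2]],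
  [[1, 2, 1, 1, 2, 2, 0, 0, 2, 1, 2, 2, 0, 0], [2, 0, 2, 0, 2, 1, 1, 0, 0, 1, 0, 2, 1, 2], [1, 1, 2, 0, 1, 0, 1, 2, 2, 1, 1, 0, 1, 1], [1, 1, 1, 1, 2, 0, 0, 0, 2, 2, 2, 0, 1, 2], [1, 0, 1, 0, 2, 2, 2, 0, 2, 1, 1, 2, 0, 1], [0, 2, 2, 0, 0, 1, 1, 2, 0, 2, 1, 2, 1, 0], [0, 0, 0, 1, 0, 0, 2, 2, 1, 0, 2, 1, 2, 0]],
  [[1, 2, 1, 1, 2, 2, 0, 0, 2, 1, 2, 2, 0, 0], [0, 2, 0, 1, 1, 1, 0, 2, 2, 1, 0, 0, 2, 2], [2, 0, 1, 0, 2, 1, 2, 0, 0, 1, 1, 1, 2, 1], [1, 1, 0, 1, 2, 2, 0, 1, 1, 1, 2, 2, 2, 2], [0, 1, 1, 1, 2, 0, 1, 0, 1, 2, 0, 1, 0, 0], [2, 1, 0, 1, 1, 2, 1, 0, 2, 1, 1, 1, 0, 2], [0, 2, 0, 1, 2, 1, 2, 0, 1, 2, 0, 2, 0, 2]],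
  [[1, 2, 1, 1, 2, 2, 0, 0, 2, 1, 2, 2, 0, 0], [1, 2, 2, 0, 0, 0, 0, 2, 1, 1, 2, 1, 0, 2], [2, 1, 1, 2, 2, 2, 2, 0, 2, 2, 0, 0, 2, 2], [1, 0, 1, 2, 0, 1, 0, 2, 0, 1, 0, 1, 1, 2], [1, 1, 2, 0, 1, 0, 2, 2, 0, 0, 2, 1, 2, 0], [1, 0, 1, 1, 2, 1, 0, 2, 0, 2, 2, 0, 1, 0], [2, 0, 1, 0, 2, 0, 1, 1, 1, 0, 1, 1, 0, 0]],
  [[1, 2, 1, 1, 2, 2, 0, 0, 2, 1, 2, 2, 0, 0], [2, 1, 1, 0, 1, 1, 1, 2, 0, 2, 2, 2, 0, 0], [0, 2, 2, 1, 0, 1, 2, 0, 1, 0, 1, 2, 2, 2], [0, 0, 1, 2, 2, 2, 0, 2, 2, 2, 0, 2, 2, 2], [0, 0, 1, 1, 2, 0, 2, 2, 0, 0, 1, 0, 2, 2], [1, 0, 0, 2, 0, 0, 1, 1, 0, 1, 0, 2, 2, 2], [1, 2, 2, 2, 1, 0, 2, 0, 2, 1, 1, 1, 2, 1]],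
  [[1, 2, 1, 1, 2, 2, 0, 0, 2, 1, 2, 2, 0, 0], [2, 2, 2, 0, 2, 2, 2, 0, 2, 2, 2, 2, 0, 0], [0, 2, 0, 2, 0, 0, 1, 1, 2, 0, 1, 2, 2, 2], [2, 0, 0, 1, 2, 1, 2, 2, 2, 2, 1, 1, 0, 2], [2, 0, 0, 1, 2, 1, 0, 2, 0, 2, 0, 0, 1, 1], [1, 1, 2, 0, 2, 0, 2, 2, 1, 1, 1, 0, 1, 2], [1, 2, 2, 1, 1, 0, 1, 0, 1, 2, 0, 1, 0, 0]],
  [[1, 2, 1, 1, 2, 2, 0, 0, 2, 1, 2, 2, 0, 0], [1, 2, 0, 1, 1, 2, 1, 0, 1, 1, 2, 1, 0, 2], [1, 0, 1, 0, 0, 2, 1, 1, 1, 1, 2, 0, 1, 0], [2, 1, 0, 2, 1, 0, 1, 1, 1, 1, 2, 2, 1, 0], [1, 0, 0, 2, 1, 2, 0, 1, 1, 0, 0, 1, 0, 2], [1, 2, 1, 0, 2, 2, 2, 1, 0, 2, 1, 2, 2, 0], [2, 2, 0, 0, 2, 2, 0, 2, 0, 1, 0, 1, 2, 2]],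
  [[1, 2, 1, 1, 2, 2, 0, 0, 2, 1, 2, 2, 0, 0], [1, 0, 0, 2, 1, 2, 2, 0, 1, 0, 2, 2, 2, 0], [2, 2, 0, 1, 1, 2, 2, 0, 0, 2, 1, 2, 0, 1], [1, 2, 2, 2, 1, 0, 0, 0, 1, 2, 0, 1, 1, 2], [1, 2, 0, 0, 2, 2, 0, 0, 1, 1, 0, 2, 1, 2], [2, 2, 0, 2, 1, 1, 0, 1, 0, 0, 0, 2, 0, 2], [2, 1, 2, 1, 0, 0, 2, 0, 2, 0, 1, 0, 2, 2]],
  [[1, 2, 1, 1, 2, 2, 0, 0, 2, 1, 2, 2, 0, 0], [1, 0, 0, 1, 2, 1, 1, 1, 1, 1, 0, 2, 0, 2], [2, 0, 0, 1, 0, 0, 2, 0, 0, 1, 0, 1, 1, 2], [1, 2, 0, 0, 1, 0, 2, 0, 2, 0, 1, 2, 1, 0], [2, 2, 1, 2, 0, 2, 0, 0, 2, 2, 1, 0, 2, 2], [1, 0, 1, 1, 1, 2, 0, 1, 0, 2, 1, 1, 0, 1], [0, 1, 2, 2, 1, 1, 2, 0, 2, 1, 2, 1, 0, 0]],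
  [[1, 2, 1, 1, 2, 2, 0, 0, 2, 1, 2, 2, 0, 0], [1, 0, 0, 0, 1, 1, 2, 2, 2, 2, 1, 0, 1, 1], [2, 0, 1, 0, 0, 2, 1, 1, 0, 1, 1, 1, 0, 1], [0, 1, 1, 1, 1, 1, 1, 2, 0, 1, 1, 2, 1, 2], [1, 1, 0, 1, 1, 1, 0, 2, 0, 1, 2, 2, 0, 0], [2, 1, 2, 0, 2, 2, 0, 2, 1, 1, 0, 1, 2, 2], [2, 1, 1, 0, 2, 0, 2, 0, 1, 2, 2, 1, 2, 0]],
  [[1, 2, 1, 1, 2, 2, 0, 0, 2, 1, 2, 2, 0, 0], [0, 1, 2, 2, 1, 1, 0, 2, 2, 1, 2, 2, 2, 2], [1, 2, 2, 0, 1, 0, 1, 0, 2, 1, 0, 2, 0, 0], [1, 1, 0, 2, 1, 2, 0, 0, 0, 0, 1, 1, 0, 1], [2, 2, 2, 2, 0, 0, 1, 0, 1, 0, 0, 2, 0, 0], [0, 1, 1, 2, 1, 1, 1, 1, 0, 2, 1, 2, 1, 1], [0, 1, 2, 1, 2, 1, 2, 1, 2, 2, 2, 1, 2, 1]],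
  [[1, 2, 1, 1, 2, 2, 0, 0, 2, 1, 2, 2, 0, 0], [1, 1, 2, 1, 0, 2, 0, 1, 1, 0, 1, 1, 2, 0], [1, 1, 2, 2, 2, 2, 1, 1, 0, 1, 0, 0, 2, 1], [2, 2, 2, 1, 0, 2, 0, 0, 0, 1, 0, 2, 0, 0], [2, 2, 0, 0, 2, 2, 1, 1, 0, 1, 2, 0, 2, 2], [2, 0, 1, 0, 1, 1, 2, 2, 0, 0, 1, 1, 1, 1], [0, 1, 2, 2, 1, 2, 1, 2, 0, 0, 0, 0, 2, 1]],
  [[1, 2, 1, 1, 2, 2, 0, 0, 2, 1, 2, 2, 0, 0], [1, 1, 2, 2, 1, 2, 1, 0, 0, 2, 1, 1, 1, 2], [2, 2, 2, 1, 2, 2, 1, 0, 1, 0, 1, 2, 1, 1], [1, 0, 2, 1, 1, 0, 2, 1, 1, 0, 2, 2, 2, 2], [1, 1, 0, 0, 1, 2, 1, 0, 1, 2, 1, 0, 1, 1], [2, 1, 1, 0, 2, 1, 1, 1, 1, 1, 0, 0, 2, 2], [1, 2, 1, 1, 0, 0, 1, 1, 0, 2, 2, 2, 2, 1]],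
  [[1, 2, 1, 1, 2, 2, 0, 0, 2, 1, 2, 2, 0, 0], [0, 2, 2, 2, 0, 0, 0, 0, 2, 2, 2, 1, 2, 1], [1, 2, 2, 0, 0, 0, 2, 2, 0, 0, 1, 2, 0, 0], [1, 1, 0, 1, 1, 2, 1, 1, 0, 1, 1, 1, 0, 2], [1, 1, 0, 1, 1, 2, 0, 0, 0, 0, 0, 1, 0, 1], [0, 2, 2, 0, 1, 0, 1, 2, 2, 1, 0, 1, 2, 1], [0, 1, 0, 0, 2, 2, 1, 0, 2, 2, 2, 2, 1, 0]],
  [[1, 2, 1, 1, 2, 2, 0, 0, 2, 1, 2, 2, 0, 0], [0, 2, 0, 2, 2, 1, 0, 0, 1, 0, 2, 2, 0, 0], [1, 0, 1, 1, 2, 2, 1, 0, 1, 1, 0, 1, 1, 0], [2, 1, 2, 2, 2, 0, 1, 0, 0, 2, 1, 2, 0, 0], [2, 0, 2, 0, 0, 0, 0, 0, 2, 2, 1, 1, 2, 2], [2, 2, 2, 0, 1, 2, 2, 1, 1, 1, 1, 2, 2, 1], [0, 0, 0, 2, 2, 1, 0, 0, 1, 1, 0, 0, 2, 0]],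
  [[1, 2, 1, 1, 2, 2, 0, 0, 2, 1, 2, 2, 0, 0], [2, 0, 0, 0, 1, 0, 1, 2, 2, 1, 0, 1, 0, 1], [2, 2, 2, 0, 1, 1, 0, 0, 0, 0, 2, 1, 2, 0], [1, 2, 2, 0, 2, 0, 1, 0, 1, 1, 0, 1, 0, 0], [2, 0, 0, 1, 0, 0, 1, 0, 1, 1, 1, 0, 1, 1], [2, 0, 1, 0, 1, 2, 2, 2, 0, 0, 2, 0, 2, 1], [2, 0, 0, 1, 2, 1, 1, 2, 0, 2, 2, 1, 1, 0]],
  [[1, 2, 1, 1, 2, 2, 0, 0, 2, 1, 2, 2, 0, 0], [2, 2, 0, 0, 0, 2, 1, 0, 1, 2, 2, 0, 0, 1], [2, 1, 1, 1, 0, 2, 2, 1, 2, 1, 2, 2, 1, 0], [1, 1, 2, 2, 2, 0, 1, 1, 0, 1, 2, 1, 2, 1], [2, 2, 2, 1, 1, 1, 2, 2, 1, 2, 2, 2, 2, 1], [0, 2, 0, 0, 2, 0, 2, 1, 0, 0, 2, 0, 0, 0], [2, 1, 2, 0, 2, 1, 1, 1, 2, 2, 0, 0, 1, 2]],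
  [[1, 2, 1, 1, 2, 2, 0, 0, 2, 1, 2, 2, 0, 0], [0, 2, 0, 0, 1, 0, 2, 2, 0, 0, 0, 0, 2, 2], [2, 2, 2, 0, 0, 0, 1, 2, 2, 0, 1, 1, 1, 1], [0, 2, 2, 1, 2, 0, 1, 2, 0, 2, 0, 2, 2, 2], [1, 0, 0, 0, 2, 2, 0, 2, 2, 1, 0, 1, 0, 0], [2, 2, 1, 1, 0, 2, 2, 0, 2, 0, 2, 0, 2, 1], [0, 2, 2, 2, 1, 2, 0, 2, 2, 2, 2, 2, 0, 1]],
  [[1, 2, 1, 1, 2, 2, 0, 0, 2, 1, 2, 2, 0, 0], [2, 0, 2, 2, 2, 1, 0, 0, 1, 2, 1, 0, 2, 0], [0, 1, 2, 2, 1, 2, 1, 1, 0, 1, 1, 0, 1, 2], [0, 1, 2, 1, 1, 1, 1, 2, 2, 0, 1, 2, 0, 1], [1, 1, 2, 1, 2, 2, 0, 1, 2, 0, 0, 2, 2, 1], [2, 2, 0, 2, 0, 0, 2, 1, 2, 2, 1, 2, 2, 0], [0, 2, 0, 0, 1, 1, 1, 1, 0, 1, 0, 1, 2, 2]],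
  [[1, 2, 1, 1, 2, 2, 0, 0, 2, 1, 2, 2, 0, 0], [0, 1, 1, 2, 1, 2, 2, 2, 0, 0, 2, 2, 0, 0], [2, 1, 2, 0, 0, 1, 1, 2, 1, 0, 1, 1, 1, 2], [1, 1, 1, 0, 1, 0, 2, 1, 2, 0, 1, 1, 2, 1], [2, 1, 0, 1, 0, 2, 2, 1, 1, 2, 1, 1, 2, 1], [2, 2, 1, 1, 2, 0, 2, 0, 1, 2, 1, 1, 0, 0], [2, 0, 0, 2, 0, 0, 0, 0, 2, 1, 2, 1, 2, 0]],
  [[1, 2, 1, 1, 2, 2, 0, 0, 2, 1, 2, 2, 0, 0], [1, 0, 0, 1, 0, 1, 1, 0, 2, 0, 0, 0, 1, 2], [0, 0, 1, 1, 0, 0, 1, 2, 0, 2, 1, 2, 2, 2], [2, 2, 0, 2, 2, 1, 2, 0, 1, 2, 0, 2, 0, 0], [1, 0, 2, 1, 2, 2, 2, 0, 0, 1, 2, 1, 0, 2], [0, 2, 0, 2, 2, 1, 1, 0, 2, 0, 2, 2, 0, 0], [2, 2, 1, 0, 1, 1, 2, 1, 2, 0, 0, 0, 1, 1]],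
  [[1, 2, 1, 1, 2, 2, 0, 0, 2, 1, 2, 2, 0, 0], [0, 2, 2, 1, 2, 2, 2, 1, 0, 2, 2, 0, 2, 2], [1, 1, 0, 0, 2, 2, 1, 2, 0, 0, 0, 0, 0, 2], [2, 2, 1, 2, 2, 2, 2, 1, 1, 0, 1, 0, 2, 1], [0, 1, 1, 0, 2, 0, 1, 1, 0, 1, 1, 2, 1, 0], [0, 1, 2, 2, 1, 1, 2, 0, 2, 1, 2, 0, 1, 2], [2, 0, 0, 1, 2, 1, 1, 0, 2, 1, 2, 1, 1, 1]],
  [[1, 2, 1, 1, 2, 2, 0, 0, 2, 1, 2, 2, 0, 0], [1, 2, 1, 0, 2, 1, 2, 2, 0, 2, 2, 0, 1, 0], [1, 1, 1, 0, 1, 0, 1, 2, 2, 0, 2, 2, 2, 2], [1, 2, 0, 0, 2, 1, 1, 1, 0, 2, 1, 1, 2, 1], [0, 0, 2, 0, 1, 2, 1, 2, 2, 1, 2, 2, 0, 0], [2, 1, 2, 0, 1, 1, 2, 2, 0, 1, 0, 0, 1, 0], [0, 1, 2, 2, 0, 2, 0, 0, 0, 1, 0, 2, 0, 0]],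
  [[1, 2, 1, 1, 2, 2, 0, 0, 2, 1, 2, 2, 0, 0], [2, 2, 2, 1, 2, 2, 2, 0, 0, 0, 1, 2, 2, 2], [2, 0, 1, 2, 0, 1, 1, 2, 2, 0, 2, 2, 0, 0], [1, 0, 2, 2, 1, 2, 0, 1, 0, 0, 1, 2, 2, 0], [1, 1, 1, 1, 2, 1, 0, 1, 2, 1, 2, 0, 0, 1], [0, 2, 0, 0, 0, 1, 2, 0, 0, 0, 2, 0, 2, 0], [2, 2, 2, 2, 2, 0, 2, 2, 0, 0, 2, 1, 0, 0]],
  [[1, 2, 1, 1, 2, 2, 0, 0, 2, 1, 2, 2, 0, 0], [0, 2, 1, 0, 2, 1, 1, 1, 2, 2, 1, 1, 0, 1], [0, 0, 2, 0, 1, 1, 2, 2, 0, 1, 2, 1, 0, 2], [1, 0, 0, 1, 2, 2, 1, 1, 1, 2, 1, 1, 0, 0], [1, 2, 1, 0, 1, 1, 1, 0, 2, 0, 0, 2, 0, 0], [0, 1, 1, 2, 2, 1, 2, 0, 2, 0, 2, 0, 1, 1], [1, 1, 2, 1, 2, 0, 1, 2, 1, 1, 1, 1, 2, 1]],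
  [[1, 2, 1, 1, 2, 2, 0, 0, 2, 1, 2, 2, 0, 0], [2, 0, 1, 2, 0, 2, 1, 0, 0, 0, 1, 2, 2, 0], [2, 0, 1, 0, 1, 2, 1, 1, 2, 1, 2, 2, 0, 2], [0, 0, 0, 2, 2, 1, 2, 0, 0, 1, 1, 2, 2, 2], [2, 2, 0, 0, 1, 1, 0, 1, 0, 1, 0, 2, 1, 2], [0, 2, 1, 0, 1, 2, 2, 1, 1, 2, 1, 2, 1, 2], [0, 2, 1, 1, 0, 2, 0, 2, 2, 0, 2, 2, 0, 2]],
  [[1, 2, 1, 1, 2, 2, 0, 0, 2, 1, 2, 2, 0, 0], [1, 1, 0, 1, 1, 1, 2, 2, 1, 2, 0, 2, 1, 1], [1, 1, 1, 0, 2, 0, 1, 1, 1, 0, 2, 1, 1, 2], [0, 1, 1, 2, 0, 0, 2, 2, 2, 0, 1, 1, 1, 0], [1, 0, 0, 0, 2, 0, 0, 2, 2, 2, 0, 1, 0, 2], [0, 1, 0, 0, 2, 2, 0, 2, 0, 0, 0, 2, 2, 2], [2, 0, 2, 1, 1, 0, 1, 2, 2, 1, 0, 2, 0, 0]],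
  [[1, 2, 1, 1, 2, 2, 0, 0, 2, 1, 2, 2, 0, 0], [0, 0, 1, 1, 0, 0, 1, 0, 2, 2, 1, 2, 0, 1], [0, 2, 1, 1, 2, 0, 2, 2, 2, 2, 2, 0, 0, 2], [1, 2, 0, 1, 2, 1, 2, 2, 0, 1, 0, 2, 0, 1], [1, 1, 1, 2, 2, 0, 0, 0, 1, 0, 1, 2, 0, 0], [0, 1, 0, 1, 2, 1, 0, 1, 1, 2, 0, 0, 2, 0], [1, 0, 1, 1, 2, 1, 1, 1, 2, 1, 1, 0, 2, 0]],
  [[1, 2, 1, 1, 2, 2, 0, 0, 2, 1, 2, 2, 0, 0], [0, 1, 0, 1, 0, 1, 0, 0, 1, 1, 2, 2, 0, 2], [1, 2, 1, 1, 1, 2, 1, 2, 1, 0, 2, 1, 1, 0], [1, 0, 0, 2, 1, 1, 1, 2, 0, 2, 1, 0, 2, 0], [2, 1, 2, 0, 2, 1, 1, 1, 1, 1, 0, 0, 2, 1], [0, 1, 1, 1, 0, 1, 1, 0, 2, 1, 1, 1, 2, 1], [1, 2, 1, 0, 2, 1, 2, 2, 1, 0, 1, 1, 2, 1]],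
  [[1, 2, 1, 1, 2, 2, 0, 0, 2, 1, 2, 2, 0, 0], [1, 2, 2, 0, 2, 0, 2, 0, 2, 1, 0, 2, 1, 0], [0, 0, 0, 1, 2, 1, 1, 2, 2, 1, 2, 2, 0, 2], [1, 0, 1, 2, 2, 0, 0, 2, 1, 0, 2, 2, 1, 0], [2, 0, 1, 0, 1, 0, 0, 0, 0, 2, 0, 0, 1, 1], [2, 0, 0, 1, 0, 2, 1, 0, 2, 0, 1, 2, 1, 2], [2, 2, 1, 1, 0, 1, 2, 2, 0, 1, 2, 2, 2, 1]],
  [[1, 2, 1, 1, 2, 2, 0, 0, 2, 1, 2, 2, 0, 0], [0, 2, 0, 2, 2, 2, 0, 0, 2, 0, 2, 0, 0, 2], [0, 1, 1, 0, 1, 1, 2, 1, 2, 2, 0, 0, 1, 1], [2, 1, 0, 0, 0, 1, 2, 0, 0, 0, 0, 2, 2, 2], [1, 0, 2, 0, 0, 1, 2, 2, 1, 1, 0, 1, 0, 1], [2, 2, 0, 2, 0, 1, 1, 0, 2, 0, 0, 1, 0, 0], [0, 1, 2, 1, 1, 1, 0, 0, 0, 1, 2, 0, 0, 0]],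
  [[1, 2, 1, 1, 2, 2, 0, 0, 2, 1, 2, 2, 0, 0], [2, 1, 1, 1, 0, 2, 0, 2, 1, 2, 2, 0, 0, 1], [2, 0, 0, 2, 1, 1, 0, 2, 1, 2, 1, 2, 1, 1], [0, 1, 1, 2, 0, 0, 1, 0, 0, 2, 1, 1, 0, 0], [1, 2, 2, 2, 1, 2, 2, 1, 0, 1, 0, 1, 2, 1], [1, 0, 0, 0, 0, 0, 2, 1, 1, 1, 1, 0, 2, 2], [0, 2, 1, 2, 2, 0, 2, 0, 0, 2, 0, 1, 2, 2]],
  [[1, 2, 1, 1, 2, 2, 0, 0, 2, 1, 2, 2, 0, 0], [2, 1, 0, 2, 1, 1, 1, 1, 2, 0, 0, 2, 2, 0], [2, 0, 2, 1, 2, 1, 0, 0, 1, 2, 2, 2, 1, 0], [2, 0, 0, 2, 2, 2, 0, 1, 0, 1, 2, 1, 2, 0], [2, 1, 2, 1, 0, 2, 0, 0, 0, 1, 1, 1, 0, 0], [1, 0, 1, 2, 1, 0, 2, 0, 0, 2, 1, 2, 0, 1], [0, 1, 1, 0, 0, 1, 1, 2, 2, 1, 1, 1, 1, 2]]]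

/-- The action of the first element on the points, as a tree. -/
def lyT7 : BT ℕ := (BT.node (BT.node (BT.node (BT.node (BT.node (BT.node (BT.node (BT.node (BT.node (BT.leaf 0) (BT.leaf 241)) (BT.leaf 62)) (BT.node (BT.node (BT.leaf 20) (BT.leaf 288)) (BT.leaf 56))) (BT.node (BT.node (BT.node (BT.leaf 261) (BT.leaf 40)) (BT.leaf 114)) (BT.node (BT.leaf 86) (BT.leaf 47)))) (BT.node (BT.node (BT.node (BT.node (BT.leaf 278) (BT.leaf 294)) (BT.leaf 7)) (BT.node (BT.node (BT.leaf 208) (BT.leaf 111)) (BT.leaf 120))) (BT.node (BT.node (BT.node (BT.leaf 298) (BT.leaf 126)) (BT.leaf 193)) (BT.node (BT.leaf 312) (BT.leaf 169))))) (BT.node (BT.node (BT.node (BT.node (BT.node (BT.leaf 227) (BT.leaf 316)) (BT.leaf 163)) (BT.node (BT.node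 (BT.leaf 160) (BT.leaf 125)) (BT.leaf 131))) (BT.node (BT.node (BT.node (BT.leaf 274) (BT.leaf 148)) (BT.leaf 35)) (BT.node (BT.leaf 102) (BT.leaf 191)))) (BT.node (BT.node (BT.node (BT.node (BT.leaf 92) (BT.leaf 315)) (BT.leaf 57)) (BT.node (BT.node (BT.leaf 299) (BT.leaf 71)) (BT.leaf 238))) (BT.node (BT.node (BT.node (BT.leaf 162) (BT.leaf 70)) (BT.leaf 217)) (BT.node (BT.leaf 30) (BT.leaf 187)))))) (BT.node (BT.node (BT.node (BT.node (BT.node (BT.node (BT.leaf 18) (BT.leaf 326)) (BT.leaf 16)) (BT.node (BT.node (BT.leaf 1) (BT.leaf 133)) (BT.leaf 60))) (BT.node (BT.node (BT.node (BT.leaf 192) (BT.leaf 15)) (BT.leaf 347)) (BT.node (BT.leaf 224) (BT.leaf 10)))) (BT.node (BT.node (BT.node (BT.node (BT.leaf 344) (BT.leaf 121))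 (BT.leaf 306)) (BT.node (BT.node (BT.leaf 332) (BT.leaf 228)) (BT.leaf 263))) (BT.node (BT.node (BT.node (BT.leaf 317) (BT.leaf 212)) (BT.leaf 6)) (BT.node (BT.leaf 157) (BT.leaf 48))))) (BT.node (BT.node (BT.node (BT.node (BT.node (BT.leaf 183) (BT.leaf 87)) (BT.leaf 284)) (BT.node (BT.node (BT.leaf 293) (BT.leaf 46)) (BT.leaf 296))) (BT.node (BT.node (BT.node (BT.leaf 19) (BT.leaf 90)) (BT.leaf 167)) (BT.node (BT.leaf 258) (BT.leaf 252)))) (BT.node (BT.node (BT.node (BT.node (BT.leaf 304) (BT.leaf 78)) (BT.leaf 272)) (BT.node (BT.node (BT.leaf 83) (BT.leaf 267)) (BT.leaf 99))) (BT.node (BT.node (BT.node (BT.leaf 207) (BT.leaf 202)) (BT.leaf 93)) (BT.node (BT.leaf 349) (BT.leaf 260))))))) (BT.node (BT.node (BT.node (BT.node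 (BT.node (BT.node (BT.node (BT.leaf 264) (BT.leaf 109)) (BT.leaf 61)) (BT.node (BT.node (BT.leaf 107) (BT.leaf 295)) (BT.leaf 38))) (BT.node (BT.node (BT.node (BT.leaf 182) (BT.leaf 248)) (BT.leaf 124)) (BT.node (BT.leaf 4) (BT.leaf 106)))) (BT.node (BT.node (BT.node (BT.node (BT.leaf 244) (BT.leaf 256)) (BT.leaf 291)) (BT.node (BT.node (BT.leaf 320) (BT.leaf 220)) (BT.leaf 23))) (BT.node (BT.node (BT.node (BT.leaf 79) (BT.leaf 100)) (BT.leaf 318)) (BT.node (BT.leaf 199) (BT.leaf 188))))) (BT.node (BT.node (BT.node (BT.node (BT.node (BT.leaf 161) (BT.leaf 41)) (BT.leaf 250)) (BT.node (BT.node (BT.leaf 331) (BT.leaf 85)) (BT.leaf 206))) (BT.node (BT.node (BT.node (BT.leaf 55) (BT.leaf 337)) (BT.leaf 9)) (BT.node (BT.leaf 234)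 (BT.leaf 236)))) (BT.node (BT.node (BT.node (BT.node (BT.leaf 3) (BT.leaf 346)) (BT.leaf 233)) (BT.node (BT.node (BT.leaf 329) (BT.leaf 91)) (BT.leaf 89))) (BT.node (BT.node (BT.node (BT.leaf 127) (BT.leaf 132)) (BT.leaf 309)) (BT.node (BT.leaf 338) (BT.leaf 216)))))) (BT.node (BT.node (BT.node (BT.node (BT.node (BT.node (BT.leaf 142) (BT.leaf 240)) (BT.leaf 180)) (BT.node (BT.node (BT.leaf 194) (BT.leaf 226)) (BT.leaf 141))) (BT.node (BT.node (BT.node (BT.leaf 177) (BT.leaf 273)) (BT.leaf 17)) (BT.node (BT.leaf 29) (BT.leaf 266)))) (BT.node (BT.node (BT.node (BT.node (BT.leaf 342) (BT.leaf 225)) (BT.leaf 232)) (BT.node (BT.node (BT.leaf 81) (BT.leaf 34)) (BT.leaf 186))) (BT.node (BT.node (BT.node (BT.leaf 49) (BT.leaf 209))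 (BT.leaf 276)) (BT.node (BT.leaf 283) (BT.leaf 50))))) (BT.node (BT.node (BT.node (BT.node (BT.node (BT.leaf 235) (BT.leaf 254)) (BT.leaf 282)) (BT.node (BT.node (BT.leaf 175) (BT.leaf 158)) (BT.leaf 210))) (BT.node (BT.node (BT.node (BT.leaf 164) (BT.leaf 328)) (BT.leaf 230)) (BT.node (BT.leaf 311) (BT.leaf 153)))) (BT.node (BT.node (BT.node (BT.node (BT.leaf 66) (BT.leaf 255)) (BT.leaf 292)) (BT.node (BT.node (BT.leaf 242) (BT.leaf 308)) (BT.leaf 94))) (BT.node (BT.node (BT.node (BT.leaf 67) (BT.leaf 243)) (BT.leaf 249)) (BT.node (BT.leaf 279) (BT.leaf 108)))))))) (BT.node (BT.node (BT.node (BT.node (BT.node (BT.node (BT.node (BT.node (BT.leaf 37) (BT.leaf 341)) (BT.leaf 271)) (BT.node (BT.node (BT.leaf 159) (BT.leaf 171))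 (BT.leaf 253))) (BT.node (BT.node (BT.node (BT.leaf 44) (BT.leaf 323)) (BT.leaf 137)) (BT.node (BT.leaf 128) (BT.leaf 280)))) (BT.node (BT.node (BT.node (BT.node (BT.leaf 195) (BT.leaf 196)) (BT.leaf 68)) (BT.node (BT.node (BT.leaf 286) (BT.leaf 98)) (BT.leaf 11))) (BT.node (BT.node (BT.node (BT.leaf 257) (BT.leaf 277)) (BT.leaf 149)) (BT.node (BT.leaf 12) (BT.leaf 82))))) (BT.node (BT.node (BT.node (BT.node (BT.node (BT.leaf 223) (BT.leaf 146)) (BT.leaf 213)) (BT.node (BT.node (BT.leaf 176) (BT.leaf 303)) (BT.leaf 123))) (BT.node (BT.node (BT.node (BT.leaf 118) (BT.leaf 334)) (BT.leaf 215)) (BT.node (BT.leaf 281) (BT.leaf 339)))) (BT.node (BT.node (BT.node (BT.node (BT.leaf 22) (BT.leaf 84)) (BT.leaf 115)) (BT.node (BT.node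 (BT.leaf 270) (BT.leaf 173)) (BT.leaf 145))) (BT.node (BT.node (BT.node (BT.leaf 104) (BT.leaf 166)) (BT.leaf 333)) (BT.node (BT.leaf 25) (BT.leaf 205)))))) (BT.node (BT.node (BT.node (BT.node (BT.node (BT.node (BT.leaf 138) (BT.leaf 45)) (BT.leaf 237)) (BT.node (BT.node (BT.leaf 307) (BT.leaf 198)) (BT.leaf 54))) (BT.node (BT.node (BT.node (BT.leaf 203) (BT.leaf 348)) (BT.leaf 168)) (BT.node (BT.leaf 65) (BT.leaf 135)))) (BT.node (BT.node (BT.node (BT.node (BT.leaf 151) (BT.leaf 101)) (BT.leaf 112)) (BT.node (BT.node (BT.leaf 322) (BT.leaf 59)) (BT.leaf 27))) (BT.node (BT.node (BT.node (BT.leaf 305) (BT.leaf 302)) (BT.leaf 197)) (BT.node (BT.leaf 147) (BT.leaf 80))))) (BT.node (BT.node (BT.node (BT.node (BT.node (BT.leaf 140)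 (BT.leaf 150)) (BT.leaf 24)) (BT.node (BT.node (BT.leaf 214) (BT.leaf 69)) (BT.leaf 300))) (BT.node (BT.node (BT.node (BT.leaf 229) (BT.leaf 63)) (BT.leaf 43)) (BT.node (BT.leaf 218) (BT.leaf 285)))) (BT.node (BT.node (BT.node (BT.node (BT.leaf 14) (BT.leaf 246)) (BT.leaf 103)) (BT.node (BT.node (BT.leaf 301) (BT.leaf 275)) (BT.leaf 129))) (BT.node (BT.node (BT.node (BT.leaf 297) (BT.leaf 113)) (BT.leaf 201)) (BT.node (BT.leaf 77) (BT.leaf 136))))))) (BT.node (BT.node (BT.node (BT.node (BT.node (BT.node (BT.node (BT.leaf 155) (BT.leaf 13)) (BT.leaf 33)) (BT.node (BT.node (BT.leaf 335) (BT.leaf 247)) (BT.leaf 119))) (BT.node (BT.node (BT.node (BT.leaf 350) (BT.leaf 8)) (BT.leaf 319)) (BT.node (BT.leaf 310) (BT.leaf 21)))) (BT.node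 (BT.node (BT.node (BT.node (BT.leaf 58) (BT.leaf 36)) (BT.leaf 343)) (BT.node (BT.node (BT.leaf 51) (BT.leaf 251)) (BT.leaf 174))) (BT.node (BT.node (BT.node (BT.leaf 325) (BT.leaf 345)) (BT.leaf 336)) (BT.node (BT.leaf 5) (BT.leaf 154))))) (BT.node (BT.node (BT.node (BT.node (BT.node (BT.leaf 122) (BT.leaf 110)) (BT.leaf 72)) (BT.node (BT.node (BT.leaf 259) (BT.leaf 139)) (BT.leaf 184))) (BT.node (BT.node (BT.node (BT.leaf 185) (BT.leaf 287)) (BT.leaf 313)) (BT.node (BT.leaf 245) (BT.leaf 152)))) (BT.node (BT.node (BT.node (BT.node (BT.leaf 340) (BT.leaf 211)) (BT.leaf 269)) (BT.node (BT.node (BT.leaf 134) (BT.leaf 105)) (BT.leaf 32))) (BT.node (BT.node (BT.node (BT.leaf 181) (BT.leaf 314)) (BT.leaf 327)) (BT.node (BT.leaf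 290) (BT.leaf 178)))))) (BT.node (BT.node (BT.node (BT.node (BT.node (BT.node (BT.leaf 262) (BT.leaf 165)) (BT.leaf 31)) (BT.node (BT.node (BT.leaf 179) (BT.leaf 189)) (BT.leaf 74))) (BT.node (BT.node (BT.node (BT.leaf 117) (BT.leaf 289)) (BT.leaf 96)) (BT.node (BT.leaf 221) (BT.leaf 144)))) (BT.node (BT.node (BT.node (BT.node (BT.leaf 2) (BT.leaf 170)) (BT.leaf 265)) (BT.node (BT.node (BT.leaf 97) (BT.leaf 88)) (BT.leaf 231))) (BT.node (BT.node (BT.node (BT.leaf 52) (BT.leaf 95)) (BT.leaf 42)) (BT.node (BT.leaf 321) (BT.leaf 330))))) (BT.node (BT.node (BT.node (BT.node (BT.node (BT.leaf 130) (BT.leaf 239)) (BT.leaf 53)) (BT.node (BT.node (BT.leaf 324) (BT.leaf 268)) (BT.leaf 156))) (BT.node (BT.node (BT.node (BT.leaf 204) (BT.leaf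 190)) (BT.leaf 75)) (BT.node (BT.leaf 64) (BT.leaf 116)))) (BT.node (BT.node (BT.node (BT.node (BT.leaf 219) (BT.leaf 39)) (BT.leaf 143)) (BT.node (BT.leaf 76) (BT.leaf 28))) (BT.node (BT.node (BT.node (BT.leaf 222) (BT.leaf 73)) (BT.leaf 26)) (BT.node (BT.leaf 200) (BT.leaf 172)))))))))

/-- The action of the first element on the points. -/
def ly7 (i : ℕ) : ℕ := lyT7.look i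

/-- The scalars, as a tree. -/
def syT7 : BT ℕ := (BT.node (BT.node (BT.node (BT.node (BT.node (BT.node (BT.node (BT.node (BT.node (BT.leaf 1) (BT.leaf 1)) (BT.leaf 2)) (BT.node (BT.node (BT.leaf 1) (BT.leaf 2)) (BT.leaf 1))) (BT.node (BT.node (BT.node (BT.leaf 1) (BT.leaf 2)) (BT.leaf 1)) (BT.node (BT.leaf 1) (BT.leaf 1)))) (BT.node (BT.node (BT.node (BT.node (BT.leaf 1) (BT.leaf 2)) (BT.leaf 2)) (BT.node (BT.node (BT.leaf 2) (BT.leaf 1)) (BT.leaf 2))) (BT.node (BT.node (BT.node (BT.leaf 2) (BT.leaf 2)) (BT.leaf 1)) (BT.node (BT.leaf 2) (BT.leaf 2))))) (BT.node (BT.node (BT.node (BT.node (BT.node (BT.leaf 1) (BT.leaf 2)) (BT.leaf 1)) (BT.node (BT.node (BT.leaf 1) (BT.leaf 2)) (BT.leaf 1))) (BT.node (BT.node (BT.node (BT.leaf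 1) (BT.leaf 1)) (BT.leaf 2)) (BT.node (BT.leaf 2) (BT.leaf 1)))) (BT.node (BT.node (BT.node (BT.node (BT.leaf 2) (BT.leaf 1)) (BT.leaf 2)) (BT.node (BT.node (BT.leaf 2) (BT.leaf 1)) (BT.leaf 2))) (BT.node (BT.node (BT.node (BT.leaf 2) (BT.leaf 1)) (BT.leaf 2)) (BT.node (BT.leaf 1) (BT.leaf 2)))))) (BT.node (BT.node (BT.node (BT.node (BT.node (BT.node (BT.leaf 1) (BT.leaf 2)) (BT.leaf 1)) (BT.node (BT.node (BT.leaf 1) (BT.leaf 1)) (BT.leaf 1))) (BT.node (BT.node (BT.node (BT.leaf 1) (BT.leaf 2)) (BT.leaf 1)) (BT.node (BT.leaf 1) (BT.leaf 1)))) (BT.node (BT.node (BT.node (BT.node (BT.leaf 1) (BT.leaf 1)) (BT.leaf 1)) (BT.node (BT.node (BT.leaf 2) (BT.leaf 1)) (BT.leaf 2))) (BT.node (BT.node (BT.node (BT.leaf 2) (BT.leaf 2)) (BT.leaf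 1)) (BT.node (BT.leaf 1) (BT.leaf 1))))) (BT.node (BT.node (BT.node (BT.node (BT.node (BT.leaf 2) (BT.leaf 1)) (BT.leaf 2)) (BT.node (BT.node (BT.leaf 2) (BT.leaf 1)) (BT.leaf 2))) (BT.node (BT.node (BT.node (BT.leaf 1) (BT.leaf 2)) (BT.leaf 2)) (BT.node (BT.leaf 1) (BT.leaf 2)))) (BT.node (BT.node (BT.node (BT.node (BT.leaf 1) (BT.leaf 1)) (BT.leaf 1)) (BT.node (BT.node (BT.leaf 2) (BT.leaf 2)) (BT.leaf 1))) (BT.node (BT.node (BT.node (BT.leaf 1) (BT.leaf 2)) (BT.leaf 1)) (BT.node (BT.leaf 2) (BT.leaf 1))))))) (BT.node (BT.node (BT.node (BT.node (BT.node (BT.node (BT.node (BT.leaf 1) (BT.leaf 1)) (BT.leaf 1)) (BT.node (BT.node (BT.leaf 2) (BT.leaf 1)) (BT.leaf 1))) (BT.node (BT.node (BT.node (BT.leaf 1) (BT.leaf 2)) (BT.leaf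 2)) (BT.node (BT.leaf 1) (BT.leaf 2)))) (BT.node (BT.node (BT.node (BT.node (BT.leaf 2) (BT.leaf 1)) (BT.leaf 2)) (BT.node (BT.node (BT.leaf 1) (BT.leaf 2)) (BT.leaf 2))) (BT.node (BT.node (BT.node (BT.leaf 2) (BT.leaf 1)) (BT.leaf 2)) (BT.node (BT.leaf 1) (BT.leaf 2))))) (BT.node (BT.node (BT.node (BT.node (BT.node (BT.leaf 2) (BT.leaf 2)) (BT.leaf 1)) (BT.node (BT.node (BT.leaf 1) (BT.leaf 1)) (BT.leaf 1))) (BT.node (BT.node (BT.node (BT.leaf 1) (BT.leaf 2)) (BT.leaf 1)) (BT.node (BT.leaf 1) (BT.leaf 1)))) (BT.node (BT.node (BT.node (BT.node (BT.leaf 1) (BT.leaf 2)) (BT.leaf 1)) (BT.node (BT.node (BT.leaf 2) (BT.leaf 2)) (BT.leaf 1))) (BT.node (BT.node (BT.node (BT.leaf 1) (BT.leaf 2)) (BT.leaf 2)) (BT.node (BT.leaf 2) (BT.leaf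 1)))))) (BT.node (BT.node (BT.node (BT.node (BT.node (BT.node (BT.leaf 1) (BT.leaf 2)) (BT.leaf 2)) (BT.node (BT.node (BT.leaf 1) (BT.leaf 2)) (BT.leaf 2))) (BT.node (BT.node (BT.node (BT.leaf 2) (BT.leaf 2)) (BT.leaf 1)) (BT.node (BT.leaf 1) (BT.leaf 1)))) (BT.node (BT.node (BT.node (BT.node (BT.leaf 2) (BT.leaf 2)) (BT.leaf 2)) (BT.node (BT.node (BT.leaf 1) (BT.leaf 2)) (BT.leaf 1))) (BT.node (BT.node (BT.node (BT.leaf 1) (BT.leaf 2)) (BT.leaf 1)) (BT.node (BT.leaf 2) (BT.leaf 1))))) (BT.node (BT.node (BT.node (BT.node (BT.node (BT.leaf 2) (BT.leaf 2)) (BT.leaf 2)) (BT.node (BT.node (BT.leaf 2) (BT.leaf 1)) (BT.leaf 2))) (BT.node (BT.node (BT.node (BT.leaf 1) (BT.leaf 2)) (BT.leaf 1)) (BT.node (BT.leaf 2) (BT.leaf 1)))) (BT.node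 (BT.node (BT.node (BT.node (BT.leaf 1) (BT.leaf 1)) (BT.leaf 2)) (BT.node (BT.node (BT.leaf 1) (BT.leaf 1)) (BT.leaf 2))) (BT.node (BT.node (BT.node (BT.leaf 1) (BT.leaf 1)) (BT.leaf 1)) (BT.node (BT.leaf 1) (BT.leaf 1)))))))) (BT.node (BT.node (BT.node (BT.node (BT.node (BT.node (BT.node (BT.node (BT.leaf 2) (BT.leaf 2)) (BT.leaf 2)) (BT.node (BT.node (BT.leaf 2) (BT.leaf 1)) (BT.leaf 1))) (BT.node (BT.node (BT.node (BT.leaf 2) (BT.leaf 2)) (BT.leaf 2)) (BT.node (BT.leaf 1) (BT.leaf 2)))) (BT.node (BT.node (BT.node (BT.node (BT.leaf 2) (BT.leaf 1)) (BT.leaf 2)) (BT.node (BT.node (BT.leaf 2) (BT.leaf 2)) (BT.leaf 1))) (BT.node (BT.node (BT.node (BT.leaf 1) (BT.leaf 2)) (BT.leaf 1)) (BT.node (BT.leaf 1) (BT.leaf 1))))) (BT.node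 (BT.node (BT.node (BT.node (BT.node (BT.leaf 2) (BT.leaf 2)) (BT.leaf 2)) (BT.node (BT.node (BT.leaf 1) (BT.leaf 1)) (BT.leaf 1))) (BT.node (BT.node (BT.node (BT.leaf 1) (BT.leaf 1)) (BT.leaf 1)) (BT.node (BT.leaf 2) (BT.leaf 1)))) (BT.node (BT.node (BT.node (BT.node (BT.leaf 1) (BT.leaf 2)) (BT.leaf 1)) (BT.node (BT.node (BT.leaf 1) (BT.leaf 2)) (BT.leaf 1))) (BT.node (BT.node (BT.node (BT.leaf 1) (BT.leaf 2)) (BT.leaf 2)) (BT.node (BT.leaf 1) (BT.leaf 1)))))) (BT.node (BT.node (BT.node (BT.node (BT.node (BT.node (BT.leaf 1) (BT.leaf 2)) (BT.leaf 2)) (BT.node (BT.node (BT.leaf 1) (BT.leaf 1)) (BT.leaf 1))) (BT.node (BT.node (BT.node (BT.leaf 1) (BT.leaf 2)) (BT.leaf 2)) (BT.node (BT.leaf 1) (BT.leaf 1)))) (BT.node (BT.node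 (BT.node (BT.node (BT.leaf 2) (BT.leaf 1)) (BT.leaf 1)) (BT.node (BT.node (BT.leaf 2) (BT.leaf 2)) (BT.leaf 1))) (BT.node (BT.node (BT.node (BT.leaf 2) (BT.leaf 1)) (BT.leaf 2)) (BT.node (BT.leaf 2) (BT.leaf 1))))) (BT.node (BT.node (BT.node (BT.node (BT.node (BT.leaf 2) (BT.leaf 2)) (BT.leaf 1)) (BT.node (BT.node (BT.leaf 2) (BT.leaf 2)) (BT.leaf 1))) (BT.node (BT.node (BT.node (BT.leaf 1) (BT.leaf 2)) (BT.leaf 1)) (BT.node (BT.leaf 2) (BT.leaf 1)))) (BT.node (BT.node (BT.node (BT.node (BT.leaf 2) (BT.leaf 2)) (BT.leaf 1)) (BT.node (BT.node (BT.leaf 2) (BT.leaf 2)) (BT.leaf 1))) (BT.node (BT.node (BT.node (BT.leaf 2) (BT.leaf 1)) (BT.leaf 2)) (BT.node (BT.leaf 1) (BT.leaf 1))))))) (BT.node (BT.node (BT.node (BT.node (BT.node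 (BT.node (BT.node (BT.leaf 2) (BT.leaf 1)) (BT.leaf 2)) (BT.node (BT.node (BT.leaf 1) (BT.leaf 1)) (BT.leaf 2))) (BT.node (BT.node (BT.node (BT.leaf 2) (BT.leaf 1)) (BT.leaf 2)) (BT.node (BT.leaf 2) (BT.leaf 2)))) (BT.node (BT.node (BT.node (BT.node (BT.leaf 2) (BT.leaf 1)) (BT.leaf 2)) (BT.node (BT.node (BT.leaf 1) (BT.leaf 2)) (BT.leaf 1))) (BT.node (BT.node (BT.node (BT.leaf 2) (BT.leaf 1)) (BT.leaf 2)) (BT.node (BT.leaf 2) (BT.leaf 1))))) (BT.node (BT.node (BT.node (BT.node (BT.node (BT.leaf 1) (BT.leaf 2)) (BT.leaf 1)) (BT.node (BT.node (BT.leaf 2) (BT.leaf 1)) (BT.leaf 2))) (BT.node (BT.node (BT.node (BT.leaf 2) (BT.leaf 2)) (BT.leaf 2)) (BT.node (BT.leaf 2) (BT.leaf 1)))) (BT.node (BT.node (BT.node (BT.node (BT.leaf 2)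 (BT.leaf 1)) (BT.leaf 1)) (BT.node (BT.node (BT.leaf 1) (BT.leaf 2)) (BT.leaf 1))) (BT.node (BT.node (BT.node (BT.leaf 2) (BT.leaf 2)) (BT.leaf 2)) (BT.node (BT.leaf 2) (BT.leaf 1)))))) (BT.node (BT.node (BT.node (BT.node (BT.node (BT.node (BT.leaf 2) (BT.leaf 2)) (BT.leaf 1)) (BT.node (BT.node (BT.leaf 1) (BT.leaf 2)) (BT.leaf 1))) (BT.node (BT.node (BT.node (BT.leaf 2) (BT.leaf 2)) (BT.leaf 2)) (BT.node (BT.leaf 1) (BT.leaf 2)))) (BT.node (BT.node (BT.node (BT.node (BT.leaf 1) (BT.leaf 2)) (BT.leaf 1)) (BT.node (BT.node (BT.leaf 2) (BT.leaf 2)) (BT.leaf 2))) (BT.node (BT.node (BT.node (BT.leaf 1) (BT.leaf 1)) (BT.leaf 1)) (BT.node (BT.leaf 1) (BT.leaf 2))))) (BT.node (BT.node (BT.node (BT.node (BT.node (BT.leaf 2) (BT.leaf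 2)) (BT.leaf 1)) (BT.node (BT.node (BT.leaf 2) (BT.leaf 1)) (BT.leaf 1))) (BT.node (BT.node (BT.node (BT.leaf 2) (BT.leaf 1)) (BT.leaf 1)) (BT.node (BT.leaf 2) (BT.leaf 1)))) (BT.node (BT.node (BT.node (BT.node (BT.leaf 2) (BT.leaf 1)) (BT.leaf 2)) (BT.node (BT.leaf 2) (BT.leaf 2))) (BT.node (BT.node (BT.node (BT.leaf 1) (BT.leaf 2)) (BT.leaf 2)) (BT.node (BT.leaf 2) (BT.leaf 2)))))))))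

/-- The scalars. -/
def sy7 (i : ℕ) : ℕ := syT7.look i

theorem ysI7_lt : ∀ j < 65, ysI7.getD j 0 < 173 := by decide +kernel

theorem Y7_elt (j : ℕ) (hj : j < 65) : IsElt (Y7 j) := T7_sound _ (ysI7_lt j hj)

theorem N7_elt : IsElt N7 := T7_sound _ (by norm_num)

theorem Y7_pow : ∀ j < 65, pow7E (Y7 j) = idE := by decide +kernel

theorem Y7_ne : ∀ j < 65, neE (Y7 j) idE = true := by decide +kernel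

theorem Y7_fix : ∀ j < 65, mvE (Y7 j) (tb7 0) = smulL 1 (tb7 0) ∨
    mvE (Y7 j) (tb7 0) = smulL 2 (tb7 0) := by decide +kernel

theorem Ov7_orb' : ∀ j < 65, (Ov7.getD j []).getD 0 [] = u7 ∧
    ∀ e < 6, (Ov7.getD j []).getD (e + 1) [] = mvE (Y7 j) ((Ov7.getD j []).getD e []) := by
  decide +kernel

theorem Ov7_orb : ∀ j < 65, (Ov7.getD j []).getD 0 [] = u7 ∧
    ∀ e, e + 1 < 7 → (Ov7.getD j []).getD (e + 1) [] = mvE (Y7 j) ((Ov7.getD j []).getD e []) :=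
  fun j hj => ⟨(Ov7_orb' j hj).1, fun e he => (Ov7_orb' j hj).2 e (by omega)⟩

theorem Ov7_pw : Ov7.Pairwise (fun a b => ∀ e < 7,
    a.getD 1 [] ≠ b.getD e [] ∧ b.getD 1 [] ≠ a.getD e []) := by decide +kernel

theorem y7_move : ∀ i < 351, 0 < i → ly7 i < 351 ∧ ly7 i ≠ i ∧
    (sy7 i = 1 ∨ sy7 i = 2) ∧
    mvE (Y7 0) (tb7 i) = smulL (sy7 i) (tb7 (ly7 i)) := by
  decide +kernel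

theorem N7_fix : mvE N7 (tb7 0) = smulL 1 (tb7 0) ∨
    mvE N7 (tb7 0) = smulL 2 (tb7 0) := by decide +kernel

theorem N7_rel : mulE N7 (Y7 0) = mulE (powE (Y7 0) 3) N7 := by decide +kernel

theorem N7_ne1 : neE (mulE N7 (Y7 0)) (mulE (Y7 0) N7) = true := by decide +kernel

theorem N7_ne2 : neE (mulE (powE N7 2) (Y7 0)) (mulE (Y7 0) (powE N7 2)) = true := by
  decide +kernel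

theorem N7_ne3 : neE (mulE (powE N7 3) (Y7 0)) (mulE (Y7 0) (powE N7 3)) = true := by
  decide +kernel

theorem count7 : ∀ d ∈ Nat.divisors 1728, d % 7 = 1 → 65 ≤ d → d = 288 := by decide +kernel

instance fact_prime_7 : Fact (Nat.Prime 7) := ⟨by norm_num⟩

/-- `G_2(3)` has no elements of order `7 s`, `s ≠ 7` a prime. -/
theorem no_order_7 (hG : Nat.card ↥G23 = 4245696) : ∀ (x : ↥G23) (s : ℕ), s.Prime → s ≠ 7 → orderOf x ≠ 7 * s := by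
  have hfix : ∀ A : List ℕ, (mvE A (tb7 0) = smulL 1 (tb7 0) ∨
      mvE A (tb7 0) = smulL 2 (tb7 0)) →
      ∃ s, (s = 1 ∨ s = 2) ∧ mvE A (tb7 0) = smulL s (tb7 0) := by
    rintro A (h | h)
    · exact ⟨1, Or.inl rfl, h⟩
    · exact ⟨2, Or.inr rfl, h⟩
  have hdist := dist_of_orbits 65 7 (by norm_num) Y7 (fun j hj => (Y7_elt j hj).1) u7
    (by decide +kernel) Ov7 (by decide +kernel) Ov7_orb Ov7_pw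
  exact no_order_mul_of_cert hG cert7 trans7 7 1728 288 (by norm_num) (by norm_num) (by norm_num)
    65 (by norm_num) (fun j => Y7 j) (fun j => Y7_elt j j.2)
    (fun j => pow7_eq_one _ (Y7_elt j j.2).1 (Y7_pow j j.2))
    (fun j => ofE_ne_one_of_neE _ (Y7_ne j j.2))
    (fun j => hfix _ (Y7_fix j j.2))
    (fun i j hij e he => hdist i j hij j.2 e he)
    (fun d hd h1 h2 => count7 d (Nat.mem_divisors.2 ⟨hd, by norm_num⟩) h1 h2)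
    (fun i hi hpos => by
      obtain ⟨h1, h2, h3, h4⟩ := y7_move i hi hpos
      exact ⟨_, _, h1, h2, h3, h4⟩)
    N7 N7_elt (hfix _ N7_fix) 3
    (mul_eq_pow_mul _ _ N7_elt.1 (Y7_elt 0 (by norm_num)).1 _ N7_rel)
    (mul_ne _ _ N7_elt.1 (Y7_elt 0 (by norm_num)).1 N7_ne1)
    (pow_mul_ne _ _ N7_elt.1 (Y7_elt 0 (by norm_num)).1 2 N7_ne2)
    (pow_mul_ne _ _ N7_elt.1 (Y7_elt 0 (by norm_num)).1 3 N7_ne3)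

end Cfsg.Agent.Helper37.G3
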