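import Mathlib
import Cfsg.Agent.Lib.Helper37.ExcK
import Cfsg.Agent.Lib.Helper37.G3H
import Cfsg.Agent.Lib.Helper37.G3I
import Cfsg.Agent.Lib.Helper37.G3P7c
import Cfsg.Agent.Lib.Helper37.G3P13c

/-!
# `G_2(3)` and `PSL_2(13)` have the same prime graph
-/

set_option autoImplicit false
set_option maxHeartbeats 400000

namespace Cfsg.Agent.Helper37.G3

open Matrix Cfsg.Lie Equiv Cfsg.Agent.Helper37.Exc

theorem prime_dvd_iff (r : ℕ) (hr : r.Prime) :
    r ∣ 4245696 ↔ (r = 2 ∨ r = 3 ∨ r = 7 ∨ r = 13) := by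
  constructor
  · intro h
    have e : 4245696 = 2 ^ 6 * 3 ^ 6 * 7 * 13 := by norm_num
    rw [e] at h
    rcases (Nat.Prime.dvd_mul hr).1 h with h | h
    · rcases (Nat.Prime.dvd_mul hr).1 h with h | h
      · rcases (Nat.Prime.dvd_mul hr).1 h with h | h
        · exact Or.inl ((Nat.prime_dvd_prime_iff_eq hr Nat.prime_two).1 (hr.dvd_of_dvd_pow h))
        · exact Or.inr (Or.inl ((Nat.prime_dvd_prime_iff_eq hr Nat.prime_three).1
            (hr.dvd_of_dvd_pow h)))
      · exact Or.inr (Or.inr (Or.inl ((Nat.prime_dvd_prime_iff_eq hr (by norm_num)).1 h)))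
    · exact Or.inr (Or.inr (Or.inr ((Nat.prime_dvd_prime_iff_eq hr (by norm_num)).1 h)))
  · rintro (rfl | rfl | rfl | rfl) <;> norm_num

theorem prime_dvd_iff' (r : ℕ) (hr : r.Prime) :
    r ∣ 1092 ↔ (r = 2 ∨ r = 3 ∨ r = 7 ∨ r = 13) := by
  constructor
  · intro h
    have e : 1092 = 2 ^ 2 * 3 * 7 * 13 := by norm_num
    rw [e] at h
    rcases (Nat.Prime.dvd_mul hr).1 h with h | h
    · rcases (Nat.Prime.dvd_mul hr).1 h with h | h
      · rcases (Nat.Prime.dvd_mul hr).1 h with h | h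
        · exact Or.inl ((Nat.prime_dvd_prime_iff_eq hr Nat.prime_two).1 (hr.dvd_of_dvd_pow h))
        · exact Or.inr (Or.inl ((Nat.prime_dvd_prime_iff_eq hr Nat.prime_three).1 h))
      · exact Or.inr (Or.inr (Or.inl ((Nat.prime_dvd_prime_iff_eq hr (by norm_num)).1 h)))
    · exact Or.inr (Or.inr (Or.inr ((Nat.prime_dvd_prime_iff_eq hr (by norm_num)).1 h)))
  · rintro (rfl | rfl | rfl | rfl) <;> norm_num

theorem g23_orders (hG : Nat.card ↥G23 = 4245696) (r s : ℕ) (hr : r.Prime) (hs : s.Prime)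
    (hrs : r ≠ s) : (∃ x : ↥G23, orderOf x = r * s) ↔ r * s = 6 := by
  constructor
  · rintro ⟨x, hx⟩
    have hdvd : r * s ∣ 4245696 := by
      rw [← hG, ← hx]
      exact orderOf_dvd_natCard x
    have hr' := (prime_dvd_iff r hr).1 (dvd_trans (dvd_mul_right r s) hdvd)
    have hs' := (prime_dvd_iff s hs).1 (dvd_trans (dvd_mul_left s r) hdvd)
    have h7 := no_order_7 hG x
    have h13 := no_order_13 hG x
    rcases hr' with rfl | rfl | rfl | rfl <;> rcases hs' with rfl | rfl | rfl | rfl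
    all_goals first
      | exact absurd rfl hrs
      | rfl
      | exact absurd hx (h7 _ (by norm_num) (by norm_num))
      | exact absurd (hx.trans (Nat.mul_comm _ _)) (h7 _ (by norm_num) (by norm_num))
      | exact absurd hx (h13 _ (by norm_num) (by norm_num))
      | exact absurd (hx.trans (Nat.mul_comm _ _)) (h13 _ (by norm_num) (by norm_num))
  · intro h
    obtain ⟨x, hx⟩ := exists_order_six
    exact ⟨x, by rw [hx, h]⟩

theorem psl2_13_orders (r s : ℕ) (hr : r.Prime) (hs : s.Prime) (hrs : r ≠ s) :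
    (∃ y : Matrix.ProjectiveSpecialLinearGroup (Fin 2) (ZMod 13), orderOf y = r * s) ↔
      r * s = 6 := by
  constructor
  · rintro ⟨y, hy⟩
    have h2r := hr.two_le
    have h2s := hs.two_le
    have hd : r * s ∣ 6 ∨ r * s ∣ 7 ∨ r * s ∣ 13 := by
      rcases psl2_13_pow y with h | h | h
      · exact Or.inl (hy ▸ orderOf_dvd_of_pow_eq_one h)
      · exact Or.inr (Or.inl (hy ▸ orderOf_dvd_of_pow_eq_one h))
      · exact Or.inr (Or.inr (hy ▸ orderOf_dvd_of_pow_eq_one h))
    have hprime : ∀ p : ℕ, p.Prime → r * s ∣ p → False := by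
      intro p hp h
      have h1 := (Nat.prime_dvd_prime_iff_eq hr hp).1 (dvd_trans (dvd_mul_right r s) h)
      have h2 := (Nat.prime_dvd_prime_iff_eq hs hp).1 (dvd_trans (dvd_mul_left s r) h)
      exact hrs (h1.trans h2.symm)
    rcases hd with h | h | h
    · have hle := Nat.le_of_dvd (by norm_num) h
      have h6 : 6 ≤ r * s := by
        rcases Nat.lt_or_ge r s with hlt | hge
        · nlinarith
        · have : s < r := lt_of_le_of_ne hge (Ne.symm hrs)
          nlinarith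
      omega
    · exact (hprime 7 (by norm_num) h).elim
    · exact (hprime 13 (by norm_num) h).elim
  · intro h
    obtain ⟨y, hy⟩ := psl2_13_order_six
    exact ⟨y, by rw [hy, h]⟩

/-- The statement, with the orders of the two groups as hypotheses. -/
theorem same_prime_graph {F : Type*} [Field F] [Fintype F] (hF : Fintype.card F = 3)
    {E : Type*} [Field E] [Fintype E] (hE : Fintype.card E = 13)
    (hG : Nat.card ↥(Cfsg.Lie.chevG2.group (ZMod 3)) = 3 ^ 6 * (3 ^ 2 - 1) * (3 ^ 6 - 1))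
    (hP : Nat.gcd 2 (13 - 1) * ((13 - 1) *
      Nat.card (Matrix.ProjectiveSpecialLinearGroup (Fin 2) E)) =
        ∏ i : Fin 2, (13 ^ 2 - 13 ^ (i : ℕ))) :
    ((∀ r : ℕ, r.Prime → (r ∣ Nat.card ↥(Cfsg.Lie.chevG2.group F) ↔
        r ∣ Nat.card (Matrix.ProjectiveSpecialLinearGroup (Fin 2) E))) ∧
      (∀ r s : ℕ, r.Prime → s.Prime → r ≠ s →
        ((∃ x : ↥(Cfsg.Lie.chevG2.group F), orderOf x = r * s) ↔
          (∃ y : (Matrix.ProjectiveSpecialLinearGroup (Fin 2) E), orderOf y = r * s)))) := by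
  classical
  have eF : F ≃+* ZMod 3 := (ZMod.ringEquivOfPrime F Nat.prime_three hF).symm
  haveI : Fact (Nat.Prime 13) := ⟨by norm_num⟩
  have eE : E ≃+* ZMod 13 := (ZMod.ringEquivOfPrime E (by norm_num) hE).symm
  let φ : ↥(Cfsg.Lie.chevG2.group F) ≃* ↥G23 := chevCongr Cfsg.Lie.chevG2 eF
  let ψ : Matrix.ProjectiveSpecialLinearGroup (Fin 2) E ≃*
      Matrix.ProjectiveSpecialLinearGroup (Fin 2) (ZMod 13) := pslCongr 2 eE
  have hG' : Nat.card ↥G23 = 4245696 := hG.trans (by norm_num)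
  have hcF : Nat.card ↥(Cfsg.Lie.chevG2.group F) = 4245696 := by
    rw [Nat.card_congr φ.toEquiv, hG']
  have hcE : Nat.card (Matrix.ProjectiveSpecialLinearGroup (Fin 2) E) = 1092 := by
    generalize Nat.card (Matrix.ProjectiveSpecialLinearGroup (Fin 2) E) = c at hP
    rw [Fin.prod_univ_two] at hP
    simp only [Fin.val_zero, Fin.val_one] at hP
    have h2 : Nat.gcd 2 (13 - 1) = 2 := by norm_num
    rw [h2] at hP
    norm_num at hP
    omega
  refine ⟨?_, ?_⟩
  · intro r hr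
    rw [hcF, hcE, prime_dvd_iff r hr, prime_dvd_iff' r hr]
  · intro r s hr hs hrs
    have h1 : (∃ x : ↥(Cfsg.Lie.chevG2.group F), orderOf x = r * s) ↔
        (∃ x : ↥G23, orderOf x = r * s) := by
      constructor
      · rintro ⟨x, hx⟩
        exact ⟨φ x, by rw [MulEquiv.orderOf_eq, hx]⟩
      · rintro ⟨x, hx⟩
        exact ⟨φ.symm x, by rw [MulEquiv.orderOf_eq, hx]⟩
    have h2 : (∃ y : Matrix.ProjectiveSpecialLinearGroup (Fin 2) E, orderOf y = r * s) ↔
        (∃ y : Matrix.ProjectiveSpecialLinearGroup (Fin 2) (ZMod 13), orderOf y = r * s) := by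
      constructor
      · rintro ⟨x, hx⟩
        exact ⟨ψ x, by rw [MulEquiv.orderOf_eq, hx]⟩
      · rintro ⟨x, hx⟩
        exact ⟨ψ.symm x, by rw [MulEquiv.orderOf_eq, hx]⟩
    rw [h1, h2, g23_orders hG' r s hr hs hrs, psl2_13_orders r s hr hs hrs]

end Cfsg.Agent.Helper37.G3
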