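import Mathlib

/-!
# JPC lemma server (helper35, S4150), piece (T7), part a: the brute-force table (helper37)

Nat-level computation: for the 7-cycle `i ↦ i + 1` on `{0,…,6}` and every 5-cycle `0 → b → c → d → e → 0`
one of sixteen words in `x, x⁻¹, y, y⁻¹` moves exactly three points.
-/

set_option autoImplicit false

namespace Cfsg.Agent.Helper37.JPC

/-- the 5-cycle `a → b → c → d → e → a` on natural numbers -/
def t7xf (a b c d e i : ℕ) : ℕ :=
  if i = a then b else if i = b then c else if i = c then d else if i = d then e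
  else if i = e then a else i

/-- the table of values of `t7xf a b c d e` on `0,…,6` -/
def t7T (a b c d e : ℕ) : List ℕ :=
  [t7xf a b c d e 0, t7xf a b c d e 1, t7xf a b c d e 2, t7xf a b c d e 3, t7xf a b c d e 4,
   t7xf a b c d e 5, t7xf a b c d e 6]

theorem t7T_getD (a b c d e : ℕ) {j : ℕ} (hj : j < 7) :
    (t7T a b c d e).getD j 0 = t7xf a b c d e j := by
  interval_cases j <;> rfl

/-- the letters: `0 ↦ x`, `1 ↦ x⁻¹`, `2 ↦ y`, otherwise `y⁻¹` (with `x = (0 b c d e)`, `y i = i + 1`);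
table lookups keep the kernel evaluation linear -/
def t7lt (b c d e l j : ℕ) : ℕ :=
  if l = 0 then (t7T 0 b c d e).getD j 0 else if l = 1 then (t7T e d c b 0).getD j 0
  else if l = 2 then (j + 1) % 7 else (j + 6) % 7

/-- evaluation of a word at a point -/
def t7evN (b c d e : ℕ) (w : List ℕ) (i : ℕ) : ℕ := w.foldr (t7lt b c d e) i

/-- number of points of `{0,…,6}` moved by `f` -/
def t7cnt (f : ℕ → ℕ) : ℕ :=
  (if f 0 = 0 then 0 else 1) + (if f 1 = 1 then 0 else 1) + (if f 2 = 2 then 0 else 1) +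
  (if f 3 = 3 then 0 else 1) + (if f 4 = 4 then 0 else 1) + (if f 5 = 5 then 0 else 1) +
  (if f 6 = 6 then 0 else 1)

/-- sixteen words, one of which is a 3-cycle for each 5-cycle `x` -/
def t7W : List (List ℕ) :=
  [[0, 2, 0, 2], [0, 3, 0, 3], [0, 0, 2, 0, 0, 2], [0, 0, 3, 0, 0, 3], [0, 2, 1, 3, 3],
   [0, 0, 2, 1, 1, 3, 3], [0, 2, 2, 1, 3], [0, 0, 2, 2, 1, 1, 3], [0, 2, 2, 1, 3, 3, 3],
   [0, 2, 2, 2, 1, 3, 3], [0, 2, 2, 0, 2, 2], [0, 3, 3, 0, 3, 3], [0, 2, 2, 1, 2, 2, 2],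
   [0, 2, 2, 2, 1, 2, 2], [0, 2, 0, 2, 0, 3], [0, 2, 0, 3, 0, 3]]

/-- some word of `t7W` moves exactly three points -/
def t7chk (b c d e : ℕ) : Bool := t7W.any fun w => t7cnt (t7evN b c d e w) == 3

/-- `b, c, d, e` pairwise distinct -/
def t7dist (b c d e : ℕ) : Bool :=
  (b != c) && (b != d) && (b != e) && (c != d) && (c != e) && (d != e)

/-- the whole table -/
def t7all : Bool :=
  [1, 2, 3, 4, 5, 6].all fun b => [1, 2, 3, 4, 5, 6].all fun c => [1, 2, 3, 4, 5, 6].all fun d =>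
    [1, 2, 3, 4, 5, 6].all fun e => !(t7dist b c d e) || t7chk b c d e

set_option maxRecDepth 100000 in
theorem t7all_true : t7all = true := by decide +kernel

theorem t7_mem_range {b : ℕ} (h0 : b ≠ 0) (h7 : b < 7) : b ∈ [1, 2, 3, 4, 5, 6] := by
  simp only [List.mem_cons, List.not_mem_nil, or_false]
  omega

theorem t7_nat {b c d e : ℕ} (hb0 : b ≠ 0) (hb : b < 7) (hc0 : c ≠ 0) (hc : c < 7) (hd0 : d ≠ 0)
    (hd : d < 7) (he0 : e ≠ 0) (he : e < 7) (hbc : b ≠ c) (hbd : b ≠ d) (hbe : b ≠ e) (hcd : c ≠ d)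
    (hce : c ≠ e) (hde : d ≠ e) : ∃ w ∈ t7W, t7cnt (t7evN b c d e w) = 3 := by
  have h := t7all_true
  rw [t7all, List.all_eq_true] at h
  have h1 := h b (t7_mem_range hb0 hb)
  rw [List.all_eq_true] at h1
  have h2 := h1 c (t7_mem_range hc0 hc)
  rw [List.all_eq_true] at h2
  have h3 := h2 d (t7_mem_range hd0 hd)
  rw [List.all_eq_true] at h3
  have h4 := h3 e (t7_mem_range he0 he)
  have hdist : t7dist b c d e = true := by
    simp [t7dist, hbc, hbd, hbe, hcd, hce, hde]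
  rw [hdist] at h4
  simp only [Bool.not_true, Bool.false_or] at h4
  rw [t7chk, List.any_eq_true] at h4
  obtain ⟨w, hw, hw3⟩ := h4
  exact ⟨w, hw, by simpa using hw3⟩

end Cfsg.Agent.Helper37.JPC
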