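import Mathlib
import Cfsg.Agent.Lib.Helper37.JPCT7a

/-!
# JPC lemma server (helper35, S4150), piece (T7): a 5-cycle and a 7-cycle on 7 points generate `A₇` (helper37)

Transport to `Fin 7` with `y = finRotate 7`, rotate so that `0` is moved by `x`, write `x = (0 b c d e)`;
by the table of `JPCT7a` some word in `x, y` is a 3-cycle; the group is primitive (prime degree): Jordan.
-/

set_option autoImplicit false

namespace Cfsg.Agent.Helper37.JPC

open Equiv Equiv.Perm MulAction Subgroup

universe u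

/-- values of `formPerm` of a duplicate-free list of length 5 -/
theorem t7_formPerm5 {α : Type*} [DecidableEq α] (a b c d e : α) (h : [a, b, c, d, e].Nodup) (i : α) :
    List.formPerm [a, b, c, d, e] i =
      if i = a then b else if i = b then c else if i = c then d else if i = d then e
      else if i = e then a else i := by
  split_ifs with h1 h2 h3 h4 h5
  · subst h1
    simpa using List.formPerm_apply_getElem [i, b, c, d, e] h 0 (by simp)
  · subst h2
    simpa using List.formPerm_apply_getElem [a, i, c, d, e] h 1 (by simp)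
  · subst h3
    simpa using List.formPerm_apply_getElem [a, b, i, d, e] h 2 (by simp)
  · subst h4
    simpa using List.formPerm_apply_getElem [a, b, c, i, e] h 3 (by simp)
  · subst h5
    simpa using List.formPerm_apply_getElem [a, b, c, d, i] h 4 (by simp)
  · apply List.formPerm_apply_of_notMem
    simp [h1, h2, h3, h4, h5]

/-- the same in terms of the values in `ℕ` -/
theorem t7_formPerm5_val (a b c d e : Fin 7) (h : [a, b, c, d, e].Nodup) (i : Fin 7) :
    (List.formPerm [a, b, c, d, e] i : ℕ) = t7xf a b c d e i := by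
  rw [t7_formPerm5 a b c d e h i, t7xf]
  simp only [apply_ite Fin.val, Fin.ext_iff]

/-- the standard 7-cycle -/
def t7y : Perm (Fin 7) := finRotate 7

theorem t7y_val (i : Fin 7) : (t7y i : ℕ) = (i + 1) % 7 := by
  rw [t7y, finRotate_succ_apply, Fin.val_add]
  rfl

theorem t7y_inv_val (i : Fin 7) : (t7y⁻¹ i : ℕ) = (i + 6) % 7 := by
  have h : t7y⁻¹ i = i + 6 := by
    rw [Perm.inv_eq_iff_eq, t7y, finRotate_succ_apply, add_assoc]
    have : (6 : Fin 7) + 1 = 0 := by decide
    rw [this, add_zero]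
  rw [h, Fin.val_add]
  rfl

theorem t7y_ne (i : Fin 7) : t7y i ≠ i := by
  rw [t7y, finRotate_succ_apply]
  revert i
  decide

/-- the letters of a word as permutations -/
def t7L (x y : Perm (Fin 7)) (l : ℕ) : Perm (Fin 7) :=
  if l = 0 then x else if l = 1 then x⁻¹ else if l = 2 then y else y⁻¹

/-- evaluation of a word -/
def t7ev (x y : Perm (Fin 7)) (w : List ℕ) : Perm (Fin 7) := (w.map (t7L x y)).prod

theorem t7L_mem (x y : Perm (Fin 7)) (l : ℕ) : t7L x y l ∈ closure ({x, y} : Set (Perm (Fin 7))) := by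
  have hx : x ∈ closure ({x, y} : Set (Perm (Fin 7))) := subset_closure (by simp)
  have hy : y ∈ closure ({x, y} : Set (Perm (Fin 7))) := subset_closure (by simp)
  unfold t7L
  split_ifs
  · exact hx
  · exact inv_mem hx
  · exact hy
  · exact inv_mem hy

theorem t7ev_mem (x y : Perm (Fin 7)) (w : List ℕ) :
    t7ev x y w ∈ closure ({x, y} : Set (Perm (Fin 7))) := by
  apply Subgroup.list_prod_mem
  intro g hg
  obtain ⟨l, -, rfl⟩ := List.mem_map.1 hg
  exact t7L_mem x y l

/-- the bridge between the permutation word and the table computation -/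
theorem t7ev_val (b c d e : Fin 7) (h : [0, b, c, d, e].Nodup) (w : List ℕ) (i : Fin 7) :
    (t7ev (List.formPerm [0, b, c, d, e]) t7y w i : ℕ) = t7evN b c d e w i := by
  induction w with
  | nil => simp [t7ev, t7evN]
  | cons l w ih =>
    have hstep : t7ev (List.formPerm [0, b, c, d, e]) t7y (l :: w) i =
        t7L (List.formPerm [0, b, c, d, e]) t7y l (t7ev (List.formPerm [0, b, c, d, e]) t7y w i) := by
      simp [t7ev, List.map_cons, List.prod_cons, Perm.mul_apply]
    rw [hstep]
    have hN : t7evN b c d e (l :: w) i = t7lt b c d e l (t7evN b c d e w i) := by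
      simp [t7evN, List.foldr_cons]
    rw [hN, ← ih]
    set j := t7ev (List.formPerm [0, b, c, d, e]) t7y w i with hj
    have hj7 : (j : ℕ) < 7 := j.isLt
    have hrev : [0, b, c, d, e].reverse = [e, d, c, b, 0] := rfl
    have hinv : (List.formPerm [0, b, c, d, e])⁻¹ = List.formPerm [e, d, c, b, 0] := by
      rw [← List.formPerm_reverse, hrev]
    have hnd' : [e, d, c, b, 0].Nodup := by
      rw [← hrev]; exact List.nodup_reverse.2 h
    unfold t7L t7lt
    split_ifs with h0 h1 h2
    · rw [t7T_getD _ _ _ _ _ hj7, t7_formPerm5_val 0 b c d e h j]; rfl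
    · rw [t7T_getD _ _ _ _ _ hj7, hinv, t7_formPerm5_val e d c b 0 hnd' j]; rfl
    · exact t7y_val j
    · exact t7y_inv_val j

/-- the number of moved points, computed on the values -/
theorem t7_card_support (σ : Perm (Fin 7)) (f : ℕ → ℕ) (hf : ∀ i : Fin 7, (σ i : ℕ) = f i) :
    σ.support.card = t7cnt f := by
  have key : ∀ i : Fin 7, (if σ i ≠ i then 1 else 0) = (if f i = i then 0 else 1) := by
    intro i
    have : σ i = i ↔ f i = i := by rw [← hf i, Fin.ext_iff]
    by_cases hi : σ i = i
    · rw [if_neg (not_not.2 hi), if_pos (this.1 hi)]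
    · rw [if_pos hi, if_neg (fun h => hi (this.2 h))]
  rw [Equiv.Perm.support, Finset.card_filter, Fin.sum_univ_seven]
  simp only [key]
  rfl

/-- the core on `Fin 7`, when `0` is moved by `x` -/
theorem t7_core (x : Perm (Fin 7)) (hx : x.IsCycle) (h5 : x.support.card = 5) (h0 : x 0 ≠ 0) :
    ∃ g ∈ closure ({x, t7y} : Set (Perm (Fin 7))), g.IsThreeCycle := by
  have hcyc : x.cycleOf 0 = x := hx.cycleOf_eq h0
  have hl : toList x 0 = [0, x 0, x (x 0), x (x (x 0)), x (x (x (x 0)))] := by
    rw [toList, hcyc, h5]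
    rfl
  have hnd : [0, x 0, x (x 0), x (x (x 0)), x (x (x (x 0)))].Nodup := hl ▸ nodup_toList x 0
  have hform : List.formPerm [0, x 0, x (x 0), x (x (x 0)), x (x (x (x 0)))] = x := by
    rw [← hl, formPerm_toList, hcyc]
  set b := x 0
  set c := x b
  set d := x c
  set e := x d
  have hnd' := hnd
  simp only [List.nodup_cons, List.mem_cons, List.not_mem_nil, or_false, not_or,
    List.nodup_nil, and_true] at hnd'
  obtain ⟨⟨hb0, hc0, hd0, he0⟩, ⟨hbc, hbd, hbe⟩, ⟨hcd, hce⟩, hde⟩ := hnd'
  have v : ∀ {p q : Fin 7}, p ≠ q → (p : ℕ) ≠ (q : ℕ) := fun h h' => h (Fin.ext h')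
  obtain ⟨w, -, hw3⟩ := t7_nat (b := b) (c := c) (d := d) (e := e)
    (fun h => hb0 (Fin.ext h.symm)) b.isLt (fun h => hc0 (Fin.ext h.symm)) c.isLt
    (fun h => hd0 (Fin.ext h.symm)) d.isLt (fun h => he0 (Fin.ext h.symm)) e.isLt
    (v hbc) (v hbd) (v hbe) (v hcd) (v hce) (v hde.1)
  refine ⟨t7ev x t7y w, t7ev_mem x t7y w, ?_⟩
  rw [← card_support_eq_three_iff, ← hw3]
  apply t7_card_support
  intro i
  rw [← hform]
  exact t7ev_val b c d e hnd w i

/-- the core on `Fin 7` -/
theorem t7_fin (x : Perm (Fin 7)) (hx : x.IsCycle) (h5 : x.support.card = 5) :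
    alternatingGroup (Fin 7) ≤ closure ({x, t7y} : Set (Perm (Fin 7))) := by
  have hyc : t7y.IsCycle := isCycle_finRotate
  have hxm : x ∈ closure ({x, t7y} : Set (Perm (Fin 7))) := subset_closure (by simp)
  have hym : t7y ∈ closure ({x, t7y} : Set (Perm (Fin 7))) := subset_closure (by simp)
  -- a 3-cycle in the closure
  have h3 : ∃ g ∈ closure ({x, t7y} : Set (Perm (Fin 7))), g.IsThreeCycle := by
    have hne : x.support.Nonempty := by
      rw [← Finset.card_pos, h5]; norm_num
    obtain ⟨p, hp⟩ := hne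
    rw [mem_support] at hp
    obtain ⟨k, hk⟩ := hyc.exists_pow_eq (t7y_ne p) (t7y_ne 0)
    set g := t7y ^ k with hg
    have hgm : g ∈ closure ({x, t7y} : Set (Perm (Fin 7))) := pow_mem hym k
    set x' := g * x * g⁻¹ with hx'
    have hx'm : x' ∈ closure ({x, t7y} : Set (Perm (Fin 7))) :=
      mul_mem (mul_mem hgm hxm) (inv_mem hgm)
    have hx'c : x'.IsCycle := hx.conj
    have hx'5 : x'.support.card = 5 := by rw [hx', card_support_conj, h5]
    have hx'0 : x' 0 ≠ 0 := by
      have hginv : g⁻¹ 0 = p := by rw [Perm.inv_eq_iff_eq, hk]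
      rw [hx', Perm.mul_apply, Perm.mul_apply, hginv]
      intro h
      apply hp
      apply g.injective
      rw [h, hk]
    obtain ⟨t, ht, ht3⟩ := t7_core x' hx'c hx'5 hx'0
    refine ⟨t, ?_, ht3⟩
    have hle : closure ({x', t7y} : Set (Perm (Fin 7))) ≤ closure ({x, t7y} : Set (Perm (Fin 7))) := by
      rw [closure_le]
      rintro z (rfl | rfl)
      · exact hx'm
      · exact hym
    exact hle ht
  obtain ⟨t, ht, ht3⟩ := h3
  -- primitivity
  haveI : IsPretransitive (closure ({x, t7y} : Set (Perm (Fin 7)))) (Fin 7) := by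
    refine ⟨fun i j => ?_⟩
    obtain ⟨k, hk⟩ := hyc.exists_pow_eq (t7y_ne i) (t7y_ne j)
    exact ⟨⟨t7y ^ k, pow_mem hym k⟩, hk⟩
  have hprim : IsPreprimitive (closure ({x, t7y} : Set (Perm (Fin 7)))) (Fin 7) :=
    IsPreprimitive.of_prime_card (by rw [Nat.card_eq_fintype_card, Fintype.card_fin]; norm_num)
  exact alternatingGroup_le_of_isPreprimitive_of_isThreeCycle_mem hprim ht3 ht

/-- (T7) a 5-cycle and a 7-cycle on 7 points generate at least the alternating group. -/
theorem alt_le_closure_seven {Ω : Type u} [Fintype Ω] [DecidableEq Ω]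
    (hcard : Fintype.card Ω = 7) {x y : Perm Ω} (hx : x.IsCycle) (hx5 : x.support.card = 5)
    (hy : y.IsCycle) (hy7 : y.support.card = 7) :
    alternatingGroup Ω ≤ closure ({x, y} : Set (Perm Ω)) := by
  classical
  let f : Ω ≃ {_i : Fin 7 // True} :=
    (Fintype.equivFinOfCardEq hcard).trans (Equiv.subtypeUnivEquiv (fun _ => trivial)).symm
  let φ : Perm Ω →* Perm (Fin 7) := extendDomainHom f
  have hφinj : Function.Injective φ := extendDomainHom_injective f
  have hφct : ∀ σ : Perm Ω, (φ σ).cycleType = σ.cycleType := fun σ => cycleType_extendDomain f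
  have hφsign : ∀ σ : Perm Ω, sign (φ σ) = sign σ := fun σ => sign_extendDomain σ f
  -- conjugate `φ y` to the standard 7-cycle
  have hyct : (φ y).cycleType = t7y.cycleType := by
    rw [hφct, hy.cycleType, hy7, t7y, cycleType_finRotate]
  obtain ⟨c, hc⟩ := isConj_iff.1 (isConj_iff_cycleType_eq.2 hyct)
  let Φ : Perm Ω →* Perm (Fin 7) := (MulAut.conj c).toMonoidHom.comp φ
  have hΦ : ∀ σ, Φ σ = c * φ σ * c⁻¹ := fun σ => rfl
  have hΦinj : Function.Injective Φ := by
    intro a b hab
    apply hφinj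
    have := hab
    rw [hΦ, hΦ] at this
    exact mul_right_cancel (mul_left_cancel this)
  have hΦy : Φ y = t7y := by rw [hΦ]; exact hc
  have hΦsign : ∀ σ : Perm Ω, sign (Φ σ) = sign σ := by
    intro σ
    rw [hΦ, Perm.sign_mul, Perm.sign_mul, Perm.sign_inv, mul_right_comm, Int.units_mul_self, one_mul, hφsign]
  have hΦxct : (Φ x).cycleType = {5} := by
    rw [hΦ, cycleType_conj, hφct, hx.cycleType, hx5]
  have hΦxc : (Φ x).IsCycle := by
    rw [← card_cycleType_eq_one, hΦxct]; rfl
  have hΦx5 : (Φ x).support.card = 5 := by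
    rw [← sum_cycleType, hΦxct]; rfl
  have hfin := t7_fin (Φ x) hΦxc hΦx5
  intro σ hσ
  rw [mem_alternatingGroup] at hσ
  have h1 : Φ σ ∈ alternatingGroup (Fin 7) := by
    rw [mem_alternatingGroup, hΦsign, hσ]
  have h2 := hfin h1
  have himg : closure ({Φ x, t7y} : Set (Perm (Fin 7))) = (closure ({x, y} : Set (Perm Ω))).map Φ := by
    rw [MonoidHom.map_closure, Set.image_pair, hΦy]
  rw [himg] at h2
  obtain ⟨τ, hτ, hτσ⟩ := Subgroup.mem_map.1 h2
  rw [← hΦinj hτσ]
  exact hτ

end Cfsg.Agent.Helper37.JPC
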