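import Mathlib
import Cfsg.Agent.Lib.Helper6.SzOvoid2

set_option autoImplicit false

namespace Cfsg.Agent.Helper37

open Cfsg.Agent.Helper6 Matrix

variable {F : Type*} [Field F] {e : ℕ}

theorem det_fin_four {R : Type*} [CommRing R] (A : Matrix (Fin 4) (Fin 4) R) :
    A.det = A 0 0 * (A 1 1 * A 2 2 * A 3 3 - A 1 1 * A 2 3 * A 3 2 - A 1 2 * A 2 1 * A 3 3 + A 1 2 * A 2 3 * A 3 1 + A 1 3 * A 2 1 * A 3 2 - A 1 3 * A 2 2 * A 3 1)
      - A 0 1 * (A 1 0 * A 2 2 * A 3 3 - A 1 0 * A 2 3 * A 3 2 - A 1 2 * A 2 0 * A 3 3 + A 1 2 * A 2 3 * A 3 0 + A 1 3 * A 2 0 * A 3 2 - A 1 3 * A 2 2 * A 3 0)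
      + A 0 2 * (A 1 0 * A 2 1 * A 3 3 - A 1 0 * A 2 3 * A 3 1 - A 1 1 * A 2 0 * A 3 3 + A 1 1 * A 2 3 * A 3 0 + A 1 3 * A 2 0 * A 3 1 - A 1 3 * A 2 1 * A 3 0)
      - A 0 3 * (A 1 0 * A 2 1 * A 3 2 - A 1 0 * A 2 2 * A 3 1 - A 1 1 * A 2 0 * A 3 2 + A 1 1 * A 2 2 * A 3 0 + A 1 2 * A 2 0 * A 3 1 - A 1 2 * A 2 1 * A 3 0) := by
  rw [Matrix.det_succ_row_zero, Fin.sum_univ_four]
  simp only [Matrix.det_fin_three, submatrix_apply]
  simp [Fin.succAbove]
  ring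

/-- explicit 4x4 mulVec -/
theorem mulVec_fin_four (A : Matrix (Fin 4) (Fin 4) F) (v : Fin 4 → F) :
    A *ᵥ v = ![A 0 0 * v 0 + A 0 1 * v 1 + A 0 2 * v 2 + A 0 3 * v 3,
      A 1 0 * v 0 + A 1 1 * v 1 + A 1 2 * v 2 + A 1 3 * v 3,
      A 2 0 * v 0 + A 2 1 * v 1 + A 2 2 * v 2 + A 2 3 * v 3,
      A 3 0 * v 0 + A 3 1 * v 1 + A 3 2 * v 2 + A 3 3 * v 3] := by
  funext i
  fin_cases i <;> simp [Matrix.mulVec, dotProduct, Fin.sum_univ_four]

/-- the unipotent elements -/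
def Mmat (e : ℕ) (a b : F) : Matrix (Fin 4) (Fin 4) F :=
  !![1, a, b + a ^ e * a, a * b + a ^ e * a ^ 2 + b ^ e;
     0, 1, a ^ e, b;
     0, 0, 1, a;
     0, 0, 0, 1]

/-- the torus elements -/
def Hmat (e : ℕ) (t : F) : Matrix (Fin 4) (Fin 4) F :=
  !![t ^ (e + 2), 0, 0, 0;
     0, t ^ e, 0, 0;
     0, 0, (t ^ e)⁻¹, 0;
     0, 0, 0, (t ^ (e + 2))⁻¹]

/-- the Weyl involution -/
def Wmat : Matrix (Fin 4) (Fin 4) F :=
  !![0, 0, 0, 1;
     0, 0, 1, 0;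
     0, 1, 0, 0;
     1, 0, 0, 0]

theorem det_Mmat (a b : F) : (Mmat e a b).det = 1 := by
  rw [det_fin_four]
  simp [Mmat]

theorem det_Hmat {t : F} (ht : t ≠ 0) : (Hmat e t).det = 1 := by
  rw [det_fin_four]
  simp [Hmat]
  field_simp

theorem det_Wmat : (Wmat : Matrix (Fin 4) (Fin 4) F).det = 1 := by
  rw [det_fin_four]
  simp [Wmat]

theorem Mmat_mulVec_oinf (a b : F) : Mmat e a b *ᵥ (oinf : Fin 4 → F) = oinf := by
  rw [mulVec_fin_four]
  simp [Mmat, oinf]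

theorem Mmat_mulVec_ovec (h : SzHyp F e) (a b x y : F) :
    Mmat e a b *ᵥ ovec e x y = ovec e (x + a) (y + a ^ e * x + b) := by
  rw [mulVec_fin_four]
  simp only [Mmat, ovec]
  simp only [Matrix.of_apply, Matrix.cons_val', Matrix.cons_val_zero, Matrix.cons_val_one,
    Matrix.cons_val, Matrix.cons_val_fin_one]
  have key : 1 * szf e x y + a * y + (b + a ^ e * a) * x + (a * b + a ^ e * a ^ 2 + b ^ e) * 1 =
      szf e (x + a) (y + a ^ e * x + b) := by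
    unfold szf
    rw [pow_add, pow_add, h.add, h.add, h.add, mul_pow, h.sq]
    linear_combination (-(a ^ e * x ^ 2 + a ^ 2 * x ^ e) - (x * x ^ e * a + x * a * a ^ e)) * h.two
  rw [key]
  congr 1
  funext i
  fin_cases i <;> simp <;> ring

theorem Hmat_mulVec_oinf (t : F) : Hmat e t *ᵥ (oinf : Fin 4 → F) = t ^ (e + 2) • oinf := by
  rw [mulVec_fin_four]
  funext i
  fin_cases i <;> simp [Hmat, oinf]

theorem szf_scale (h : SzHyp F e) (k x y : F) :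
    szf e (k * x) (k ^ (e + 1) * y) = k ^ (e + 2) * szf e x y := by
  unfold szf
  have h1 : (k ^ (e + 1)) ^ e = k ^ (e + 2) := by
    rw [pow_succ, mul_pow, h.sq, pow_add, mul_comm]
  rw [mul_pow, mul_pow, h1]
  ring

theorem Hmat_mulVec_ovec (h : SzHyp F e) {t : F} (ht : t ≠ 0) (x y : F) :
    Hmat e t *ᵥ ovec e x y = (t ^ (e + 2))⁻¹ • ovec e (t ^ 2 * x) ((t ^ 2) ^ (e + 1) * y) := by
  rw [mulVec_fin_four]
  have hk := szf_scale h (t ^ 2) x y
  have ht2 : t ^ (e + 2) ≠ 0 := pow_ne_zero _ ht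
  have hte : t ^ e ≠ 0 := pow_ne_zero _ ht
  funext i
  fin_cases i
  · simp only [Hmat, ovec]
    simp
    rw [hk]
    field_simp
    ring
  · simp only [Hmat, ovec]
    simp
    field_simp
    ring
  · simp only [Hmat, ovec]
    simp
    field_simp
    ring
  · simp only [Hmat, ovec]
    simp

theorem szf_zero (h : SzHyp F e) : szf e (0 : F) 0 = 0 := by
  simp [szf, h.pos]

theorem Wmat_mulVec_oinf (h : SzHyp F e) : Wmat *ᵥ (oinf : Fin 4 → F) = ovec e 0 0 := by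
  rw [mulVec_fin_four]
  funext i
  fin_cases i <;> simp [Wmat, oinf, ovec, szf_zero h]

theorem Wmat_mulVec_ovec_zero (h : SzHyp F e) : Wmat *ᵥ (ovec e (0 : F) 0) = oinf := by
  rw [mulVec_fin_four]
  funext i
  fin_cases i <;> simp [Wmat, oinf, ovec, szf_zero h]

theorem szf_inv (h : SzHyp F e) {x y : F} (hf : szf e x y ≠ 0) :
    szf e (y / szf e x y) (x / szf e x y) = (szf e x y)⁻¹ := by
  have I := h.inv_identity x y
  set f := szf e x y with hfdef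
  have hfe : f ^ e ≠ 0 := pow_ne_zero _ hf
  unfold szf
  rw [div_pow, div_pow, pow_add, pow_add]
  field_simp
  linear_combination I

theorem Wmat_mulVec_ovec (h : SzHyp F e) {x y : F} (hf : szf e x y ≠ 0) :
    Wmat *ᵥ ovec e x y = szf e x y • ovec e (y / szf e x y) (x / szf e x y) := by
  rw [mulVec_fin_four]
  have hi := szf_inv h hf
  funext i
  fin_cases i
  · simp only [Wmat, ovec]
    simp
    rw [hi]
    field_simp
  · simp only [Wmat, ovec]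
    simp
    field_simp
  · simp only [Wmat, ovec]
    simp
    field_simp
  · simp only [Wmat, ovec]
    simp

end Cfsg.Agent.Helper37
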