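import Mathlib
import Cfsg.Agent.Lib.Helper37.SzElem
import Cfsg.Agent.S0326

set_option autoImplicit false

namespace Cfsg.Agent.Helper37

open Cfsg.Agent.Helper6 Matrix Cfsg
open scoped Pointwise

variable {F : Type*} [Field F]

/-- the parametrisation of the ovoid (from `S0326`). -/
noncomputable abbrev pt (F : Type*) [Field F] (m : ℕ) :
    Option (F × F) → Projectivization F (Fin 4 → F) :=
  Cfsg.Agent.S0326.par m

theorem ovec_eq_vec (m : ℕ) (x y : F) : ovec (2 ^ (m + 1)) x y = Cfsg.Agent.S0326.vec m x y := rfl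

theorem oinf_eq : (oinf : Fin 4 → F) = ![1, 0, 0, 0] := rfl

theorem ovec_ne_zero (e : ℕ) (x y : F) : ovec e x y ≠ 0 := by
  intro h
  have := congrFun h 3
  simp [ovec] at this

theorem oinf_ne_zero : (oinf : Fin 4 → F) ≠ 0 := Cfsg.Agent.S0326.inf_ne_zero

theorem pt_none (m : ℕ) : pt F m none = Projectivization.mk F oinf oinf_ne_zero := rfl

theorem pt_some (m : ℕ) (x y : F) :
    pt F m (some (x, y)) = Projectivization.mk F (ovec (2 ^ (m + 1)) x y) (ovec_ne_zero _ x y) := rfl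

theorem mem_ovoid_iff (m : ℕ) (p : Projectivization F (Fin 4 → F)) :
    p ∈ suzukiOvoid F m ↔ ∃ a, pt F m a = p := by
  rw [← Cfsg.Agent.S0326.range_par m]
  rfl

theorem pt_mem (m : ℕ) (a : Option (F × F)) : pt F m a ∈ suzukiOvoid F m :=
  (mem_ovoid_iff m _).mpr ⟨a, rfl⟩

theorem pt_injective (m : ℕ) : Function.Injective (pt F m) :=
  Cfsg.Agent.S0326.par_injective m

theorem smul_mk_of_mulVec (g : Matrix.SpecialLinearGroup (Fin 4) F) (v w : Fin 4 → F) (hv : v ≠ 0)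
    (hw : w ≠ 0) (c : F) (h : g.1 *ᵥ v = c • w) :
    g • Projectivization.mk F v hv = Projectivization.mk F w hw := by
  rw [Projectivization.smul_mk, Projectivization.mk_eq_mk_iff']
  exact ⟨c, h.symm⟩

theorem ovoid_finite [Finite F] (m : ℕ) : (suzukiOvoid F m).Finite := Set.toFinite _

theorem mem_Sz_of_maps [Finite F] (m : ℕ) (g : Matrix.SpecialLinearGroup (Fin 4) F)
    (hg : ∀ a : Option (F × F), ∃ b, g • pt F m a = pt F m b) : g ∈ Cfsg.Sz F m := by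
  rw [MulAction.mem_stabilizer_set' (ovoid_finite m)]
  intro p hp
  obtain ⟨a, rfl⟩ := (mem_ovoid_iff m p).mp hp
  obtain ⟨b, hb⟩ := hg a
  rw [hb]
  exact pt_mem m b

theorem smul_mem_ovoid (m : ℕ) {g : Matrix.SpecialLinearGroup (Fin 4) F} (hg : g ∈ Cfsg.Sz F m)
    (a : Option (F × F)) : ∃ b, g • pt F m a = pt F m b := by
  have h1 : g • suzukiOvoid F m = suzukiOvoid F m := hg
  have h2 : g • pt F m a ∈ g • suzukiOvoid F m := Set.smul_mem_smul_set (pt_mem m a)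
  rw [h1] at h2
  obtain ⟨b, hb⟩ := (mem_ovoid_iff m _).mp h2
  exact ⟨b, hb.symm⟩

section Elements

variable (m : ℕ)

/-- unipotent element of `SL₄` -/
def MSL (a b : F) : Matrix.SpecialLinearGroup (Fin 4) F := ⟨Mmat (2 ^ (m + 1)) a b, det_Mmat a b⟩

/-- torus element of `SL₄` -/
def HSL (t : Fˣ) : Matrix.SpecialLinearGroup (Fin 4) F :=
  ⟨Hmat (2 ^ (m + 1)) (t : F), det_Hmat t.ne_zero⟩

/-- Weyl element of `SL₄` -/
def WSL (F : Type*) [Field F] : Matrix.SpecialLinearGroup (Fin 4) F := ⟨Wmat, det_Wmat⟩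

variable {m}

theorem MSL_smul_none (h : SzHyp F (2 ^ (m + 1))) (a b : F) : MSL m a b • pt F m none = pt F m none := by
  rw [pt_none]
  exact smul_mk_of_mulVec _ _ _ _ _ 1 (by rw [one_smul]; exact Mmat_mulVec_oinf a b)

theorem MSL_smul_some (h : SzHyp F (2 ^ (m + 1))) (a b x y : F) :
    MSL m a b • pt F m (some (x, y)) = pt F m (some (x + a, y + a ^ 2 ^ (m + 1) * x + b)) := by
  rw [pt_some, pt_some]
  exact smul_mk_of_mulVec _ _ _ _ _ 1 (by rw [one_smul]; exact Mmat_mulVec_ovec h a b x y)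

theorem HSL_smul_none (t : Fˣ) : HSL m t • pt F m none = pt F m none := by
  rw [pt_none]
  exact smul_mk_of_mulVec _ _ _ _ _ _ (Hmat_mulVec_oinf (t : F))

theorem HSL_smul_some (h : SzHyp F (2 ^ (m + 1))) (t : Fˣ) (x y : F) :
    HSL m t • pt F m (some (x, y)) =
      pt F m (some ((t : F) ^ 2 * x, ((t : F) ^ 2) ^ (2 ^ (m + 1) + 1) * y)) := by
  rw [pt_some, pt_some]
  exact smul_mk_of_mulVec _ _ _ _ _ _ (Hmat_mulVec_ovec h t.ne_zero x y)

theorem WSL_smul_none (h : SzHyp F (2 ^ (m + 1))) : WSL F • pt F m none = pt F m (some ((0 : F), 0)) := by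
  rw [pt_none, pt_some]
  exact smul_mk_of_mulVec _ _ _ _ _ 1 (by rw [one_smul]; exact Wmat_mulVec_oinf h)

theorem WSL_smul_zero (h : SzHyp F (2 ^ (m + 1))) : WSL F • pt F m (some ((0 : F), 0)) = pt F m none := by
  rw [pt_none, pt_some]
  exact smul_mk_of_mulVec _ _ _ _ _ 1 (by rw [one_smul]; exact Wmat_mulVec_ovec_zero h)

theorem WSL_smul_some (h : SzHyp F (2 ^ (m + 1))) {x y : F}
    (hf : szf (2 ^ (m + 1)) x y ≠ 0) :
    WSL F • pt F m (some (x, y)) =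
      pt F m (some (y / szf (2 ^ (m + 1)) x y, x / szf (2 ^ (m + 1)) x y)) := by
  rw [pt_some, pt_some]
  exact smul_mk_of_mulVec _ _ _ _ _ _ (Wmat_mulVec_ovec h hf)

theorem MSL_mem [Finite F] (h : SzHyp F (2 ^ (m + 1))) (a b : F) : MSL m a b ∈ Cfsg.Sz F m := by
  apply mem_Sz_of_maps
  rintro (_ | ⟨x, y⟩)
  · exact ⟨none, MSL_smul_none h a b⟩
  · exact ⟨_, MSL_smul_some h a b x y⟩

theorem HSL_mem [Finite F] (h : SzHyp F (2 ^ (m + 1))) (t : Fˣ) : HSL m t ∈ Cfsg.Sz F m := by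
  apply mem_Sz_of_maps
  rintro (_ | ⟨x, y⟩)
  · exact ⟨none, HSL_smul_none t⟩
  · exact ⟨_, HSL_smul_some h t x y⟩

theorem WSL_mem [Finite F] (h : SzHyp F (2 ^ (m + 1))) : WSL F ∈ Cfsg.Sz F m := by
  apply mem_Sz_of_maps
  rintro (_ | ⟨x, y⟩)
  · exact ⟨_, WSL_smul_none h⟩
  · by_cases hf : szf (2 ^ (m + 1)) x y = 0
    · obtain ⟨rfl, rfl⟩ := h.szf_eq_zero hf
      exact ⟨none, WSL_smul_zero h⟩
    · exact ⟨_, WSL_smul_some h hf⟩

end Elements

end Cfsg.Agent.Helper37
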