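import Mathlib
import Cfsg.Agent.Lib.Helper37.SzGroup

set_option autoImplicit false

namespace Cfsg.Agent.Helper37

open Cfsg.Agent.Helper6 Matrix Cfsg Polynomial
open scoped Pointwise

variable {F : Type*} [Field F]

/-- a polynomial identity `c₁ x^n₁ + c₂ x^n₂ + c₃ x^n₃ = 0` on a finite field forces the
coefficients to vanish, if the exponents are distinct and small. -/
theorem coeff_zero_of_eval [Fintype F] (n₁ n₂ n₃ : ℕ) (h12 : n₁ ≠ n₂) (h13 : n₁ ≠ n₃)
    (h23 : n₂ ≠ n₃) (hn₁ : n₁ < Fintype.card F) (hn₂ : n₂ < Fintype.card F)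
    (hn₃ : n₃ < Fintype.card F) (c₁ c₂ c₃ : F)
    (h : ∀ x : F, c₁ * x ^ n₁ + c₂ * x ^ n₂ + c₃ * x ^ n₃ = 0) : c₁ = 0 ∧ c₂ = 0 ∧ c₃ = 0 := by
  set P : F[X] := C c₁ * X ^ n₁ + C c₂ * X ^ n₂ + C c₃ * X ^ n₃ with hP
  have hdeg : P.natDegree < Fintype.card F := by
    have h1 : (C c₁ * X ^ n₁ : F[X]).natDegree ≤ n₁ := natDegree_C_mul_X_pow_le _ _
    have h2 : (C c₂ * X ^ n₂ : F[X]).natDegree ≤ n₂ := natDegree_C_mul_X_pow_le _ _
    have h3 : (C c₃ * X ^ n₃ : F[X]).natDegree ≤ n₃ := natDegree_C_mul_X_pow_le _ _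
    have h4 := natDegree_add_le (C c₁ * X ^ n₁ + C c₂ * X ^ n₂ : F[X]) (C c₃ * X ^ n₃)
    have h5 := natDegree_add_le (C c₁ * X ^ n₁ : F[X]) (C c₂ * X ^ n₂)
    have h6 : P.natDegree ≤ max (max n₁ n₂) n₃ := by
      rw [hP]
      refine h4.trans (max_le_max (h5.trans (max_le_max h1 h2)) h3)
    refine lt_of_le_of_lt h6 ?_
    simp only [max_lt_iff]
    exact ⟨⟨hn₁, hn₂⟩, hn₃⟩
  have hzero : P = 0 := by
    apply Polynomial.eq_zero_of_natDegree_lt_card_of_eval_eq_zero P (f := (id : F → F))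
      Function.injective_id
    · intro x
      simp only [hP, id, eval_add, eval_mul, eval_C, eval_pow, eval_X]
      exact h x
    · exact hdeg
  have hc : ∀ n, P.coeff n = 0 := by
    intro n
    rw [hzero, coeff_zero]
  have e1 := hc n₁
  have e2 := hc n₂
  have e3 := hc n₃
  simp only [hP, coeff_add, coeff_C_mul, coeff_X_pow] at e1 e2 e3
  simp only [if_true, if_neg h12, if_neg h13, if_neg h12.symm, if_neg h23, if_neg h13.symm,
    if_neg h23.symm, mul_one, mul_zero, add_zero, zero_add] at e1 e2 e3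
  exact ⟨e1, e2, e3⟩

/-- entry of `g • oinf` -/
theorem mulVec_oinf (A : Matrix (Fin 4) (Fin 4) F) : A *ᵥ (oinf : Fin 4 → F) = ![A 0 0, A 1 0, A 2 0, A 3 0] := by
  rw [mulVec_fin_four]
  funext i
  fin_cases i <;> simp [oinf]

theorem mulVec_ovec (e : ℕ) (A : Matrix (Fin 4) (Fin 4) F) (x y : F) :
    A *ᵥ (ovec e x y) = ![A 0 0 * szf e x y + A 0 1 * y + A 0 2 * x + A 0 3,
      A 1 0 * szf e x y + A 1 1 * y + A 1 2 * x + A 1 3,
      A 2 0 * szf e x y + A 2 1 * y + A 2 2 * x + A 2 3,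
      A 3 0 * szf e x y + A 3 1 * y + A 3 2 * x + A 3 3] := by
  rw [mulVec_fin_four]
  funext i
  fin_cases i <;> simp [ovec]

variable {m : ℕ}

theorem col0_of_fix (g : Matrix.SpecialLinearGroup (Fin 4) F)
    (hfix : g • pt F m none = pt F m none) : g.1 1 0 = 0 ∧ g.1 2 0 = 0 ∧ g.1 3 0 = 0 := by
  rw [pt_none, Projectivization.smul_mk, Projectivization.mk_eq_mk_iff'] at hfix
  obtain ⟨a, ha⟩ := hfix
  have h1 : g • (oinf : Fin 4 → F) = g.1 *ᵥ oinf := rfl
  rw [h1, mulVec_oinf] at ha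
  have e1 := congrFun ha 1
  have e2 := congrFun ha 2
  have e3 := congrFun ha 3
  simp [oinf] at e1 e2 e3
  exact ⟨e1.symm, e2.symm, e3.symm⟩

theorem col3_of_fix (h : SzHyp F (2 ^ (m + 1))) (g : Matrix.SpecialLinearGroup (Fin 4) F)
    (hfix : g • pt F m (some ((0 : F), 0)) = pt F m (some ((0 : F), 0))) :
    g.1 0 3 = 0 ∧ g.1 1 3 = 0 ∧ g.1 2 3 = 0 := by
  rw [pt_some, Projectivization.smul_mk, Projectivization.mk_eq_mk_iff'] at hfix
  obtain ⟨a, ha⟩ := hfix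
  have h1 : g • (ovec (2 ^ (m + 1)) (0 : F) 0) = g.1 *ᵥ ovec (2 ^ (m + 1)) 0 0 := rfl
  rw [h1, mulVec_ovec] at ha
  have e0 := congrFun ha 0
  have e1 := congrFun ha 1
  have e2 := congrFun ha 2
  simp [ovec, szf_zero h] at e0 e1 e2
  exact ⟨e0.symm, e1.symm, e2.symm⟩

/-- the image of an affine point under an element of the Suzuki group fixing `∞` has nonzero last
coordinate. -/
theorem last_ne_zero (g : Matrix.SpecialLinearGroup (Fin 4) F) (hg : g ∈ Cfsg.Sz F m)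
    (hfix : g • pt F m none = pt F m none) (x y : F) :
    (g.1 *ᵥ ovec (2 ^ (m + 1)) x y) 3 ≠ 0 := by
  intro h3
  obtain ⟨b, hb⟩ := smul_mem_ovoid m hg (some (x, y))
  rcases b with _ | ⟨x', y'⟩
  · rw [← hfix] at hb
    have := MulAction.injective g hb
    exact absurd (pt_injective m this) (by simp)
  · rw [pt_some, pt_some, Projectivization.smul_mk, Projectivization.mk_eq_mk_iff'] at hb
    obtain ⟨a, ha⟩ := hb
    have h1 : g • (ovec (2 ^ (m + 1)) x y) = g.1 *ᵥ ovec (2 ^ (m + 1)) x y := rfl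
    rw [h1] at ha
    have e3 := congrFun ha 3
    rw [h3] at e3
    simp [ovec] at e3
    rw [e3, zero_smul] at ha
    have hne : g • (ovec (2 ^ (m + 1)) x y) ≠ 0 := by
      rw [smul_ne_zero_iff_ne]
      exact ovec_ne_zero _ x y
    exact hne (h1 ▸ ha.symm)

theorem row3_of_fix (g : Matrix.SpecialLinearGroup (Fin 4) F) (hg : g ∈ Cfsg.Sz F m)
    (hfix : g • pt F m none = pt F m none) : g.1 3 1 = 0 ∧ g.1 3 2 = 0 := by
  have hc := col0_of_fix g hfix
  have key : ∀ x y : F, g.1 3 1 * y + g.1 3 2 * x + g.1 3 3 ≠ 0 := by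
    intro x y
    have := last_ne_zero g hg hfix x y
    rw [mulVec_ovec] at this
    simpa [hc.2.2] using this
  have h33 : g.1 3 3 ≠ 0 := by simpa using key 0 0
  constructor
  · by_contra h31
    apply key 0 (-(g.1 3 3) / g.1 3 1)
    field_simp
    ring
  · by_contra h32
    apply key (-(g.1 3 3) / g.1 3 2) 0
    field_simp
    ring

end Cfsg.Agent.Helper37
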