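import Mathlib
import Cfsg.Agent.Lib.Helper37.SzStab

set_option autoImplicit false

namespace Cfsg.Agent.Helper37

open Cfsg.Agent.Helper6 Matrix Cfsg Polynomial
open scoped Pointwise

variable {F : Type*} [Field F] {m : ℕ}

theorem Wmat_conj_apply (A : Matrix (Fin 4) (Fin 4) F) (i j : Fin 4) :
    (Wmat * A * Wmat : Matrix (Fin 4) (Fin 4) F) i j = A (Fin.rev i) (Fin.rev j) := by
  fin_cases i <;> fin_cases j <;>
    simp [Wmat, Matrix.mul_apply, Fin.sum_univ_four, Fin.rev, Matrix.vecMul, dotProduct]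

theorem WSL_mul_self : WSL F * WSL F = 1 := by
  apply Subtype.ext
  show (Wmat : Matrix (Fin 4) (Fin 4) F) * Wmat = (1 : Matrix (Fin 4) (Fin 4) F)
  ext i j
  fin_cases i <;> fin_cases j <;> simp [Wmat, Matrix.mul_apply, Fin.sum_univ_four]

theorem WSL_inv : (WSL F)⁻¹ = WSL F := inv_eq_of_mul_eq_one_right WSL_mul_self

theorem row0_of_fix [Finite F] (h : SzHyp F (2 ^ (m + 1)))
    (g : Matrix.SpecialLinearGroup (Fin 4) F) (hg : g ∈ Cfsg.Sz F m)
    (hfix : g • pt F m (some ((0 : F), 0)) = pt F m (some ((0 : F), 0))) :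
    g.1 0 1 = 0 ∧ g.1 0 2 = 0 := by
  have hW := WSL_mem (m := m) h
  have hg' : WSL F * g * WSL F ∈ Cfsg.Sz F m := mul_mem (mul_mem hW hg) hW
  have hfix' : (WSL F * g * WSL F) • pt F m none = pt F m none := by
    rw [mul_smul, mul_smul, WSL_smul_none h, hfix, WSL_smul_zero h]
  have := row3_of_fix _ hg' hfix'
  have e1 : (WSL F * g * WSL F).1 = Wmat * g.1 * Wmat := rfl
  rw [e1, Wmat_conj_apply, Wmat_conj_apply] at this
  have r3 : Fin.rev (3 : Fin 4) = 0 := rfl
  have r1 : Fin.rev (1 : Fin 4) = 2 := rfl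
  have r2 : Fin.rev (2 : Fin 4) = 1 := rfl
  rw [r3, r1, r2] at this
  exact ⟨this.2, this.1⟩

/-- the basic identity satisfied by an element of `Sz` fixing `∞` and `0`. -/
theorem diag_identity [Finite F] (h : SzHyp F (2 ^ (m + 1)))
    (g : Matrix.SpecialLinearGroup (Fin 4) F) (hg : g ∈ Cfsg.Sz F m)
    (hinf : g • pt F m none = pt F m none)
    (hzero : g • pt F m (some ((0 : F), 0)) = pt F m (some ((0 : F), 0))) (x y : F) :
    g.1 3 3 ≠ 0 ∧
    g.1 3 3 * szf (2 ^ (m + 1)) ((g.1 2 2 * x + g.1 2 1 * y) / g.1 3 3)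
        ((g.1 1 2 * x + g.1 1 1 * y) / g.1 3 3) = g.1 0 0 * szf (2 ^ (m + 1)) x y := by
  obtain ⟨c10, c20, c30⟩ := col0_of_fix g hinf
  obtain ⟨c03, c13, c23⟩ := col3_of_fix h g hzero
  obtain ⟨r31, r32⟩ := row3_of_fix g hg hinf
  obtain ⟨r01, r02⟩ := row0_of_fix h g hg hzero
  have hl := last_ne_zero g hg hinf 0 0
  rw [mulVec_ovec] at hl
  have h33 : g.1 3 3 ≠ 0 := by simpa [c30, r31, r32] using hl
  refine ⟨h33, ?_⟩
  obtain ⟨b, hb⟩ := smul_mem_ovoid m hg (some (x, y))
  rcases b with _ | ⟨x', y'⟩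
  · rw [← hinf] at hb
    have := MulAction.injective g hb
    exact absurd (pt_injective m this) (by simp)
  · rw [pt_some, pt_some, Projectivization.smul_mk, Projectivization.mk_eq_mk_iff'] at hb
    obtain ⟨a, ha⟩ := hb
    have h1 : g • (ovec (2 ^ (m + 1)) x y) = g.1 *ᵥ ovec (2 ^ (m + 1)) x y := rfl
    rw [h1, mulVec_ovec] at ha
    have e0 := congrFun ha 0
    have e1 := congrFun ha 1
    have e2 := congrFun ha 2
    have e3 := congrFun ha 3
    simp only [ovec, Pi.smul_apply, smul_eq_mul, Matrix.cons_val_zero, Matrix.cons_val_one,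
      Matrix.cons_val, c10, c20, c30, c03, c13, c23, r31, r32, r01, r02, zero_mul, zero_add,
      add_zero, mul_one] at e0 e1 e2 e3
    subst e3
    have hx' : x' = (g.1 2 2 * x + g.1 2 1 * y) / g.1 3 3 := by
      field_simp
      linear_combination e2
    have hy' : y' = (g.1 1 2 * x + g.1 1 1 * y) / g.1 3 3 := by
      field_simp
      linear_combination e1
    rw [← hx', ← hy']
    exact e0

theorem eq_one_of_pow_four (h2 : (2 : F) = 0) {x : F} (hx : x ^ 4 = 1) : x = 1 := by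
  have h4 : (x + 1) ^ 4 = 0 := by
    linear_combination hx + (1 + 2 * x ^ 3 + 3 * x ^ 2 + 2 * x) * h2
  have h1 : x + 1 = 0 := pow_eq_zero_iff (by norm_num) |>.mp h4
  linear_combination h1 - h2

theorem exp_lt_card (hm : 1 ≤ m) : 2 ^ (m + 1) + 2 < 2 ^ (2 * m + 1) := by
  obtain ⟨k, rfl⟩ : ∃ k, m = k + 1 := ⟨m - 1, by omega⟩
  have h1 : 2 ^ (2 * (k + 1) + 1) = 2 ^ (k + 1 + 1) * 2 ^ (k + 1) := by
    rw [← pow_add]
    congr 1
    omega
  have h2 : 2 ≤ 2 ^ (k + 1) := by
    calc 2 = 2 ^ 1 := rfl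
      _ ≤ 2 ^ (k + 1) := Nat.pow_le_pow_right (by norm_num) (by omega)
  have h3 : 4 ≤ 2 ^ (k + 1 + 1) := by
    calc 4 = 2 ^ 2 := rfl
      _ ≤ 2 ^ (k + 1 + 1) := Nat.pow_le_pow_right (by norm_num) (by omega)
  rw [h1]
  nlinarith

theorem four_le_exp (hm : 1 ≤ m) : 4 ≤ 2 ^ (m + 1) := by
  calc 4 = 2 ^ 2 := rfl
    _ ≤ 2 ^ (m + 1) := Nat.pow_le_pow_right (by norm_num) (by omega)

/-- **Two-point stabiliser**: an element of the Suzuki group fixing `∞` and `0` is a torus
element. -/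
theorem two_pt_stab [Fintype F] (hm : 1 ≤ m) (hF : Fintype.card F = 2 ^ (2 * m + 1))
    (g : Matrix.SpecialLinearGroup (Fin 4) F) (hg : g ∈ Cfsg.Sz F m)
    (hinf : g • pt F m none = pt F m none)
    (hzero : g • pt F m (some ((0 : F), 0)) = pt F m (some ((0 : F), 0))) :
    ∃ t : Fˣ, g = HSL m t := by
  have h : SzHyp F (2 ^ (m + 1)) := szHyp_of_card hF
  obtain ⟨c10, c20, c30⟩ := col0_of_fix g hinf
  obtain ⟨c03, c13, c23⟩ := col3_of_fix h g hzero
  obtain ⟨r31, r32⟩ := row3_of_fix g hg hinf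
  obtain ⟨r01, r02⟩ := row0_of_fix h g hg hzero
  have hμ : g.1 3 3 ≠ 0 := (diag_identity h g hg hinf hzero 0 0).1
  have hid := fun x y => (diag_identity h g hg hinf hzero x y).2
  set e := 2 ^ (m + 1) with he
  set μ := g.1 3 3 with hμdef
  set lam := g.1 0 0 with hlam
  set α := g.1 2 2 / μ with hα
  set β := g.1 2 1 / μ with hβ
  set γ := g.1 1 2 / μ with hγ
  set δ := g.1 1 1 / μ with hδ
  have he4 : 4 ≤ e := four_le_exp hm
  have hecard : e + 2 < Fintype.card F := by rw [hF]; exact exp_lt_card hm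
  have key : ∀ x y, μ * szf e (α * x + β * y) (γ * x + δ * y) = lam * szf e x y := by
    intro x y
    have := hid x y
    have e1 : (g.1 2 2 * x + g.1 2 1 * y) / μ = α * x + β * y := by
      rw [hα, hβ]; ring
    have e2 : (g.1 1 2 * x + g.1 1 1 * y) / μ = γ * x + δ * y := by
      rw [hγ, hδ]; ring
    rw [e1, e2] at this
    exact this
  have he0 : e ≠ 0 := by omega
  -- y = 0
  have k1 : ∀ x : F, (μ * α ^ (e + 2) - lam) * x ^ (e + 2) + (μ * γ ^ e) * x ^ e
      + (μ * α * γ) * x ^ 2 = 0 := by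
    intro x
    have := key x 0
    simp only [szf, mul_zero, add_zero, zero_pow he0] at this
    linear_combination this
  obtain ⟨a1, a2, a3⟩ := coeff_zero_of_eval (e + 2) e 2 (by omega) (by omega) (by omega) hecard
    (by omega) (by omega) _ _ _ k1
  -- x = 0
  have k2 : ∀ y : F, (μ * β ^ (e + 2)) * y ^ (e + 2) + (μ * δ ^ e - lam) * y ^ e
      + (μ * β * δ) * y ^ 2 = 0 := by
    intro y
    have := key 0 y
    simp only [szf, mul_zero, zero_add, zero_mul, zero_pow he0, zero_pow (show e + 2 ≠ 0 by omega),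
      add_zero] at this
    linear_combination this
  obtain ⟨b1, b2, b3⟩ := coeff_zero_of_eval (e + 2) e 2 (by omega) (by omega) (by omega) hecard
    (by omega) (by omega) _ _ _ k2
  have hγ0 : γ = 0 := by
    rcases mul_eq_zero.mp a2 with h' | h'
    · exact absurd h' hμ
    · exact pow_eq_zero_iff he0 |>.mp h'
  have hβ0 : β = 0 := by
    rcases mul_eq_zero.mp b1 with h' | h'
    · exact absurd h' hμ
    · exact pow_eq_zero_iff (show e + 2 ≠ 0 by omega) |>.mp h'
  have g12 : g.1 1 2 = 0 := by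
    have : g.1 1 2 = γ * μ := by rw [hγ]; field_simp
    rw [this, hγ0, zero_mul]
  have g21 : g.1 2 1 = 0 := by
    have : g.1 2 1 = β * μ := by rw [hβ]; field_simp
    rw [this, hβ0, zero_mul]
  have g11 : g.1 1 1 = δ * μ := by rw [hδ]; field_simp
  have g22 : g.1 2 2 = α * μ := by rw [hα]; field_simp
  have l1 : lam = μ * α ^ (e + 2) := by linear_combination -a1
  have l2 : lam = μ * δ ^ e := by linear_combination -b2
  have l3 : lam = μ * α * δ := by
    have := key 1 1
    simp only [szf, mul_one, one_pow, hγ0, hβ0, zero_add, add_zero] at this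
    linear_combination -this - l1 - l2
  -- determinant
  have hdet : lam * μ * (g.1 1 1 * g.1 2 2) = 1 := by
    have := g.2
    rw [det_fin_four] at this
    simp only [c10, c20, c30, c03, c13, c23, r31, r32, r01, r02, g12, g21] at this
    linear_combination this
  have hlam0 : lam ≠ 0 := by
    intro h0
    rw [h0] at hdet
    simp at hdet
  have hα0 : α ≠ 0 := by
    intro h0
    rw [h0, zero_pow (show e + 2 ≠ 0 by omega), mul_zero] at l1
    exact hlam0 l1
  have hδ : δ = α ^ (e + 1) := by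
    have : μ * α * (δ - α ^ (e + 1)) = 0 := by
      linear_combination l1 - l3
    rcases mul_eq_zero.mp this with h' | h'
    · exact absurd h' (mul_ne_zero hμ hα0)
    · linear_combination h'
  have hchar : ringChar F = 2 := by
    have : CharP F 2 := by
      have := h.two
      refine (CharP.charP_iff_prime_eq_zero Nat.prime_two).mpr ?_
      exact_mod_cast this
    exact ringChar.eq F 2
  obtain ⟨s, hs⟩ := FiniteField.isSquare_of_char_two hchar α
  have hs0 : s ≠ 0 := by
    intro h0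
    rw [h0, mul_zero] at hs
    exact hα0 hs
  have hμs : μ * s ^ (e + 2) = 1 := by
    apply eq_one_of_pow_four h.two
    rw [g11, g22, l1, hδ, hs] at hdet
    linear_combination hdet
  refine ⟨Units.mk0 s hs0, ?_⟩
  apply Subtype.ext
  have hse : s ^ (e + 2) ≠ 0 := pow_ne_zero _ hs0
  have hse' : s ^ e ≠ 0 := pow_ne_zero _ hs0
  have hμ' : μ = (s ^ (e + 2))⁻¹ := eq_inv_of_mul_eq_one_left hμs
  ext i j
  fin_cases i <;> fin_cases j <;>
    simp only [HSL, Hmat, Units.val_mk0, Fin.zero_eta, Fin.isValue, Fin.mk_one, Fin.reduceFinMk,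
      Matrix.of_apply, Matrix.cons_val', Matrix.cons_val_zero, Matrix.cons_val_one,
      Matrix.cons_val, Matrix.cons_val_fin_one, c10, c20, c30, c03, c13, c23, r31, r32, r01, r02,
      g12, g21]
  · show lam = s ^ (e + 2)
    rw [l1, hs, hμ']
    field_simp
    ring
  · show g.1 1 1 = s ^ e
    rw [g11, hδ, hs, hμ']
    field_simp
    ring
  · show g.1 2 2 = (s ^ e)⁻¹
    rw [g22, hs, hμ']
    field_simp
    ring
  · exact hμ'

end Cfsg.Agent.Helper37
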