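import Mathlib
import Cfsg.Agent.Lib.Helper37.SzStab2

set_option autoImplicit false

namespace Cfsg.Agent.Helper37

open Cfsg.Agent.Helper6 Matrix Cfsg
open scoped Pointwise

variable {F : Type*} [Field F] {m : ℕ} {e : ℕ}

theorem Mmat_mul (h : SzHyp F e) (a b c d : F) :
    Mmat e a b * Mmat e c d = Mmat e (a + c) (b + d + a ^ e * c) := by
  have h1 : (a + c) ^ e = a ^ e + c ^ e := h.add a c
  have h2 : (b + d + a ^ e * c) ^ e = b ^ e + d ^ e + a ^ 2 * c ^ e := by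
    rw [h.add, h.add, mul_pow, h.sq]
  ext i j
  fin_cases i <;> fin_cases j <;>
    simp [Mmat, Matrix.mul_apply, Fin.sum_univ_four, h1, h2] <;>
    first
    | ring1
    | linear_combination (-(c * a ^ e)) * h.two
    | linear_combination (-(c * c ^ e * a + c * a * a ^ e + c ^ 2 * a ^ e + c ^ e * a ^ 2)) * h.two

theorem Mmat_zero (h : SzHyp F e) : Mmat e (0 : F) 0 = 1 := by
  ext i j
  fin_cases i <;> fin_cases j <;> simp [Mmat, h.pos]

theorem Hmat_one : Hmat e (1 : F) = 1 := by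
  ext i j
  fin_cases i <;> fin_cases j <;> simp [Hmat]

theorem Hmat_mul (s t : F) : Hmat e s * Hmat e t = Hmat e (s * t) := by
  ext i j
  fin_cases i <;> fin_cases j <;>
    simp [Hmat, Matrix.mul_apply, Fin.sum_univ_four, mul_pow] <;> ring1

theorem Hmat_conj_Mmat (h : SzHyp F e) {t : F} (ht : t ≠ 0) (a b : F) :
    Hmat e t * Mmat e a b = Mmat e (t ^ 2 * a) ((t ^ 2) ^ (e + 1) * b) * Hmat e t := by
  have hte : t ^ e ≠ 0 := pow_ne_zero _ ht
  have h1 : (t ^ 2 * a) ^ e = (t ^ e) ^ 2 * a ^ e := by rw [mul_pow]; ring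
  have h2 : ((t ^ 2) ^ (e + 1) * b) ^ e = (t ^ e) ^ 2 * t ^ 4 * b ^ e := by
    rw [mul_pow, pow_succ, mul_pow, h.sq]
    ring
  ext i j
  fin_cases i <;> fin_cases j <;>
    simp [Hmat, Mmat, Matrix.mul_apply, Fin.sum_univ_four, h1, h2] <;>
    field_simp <;> ring1

theorem Wmat_conj_Hmat (t : F) :
    (Wmat : Matrix (Fin 4) (Fin 4) F) * Hmat e t = Hmat e t⁻¹ * Wmat := by
  ext i j
  fin_cases i <;> fin_cases j <;>
    simp [Hmat, Wmat, Matrix.mul_apply, Fin.sum_univ_four]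

section SL

theorem MSL_mul (h : SzHyp F (2 ^ (m + 1))) (a b c d : F) :
    MSL m a b * MSL m c d = MSL m (a + c) (b + d + a ^ 2 ^ (m + 1) * c) :=
  Subtype.ext (Mmat_mul h a b c d)

theorem MSL_zero (h : SzHyp F (2 ^ (m + 1))) : MSL m (0 : F) 0 = 1 :=
  Subtype.ext (Mmat_zero h)

theorem MSL_inv (h : SzHyp F (2 ^ (m + 1))) (a b : F) :
    (MSL m a b)⁻¹ = MSL m a (b + a ^ 2 ^ (m + 1) * a) := by
  apply inv_eq_of_mul_eq_one_right
  rw [MSL_mul h, ← MSL_zero h]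
  congr 1
  · exact h.add_self a
  · have := h.add_self (b + a ^ 2 ^ (m + 1) * a)
    linear_combination this

theorem HSL_one : HSL m (1 : Fˣ) = 1 := Subtype.ext (by simpa [HSL] using Hmat_one)

theorem HSL_mul (s t : Fˣ) : HSL m s * HSL m t = HSL m (s * t) :=
  Subtype.ext (by
    show Hmat (2 ^ (m + 1)) (s : F) * Hmat (2 ^ (m + 1)) (t : F) = Hmat (2 ^ (m + 1)) ((s * t : Fˣ) : F)
    rw [Hmat_mul, Units.val_mul])

theorem HSL_inv (t : Fˣ) : (HSL m t)⁻¹ = HSL m t⁻¹ := by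
  apply inv_eq_of_mul_eq_one_right
  rw [HSL_mul, mul_inv_cancel, HSL_one]

theorem HSL_conj_MSL (h : SzHyp F (2 ^ (m + 1))) (t : Fˣ) (a b : F) :
    HSL m t * MSL m a b =
      MSL m ((t : F) ^ 2 * a) (((t : F) ^ 2) ^ (2 ^ (m + 1) + 1) * b) * HSL m t :=
  Subtype.ext (Hmat_conj_Mmat h t.ne_zero a b)

theorem WSL_conj_HSL (t : Fˣ) : WSL F * HSL m t = HSL m t⁻¹ * WSL F :=
  Subtype.ext (by
    show (Wmat : Matrix (Fin 4) (Fin 4) F) * Hmat (2 ^ (m + 1)) (t : F) =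
      Hmat (2 ^ (m + 1)) ((t⁻¹ : Fˣ) : F) * Wmat
    rw [Wmat_conj_Hmat, Units.val_inv_eq_inv_val])

theorem MSL_smul_zero (h : SzHyp F (2 ^ (m + 1))) (a b : F) :
    MSL m a b • pt F m (some ((0 : F), 0)) = pt F m (some (a, b)) := by
  rw [MSL_smul_some h]
  simp

/-- elements of the Suzuki group fixing `∞`. -/
theorem stab_inf_form [Fintype F] (hm : 1 ≤ m) (hF : Fintype.card F = 2 ^ (2 * m + 1))
    (g : Matrix.SpecialLinearGroup (Fin 4) F) (hg : g ∈ Cfsg.Sz F m)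
    (hinf : g • pt F m none = pt F m none) :
    ∃ (a b : F) (t : Fˣ), g = MSL m a b * HSL m t := by
  have h : SzHyp F (2 ^ (m + 1)) := szHyp_of_card hF
  obtain ⟨p, hp⟩ := smul_mem_ovoid m hg (some ((0 : F), 0))
  rcases p with _ | ⟨a, b⟩
  · rw [← hinf] at hp
    have := MulAction.injective g hp
    exact absurd (pt_injective m this) (by simp)
  · have hg' : (MSL m a b)⁻¹ * g ∈ Cfsg.Sz F m := mul_mem (inv_mem (MSL_mem h a b)) hg
    have h1 : ((MSL m a b)⁻¹ * g) • pt F m none = pt F m none := by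
      rw [mul_smul, hinf, inv_smul_eq_iff, MSL_smul_none h]
    have h2 : ((MSL m a b)⁻¹ * g) • pt F m (some ((0 : F), 0)) = pt F m (some ((0 : F), 0)) := by
      rw [mul_smul, hp, inv_smul_eq_iff, MSL_smul_zero h]
    obtain ⟨t, ht⟩ := two_pt_stab hm hF _ hg' h1 h2
    refine ⟨a, b, t, ?_⟩
    rw [← ht, mul_inv_cancel_left]

/-- elements of the Suzuki group not fixing `∞`. -/
theorem not_stab_inf_form [Fintype F] (hm : 1 ≤ m) (hF : Fintype.card F = 2 ^ (2 * m + 1))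
    (g : Matrix.SpecialLinearGroup (Fin 4) F) (hg : g ∈ Cfsg.Sz F m)
    (hinf : g • pt F m none ≠ pt F m none) :
    ∃ (a b c d : F) (t : Fˣ), g = MSL m a b * WSL F * MSL m c d * HSL m t := by
  have h : SzHyp F (2 ^ (m + 1)) := szHyp_of_card hF
  obtain ⟨p, hp⟩ := smul_mem_ovoid m hg none
  rcases p with _ | ⟨a, b⟩
  · exact absurd hp hinf
  · have hg' : WSL F * (MSL m a b)⁻¹ * g ∈ Cfsg.Sz F m :=
      mul_mem (mul_mem (WSL_mem h) (inv_mem (MSL_mem h a b))) hg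
    have h1 : (WSL F * (MSL m a b)⁻¹ * g) • pt F m none = pt F m none := by
      rw [mul_smul, mul_smul, hp, ← WSL_smul_zero h]
      congr 1
      rw [inv_smul_eq_iff, MSL_smul_zero h]
    obtain ⟨c, d, t, ht⟩ := stab_inf_form hm hF _ hg' h1
    refine ⟨a, b, c, d, t, ?_⟩
    have : g = MSL m a b * (WSL F)⁻¹ * (WSL F * (MSL m a b)⁻¹ * g) := by group
    rw [this, ht, WSL_inv]
    group

end SL

end Cfsg.Agent.Helper37
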