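import Mathlib
import Cfsg.Agent.Lib.Helper37.SzRel

set_option autoImplicit false

namespace Cfsg.Agent.Helper37

open Cfsg.Agent.Helper6 Matrix Cfsg
open scoped Pointwise

variable {F : Type*} [Field F] {m : ℕ}

theorem pt_none_eq : pt F m none = suzukiPointInfinity F := rfl

theorem pt_zero_eq (h : SzHyp F (2 ^ (m + 1))) :
    pt F m (some ((0 : F), 0)) = suzukiPointZero F := by
  rw [pt_some]
  unfold suzukiPointZero
  congr 1
  simp [ovec, szf_zero h]

theorem HSL_smul_zero (h : SzHyp F (2 ^ (m + 1))) (t : Fˣ) :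
    HSL m t • pt F m (some ((0 : F), 0)) = pt F m (some ((0 : F), 0)) := by
  rw [HSL_smul_some h]
  simp

theorem HSL_injective (h : SzHyp F (2 ^ (m + 1))) : Function.Injective (HSL (F := F) m) := by
  intro s t hst
  have h0 : ((HSL m s).1 0 0 : F) = (HSL m t).1 0 0 := by rw [hst]
  have h1 : ((HSL m s).1 1 1 : F) = (HSL m t).1 1 1 := by rw [hst]
  simp [HSL, Hmat] at h0 h1
  have hs : (s : F) ≠ 0 := s.ne_zero
  have ht : (t : F) ≠ 0 := t.ne_zero
  have h2 : (s : F) ^ 2 = (t : F) ^ 2 := by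
    have hte : (t : F) ^ 2 ^ (m + 1) ≠ 0 := pow_ne_zero _ ht
    rw [pow_add (s : F) (2 ^ (m + 1)) 2, pow_add (t : F) (2 ^ (m + 1)) 2, h1] at h0
    exact mul_left_cancel₀ hte h0
  have h3 : ((s : F) + t) ^ 2 = 0 := by
    linear_combination h2 + ((t : F) ^ 2 + s * t) * h.two
  have h4 : (s : F) + t = 0 := pow_eq_zero_iff (by norm_num) |>.mp h3
  exact Units.ext (h.eq_of_add_eq_zero h4)

end Cfsg.Agent.Helper37
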