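import Mathlib
import Cfsg.Agent.Lib.Helper37.SzCore
import Cfsg.Agent.S0324

set_option autoImplicit false

namespace Cfsg.Agent.Helper37

open Cfsg.Agent.Helper6 Matrix Cfsg
open scoped Pointwise

variable {F : Type*} [Field F] {m : ℕ}

section Lift

variable [Finite F] (h : SzHyp F (2 ^ (m + 1)))

/-- unipotent element of the Suzuki group -/
def qG (a b : F) : ↥(Cfsg.Sz F m) := ⟨MSL m a b, MSL_mem h a b⟩

/-- torus element of the Suzuki group -/
def hG (t : Fˣ) : ↥(Cfsg.Sz F m) := ⟨HSL m t, HSL_mem h t⟩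

/-- Weyl element of the Suzuki group -/
def wG : ↥(Cfsg.Sz F m) := ⟨WSL F, WSL_mem h⟩

@[simp] theorem qG_val (a b : F) : (qG h a b : Matrix.SpecialLinearGroup (Fin 4) F) = MSL m a b := rfl
@[simp] theorem hG_val (t : Fˣ) : (hG h t : Matrix.SpecialLinearGroup (Fin 4) F) = HSL m t := rfl
@[simp] theorem wG_val : (wG h : Matrix.SpecialLinearGroup (Fin 4) F) = WSL F := rfl

theorem smul_pt_def (g : ↥(Cfsg.Sz F m)) (p : Projectivization F (Fin 4 → F)) :
    g • p = (g : Matrix.SpecialLinearGroup (Fin 4) F) • p := rfl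

theorem qG_mul (a b c d : F) :
    qG h a b * qG h c d = qG h (a + c) (b + d + a ^ 2 ^ (m + 1) * c) :=
  Subtype.ext (MSL_mul h a b c d)

theorem qG_zero : qG h (0 : F) 0 = 1 := Subtype.ext (MSL_zero h)

theorem qG_inv (a b : F) : (qG h a b)⁻¹ = qG h a (b + a ^ 2 ^ (m + 1) * a) :=
  Subtype.ext (MSL_inv h a b)

theorem hG_one : hG h (1 : Fˣ) = 1 := Subtype.ext HSL_one

theorem hG_mul (s t : Fˣ) : hG h s * hG h t = hG h (s * t) := Subtype.ext (HSL_mul s t)

theorem hG_inv (t : Fˣ) : (hG h t)⁻¹ = hG h t⁻¹ := Subtype.ext (HSL_inv t)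

theorem hG_conj_qG (t : Fˣ) (a b : F) :
    hG h t * qG h a b =
      qG h ((t : F) ^ 2 * a) (((t : F) ^ 2) ^ (2 ^ (m + 1) + 1) * b) * hG h t :=
  Subtype.ext (HSL_conj_MSL h t a b)

theorem wG_conj_hG (t : Fˣ) : wG h * hG h t = hG h t⁻¹ * wG h := Subtype.ext (WSL_conj_HSL t)

theorem wG_mul_self : wG h * wG h = 1 := Subtype.ext WSL_mul_self

theorem wG_inv : (wG h)⁻¹ = wG h := inv_eq_of_mul_eq_one_right (wG_mul_self h)

theorem qG_smul_none (a b : F) : qG h a b • pt F m none = pt F m none := MSL_smul_none h a b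

theorem qG_smul_some (a b x y : F) :
    qG h a b • pt F m (some (x, y)) = pt F m (some (x + a, y + a ^ 2 ^ (m + 1) * x + b)) :=
  MSL_smul_some h a b x y

theorem qG_smul_zero (a b : F) : qG h a b • pt F m (some ((0 : F), 0)) = pt F m (some (a, b)) :=
  MSL_smul_zero h a b

theorem hG_smul_none (t : Fˣ) : hG h t • pt F m none = pt F m none := HSL_smul_none t

theorem hG_smul_zero (t : Fˣ) :
    hG h t • pt F m (some ((0 : F), 0)) = pt F m (some ((0 : F), 0)) := HSL_smul_zero h t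

theorem wG_smul_none : wG h • pt F m none = pt F m (some ((0 : F), 0)) := WSL_smul_none h

theorem wG_smul_zero : wG h • pt F m (some ((0 : F), 0)) = pt F m none := WSL_smul_zero h

theorem qG_injective {a b c d : F} (hq : qG h a b = qG h c d) : a = c ∧ b = d := by
  have h1 : qG h a b • pt F m (some ((0 : F), 0)) = qG h c d • pt F m (some ((0 : F), 0)) := by
    rw [hq]
  rw [qG_smul_zero, qG_smul_zero] at h1
  have := pt_injective m h1
  simpa using this

theorem qG_eq_one_iff {a b : F} : qG h a b = 1 ↔ a = 0 ∧ b = 0 := by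
  constructor
  · intro h1
    rw [← qG_zero h] at h1
    exact qG_injective h h1
  · rintro ⟨rfl, rfl⟩
    exact qG_zero h

/-- a nontrivial unipotent element fixes no affine point -/
theorem qG_fix {a b : F} {p : Option (F × F)} (hfix : qG h a b • pt F m p = pt F m p)
    (hne : qG h a b ≠ 1) : p = none := by
  rcases p with _ | ⟨x, y⟩
  · rfl
  · exfalso
    rw [qG_smul_some] at hfix
    have := pt_injective m hfix
    simp only [Option.some.injEq, Prod.mk.injEq] at this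
    obtain ⟨h1, h2⟩ := this
    have ha : a = 0 := by linear_combination h1
    subst ha
    have hb : b = 0 := by
      rw [zero_pow h.pos] at h2
      linear_combination h2
    subst hb
    exact hne (qG_zero h)

/-- the Sylow `2`-subgroup fixing `∞` -/
def Qsub : Subgroup ↥(Cfsg.Sz F m) where
  carrier := {g | ∃ a b : F, g = qG h a b}
  mul_mem' := by
    rintro _ _ ⟨a, b, rfl⟩ ⟨c, d, rfl⟩
    exact ⟨_, _, qG_mul h a b c d⟩
  one_mem' := ⟨0, 0, (qG_zero h).symm⟩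
  inv_mem' := by
    rintro _ ⟨a, b, rfl⟩
    exact ⟨_, _, qG_inv h a b⟩

theorem mem_Qsub {g : ↥(Cfsg.Sz F m)} : g ∈ Qsub h ↔ ∃ a b : F, g = qG h a b := Iff.rfl

theorem qG_mem (a b : F) : qG h a b ∈ Qsub h := ⟨a, b, rfl⟩

/-- parametrisation of `Q` -/
noncomputable def QEquiv : F × F ≃ ↥(Qsub h) :=
  Equiv.ofBijective (fun p => ⟨qG h p.1 p.2, qG_mem h p.1 p.2⟩) (by
    constructor
    · rintro ⟨a, b⟩ ⟨c, d⟩ hp
      have := qG_injective h (congrArg Subtype.val hp)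
      exact Prod.ext this.1 this.2
    · rintro ⟨g, a, b, rfl⟩
      exact ⟨(a, b), rfl⟩)

theorem card_Qsub : Nat.card (Qsub h) = Nat.card F ^ 2 := by
  rw [← Nat.card_congr (QEquiv h), Nat.card_prod, sq]

end Lift

section Sylow

variable [Fintype F]

theorem card_G_eq (hm : 1 ≤ m) (hF : Fintype.card F = 2 ^ (2 * m + 1)) :
    Nat.card ↥(Cfsg.Sz F m) =
      (2 ^ (2 * m + 1)) ^ 2 * (((2 ^ (2 * m + 1)) ^ 2 + 1) * (2 ^ (2 * m + 1) - 1)) := by
  rw [Cfsg.Agent.S0324.result hm hF, mul_assoc]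

theorem card_Qsub' (hF : Fintype.card F = 2 ^ (2 * m + 1)) (h : SzHyp F (2 ^ (m + 1))) : Nat.card (Qsub h) = (2 ^ (2 * m + 1)) ^ 2 := by
  rw [card_Qsub, Nat.card_eq_fintype_card, hF]

theorem odd_index_aux : ¬ 2 ∣ ((2 ^ (2 * m + 1)) ^ 2 + 1) * (2 ^ (2 * m + 1) - 1) := by
  have h1 : 2 ∣ 2 ^ (2 * m + 1) := dvd_pow_self 2 (by omega)
  have hpos : 1 ≤ 2 ^ (2 * m + 1) := Nat.one_le_two_pow
  obtain ⟨k, hk⟩ := h1
  rw [hk]
  intro h2
  rcases (Nat.Prime.dvd_mul Nat.prime_two).mp h2 with h3 | h3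
  · have : (2 * k) ^ 2 + 1 = 2 * (2 * k * k) + 1 := by ring
    omega
  · omega

theorem index_Qsub (hm : 1 ≤ m) (hF : Fintype.card F = 2 ^ (2 * m + 1)) (h : SzHyp F (2 ^ (m + 1))) :
    (Qsub h).index = ((2 ^ (2 * m + 1)) ^ 2 + 1) * (2 ^ (2 * m + 1) - 1) := by
  have h1 := (Qsub h).card_mul_index
  rw [card_Qsub' hF h, card_G_eq hm hF] at h1
  exact Nat.eq_of_mul_eq_mul_left (by positivity) h1

/-- `Q` as a Sylow subgroup -/
noncomputable def QSyl (hm : 1 ≤ m) (hF : Fintype.card F = 2 ^ (2 * m + 1)) (h : SzHyp F (2 ^ (m + 1))) : Sylow 2 ↥(Cfsg.Sz F m) :=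
  (IsPGroup.of_card (n := 2 * (2 * m + 1)) (by rw [card_Qsub' hF h, ← pow_mul, mul_comm])).toSylow
    (P := Qsub h) (by rw [index_Qsub hm hF h]; exact odd_index_aux)

theorem QSyl_coe (hm : 1 ≤ m) (hF : Fintype.card F = 2 ^ (2 * m + 1)) (h : SzHyp F (2 ^ (m + 1))) :
    ((QSyl hm hF h : Sylow 2 ↥(Cfsg.Sz F m)) : Subgroup ↥(Cfsg.Sz F m)) = Qsub h := rfl

/-- every Sylow `2`-subgroup is a conjugate of `Q`. -/
theorem exists_conj_Qsub (hm : 1 ≤ m) (hF : Fintype.card F = 2 ^ (2 * m + 1)) (h : SzHyp F (2 ^ (m + 1))) (P : Sylow 2 ↥(Cfsg.Sz F m)) :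
    ∃ x : ↥(Cfsg.Sz F m), (P : Subgroup ↥(Cfsg.Sz F m)) = (Qsub h).map (MulAut.conj x).toMonoidHom := by
  obtain ⟨x, hx⟩ := MulAction.exists_smul_eq ↥(Cfsg.Sz F m) (QSyl hm hF h) P
  refine ⟨x, ?_⟩
  rw [← hx, Sylow.coe_subgroup_smul, QSyl_coe]
  rfl

theorem mem_conj_Qsub (h : SzHyp F (2 ^ (m + 1))) (x g : ↥(Cfsg.Sz F m)) :
    g ∈ (Qsub h).map (MulAut.conj x).toMonoidHom ↔ x⁻¹ * g * x ∈ Qsub h := by
  constructor
  · rintro ⟨q, hq, rfl⟩
    have : x⁻¹ * ((MulAut.conj x).toMonoidHom q) * x = q := by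
      simp [MulAut.conj_apply, mul_assoc]
    rw [this]
    exact hq
  · intro hq
    refine ⟨x⁻¹ * g * x, hq, ?_⟩
    simp [MulAut.conj_apply, mul_assoc]

/-- elements of the Borel subgroup -/
theorem stab_inf_form_G (hm : 1 ≤ m) (hF : Fintype.card F = 2 ^ (2 * m + 1))
    (h : SzHyp F (2 ^ (m + 1))) (g : ↥(Cfsg.Sz F m)) (hg : g • pt F m none = pt F m none) :
    ∃ (a b : F) (t : Fˣ), g = qG h a b * hG h t := by
  obtain ⟨a, b, t, ht⟩ := stab_inf_form hm hF g.1 g.2 hg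
  exact ⟨a, b, t, Subtype.ext ht⟩

theorem not_stab_inf_form_G (hm : 1 ≤ m) (hF : Fintype.card F = 2 ^ (2 * m + 1))
    (h : SzHyp F (2 ^ (m + 1))) (g : ↥(Cfsg.Sz F m)) (hg : g • pt F m none ≠ pt F m none) :
    ∃ (a b c d : F) (t : Fˣ), g = qG h a b * wG h * qG h c d * hG h t := by
  obtain ⟨a, b, c, d, t, ht⟩ := not_stab_inf_form hm hF g.1 g.2 hg
  exact ⟨a, b, c, d, t, Subtype.ext ht⟩

theorem no_root {e : ℕ} (h : SzHyp F e) (u : F) : u ^ e + u + 1 ≠ 0 := by
  intro h0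
  have h1 : (u ^ e + u + 1) ^ e = 0 := by rw [h0, zero_pow h.pos]
  rw [h.add, h.add, h.sq, one_pow] at h1
  have h2 : u * (u + 1) = 0 := by
    linear_combination h1 + h0 - (u ^ e + 1) * h.two
  rcases mul_eq_zero.mp h2 with h3 | h3
  · rw [h3, zero_pow h.pos] at h0
    simp at h0
  · have hu : u = 1 := h.eq_of_add_eq_zero h3
    rw [hu, one_pow] at h0
    have : (1 : F) = 0 := by linear_combination h0 - h.two
    exact one_ne_zero this

/-- square of a unipotent element -/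
theorem qG_sq (h : SzHyp F (2 ^ (m + 1))) (a b : F) :
    qG h a b ^ 2 = qG h 0 (a ^ 2 ^ (m + 1) * a) := by
  rw [sq, qG_mul]
  congr 1
  · exact h.add_self a
  · have := h.add_self b
    linear_combination this

theorem orderOf_qG_eq_two_iff (h : SzHyp F (2 ^ (m + 1))) {a b : F} (hne : qG h a b ≠ 1) :
    orderOf (qG h a b) = 2 ↔ a = 0 := by
  rw [orderOf_eq_prime_iff, qG_sq, qG_eq_one_iff]
  constructor
  · rintro ⟨⟨-, h2⟩, -⟩
    rcases mul_eq_zero.mp h2 with h3 | h3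
    · exact pow_eq_zero_iff h.pos |>.mp h3
    · exact h3
  · intro ha
    refine ⟨⟨rfl, ?_⟩, hne⟩
    rw [ha, mul_zero]

/-- a unipotent element is real iff it is an involution -/
theorem isConj_inv_qG_iff (hm : 1 ≤ m) (hF : Fintype.card F = 2 ^ (2 * m + 1))
    (h : SzHyp F (2 ^ (m + 1))) {a b : F} (hne : qG h a b ≠ 1) :
    IsConj (qG h a b) (qG h a b)⁻¹ ↔ a = 0 := by
  constructor
  · intro hc
    by_contra ha
    rw [isConj_iff] at hc
    obtain ⟨c, hc⟩ := hc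
    -- `c` fixes `∞`
    have hfix : c • pt F m none = pt F m none := by
      obtain ⟨p, hp⟩ := smul_mem_ovoid m c.2 none
      have hp' : c • pt F m none = pt F m p := hp
      have h1 : (qG h a b)⁻¹ • (c • pt F m none) = c • pt F m none := by
        rw [← hc, ← mul_smul, inv_mul_cancel_right, mul_smul, qG_smul_none]
      rw [hp', inv_smul_eq_iff] at h1
      have := qG_fix h h1.symm hne
      rw [hp', this]
    obtain ⟨c', d', t, rfl⟩ := stab_inf_form_G hm hF h c hfix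
    have h2 : qG h c' d' * hG h t * qG h a b = (qG h a b)⁻¹ * (qG h c' d' * hG h t) := by
      rw [← hc]; group
    rw [mul_assoc, hG_conj_qG, ← mul_assoc, ← mul_assoc, mul_left_inj, qG_inv, qG_mul, qG_mul] at h2
    obtain ⟨e1, e2⟩ := qG_injective h h2
    have ht : (t : F) ^ 2 = 1 := by
      have : ((t : F) ^ 2 - 1) * a = 0 := by linear_combination e1
      rcases mul_eq_zero.mp this with h3 | h3
      · linear_combination h3
      · exact absurd h3 ha
    rw [ht, one_pow, one_mul, one_mul] at e2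
    apply no_root h (c' / a)
    have hae : a ^ 2 ^ (m + 1) ≠ 0 := pow_ne_zero _ ha
    rw [div_pow]
    field_simp
    linear_combination e2 + (c' * a ^ 2 ^ (m + 1) + a * a ^ 2 ^ (m + 1)) * h.two
  · intro ha
    subst ha
    have : (qG h 0 b)⁻¹ = qG h 0 b := by
      rw [qG_inv, mul_zero, add_zero]
    rw [this]

end Sylow

end Cfsg.Agent.Helper37
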