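import Mathlib
import Cfsg.Agent.Lib.Helper37.SzSylow

set_option autoImplicit false

namespace Cfsg.Agent.Helper37

open Cfsg.Agent.Helper6 Matrix Cfsg
open scoped Pointwise

variable {F : Type*} [Field F] {m : ℕ}

/-- the Borel subgroup: the stabiliser of `∞` -/
noncomputable def Bsub (F : Type*) [Field F] (m : ℕ) : Subgroup ↥(Cfsg.Sz F m) :=
  MulAction.stabilizer ↥(Cfsg.Sz F m) (pt F m none)

theorem mem_Bsub {g : ↥(Cfsg.Sz F m)} : g ∈ Bsub F m ↔ g • pt F m none = pt F m none :=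
  MulAction.mem_stabilizer_iff

section

variable [Fintype F]

theorem Qsub_le_Bsub (h : SzHyp F (2 ^ (m + 1))) : Qsub h ≤ Bsub F m := by
  rintro _ ⟨a, b, rfl⟩
  exact mem_Bsub.mpr (qG_smul_none h a b)

theorem hG_mem_Bsub (h : SzHyp F (2 ^ (m + 1))) (t : Fˣ) : hG h t ∈ Bsub F m :=
  mem_Bsub.mpr (hG_smul_none h t)

theorem wG_not_mem_Bsub (h : SzHyp F (2 ^ (m + 1))) : wG h ∉ Bsub F m := by
  intro hw
  have := mem_Bsub.mp hw
  rw [wG_smul_none] at this
  exact absurd (pt_injective m this) (by simp)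

theorem conj_mem_Qsub (hm : 1 ≤ m) (hF : Fintype.card F = 2 ^ (2 * m + 1))
    (h : SzHyp F (2 ^ (m + 1))) {x q : ↥(Cfsg.Sz F m)} (hx : x ∈ Bsub F m) (hq : q ∈ Qsub h) :
    x * q * x⁻¹ ∈ Qsub h := by
  obtain ⟨c, d, t, rfl⟩ := stab_inf_form_G hm hF h x (mem_Bsub.mp hx)
  obtain ⟨a, b, rfl⟩ := hq
  have : qG h c d * hG h t * qG h a b * (qG h c d * hG h t)⁻¹ =
      qG h c d * (hG h t * qG h a b * (hG h t)⁻¹) * (qG h c d)⁻¹ := by group
  rw [this, hG_conj_qG, mul_inv_cancel_right]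
  exact mul_mem (mul_mem (qG_mem h _ _) (qG_mem h _ _)) (inv_mem (qG_mem h _ _))

theorem qG_one_ne_one (h : SzHyp F (2 ^ (m + 1))) : qG h (1 : F) 0 ≠ 1 := by
  rw [Ne, qG_eq_one_iff]
  simp

theorem normalizer_Qsub (hm : 1 ≤ m) (hF : Fintype.card F = 2 ^ (2 * m + 1))
    (h : SzHyp F (2 ^ (m + 1))) :
    Subgroup.normalizer ((Qsub h : Subgroup ↥(Cfsg.Sz F m)) : Set ↥(Cfsg.Sz F m)) = Bsub F m := by
  ext x
  constructor
  · intro hx
    rw [Subgroup.mem_normalizer_iff] at hx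
    have h1 : x * qG h 1 0 * x⁻¹ ∈ Qsub h := (hx _).mp (qG_mem h 1 0)
    obtain ⟨a, b, hab⟩ := h1
    have hne : qG h a b ≠ 1 := by
      rw [← hab]
      intro h0
      apply qG_one_ne_one h
      have : qG h (1 : F) 0 = x⁻¹ * (x * qG h 1 0 * x⁻¹) * x := by group
      rw [this, h0]
      group
    obtain ⟨p, hp⟩ := smul_mem_ovoid m x.2 none
    have hp' : x • pt F m none = pt F m p := hp
    have h2 : qG h a b • pt F m p = pt F m p := by
      rw [← hab, ← hp', ← mul_smul, inv_mul_cancel_right, mul_smul, qG_smul_none]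
    have := qG_fix h h2 hne
    rw [mem_Bsub, hp', this]
  · intro hx
    rw [Subgroup.mem_normalizer_iff]
    intro q
    constructor
    · intro hq
      exact conj_mem_Qsub hm hF h hx hq
    · intro hq
      have := conj_mem_Qsub hm hF h (inv_mem hx) hq
      have e : x⁻¹ * (x * q * x⁻¹) * x⁻¹⁻¹ = q := by group
      rw [e] at this
      exact this

/-- the involution `w` lies in a conjugate of `Q` -/
theorem wG_conj (hm : 1 ≤ m) (hF : Fintype.card F = 2 ^ (2 * m + 1))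
    (h : SzHyp F (2 ^ (m + 1))) : ∃ x q : ↥(Cfsg.Sz F m), q ∈ Qsub h ∧ wG h = x * q * x⁻¹ := by
  have hw1 : wG h ≠ 1 := by
    intro h1
    apply wG_not_mem_Bsub h
    rw [h1]
    exact one_mem _
  have hord : orderOf (wG h) = 2 := orderOf_eq_prime (by rw [sq]; exact wG_mul_self h) hw1
  have hw2 : IsPGroup 2 (Subgroup.zpowers (wG h)) :=
    IsPGroup.of_card (n := 1) (by rw [Nat.card_zpowers, hord, pow_one])
  obtain ⟨P, hP⟩ := hw2.exists_le_sylow
  obtain ⟨x, hx⟩ := exists_conj_Qsub hm hF h P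
  have hwP : wG h ∈ (P : Subgroup ↥(Cfsg.Sz F m)) := hP (Subgroup.mem_zpowers _)
  rw [hx, mem_conj_Qsub] at hwP
  refine ⟨x, _, hwP, ?_⟩
  group

/-- a normal subgroup containing `Q` is everything -/
theorem normal_eq_top (hm : 1 ≤ m) (hF : Fintype.card F = 2 ^ (2 * m + 1))
    (h : SzHyp F (2 ^ (m + 1))) (N : Subgroup ↥(Cfsg.Sz F m)) [hN : N.Normal] (hQ : Qsub h ≤ N) :
    N = ⊤ := by
  have hw : wG h ∈ N := by
    obtain ⟨x, q, hq, hw⟩ := wG_conj hm hF h
    rw [hw]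
    exact hN.conj_mem _ (hQ hq) _
  have hchar : ringChar F = 2 := by
    have : CharP F 2 := by
      have := h.two
      refine (CharP.charP_iff_prime_eq_zero Nat.prime_two).mpr ?_
      exact_mod_cast this
    exact ringChar.eq F 2
  have hH : ∀ t : Fˣ, hG h t ∈ N := by
    intro t
    obtain ⟨s, hs⟩ := FiniteField.isSquare_of_char_two hchar ((t : F))
    have hs0 : s ≠ 0 := by
      intro h0
      rw [h0, mul_zero] at hs
      exact t.ne_zero hs
    set u : Fˣ := (Units.mk0 s hs0)⁻¹ with hu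
    have ht : t = u⁻¹ * u⁻¹ := by
      apply Units.ext
      rw [hu, inv_inv, Units.val_mul, Units.val_mk0, hs]
    have e : hG h t = wG h * (hG h u * (wG h)⁻¹ * (hG h u)⁻¹) := by
      have h1 : wG h * hG h u = hG h u⁻¹ * wG h := wG_conj_hG h u
      have h2 : wG h * hG h u * (wG h)⁻¹ = hG h u⁻¹ := by
        rw [h1, mul_inv_cancel_right]
      have : wG h * (hG h u * (wG h)⁻¹ * (hG h u)⁻¹) = (wG h * hG h u * (wG h)⁻¹) * (hG h u)⁻¹ := by
        group
      rw [this, h2, hG_inv, hG_mul, ← ht]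
    rw [e]
    exact mul_mem hw (hN.conj_mem _ (inv_mem hw) _)
  rw [eq_top_iff]
  intro g _
  by_cases hg : g • pt F m none = pt F m none
  · obtain ⟨a, b, t, rfl⟩ := stab_inf_form_G hm hF h g hg
    exact mul_mem (hQ (qG_mem h a b)) (hH t)
  · obtain ⟨a, b, c, d, t, rfl⟩ := not_stab_inf_form_G hm hF h g hg
    exact mul_mem (mul_mem (mul_mem (hQ (qG_mem h a b)) hw) (hQ (qG_mem h c d))) (hH t)

/-- a subgroup containing `Q` and not contained in the Borel subgroup is everything -/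
theorem eq_top_of_Qsub_le (hm : 1 ≤ m) (hF : Fintype.card F = 2 ^ (2 * m + 1))
    (h : SzHyp F (2 ^ (m + 1))) (M : Subgroup ↥(Cfsg.Sz F m)) (hQ : Qsub h ≤ M)
    (hM : ¬ M ≤ Bsub F m) : M = ⊤ := by
  -- `M` is transitive on the ovoid
  obtain ⟨x₀, hx₀M, hx₀B⟩ := SetLike.not_le_iff_exists.mp hM
  have htrans : ∀ p : Option (F × F), ∃ x ∈ M, x • pt F m none = pt F m p := by
    rintro (_ | ⟨a, b⟩)
    · exact ⟨1, one_mem _, one_smul _ _⟩
    · obtain ⟨p₀, hp₀⟩ := smul_mem_ovoid m x₀.2 none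
      have hp₀' : x₀ • pt F m none = pt F m p₀ := hp₀
      rcases p₀ with _ | ⟨a₀, b₀⟩
      · exact absurd (mem_Bsub.mpr hp₀') hx₀B
      · refine ⟨qG h a b * (qG h a₀ b₀)⁻¹ * x₀, mul_mem (hQ (mul_mem (qG_mem h _ _)
          (inv_mem (qG_mem h _ _)))) hx₀M, ?_⟩
        rw [mul_smul, hp₀', mul_smul, ← qG_smul_zero h a₀ b₀, inv_smul_smul, qG_smul_zero]
  -- every conjugate of `Q` is in `M`
  have hconj : ∀ (g q : ↥(Cfsg.Sz F m)), q ∈ Qsub h → g * q * g⁻¹ ∈ M := by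
    intro g q hq
    obtain ⟨p, hp⟩ := smul_mem_ovoid m g.2 none
    have hp' : g • pt F m none = pt F m p := hp
    obtain ⟨x, hxM, hx⟩ := htrans p
    have hB : x⁻¹ * g ∈ Bsub F m := by
      rw [mem_Bsub, mul_smul, hp', ← hx, inv_smul_smul]
    have h1 := conj_mem_Qsub hm hF h hB hq
    have e : g * q * g⁻¹ = x * (x⁻¹ * g * q * (x⁻¹ * g)⁻¹) * x⁻¹ := by group
    rw [e]
    exact mul_mem (mul_mem hxM (hQ h1)) (inv_mem hxM)
  -- hence the normal closure of `Q` is in `M`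
  have hle : Subgroup.normalClosure ((Qsub h : Subgroup ↥(Cfsg.Sz F m)) : Set ↥(Cfsg.Sz F m)) ≤ M := by
    unfold Subgroup.normalClosure
    rw [Subgroup.closure_le]
    intro y hy
    rw [Group.mem_conjugatesOfSet_iff] at hy
    obtain ⟨q, hq, hqy⟩ := hy
    rw [isConj_iff] at hqy
    obtain ⟨g, rfl⟩ := hqy
    exact hconj g q hq
  have htop := normal_eq_top hm hF h
    (Subgroup.normalClosure ((Qsub h : Subgroup ↥(Cfsg.Sz F m)) : Set ↥(Cfsg.Sz F m)))
    Subgroup.subset_normalClosure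
  rw [htop] at hle
  exact eq_top_iff.mpr hle

end

end Cfsg.Agent.Helper37
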