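import Mathlib
import Cfsg.Agent.Lib.Helper37.SzMax

set_option autoImplicit false

namespace Cfsg.Agent.Helper37

open Cfsg.Agent.Helper6 Matrix Cfsg
open scoped Pointwise

variable {F : Type*} [Field F] {m : ℕ}

theorem eq_one_of_sq_eq_one {e : ℕ} (h : SzHyp F e) {u : F} (hu : u ^ 2 = 1) : u = 1 := by
  have h1 : (u + 1) ^ 2 = 0 := by linear_combination hu + (u + 1) * h.two
  have h2 : u + 1 = 0 := pow_eq_zero_iff (by norm_num) |>.mp h1
  exact h.eq_of_add_eq_zero h2

theorem eq_one_of_pow_succ_eq_one {e : ℕ} (h : SzHyp F e) {u : F} (hu : u ^ (e + 1) = 1) :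
    u = 1 := by
  have hu0 : u ≠ 0 := by
    intro h0
    rw [h0, zero_pow (by omega)] at hu
    exact zero_ne_one hu
  have h1 : u ^ e = u⁻¹ := by
    rw [pow_succ] at hu
    exact eq_inv_of_mul_eq_one_left hu
  have h2 : u ^ 2 = u := by
    have := h.sq u
    rw [h1, inv_pow, h1, inv_inv] at this
    exact this.symm
  have h3 : u * (u - 1) = 0 := by linear_combination h2
  rcases mul_eq_zero.mp h3 with h4 | h4
  · exact absurd h4 hu0
  · linear_combination h4

/-- the multiplier by which the torus acts on the centre of `Q` -/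
def lamU (e : ℕ) (t : Fˣ) : Fˣ := (t ^ 2) ^ (e + 1)

theorem lamU_val (e : ℕ) (t : Fˣ) : ((lamU e t : Fˣ) : F) = ((t : F) ^ 2) ^ (e + 1) := by
  simp [lamU]

theorem lamU_injective {e : ℕ} (h : SzHyp F e) : Function.Injective (lamU (F := F) e) := by
  intro s t hst
  have h1 : lamU e (s / t) = 1 := by
    unfold lamU at hst ⊢
    rw [div_pow, div_pow, hst, div_self']
  have h2 : (((s / t : Fˣ) : F) ^ 2) ^ (e + 1) = 1 := by
    rw [← lamU_val, h1, Units.val_one]
  have h3 := eq_one_of_sq_eq_one h (eq_one_of_pow_succ_eq_one h h2)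
  have h4 : s / t = 1 := Units.ext h3
  exact div_eq_one.mp h4

theorem lamU_surjective [Finite F] {e : ℕ} (h : SzHyp F e) :
    Function.Surjective (lamU (F := F) e) :=
  Finite.injective_iff_surjective.mp (lamU_injective h)

section

variable [Fintype F]

theorem qG_central (h : SzHyp F (2 ^ (m + 1))) (c d β : F) :
    qG h c d * qG h 0 β = qG h 0 β * qG h c d := by
  rw [qG_mul, qG_mul]
  congr 1
  · ring
  · rw [zero_pow h.pos]
    ring

theorem conj_center (h : SzHyp F (2 ^ (m + 1))) (c d : F) (t : Fˣ) (β : F) :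
    qG h c d * hG h t * qG h 0 β * (qG h c d * hG h t)⁻¹ =
      qG h 0 ((lamU (2 ^ (m + 1)) t : Fˣ) * β) := by
  have : qG h c d * hG h t * qG h 0 β * (qG h c d * hG h t)⁻¹ =
      qG h c d * (hG h t * qG h 0 β * (hG h t)⁻¹) * (qG h c d)⁻¹ := by group
  rw [this, hG_conj_qG, mul_inv_cancel_right, mul_zero, qG_central, mul_inv_cancel_right, lamU_val]

/-- elements of the Borel subgroup act on the centre of `Q` by scalars -/
theorem exists_lam_of_mem_Bsub (hm : 1 ≤ m) (hF : Fintype.card F = 2 ^ (2 * m + 1))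
    (h : SzHyp F (2 ^ (m + 1))) {x : ↥(Cfsg.Sz F m)} (hx : x ∈ Bsub F m) :
    ∃ lam : Fˣ, (∀ β : F, x * qG h 0 β * x⁻¹ = qG h 0 ((lam : F) * β)) ∧
      (∀ β : F, x⁻¹ * qG h 0 β * x = qG h 0 ((lam : F)⁻¹ * β)) := by
  obtain ⟨c, d, t, rfl⟩ := stab_inf_form_G hm hF h x (mem_Bsub.mp hx)
  refine ⟨lamU (2 ^ (m + 1)) t, fun β => conj_center h c d t β, ?_⟩
  intro β
  have h1 := conj_center h c d t (((lamU (2 ^ (m + 1)) t : Fˣ) : F)⁻¹ * β)
  rw [mul_inv_cancel_left₀ (Units.ne_zero _)] at h1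
  rw [← h1]
  group

/-- an element conjugating a nontrivial central element of `Q` into `Q` fixes `∞` -/
theorem mem_Bsub_of_conj (h : SzHyp F (2 ^ (m + 1))) {x : ↥(Cfsg.Sz F m)} {a b a' b' : F}
    (hne : qG h a b ≠ 1) (hx : x * qG h a' b' * x⁻¹ = qG h a b) : x ∈ Bsub F m := by
  obtain ⟨p, hp⟩ := smul_mem_ovoid m x.2 none
  have hp' : x • pt F m none = pt F m p := hp
  have h2 : qG h a b • pt F m p = pt F m p := by
    rw [← hx, ← hp', ← mul_smul, inv_mul_cancel_right, mul_smul, qG_smul_none]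
  have := qG_fix h h2 hne
  rw [mem_Bsub, hp', this]

end

end Cfsg.Agent.Helper37
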