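import Mathlib
import Cfsg.Agent.Lib.Helper37.SzCenter

set_option autoImplicit false

namespace Cfsg.Agent.Helper37

open Cfsg.Agent.Helper6 Matrix Cfsg
open scoped Pointwise

variable {F : Type*} [Field F] {m : ℕ}

theorem pow_succ_injective {e : ℕ} (h : SzHyp F e) : Function.Injective (fun a : F => a ^ (e + 1)) := by
  intro a c hac
  simp only at hac
  by_cases hc : c = 0
  · rw [hc, zero_pow (by omega)] at hac
    rw [hc]
    exact pow_eq_zero_iff (by omega) |>.mp hac
  · have h1 : (a / c) ^ (e + 1) = 1 := by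
      rw [div_pow, hac, div_self (pow_ne_zero _ hc)]
    have h2 := eq_one_of_pow_succ_eq_one h h1
    field_simp at h2
    exact h2

theorem pow_succ_surjective [Finite F] {e : ℕ} (h : SzHyp F e) :
    Function.Surjective (fun a : F => a ^ (e + 1)) :=
  Finite.injective_iff_surjective.mp (pow_succ_injective h)

section

variable [Fintype F]

/-- the torus as a homomorphism -/
noncomputable def hGhom (h : SzHyp F (2 ^ (m + 1))) : Fˣ →* ↥(Cfsg.Sz F m) where
  toFun := hG h
  map_one' := hG_one h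
  map_mul' s t := (hG_mul h s t).symm

theorem hGhom_apply (h : SzHyp F (2 ^ (m + 1))) (t : Fˣ) : hGhom h t = hG h t := rfl

/-- a subgroup containing the torus and one unipotent element outside the centre of `Q`
contains `Q`. -/
theorem Qsub_le_of_torus (h : SzHyp F (2 ^ (m + 1))) (M : Subgroup ↥(Cfsg.Sz F m))
    (hH : ∀ t : Fˣ, hG h t ∈ M) {a₀ b₀ : F} (ha₀ : a₀ ≠ 0) (hu : qG h a₀ b₀ ∈ M) :
    Qsub h ≤ M := by
  have hchar : ringChar F = 2 := by
    have : CharP F 2 := by
      have := h.two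
      refine (CharP.charP_iff_prime_eq_zero Nat.prime_two).mpr ?_
      exact_mod_cast this
    exact ringChar.eq F 2
  -- step 1/2 : every first coordinate occurs
  have h1 : ∀ a : F, ∃ b, qG h a b ∈ M := by
    intro a
    by_cases ha : a = 0
    · exact ⟨0, by rw [ha, qG_zero]; exact one_mem _⟩
    · obtain ⟨s, hs⟩ := FiniteField.isSquare_of_char_two hchar (a / a₀)
      have hs0 : s ≠ 0 := by
        intro h0
        rw [h0, mul_zero] at hs
        exact (div_ne_zero ha ha₀) hs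
      have hmem : hG h (Units.mk0 s hs0) * qG h a₀ b₀ * (hG h (Units.mk0 s hs0))⁻¹ ∈ M :=
        mul_mem (mul_mem (hH _) hu) (inv_mem (hH _))
      rw [hG_conj_qG, mul_inv_cancel_right, Units.val_mk0] at hmem
      have e : s ^ 2 * a₀ = a := by
        rw [sq, ← hs]
        field_simp
      rw [e] at hmem
      exact ⟨_, hmem⟩
  -- step 3 : the centre
  have h3 : ∀ β : F, qG h 0 β ∈ M := by
    intro β
    obtain ⟨a, ha⟩ := pow_succ_surjective h β
    simp only at ha
    obtain ⟨b, hb⟩ := h1 a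
    have := pow_mem hb 2
    rw [qG_sq, ← pow_succ, ha] at this
    exact this
  rintro _ ⟨a, b', rfl⟩
  obtain ⟨b, hb⟩ := h1 a
  have := mul_mem hb (h3 (b' - b))
  rw [qG_mul] at this
  have e1 : a + 0 = a := add_zero a
  have e2 : b + (b' - b) + a ^ 2 ^ (m + 1) * 0 = b' := by ring
  rw [e1, e2] at this
  exact this

/-- the Suzuki group is generated by a torus generator and `w u`. -/
theorem two_generated (hm : 1 ≤ m) (hF : Fintype.card F = 2 ^ (2 * m + 1))
    (h : SzHyp F (2 ^ (m + 1))) :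
    ∃ a b : ↥(Cfsg.Sz F m), Subgroup.closure ({a, b} : Set ↥(Cfsg.Sz F m)) = ⊤ := by
  obtain ⟨ζ, hζ⟩ := IsCyclic.exists_generator (α := Fˣ)
  refine ⟨hG h ζ, wG h * qG h 1 0, ?_⟩
  set M := Subgroup.closure ({hG h ζ, wG h * qG h 1 0} : Set ↥(Cfsg.Sz F m)) with hM
  have haM : hG h ζ ∈ M := Subgroup.subset_closure (by simp)
  have hbM : wG h * qG h 1 0 ∈ M := Subgroup.subset_closure (by simp)
  have hH : ∀ t : Fˣ, hG h t ∈ M := by
    intro t
    obtain ⟨k, rfl⟩ := Subgroup.mem_zpowers_iff.mp (hζ t)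
    rw [← hGhom_apply, map_zpow, hGhom_apply]
    exact zpow_mem haM k
  -- `ζ ≠ 1`
  have hζ1 : ζ ≠ 1 := by
    intro h1
    have hcard : Nat.card Fˣ = 1 := by
      have : ∀ t : Fˣ, t = 1 := by
        intro t
        obtain ⟨k, rfl⟩ := Subgroup.mem_zpowers_iff.mp (hζ t)
        rw [h1, _root_.one_zpow]
      have : Subsingleton Fˣ := ⟨fun s t => by rw [this s, this t]⟩
      exact Nat.card_unique
    rw [Nat.card_units, Nat.card_eq_fintype_card, hF] at hcard
    have : 2 ^ (2 * m + 1) ≥ 2 ^ 2 := Nat.pow_le_pow_right (by norm_num) (by omega)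
    omega
  have hζ2 : (ζ : F) ^ 2 * 1 + 1 ≠ 0 := by
    intro h0
    have : (ζ : F) ^ 2 = 1 := by
      have := h.eq_of_add_eq_zero h0
      linear_combination this
    exact hζ1 (Units.ext (eq_one_of_sq_eq_one h this))
  -- a unipotent element of `M` outside the centre
  have hc : hG h ζ * ((wG h * qG h 1 0)⁻¹ * hG h ζ * (wG h * qG h 1 0)) ∈ M :=
    mul_mem haM (mul_mem (mul_mem (inv_mem hbM) haM) hbM)
  have e : hG h ζ * ((wG h * qG h 1 0)⁻¹ * hG h ζ * (wG h * qG h 1 0)) =
      (hG h ζ * (qG h 1 0)⁻¹ * (hG h ζ)⁻¹) * qG h 1 0 := by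
    have h1 : (wG h)⁻¹ * hG h ζ * wG h = (hG h ζ)⁻¹ := by
      rw [wG_inv, wG_conj_hG, mul_assoc, wG_mul_self, mul_one, hG_inv]
    have : hG h ζ * ((wG h * qG h 1 0)⁻¹ * hG h ζ * (wG h * qG h 1 0)) =
        hG h ζ * (qG h 1 0)⁻¹ * ((wG h)⁻¹ * hG h ζ * wG h) * qG h 1 0 := by group
    rw [this, h1]
  rw [e, qG_inv, hG_conj_qG, mul_inv_cancel_right, qG_mul] at hc
  have hQ : Qsub h ≤ M := Qsub_le_of_torus h M hH hζ2 hc
  have hw : wG h ∈ M := by
    have := mul_mem hbM (inv_mem (hQ (qG_mem h 1 0)))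
    rwa [mul_inv_cancel_right] at this
  apply eq_top_of_Qsub_le hm hF h M hQ
  intro hle
  exact wG_not_mem_Bsub h (hle hw)

end

end Cfsg.Agent.Helper37
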