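import Mathlib

set_option autoImplicit false

namespace Cfsg.Agent.Helper37

open Matrix

section Irr

variable {F : Type*} [Field F] [Fintype F] {n : ℕ}

/-- the endomorphism of an invariant subspace induced by a matrix -/
def invEnd (y : Matrix (Fin n) (Fin n) F)
    (W : Submodule F (Fin n → F)) (hW : ∀ v ∈ W, y *ᵥ v ∈ W) : Function.End W :=
  fun v => ⟨y *ᵥ v.1, hW v.1 v.2⟩

theorem invEnd_pow_apply (y : Matrix (Fin n) (Fin n) F)
    (W : Submodule F (Fin n → F)) (hW : ∀ v ∈ W, y *ᵥ v ∈ W) (k : ℕ) (v : W) :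
    ((invEnd y W hW ^ k) v).1 = (y ^ k) *ᵥ v.1 := by
  induction k generalizing v with
  | zero =>
    rw [pow_zero, pow_zero, Matrix.one_mulVec]
    rfl
  | succ k ih =>
    rw [pow_succ']
    show y *ᵥ ((invEnd y W hW ^ k) v).1 = _
    rw [ih, pow_succ', Matrix.mulVec_mulVec]

/-- fixed point congruence for an invariant subspace -/
theorem card_modEq_fixed {p : ℕ} [Fact p.Prime] (y : Matrix (Fin n) (Fin n) F) (hy : y ^ p = 1)
    (W : Submodule F (Fin n → F)) (hW : ∀ v ∈ W, y *ᵥ v ∈ W) :
    Nat.card W ≡ Nat.card {v : W // y *ᵥ v.1 = v.1} [MOD p] := by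
  classical
  have hfp : invEnd y W hW ^ p ^ 1 = 1 := by
    funext v
    apply Subtype.ext
    rw [pow_one, invEnd_pow_apply, hy, Matrix.one_mulVec]
    rfl
  have := Equiv.Perm.card_fixedPoints_modEq (f := invEnd y W hW) (p := p) (n := 1) hfp
  rw [Fintype.card_eq_nat_card, Fintype.card_eq_nat_card] at this
  refine this.trans ?_
  apply congrArg (· % p)
  apply Nat.card_congr
  refine Equiv.subtypeEquivRight ?_
  intro v
  show invEnd y W hW v = v ↔ _
  constructor
  · intro h
    exact congrArg Subtype.val h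
  · intro h
    exact Subtype.ext h

/-- the subspace of fixed vectors -/
def fixSp (y : Matrix (Fin n) (Fin n) F) : Submodule F (Fin n → F) :=
  LinearMap.ker (Matrix.toLin' y - 1)

theorem mem_fixSp {y : Matrix (Fin n) (Fin n) F} {v : Fin n → F} :
    v ∈ fixSp y ↔ y *ᵥ v = v := by
  simp [fixSp, LinearMap.mem_ker, sub_eq_zero]

theorem card_submodule (W : Submodule F (Fin n → F)) :
    Nat.card W = Fintype.card F ^ Module.finrank F W := by
  rw [Module.natCard_eq_pow_finrank (K := F), Nat.card_eq_fintype_card]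

theorem eq_one_of_fixSp_top {y : Matrix (Fin n) (Fin n) F} (h : fixSp y = ⊤) : y = 1 := by
  apply Matrix.toLin'.injective
  refine LinearMap.ext fun v => ?_
  have : v ∈ fixSp y := by rw [h]; trivial
  rw [mem_fixSp] at this
  simp [this]

/-- an element of prime order `p` with `p ∤ q^j - 1` for `j < n` has no nonzero fixed vector -/
theorem fixSp_eq_bot {p : ℕ} [Fact p.Prime] (y : Matrix (Fin n) (Fin n) F) (hy : y ^ p = 1)
    (hy1 : y ≠ 1) (hpq : ¬ p ∣ Fintype.card F)
    (hp : ∀ j, 1 ≤ j → j < n → ¬ p ∣ Fintype.card F ^ j - 1) : fixSp y = ⊥ := by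
  set q := Fintype.card F with hq
  set k := Module.finrank F (fixSp y) with hk
  have hkn : k ≤ n := by
    have := Submodule.finrank_le (fixSp y)
    simpa using this
  have h1 := card_modEq_fixed y hy ⊤ (fun v _ => trivial)
  have c1 : Nat.card (⊤ : Submodule F (Fin n → F)) = q ^ n := by
    rw [card_submodule, finrank_top, Module.finrank_fin_fun]
  have c2 : Nat.card {v : (⊤ : Submodule F (Fin n → F)) // y *ᵥ v.1 = v.1} = q ^ k := by
    rw [← card_submodule]
    apply Nat.card_congr
    exact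
      { toFun := fun v => ⟨v.1.1, mem_fixSp.mpr v.2⟩
        invFun := fun v => ⟨⟨v.1, trivial⟩, mem_fixSp.mp v.2⟩
        left_inv := fun v => rfl
        right_inv := fun v => rfl }
  rw [c1, c2] at h1
  have hle : q ^ k ≤ q ^ n := Nat.pow_le_pow_right Fintype.card_pos hkn
  have h2 : p ∣ q ^ n - q ^ k := (Nat.modEq_iff_dvd' hle).mp h1.symm
  have h3 : q ^ n - q ^ k = q ^ k * (q ^ (n - k) - 1) := by
    rw [Nat.mul_sub, mul_one, ← pow_add, Nat.add_sub_cancel' hkn]
  rw [h3] at h2
  have hprime : p.Prime := Fact.out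
  have h4 : p ∣ q ^ (n - k) - 1 := by
    rcases (hprime.dvd_mul).mp h2 with h5 | h5
    · exact absurd (hprime.dvd_of_dvd_pow h5) hpq
    · exact h5
  by_cases hk0 : k = 0
  · exact Submodule.finrank_eq_zero.mp hk0
  · exfalso
    by_cases hkn' : k = n
    · apply hy1
      apply eq_one_of_fixSp_top
      apply Submodule.eq_top_of_finrank_eq
      rw [← hk, hkn']
      simp
    · exact hp (n - k) (by omega) (by omega) h4

/-- such an element acts irreducibly -/
theorem invariant_eq_bot_or_top {p : ℕ} [Fact p.Prime] (y : Matrix (Fin n) (Fin n) F)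
    (hy : y ^ p = 1) (hy1 : y ≠ 1) (hpq : ¬ p ∣ Fintype.card F)
    (hp : ∀ j, 1 ≤ j → j < n → ¬ p ∣ Fintype.card F ^ j - 1)
    (W : Submodule F (Fin n → F)) (hW : ∀ v ∈ W, y *ᵥ v ∈ W) : W = ⊥ ∨ W = ⊤ := by
  set q := Fintype.card F with hq
  set d := Module.finrank F W with hd
  have hdn : d ≤ n := by
    have := Submodule.finrank_le W
    simpa using this
  have hfix := fixSp_eq_bot y hy hy1 hpq hp
  have h1 := card_modEq_fixed y hy W hW
  have c2 : Nat.card {v : W // y *ᵥ v.1 = v.1} = 1 := by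
    rw [Nat.card_eq_one_iff_unique]
    refine ⟨⟨?_⟩, ⟨⟨0, by simp⟩⟩⟩
    rintro ⟨v, hv⟩ ⟨v', hv'⟩
    have e1 : v.1 ∈ fixSp y := mem_fixSp.mpr hv
    have e2 : v'.1 ∈ fixSp y := mem_fixSp.mpr hv'
    rw [hfix, Submodule.mem_bot] at e1 e2
    apply Subtype.ext
    apply Subtype.ext
    rw [e1, e2]
  rw [c2, card_submodule] at h1
  have h2 : p ∣ q ^ d - 1 := (Nat.modEq_iff_dvd' (Nat.one_le_pow _ _ Fintype.card_pos)).mp h1.symm
  by_cases hd0 : d = 0
  · left
    exact Submodule.finrank_eq_zero.mp hd0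
  · right
    by_cases hdn' : d = n
    · apply Submodule.eq_top_of_finrank_eq
      rw [← hd, hdn']
      simp
    · exact absurd h2 (hp d (by omega) (by omega))

/-- a nonzero matrix commuting with such an element is injective -/
theorem mulVec_eq_zero_of_commute {p : ℕ} [Fact p.Prime] (y : Matrix (Fin n) (Fin n) F)
    (hy : y ^ p = 1) (hy1 : y ≠ 1) (hpq : ¬ p ∣ Fintype.card F)
    (hp : ∀ j, 1 ≤ j → j < n → ¬ p ∣ Fintype.card F ^ j - 1)
    (c : Matrix (Fin n) (Fin n) F) (hc : c * y = y * c) (hc0 : c ≠ 0) (v : Fin n → F)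
    (hv : c *ᵥ v = 0) : v = 0 := by
  set W : Submodule F (Fin n → F) := LinearMap.ker (Matrix.toLin' c) with hWdef
  have hmem : ∀ u, u ∈ W ↔ c *ᵥ u = 0 := by
    intro u
    rw [hWdef, LinearMap.mem_ker, Matrix.toLin'_apply]
  have hW : ∀ u ∈ W, y *ᵥ u ∈ W := by
    intro u hu
    rw [hmem] at hu ⊢
    rw [Matrix.mulVec_mulVec, hc, ← Matrix.mulVec_mulVec, hu, Matrix.mulVec_zero]
  rcases invariant_eq_bot_or_top y hy hy1 hpq hp W hW with h1 | h1
  · have : v ∈ W := (hmem v).mpr hv
    rw [h1, Submodule.mem_bot] at this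
    exact this
  · exfalso
    apply hc0
    apply Matrix.toLin'.injective
    refine LinearMap.ext fun u => ?_
    have : u ∈ W := by rw [h1]; trivial
    rw [hmem] at this
    simp [this]

/-- a finite group of matrices commuting with such an element is cyclic -/
theorem isCyclic_of_commute {p : ℕ} [Fact p.Prime] (y : Matrix (Fin n) (Fin n) F)
    (hy : y ^ p = 1) (hy1 : y ≠ 1) (hpq : ¬ p ∣ Fintype.card F)
    (hp : ∀ j, 1 ≤ j → j < n → ¬ p ∣ Fintype.card F ^ j - 1)
    {G : Type*} [Group G] [Finite G] (φ : G →* Matrix (Fin n) (Fin n) F)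
    (hφ : Function.Injective φ) (hcomm : ∀ g, φ g * y = y * φ g) : IsCyclic G := by
  set R := Subalgebra.centralizer F ({y} : Set (Matrix (Fin n) (Fin n) F)) with hR
  have hmemR : ∀ c : Matrix (Fin n) (Fin n) F, c ∈ R ↔ c * y = y * c := by
    intro c
    rw [hR, Subalgebra.mem_centralizer_iff]
    simp only [Set.mem_singleton_iff, forall_eq]
    exact eq_comm
  have hn : n ≠ 0 := by
    rintro rfl
    apply hy1
    ext i
    exact Fin.elim0 i
  have : Nontrivial ↥R := by
    refine ⟨⟨0, 1, ?_⟩⟩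
    intro h01
    have h01' : (0 : Matrix (Fin n) (Fin n) F) = 1 := congrArg Subtype.val h01
    have := congrFun (congrFun h01' ⟨0, Nat.pos_of_ne_zero hn⟩) ⟨0, Nat.pos_of_ne_zero hn⟩
    simp at this
  have : NoZeroDivisors ↥R := by
    refine ⟨?_⟩
    rintro ⟨a, ha⟩ ⟨b, hb⟩ hab
    by_cases ha0 : a = 0
    · left
      exact Subtype.ext ha0
    · right
      apply Subtype.ext
      show b = 0
      have hab' : a * b = 0 := congrArg Subtype.val hab
      apply Matrix.toLin'.injective
      refine LinearMap.ext fun u => ?_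
      have h1 : a *ᵥ (b *ᵥ u) = 0 := by
        rw [Matrix.mulVec_mulVec, hab', Matrix.zero_mulVec]
      have := mulVec_eq_zero_of_commute y hy hy1 hpq hp a ((hmemR a).mp ha) ha0 _ h1
      simp [this]
  have : IsDomain ↥R := NoZeroDivisors.to_isDomain _
  have hfield := Finite.isDomain_to_isField ↥R
  letI : CommRing ↥R := { (inferInstance : Ring ↥R) with mul_comm := hfield.mul_comm }
  let f : G →* ↥R :=
    { toFun := fun g => ⟨φ g, (hmemR _).mpr (hcomm g)⟩
      map_one' := Subtype.ext (map_one φ)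
      map_mul' := fun a b => Subtype.ext (map_mul φ a b) }
  have hf : Function.Injective f := by
    intro a b hab
    exact hφ (congrArg Subtype.val hab)
  exact isCyclic_of_injective_ringHom f hf

end Irr

end Cfsg.Agent.Helper37
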