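import Mathlib
import Cfsg.Agent.Lib.Helper37.SzGen

set_option autoImplicit false

namespace Cfsg.Agent.Helper37

open Cfsg.Agent.Helper6 Matrix Cfsg
open scoped Pointwise

variable {F : Type*} [Field F] {m : ℕ} [Fintype F]

theorem hG_smul_some (h : SzHyp F (2 ^ (m + 1))) (t : Fˣ) (x y : F) :
    hG h t • pt F m (some (x, y)) =
      pt F m (some ((t : F) ^ 2 * x, ((t : F) ^ 2) ^ (2 ^ (m + 1) + 1) * y)) :=
  HSL_smul_some h t x y

theorem hG_injective (h : SzHyp F (2 ^ (m + 1))) : Function.Injective (hG (m := m) h) := by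
  intro s t hst
  exact HSL_injective h (congrArg Subtype.val hst)

theorem hG_eq_one_iff (h : SzHyp F (2 ^ (m + 1))) {t : Fˣ} : hG (m := m) h t = 1 ↔ t = 1 := by
  rw [← hG_one h]
  exact (hG_injective h).eq_iff

theorem lamU_one (e : ℕ) : lamU (F := F) e 1 = 1 := by simp [lamU]

theorem lamU_ne_one {e : ℕ} (h : SzHyp F e) {t : Fˣ} (ht : t ≠ 1) : lamU e t ≠ 1 := by
  intro h1
  exact ht (lamU_injective h (h1.trans (lamU_one e).symm))

theorem units_sq_ne_one {e : ℕ} (h : SzHyp F e) {t : Fˣ} (ht : t ≠ 1) : (t : F) ^ 2 ≠ 1 := by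
  intro h1
  exact ht (Units.ext (eq_one_of_sq_eq_one h h1))

/-- a nontrivial torus element fixes exactly `∞` and `0` -/
theorem hG_fix (h : SzHyp F (2 ^ (m + 1))) {t : Fˣ} (ht : t ≠ 1) {p : Option (F × F)}
    (hfix : hG h t • pt F m p = pt F m p) : p = none ∨ p = some ((0 : F), 0) := by
  rcases p with _ | ⟨x, y⟩
  · left; rfl
  · right
    rw [hG_smul_some] at hfix
    have := pt_injective m hfix
    simp only [Option.some.injEq, Prod.mk.injEq] at this
    obtain ⟨h1, h2⟩ := this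
    have hx : x = 0 := by
      have : ((t : F) ^ 2 - 1) * x = 0 := by linear_combination h1
      rcases mul_eq_zero.mp this with h3 | h3
      · exact absurd (by linear_combination h3) (units_sq_ne_one h ht)
      · exact h3
    have hy : y = 0 := by
      have hl := lamU_ne_one h ht
      have hl' : ((t : F) ^ 2) ^ (2 ^ (m + 1) + 1) ≠ 1 := by
        intro h0
        apply hl
        apply Units.ext
        rw [lamU_val, h0, Units.val_one]
      have : (((t : F) ^ 2) ^ (2 ^ (m + 1) + 1) - 1) * y = 0 := by linear_combination h2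
      rcases mul_eq_zero.mp this with h3 | h3
      · exact absurd (by linear_combination h3) hl'
      · exact h3
    rw [hx, hy]

theorem two_pt_stab_G (hm : 1 ≤ m) (hF : Fintype.card F = 2 ^ (2 * m + 1))
    (h : SzHyp F (2 ^ (m + 1))) (g : ↥(Cfsg.Sz F m)) (h1 : g • pt F m none = pt F m none)
    (h2 : g • pt F m (some ((0 : F), 0)) = pt F m (some ((0 : F), 0))) :
    ∃ t : Fˣ, g = hG h t := by
  obtain ⟨t, ht⟩ := two_pt_stab hm hF g.1 g.2 h1 h2
  exact ⟨t, Subtype.ext ht⟩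

/-- transitivity on the ovoid -/
theorem exists_smul_none_eq (h : SzHyp F (2 ^ (m + 1))) (p : Option (F × F)) :
    ∃ z : ↥(Cfsg.Sz F m), z • pt F m none = pt F m p := by
  rcases p with _ | ⟨a, b⟩
  · exact ⟨1, one_smul _ _⟩
  · exact ⟨qG h a b * wG h, by rw [mul_smul, wG_smul_none, qG_smul_zero]⟩

/-- elements fixing `∞` are unipotent or conjugate into the torus -/
theorem fix_inf_cases (hm : 1 ≤ m) (hF : Fintype.card F = 2 ^ (2 * m + 1))
    (h : SzHyp F (2 ^ (m + 1))) (g : ↥(Cfsg.Sz F m)) (hg1 : g ≠ 1)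
    (hg : g • pt F m none = pt F m none) :
    (∃ a b : F, g = qG h a b) ∨
      (∃ (x : ↥(Cfsg.Sz F m)) (s : Fˣ), s ≠ 1 ∧ g = x * hG h s * x⁻¹) := by
  obtain ⟨a, b, t, rfl⟩ := stab_inf_form_G hm hF h g hg
  by_cases ht : t = 1
  · left
    exact ⟨a, b, by rw [ht, hG_one, mul_one]⟩
  · right
    have ht2 : (t : F) ^ 2 ≠ 1 := units_sq_ne_one h ht
    have hl := lamU_ne_one h ht
    have hl' : ((t : F) ^ 2) ^ (2 ^ (m + 1) + 1) ≠ 1 := by
      intro h0
      apply hl
      apply Units.ext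
      rw [lamU_val, h0, Units.val_one]
    have d1 : (t : F) ^ 2 - 1 ≠ 0 := sub_ne_zero.mpr ht2
    have d2 : ((t : F) ^ 2) ^ (2 ^ (m + 1) + 1) - 1 ≠ 0 := sub_ne_zero.mpr hl'
    set x₀ : F := -a / ((t : F) ^ 2 - 1) with hx₀
    set y₀ : F := -(a ^ 2 ^ (m + 1) * ((t : F) ^ 2 * x₀) + b) /
      (((t : F) ^ 2) ^ (2 ^ (m + 1) + 1) - 1) with hy₀
    have hfix : (qG h a b * hG h t) • pt F m (some (x₀, y₀)) = pt F m (some (x₀, y₀)) := by
      rw [mul_smul, hG_smul_some, qG_smul_some]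
      congr 3
      · rw [hx₀]; field_simp; ring
      · rw [hy₀]; field_simp; ring
    set x := qG h x₀ y₀ with hx
    have hg' : x⁻¹ * (qG h a b * hG h t) * x ∈ Bsub F m := by
      rw [mem_Bsub, mul_smul, mul_smul, qG_smul_none, mul_smul, hG_smul_none, qG_smul_none,
        inv_smul_eq_iff, qG_smul_none]
    have hg'' : (x⁻¹ * (qG h a b * hG h t) * x) • pt F m (some ((0 : F), 0)) =
        pt F m (some ((0 : F), 0)) := by
      rw [mul_smul, mul_smul, hx, qG_smul_zero, hfix, inv_smul_eq_iff, qG_smul_zero]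
    obtain ⟨s, hs⟩ := two_pt_stab_G hm hF h _ (mem_Bsub.mp hg') hg''
    refine ⟨x, s, ?_, ?_⟩
    · rintro rfl
      rw [hG_one] at hs
      apply hg1
      have : qG h a b * hG h t = x * (x⁻¹ * (qG h a b * hG h t) * x) * x⁻¹ := by group
      rw [this, hs]
      group
    · rw [← hs]
      group

/-- classification of non-identity elements by their fixed points -/
theorem classify (hm : 1 ≤ m) (hF : Fintype.card F = 2 ^ (2 * m + 1))
    (h : SzHyp F (2 ^ (m + 1))) (g : ↥(Cfsg.Sz F m)) (hg1 : g ≠ 1) :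
    (∃ (x : ↥(Cfsg.Sz F m)) (a b : F), qG h a b ≠ 1 ∧ g = x * qG h a b * x⁻¹) ∨
    (∃ (x : ↥(Cfsg.Sz F m)) (s : Fˣ), s ≠ 1 ∧ g = x * hG h s * x⁻¹) ∨
    (∀ p : Option (F × F), g • pt F m p ≠ pt F m p) := by
  by_cases hfix : ∃ p : Option (F × F), g • pt F m p = pt F m p
  · obtain ⟨p, hp⟩ := hfix
    obtain ⟨z, hz⟩ := exists_smul_none_eq h p
    have hg' : (z⁻¹ * g * z) • pt F m none = pt F m none := by
      rw [mul_smul, mul_smul, hz, hp, inv_smul_eq_iff, hz]
    have hg1' : z⁻¹ * g * z ≠ 1 := by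
      intro h0
      apply hg1
      have : g = z * (z⁻¹ * g * z) * z⁻¹ := by group
      rw [this, h0]
      group
    have hgz : g = z * (z⁻¹ * g * z) * z⁻¹ := by group
    rcases fix_inf_cases hm hF h _ hg1' hg' with ⟨a, b, hab⟩ | ⟨x, s, hs, hxs⟩
    · left
      refine ⟨z, a, b, ?_, ?_⟩
      · rw [← hab]; exact hg1'
      · rw [← hab]; exact hgz
    · right; left
      refine ⟨z * x, s, hs, ?_⟩
      rw [hgz, hxs]
      group
  · right; right
    intro p hp
    exact hfix ⟨p, hp⟩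

end Cfsg.Agent.Helper37
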