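import Mathlib
import Cfsg.Agent.Lib.Helper37.SzTypes
import Cfsg.Agent.Lib.Helper37.SzIrr

set_option autoImplicit false

namespace Cfsg.Agent.Helper37

open Cfsg.Agent.Helper6 Matrix Cfsg
open scoped Pointwise

variable {F : Type*} [Field F] {m : ℕ} [Fintype F]

/-- the centraliser of a nontrivial unipotent element lies in `Q` -/
theorem comm_qG (hm : 1 ≤ m) (hF : Fintype.card F = 2 ^ (2 * m + 1))
    (h : SzHyp F (2 ^ (m + 1))) {a b : F} (hne : qG h a b ≠ 1) (c : ↥(Cfsg.Sz F m))
    (hc : c * qG h a b = qG h a b * c) : c ∈ Qsub h := by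
  have hcB : c ∈ Bsub F m := by
    apply mem_Bsub_of_conj h hne (a' := a) (b' := b)
    rw [hc, mul_inv_cancel_right]
  obtain ⟨c', d', t, rfl⟩ := stab_inf_form_G hm hF h c (mem_Bsub.mp hcB)
  rw [mul_assoc, hG_conj_qG, ← mul_assoc, ← mul_assoc, mul_left_inj, qG_mul, qG_mul] at hc
  obtain ⟨e1, e2⟩ := qG_injective h hc
  have ht : t = 1 := by
    by_contra ht
    have ht2 := units_sq_ne_one h ht
    have hl := lamU_ne_one h ht
    have hl' : ((t : F) ^ 2) ^ (2 ^ (m + 1) + 1) ≠ 1 := by
      intro h0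
      apply hl
      apply Units.ext
      rw [lamU_val, h0, Units.val_one]
    have ha : a = 0 := by
      have : ((t : F) ^ 2 - 1) * a = 0 := by linear_combination e1
      rcases mul_eq_zero.mp this with h3 | h3
      · exact absurd (by linear_combination h3) ht2
      · exact h3
    rw [ha] at e2
    have hb : b = 0 := by
      have : (((t : F) ^ 2) ^ (2 ^ (m + 1) + 1) - 1) * b = 0 := by
        rw [zero_pow h.pos] at e2
        linear_combination e2
      rcases mul_eq_zero.mp this with h3 | h3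
      · exact absurd (by linear_combination h3) hl'
      · exact h3
    exact hne ((qG_eq_one_iff h).mpr ⟨ha, hb⟩)
  rw [ht, hG_one, mul_one]
  exact qG_mem h c' d'

/-- the centraliser of a nontrivial torus element is the torus -/
theorem comm_hG (hm : 1 ≤ m) (hF : Fintype.card F = 2 ^ (2 * m + 1))
    (h : SzHyp F (2 ^ (m + 1))) {t : Fˣ} (ht : t ≠ 1) (c : ↥(Cfsg.Sz F m))
    (hc : c * hG h t = hG h t * c) : ∃ s : Fˣ, c = hG h s := by
  -- `c` permutes the fixed points of `hG t`
  have hperm : ∀ p : Option (F × F), hG h t • pt F m p = pt F m p →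
      ∀ p', c • pt F m p = pt F m p' → p' = none ∨ p' = some ((0 : F), 0) := by
    intro p hp p' hp'
    apply hG_fix h ht
    rw [← hp', ← mul_smul, ← hc, mul_smul, hp]
  obtain ⟨p₁, hp₁⟩ := smul_mem_ovoid m c.2 none
  have hp₁' : c • pt F m none = pt F m p₁ := hp₁
  obtain ⟨p₂, hp₂⟩ := smul_mem_ovoid m c.2 (some ((0 : F), 0))
  have hp₂' : c • pt F m (some ((0 : F), 0)) = pt F m p₂ := hp₂
  have hne : p₁ ≠ p₂ := by
    intro h0
    rw [h0, ← hp₂'] at hp₁'
    have := MulAction.injective c hp₁'
    exact absurd (pt_injective m this) (by simp)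
  rcases hperm none (hG_smul_none h t) p₁ hp₁' with h1 | h1
  · rcases hperm _ (hG_smul_zero h t) p₂ hp₂' with h2 | h2
    · exact absurd (h1.trans h2.symm) hne
    · rw [h1] at hp₁'
      rw [h2] at hp₂'
      exact two_pt_stab_G hm hF h c hp₁' hp₂'
  · rcases hperm _ (hG_smul_zero h t) p₂ hp₂' with h2 | h2
    · exfalso
      rw [h1] at hp₁'
      rw [h2] at hp₂'
      have e1 : (wG h * c) • pt F m none = pt F m none := by
        rw [mul_smul, hp₁', wG_smul_zero]
      have e2 : (wG h * c) • pt F m (some ((0 : F), 0)) = pt F m (some ((0 : F), 0)) := by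
        rw [mul_smul, hp₂', wG_smul_none]
      obtain ⟨s, hs⟩ := two_pt_stab_G hm hF h _ e1 e2
      have hcs : c = wG h * hG h s := by
        have : c = (wG h)⁻¹ * (wG h * c) := by group
        rw [this, hs, wG_inv]
      have e3 : wG h * hG h s * hG h t = hG h t⁻¹ * (wG h * hG h s) := by
        rw [mul_assoc, hG_mul, mul_comm s t, ← hG_mul, ← mul_assoc, wG_conj_hG, mul_assoc]
      rw [hcs, e3] at hc
      have := mul_right_cancel hc
      have ht' : t⁻¹ = t := hG_injective h this
      have ht2 : (t : F) ^ 2 = 1 := by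
        have : t * t = 1 := by
          nth_rewrite 1 [← ht']
          exact inv_mul_cancel t
        have := congrArg Units.val this
        rw [Units.val_mul, Units.val_one] at this
        rw [sq]; exact this
      exact units_sq_ne_one h ht ht2
    · exact absurd (h1.trans h2.symm) hne

/-- the induced permutation of the parameters of the ovoid -/
noncomputable def sig (g : ↥(Cfsg.Sz F m)) : Function.End (Option (F × F)) :=
  fun p => Classical.choose (smul_mem_ovoid m g.2 p)

theorem sig_spec (g : ↥(Cfsg.Sz F m)) (p : Option (F × F)) :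
    g • pt F m p = pt F m (sig g p) :=
  Classical.choose_spec (smul_mem_ovoid m g.2 p)

theorem sig_eq_iff (g : ↥(Cfsg.Sz F m)) (p p' : Option (F × F)) :
    sig g p = p' ↔ g • pt F m p = pt F m p' := by
  rw [sig_spec]
  exact ⟨fun h => by rw [h], fun h => pt_injective m h⟩

theorem sig_one : sig (1 : ↥(Cfsg.Sz F m)) = 1 := by
  funext p
  rw [sig_eq_iff, one_smul]
  rfl

theorem sig_mul (g k : ↥(Cfsg.Sz F m)) : sig (g * k) = sig g * sig k := by
  funext p
  rw [sig_eq_iff, mul_smul, sig_spec k p, sig_spec g]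
  rfl

theorem sig_pow (g : ↥(Cfsg.Sz F m)) (k : ℕ) : sig (g ^ k) = sig g ^ k := by
  induction k with
  | zero => rw [pow_zero, pow_zero, sig_one]
  | succ k ih => rw [pow_succ, pow_succ, sig_mul, ih]

/-- fixed point congruence on the ovoid -/
theorem card_fix_modEq {p : ℕ} [Fact p.Prime] (hF : Fintype.card F = 2 ^ (2 * m + 1))
    (y : ↥(Cfsg.Sz F m)) (hy : y ^ p = 1) :
    (2 ^ (2 * m + 1)) ^ 2 + 1 ≡ Nat.card {a : Option (F × F) // y • pt F m a = pt F m a} [MOD p] := by
  classical
  have hfp : sig y ^ p ^ 1 = 1 := by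
    rw [pow_one, ← sig_pow, hy, sig_one]
  have := Equiv.Perm.card_fixedPoints_modEq (f := sig y) (p := p) (n := 1) hfp
  rw [Fintype.card_option, Fintype.card_prod, hF, ← sq, Fintype.card_eq_nat_card] at this
  refine this.trans ?_
  apply congrArg (· % p)
  apply Nat.card_congr
  refine Equiv.subtypeEquivRight ?_
  intro a
  show sig y a = a ↔ _
  exact sig_eq_iff y a a

theorem exists_fix_of_card_ne_zero (y : ↥(Cfsg.Sz F m))
    (hne : Nat.card {a : Option (F × F) // y • pt F m a = pt F m a} ≠ 0) :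
    ∃ a : Option (F × F), y • pt F m a = pt F m a := by
  by_contra hcon
  apply hne
  have : IsEmpty {a : Option (F × F) // y • pt F m a = pt F m a} :=
    ⟨fun a => hcon ⟨a.1, a.2⟩⟩
  exact Nat.card_of_isEmpty

/-- arithmetic of prime divisors of `q^2 + 1` -/
theorem arith_prime (q p : ℕ) (hp : p.Prime) (hq2 : 2 ∣ q) (hpq : p ∣ q ^ 2 + 1) :
    ¬ p ∣ q ∧ ∀ j, 1 ≤ j → j < 4 → ¬ p ∣ q ^ j - 1 := by
  haveI : Fact p.Prime := ⟨hp⟩
  have hp2 : p ≠ 2 := by
    rintro rfl
    obtain ⟨k, hk⟩ := hq2
    rw [hk] at hpq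
    have : (2 * k) ^ 2 + 1 = 2 * (2 * k * k) + 1 := by ring
    omega
  have h2 : (2 : ZMod p) ≠ 0 := by
    intro h0
    have : ((2 : ℕ) : ZMod p) = 0 := by exact_mod_cast h0
    rw [ZMod.natCast_eq_zero_iff] at this
    exact hp2 ((Nat.prime_dvd_prime_iff_eq hp Nat.prime_two).mp this)
  have hq : (q : ZMod p) ^ 2 = -1 := by
    have : ((q ^ 2 + 1 : ℕ) : ZMod p) = 0 := (ZMod.natCast_eq_zero_iff _ _).mpr hpq
    push_cast at this
    linear_combination this
  have h11 : (1 : ZMod p) ≠ -1 := by
    intro h0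
    apply h2
    linear_combination h0
  have hcast : ∀ j, 1 ≤ q ^ j → p ∣ q ^ j - 1 → (q : ZMod p) ^ j = 1 := by
    intro j hj hd
    have : ((q ^ j - 1 : ℕ) : ZMod p) = 0 := (ZMod.natCast_eq_zero_iff _ _).mpr hd
    rw [Nat.cast_sub hj] at this
    push_cast at this
    linear_combination this
  have hq0 : q ≠ 0 := by
    rintro rfl
    simp at hpq
    exact hp.one_lt.ne' hpq
  have hqpos : ∀ j, 1 ≤ q ^ j := fun j => Nat.one_le_pow _ _ (Nat.pos_of_ne_zero hq0)
  refine ⟨?_, ?_⟩
  · intro hd
    have : (q : ZMod p) = 0 := (ZMod.natCast_eq_zero_iff _ _).mpr hd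
    rw [this] at hq
    have : (1 : ZMod p) = 0 := by
      have h0 : (0 : ZMod p) ^ 2 = 0 := by norm_num
      rw [h0] at hq
      linear_combination hq
    exact one_ne_zero this
  · intro j hj1 hj4 hd
    have hj := hcast j (hqpos j) hd
    interval_cases j
    · apply h11
      rw [pow_one] at hj
      rw [hj] at hq
      linear_combination hq
    · apply h11
      rw [← hq, hj]
    · apply h11
      have h3 : (q : ZMod p) = -1 := by
        have : (q : ZMod p) ^ 3 = (q : ZMod p) ^ 2 * q := by ring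
        rw [this, hq] at hj
        linear_combination -hj
      rw [h3] at hq
      linear_combination hq

end Cfsg.Agent.Helper37
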