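import Mathlib
import Cfsg.Agent.Lib.Helper37.SzCent

set_option autoImplicit false

namespace Cfsg.Agent.Helper37

open Cfsg.Agent.Helper6 Matrix Cfsg
open scoped Pointwise

variable {F : Type*} [Field F] {m : ℕ} [Fintype F]

/-- fixed points of a conjugate -/
theorem fix_conj {x z y : ↥(Cfsg.Sz F m)} (hy : y = x * z * x⁻¹) {a : Option (F × F)}
    (ha : y • pt F m a = pt F m a) : z • pt F m (sig x⁻¹ a) = pt F m (sig x⁻¹ a) := by
  rw [← sig_spec, ← mul_smul]
  have : z * x⁻¹ = x⁻¹ * y := by rw [hy]; group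
  rw [this, mul_smul, ha]

theorem fix_conj' {x z y : ↥(Cfsg.Sz F m)} (hy : y = x * z * x⁻¹) {a : Option (F × F)}
    (ha : z • pt F m a = pt F m a) : y • pt F m (sig x a) = pt F m (sig x a) := by
  rw [← sig_spec, ← mul_smul]
  have : y * x = x * z := by rw [hy]; group
  rw [this, mul_smul, ha]

theorem sig_inv_eq {x : ↥(Cfsg.Sz F m)} {a b : Option (F × F)} (hab : sig x⁻¹ a = b) :
    a = sig x b := by
  rw [sig_eq_iff] at hab
  symm
  rw [sig_eq_iff, ← hab, smul_inv_smul]

/-- an involution fixes at most one point -/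
theorem fix_unique_of_order_two (hm : 1 ≤ m) (hF : Fintype.card F = 2 ^ (2 * m + 1))
    (h : SzHyp F (2 ^ (m + 1))) (y : ↥(Cfsg.Sz F m)) (hy2 : y ^ 2 = 1) (hy1 : y ≠ 1)
    {a b : Option (F × F)} (ha : y • pt F m a = pt F m a) (hb : y • pt F m b = pt F m b) :
    a = b := by
  rcases classify hm hF h y hy1 with ⟨x, a', b', hne, hx⟩ | ⟨x, s, hs, hx⟩ | hX
  · have h1 := qG_fix h (fix_conj hx ha) hne
    have h2 := qG_fix h (fix_conj hx hb) hne
    rw [sig_inv_eq h1, sig_inv_eq h2]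
  · exfalso
    have : (hG h s) ^ 2 = 1 := by
      have e : hG h s = x⁻¹ * y * x := by rw [hx]; group
      have e2 : (x⁻¹ * y * x) ^ 2 = x⁻¹ * (y * y) * x := by rw [sq]; group
      rw [e, e2, ← sq, hy2]
      group
    rw [sq, hG_mul, hG_eq_one_iff] at this
    have h2 : (s : F) ^ 2 = 1 := by
      have := congrArg Units.val this
      rw [Units.val_mul, Units.val_one] at this
      rw [sq]; exact this
    exact units_sq_ne_one h hs h2
  · exact absurd ha (hX a)

theorem qG_pow_four (h : SzHyp F (2 ^ (m + 1))) (a b : F) : qG (m := m) h a b ^ 4 = 1 := by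
  have : qG (m := m) h a b ^ 4 = (qG h a b ^ 2) ^ 2 := by rw [← pow_mul]
  rw [this, qG_sq, qG_sq, mul_zero, qG_zero]

/-- an element of odd prime order fixing a point is conjugate into the torus -/
theorem torus_of_odd_prime (hm : 1 ≤ m) (hF : Fintype.card F = 2 ^ (2 * m + 1))
    (h : SzHyp F (2 ^ (m + 1))) (y : ↥(Cfsg.Sz F m)) {p : ℕ} (hp : p.Prime) (hp2 : p ≠ 2)
    (hy : orderOf y = p) {a : Option (F × F)} (ha : y • pt F m a = pt F m a) :
    ∃ (x : ↥(Cfsg.Sz F m)) (s : Fˣ), s ≠ 1 ∧ y = x * hG h s * x⁻¹ := by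
  have hy1 : y ≠ 1 := by
    intro h0
    rw [h0, orderOf_one] at hy
    exact hp.one_lt.ne hy
  rcases classify hm hF h y hy1 with ⟨x, a', b', hne, hx⟩ | ⟨x, s, hs, hx⟩ | hX
  · exfalso
    have h4 : y ^ 4 = 1 := by
      have e : (x * qG h a' b' * x⁻¹) ^ 4 = x * (qG h a' b') ^ 4 * x⁻¹ := by
        rw [← conj_pow]
      rw [hx, e, qG_pow_four]
      group
    have := orderOf_dvd_of_pow_eq_one h4
    rw [hy] at this
    have h22 : (4 : ℕ) = 2 ^ 2 := by norm_num
    rw [h22] at this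
    exact hp2 ((Nat.prime_dvd_prime_iff_eq hp Nat.prime_two).mp (hp.dvd_of_dvd_pow this))
  · exact ⟨x, s, hs, hx⟩
  · exact absurd ha (hX a)

theorem pow_fix {g : ↥(Cfsg.Sz F m)} {a : Option (F × F)} (ha : g • pt F m a = pt F m a)
    (k : ℕ) : g ^ k • pt F m a = pt F m a := by
  induction k with
  | zero => rw [pow_zero, one_smul]
  | succ k ih => rw [pow_succ, mul_smul, ha, ih]

theorem odd_card_aux : ¬ 2 ∣ (2 ^ (2 * m + 1)) ^ 2 + 1 := by
  have h1 : 2 ∣ 2 ^ (2 * m + 1) := dvd_pow_self 2 (by omega)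
  obtain ⟨k, hk⟩ := h1
  rw [hk]
  have : (2 * k) ^ 2 + 1 = 2 * (2 * k * k) + 1 := by ring
  omega

/-- an element fixing no point of the ovoid has a power of prime order `p ∣ q² + 1`. -/
theorem X_prime_power (hm : 1 ≤ m) (hF : Fintype.card F = 2 ^ (2 * m + 1))
    (h : SzHyp F (2 ^ (m + 1))) (g : ↥(Cfsg.Sz F m))
    (hX : ∀ p : Option (F × F), g • pt F m p ≠ pt F m p) :
    ∃ p k : ℕ, p.Prime ∧ p ∣ (2 ^ (2 * m + 1)) ^ 2 + 1 ∧ orderOf (g ^ k) = p := by
  have hg1 : g ≠ 1 := fun h0 => hX none (by rw [h0, one_smul])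
  set N := orderOf g with hN
  have hN0 : N ≠ 0 := (orderOf_pos g).ne'
  have hN1 : N ≠ 1 := fun h0 => hg1 (orderOf_eq_one_iff.mp h0)
  -- `N` is odd
  have hodd : ¬ 2 ∣ N := by
    intro h2
    set y := g ^ (N / 2) with hy
    have hy2 : orderOf y = 2 := orderOf_pow_orderOf_div hN0 h2
    have hy1 : y ≠ 1 := by
      intro h0
      rw [h0, orderOf_one] at hy2
      omega
    have hysq : y ^ 2 = 1 := by rw [← hy2]; exact pow_orderOf_eq_one y
    haveI : Fact (Nat.Prime 2) := ⟨Nat.prime_two⟩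
    have hc := card_fix_modEq (p := 2) hF y hysq
    have hne : Nat.card {a : Option (F × F) // y • pt F m a = pt F m a} ≠ 0 := by
      intro h0
      rw [h0] at hc
      exact odd_card_aux (m := m) ((Nat.modEq_zero_iff_dvd).mp hc)
    obtain ⟨a, ha⟩ := exists_fix_of_card_ne_zero y hne
    have hcomm : y * g = g * y := by rw [hy]; exact (pow_mul_comm' g (N / 2))
    have ha' : y • pt F m (sig g a) = pt F m (sig g a) := by
      rw [← sig_spec, ← mul_smul, hcomm, mul_smul, ha]
    have := fix_unique_of_order_two hm hF h y hysq hy1 ha' ha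
    exact hX a ((sig_eq_iff g a a).mp this)
  -- a prime factor
  set p := N.minFac with hp
  have hpp : p.Prime := Nat.minFac_prime hN1
  have hpN : p ∣ N := Nat.minFac_dvd N
  have hp2 : p ≠ 2 := by
    intro h0
    rw [h0] at hpN
    exact hodd hpN
  set y := g ^ (N / p) with hy
  have hyp : orderOf y = p := orderOf_pow_orderOf_div hN0 hpN
  have hyp1 : y ^ p = 1 := by rw [← hyp]; exact pow_orderOf_eq_one y
  refine ⟨p, N / p, hpp, ?_, hyp⟩
  -- `p ∤ q - 1`
  have hq1 : ¬ p ∣ 2 ^ (2 * m + 1) - 1 := by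
    intro hd
    haveI : Fact p.Prime := ⟨hpp⟩
    have hc := card_fix_modEq (p := p) hF y hyp1
    have hqmod : 2 ^ (2 * m + 1) ≡ 1 [MOD p] :=
      ((Nat.modEq_iff_dvd' Nat.one_le_two_pow).mpr hd).symm
    have h2mod : (2 ^ (2 * m + 1)) ^ 2 + 1 ≡ 2 [MOD p] := by
      have := (hqmod.pow 2).add_right 1
      simpa using this
    have hne : Nat.card {a : Option (F × F) // y • pt F m a = pt F m a} ≠ 0 := by
      intro h0
      rw [h0] at hc
      have := (h2mod.symm.trans hc)
      have hd2 : p ∣ 2 := (Nat.modEq_zero_iff_dvd).mp this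
      exact hp2 ((Nat.prime_dvd_prime_iff_eq hpp Nat.prime_two).mp hd2)
    obtain ⟨a, ha⟩ := exists_fix_of_card_ne_zero y hne
    obtain ⟨x, s, hs, hx⟩ := torus_of_odd_prime hm hF h y hpp hp2 hyp ha
    -- the two fixed points of `y`
    set c₁ := sig x none with hc₁
    set c₂ := sig x (some ((0 : F), 0)) with hc₂
    have hf₁ : y • pt F m c₁ = pt F m c₁ := fix_conj' hx (hG_smul_none h s)
    have hf₂ : y • pt F m c₂ = pt F m c₂ := fix_conj' hx (hG_smul_zero h s)
    have honly : ∀ c, y • pt F m c = pt F m c → c = c₁ ∨ c = c₂ := by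
      intro c hc
      rcases hG_fix h hs (fix_conj hx hc) with h1 | h1
      · left; exact sig_inv_eq h1
      · right; exact sig_inv_eq h1
    have hcomm : y * g = g * y := by rw [hy]; exact (pow_mul_comm' g (N / p))
    have hmap : ∀ c, y • pt F m c = pt F m c → y • pt F m (sig g c) = pt F m (sig g c) := by
      intro c hc
      rw [← sig_spec, ← mul_smul, hcomm, mul_smul, hc]
    have hg₁ : sig g c₁ = c₂ := by
      rcases honly _ (hmap c₁ hf₁) with h1 | h1
      · exact absurd ((sig_eq_iff g c₁ c₁).mp h1) (hX c₁)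
      · exact h1
    have hg₂ : sig g c₂ = c₁ := by
      rcases honly _ (hmap c₂ hf₂) with h1 | h1
      · exact h1
      · exact absurd ((sig_eq_iff g c₂ c₂).mp h1) (hX c₂)
    have hsq : g ^ 2 • pt F m c₁ = pt F m c₁ := by
      rw [sq, mul_smul, (sig_eq_iff g c₁ c₂).mp hg₁, (sig_eq_iff g c₂ c₁).mp hg₂]
    obtain ⟨k, hk⟩ : ∃ k, N = 2 * k + 1 := ⟨N / 2, by omega⟩
    have hgk : (g ^ 2) ^ (k + 1) = g := by
      rw [← pow_mul]
      have : 2 * (k + 1) = N + 1 := by omega
      rw [this, pow_succ, hN, pow_orderOf_eq_one, one_mul]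
    have := pow_fix hsq (k + 1)
    rw [hgk] at this
    exact hX c₁ this
  -- `p` divides the order of the group
  have hdvd : p ∣ Nat.card ↥(Cfsg.Sz F m) := hpN.trans (orderOf_dvd_natCard g)
  rw [card_G_eq hm hF] at hdvd
  rcases (hpp.dvd_mul).mp hdvd with h1 | h1
  · exfalso
    have h2 : p ∣ 2 := hpp.dvd_of_dvd_pow (hpp.dvd_of_dvd_pow h1)
    exact hp2 ((Nat.prime_dvd_prime_iff_eq hpp Nat.prime_two).mp h2)
  · rcases (hpp.dvd_mul).mp h1 with h2 | h2
    · exact h2
    · exact absurd h2 hq1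

/-- the centraliser of an element fixing no point of the ovoid is cyclic -/
theorem X_centralizer_cyclic (hm : 1 ≤ m) (hF : Fintype.card F = 2 ^ (2 * m + 1))
    (h : SzHyp F (2 ^ (m + 1))) (g : ↥(Cfsg.Sz F m))
    (hX : ∀ p : Option (F × F), g • pt F m p ≠ pt F m p) :
    IsCyclic ↥(Subgroup.centralizer ({g} : Set ↥(Cfsg.Sz F m))) := by
  obtain ⟨p, k, hpp, hpq, hyp⟩ := X_prime_power hm hF h g hX
  haveI : Fact p.Prime := ⟨hpp⟩
  set y := g ^ k with hy
  have hyp1 : y ^ p = 1 := by rw [← hyp]; exact pow_orderOf_eq_one y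
  have hy1 : y ≠ 1 := by
    intro h0
    rw [h0, orderOf_one] at hyp
    exact hpp.one_lt.ne hyp
  obtain ⟨hpq', hpj⟩ := arith_prime (2 ^ (2 * m + 1)) p hpp (dvd_pow_self 2 (by omega)) hpq
  set Y : Matrix (Fin 4) (Fin 4) F := ((y : Matrix.SpecialLinearGroup (Fin 4) F) :
    Matrix (Fin 4) (Fin 4) F) with hY
  have hYp : Y ^ p = 1 := by
    have := congrArg (fun z : ↥(Cfsg.Sz F m) =>
      ((z : Matrix.SpecialLinearGroup (Fin 4) F) : Matrix (Fin 4) (Fin 4) F)) hyp1
    simpa using this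
  have hY1 : Y ≠ 1 := by
    intro h0
    apply hy1
    apply Subtype.ext
    apply Subtype.ext
    exact h0
  let φ : ↥(Subgroup.centralizer ({g} : Set ↥(Cfsg.Sz F m))) →* Matrix (Fin 4) (Fin 4) F :=
    { toFun := fun c => ((c.1 : Matrix.SpecialLinearGroup (Fin 4) F) : Matrix (Fin 4) (Fin 4) F)
      map_one' := rfl
      map_mul' := fun _ _ => rfl }
  have hφ : Function.Injective φ := by
    intro c c' hcc
    apply Subtype.ext
    apply Subtype.ext
    apply Subtype.ext
    exact hcc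
  have hcomm : ∀ c, φ c * Y = Y * φ c := by
    intro c
    have hc : c.1 * g = g * c.1 := by
      have := c.2
      rw [Subgroup.mem_centralizer_iff] at this
      exact (this g (Set.mem_singleton g)).symm
    have hcy : c.1 * y = y * c.1 := by
      rw [hy]
      exact (Commute.pow_right (show Commute c.1 g from hc) k)
    have := congrArg (fun z : ↥(Cfsg.Sz F m) =>
      ((z : Matrix.SpecialLinearGroup (Fin 4) F) : Matrix (Fin 4) (Fin 4) F)) hcy
    exact this
  exact isCyclic_of_commute (n := 4) Y hYp hY1 (by rw [hF]; exact hpq')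
    (by intro j hj1 hj4; rw [hF]; exact hpj j hj1 hj4) φ hφ hcomm

end Cfsg.Agent.Helper37
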