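import Mathlib
import Cfsg.Agent.Lib.Helper37.SzSolv2

set_option autoImplicit false

namespace Cfsg.Agent.Helper37

open Cfsg.Agent.Helper6 Matrix Cfsg
open scoped Pointwise

variable {F : Type*} [Field F] {m : ℕ} [Fintype F]

set_option quotPrecheck false in
local notation "Cen(" g ")" => Subgroup.centralizer ({g} : Set ↥(Cfsg.Sz F m))
set_option quotPrecheck false in
local notation "NCen(" g ")" =>
  Subgroup.normalizer ((Subgroup.centralizer ({g} : Set ↥(Cfsg.Sz F m)) :
    Subgroup ↥(Cfsg.Sz F m)) : Set ↥(Cfsg.Sz F m))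

/-- a non-trivial solvable group has a non-trivial abelian normal subgroup -/
theorem exists_abelian_normal_of_solvable (M : Type*) [Group M] [hs : Group.IsSolvable M]
    [Nontrivial M] :
    ∃ A : Subgroup M, A.Normal ∧ A ≠ ⊥ ∧ ∀ a ∈ A, ∀ b ∈ A, a * b = b * a := by
  classical
  have hex : ∃ n, derivedSeries M n = ⊥ := (Group.isSolvable_def M).mp hs
  have h0 : Nat.find hex ≠ 0 := by
    intro h0
    have := Nat.find_spec hex
    rw [h0, derivedSeries_zero] at this
    exact top_ne_bot this
  obtain ⟨j, hj⟩ := Nat.exists_eq_succ_of_ne_zero h0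
  refine ⟨derivedSeries M j, derivedSeries_normal M j, ?_, ?_⟩
  · exact Nat.find_min hex (by omega)
  · have := Nat.find_spec hex
    rw [hj, derivedSeries_succ, Subgroup.commutator_eq_bot_iff_le_centralizer] at this
    intro a ha b hb
    exact ((Subgroup.mem_centralizer_iff.mp (this ha)) b hb).symm

/-- the Borel subgroup is solvable -/
theorem isSolvable_Bsub (hm : 1 ≤ m) (hF : Fintype.card F = 2 ^ (2 * m + 1))
    (h : SzHyp F (2 ^ (m + 1))) : Group.IsSolvable ↥(Bsub F m) := by
  set Q' := (Qsub h).subgroupOf (Bsub F m) with hQ'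
  haveI hnorm : Q'.Normal := by
    have := Subgroup.normal_in_normalizer (H := Qsub (m := m) h)
    rw [normalizer_Qsub hm hF h] at this
    exact this
  rw [Group.isSolvable_iff_subgroup_quotient Q']
  constructor
  · -- a `2`-group is solvable
    have hcard : Nat.card ↥Q' = 2 ^ (2 * (2 * m + 1)) := by
      rw [Nat.card_congr (Subgroup.subgroupOfEquivOfLe (Qsub_le_Bsub h)).toEquiv, card_Qsub' hF h,
        ← pow_mul, mul_comm]
    haveI : Fact (Nat.Prime 2) := ⟨Nat.prime_two⟩
    have hp : IsPGroup 2 ↥Q' := IsPGroup.of_card hcard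
    haveI := hp.isNilpotent
    infer_instance
  · apply Group.isSolvable_of_comm
    have hBn : ∀ s : Fˣ, ∀ w ∈ Qsub h, (hG h s)⁻¹ * w * hG h s ∈ Qsub h := by
      intro s w hw
      have hB : (hG h s)⁻¹ ∈ Subgroup.normalizer
          ((Qsub h : Subgroup ↥(Cfsg.Sz F m)) : Set _) := by
        rw [normalizer_Qsub hm hF h]; exact inv_mem (hG_mem_Bsub h s)
      have := (Subgroup.mem_normalizer_iff.mp hB w).mp hw
      rwa [inv_inv] at this
    have hmk : ∀ (z : ↥(Bsub F m)) (a b : F) (t : Fˣ), z.1 = qG h a b * hG h t →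
        (QuotientGroup.mk z : ↥(Bsub F m) ⧸ Q') =
          QuotientGroup.mk (⟨hG h t, hG_mem_Bsub h t⟩ : ↥(Bsub F m)) := by
      intro z a b t hz
      rw [QuotientGroup.eq, hQ', Subgroup.mem_subgroupOf]
      show z.1⁻¹ * hG h t ∈ Qsub h
      rw [hz]
      have e : (qG h a b * hG h t)⁻¹ * hG h t = (hG h t)⁻¹ * (qG h a b)⁻¹ * hG h t := by group
      rw [e]
      exact hBn t _ (inv_mem (qG_mem h a b))
    intro u v
    obtain ⟨x, rfl⟩ := QuotientGroup.mk_surjective u
    obtain ⟨y, rfl⟩ := QuotientGroup.mk_surjective v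
    obtain ⟨a, b, t, hx⟩ := stab_inf_form_G hm hF h x.1 (mem_Bsub.mp x.2)
    obtain ⟨a', b', t', hy⟩ := stab_inf_form_G hm hF h y.1 (mem_Bsub.mp y.2)
    rw [hmk x a b t hx, hmk y a' b' t' hy, ← QuotientGroup.mk_mul, ← QuotientGroup.mk_mul]
    congr 1
    apply Subtype.ext
    show hG h t * hG h t' = hG h t' * hG h t
    rw [hG_mul, hG_mul, mul_comm]

/-- the stabiliser of a point of the ovoid -/
noncomputable def Bpt (F : Type*) [Field F] (m : ℕ) (a : Option (F × F)) :
    Subgroup ↥(Cfsg.Sz F m) :=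
  MulAction.stabilizer ↥(Cfsg.Sz F m) (pt F m a)

theorem mem_Bpt {y : ↥(Cfsg.Sz F m)} {a : Option (F × F)} : y ∈ Bpt F m a ↔ Fx y a :=
  MulAction.mem_stabilizer_iff

theorem isSolvable_Bpt (hm : 1 ≤ m) (hF : Fintype.card F = 2 ^ (2 * m + 1))
    (h : SzHyp F (2 ^ (m + 1))) (a : Option (F × F)) : Group.IsSolvable ↥(Bpt F m a) := by
  obtain ⟨z, hz⟩ := exists_smul_none_eq h a
  have e : ↥(Bsub F m) ≃* ↥(Bpt F m a) := MulAction.stabilizerEquivStabilizer hz.symm
  haveI := isSolvable_Bsub hm hF h
  exact Group.isSolvable_of_surjective (f := e.toMonoidHom) e.surjective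

theorem tor_comm (hm : 1 ≤ m) (hF : Fintype.card F = 2 ^ (2 * m + 1))
    (h : SzHyp F (2 ^ (m + 1))) {g a b : ↥(Cfsg.Sz F m)} (hg : IsOdd g) (ha : a ∈ Cen(g))
    (hb : b ∈ Cen(g)) : a * b = b * a := by
  have hc := tor_cyclic hm hF h hg
  have := hc.commutative.is_comm.comm (⟨a, ha⟩ : ↥Cen(g)) ⟨b, hb⟩
  exact congrArg Subtype.val this

theorem isSolvable_NCen (hm : 1 ≤ m) (hF : Fintype.card F = 2 ^ (2 * m + 1))
    (h : SzHyp F (2 ^ (m + 1))) {g : ↥(Cfsg.Sz F m)} (hg : IsOdd g) :
    Group.IsSolvable ↥NCen(g) := by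
  set K := (Cen(g)).subgroupOf NCen(g) with hK
  haveI : K.Normal := Subgroup.normal_in_normalizer
  rw [Group.isSolvable_iff_subgroup_quotient K]
  constructor
  · apply Group.isSolvable_of_comm
    intro a b
    apply Subtype.ext
    apply Subtype.ext
    have ha : a.1.1 ∈ Cen(g) := Subgroup.mem_subgroupOf.mp a.2
    have hb : b.1.1 ∈ Cen(g) := Subgroup.mem_subgroupOf.mp b.2
    exact tor_comm hm hF h hg ha hb
  · obtain ⟨k, -, hk⟩ := tor_card_normalizer hm hF h hg
    have hcK : Nat.card ↥K = Nat.card ↥Cen(g) :=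
      Nat.card_congr (Subgroup.subgroupOfEquivOfLe Subgroup.le_normalizer).toEquiv
    have hidx : K.index = 2 ^ k := by
      have := K.card_mul_index
      rw [hcK, hk, mul_comm] at this
      exact Nat.eq_of_mul_eq_mul_right Nat.card_pos this
    haveI : Fact (Nat.Prime 2) := ⟨Nat.prime_two⟩
    have hp : IsPGroup 2 (↥NCen(g) ⧸ K) := IsPGroup.of_card hidx
    haveI := hp.isNilpotent
    infer_instance

/-- the fixed point of a conjugate of a unipotent element -/
theorem unique_fix_of_typeU (h : SzHyp F (2 ^ (m + 1))) {g z : ↥(Cfsg.Sz F m)} {a b : F}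
    (hne : qG h a b ≠ 1) (hg : g = z * qG h a b * z⁻¹) (p : Option (F × F)) :
    Fx g p ↔ p = sig z none := by
  constructor
  · intro hp
    exact typeU_fix h hne hg hp
  · rintro rfl
    exact typeU_fixes h hg

/-- elements commuting with a unipotent element fix its fixed point -/
theorem Fx_of_commute_typeU (h : SzHyp F (2 ^ (m + 1))) {g z y : ↥(Cfsg.Sz F m)} {a b : F}
    (hne : qG h a b ≠ 1) (hg : g = z * qG h a b * z⁻¹) (hy : y * g = g * y) :
    Fx y (sig z none) := by
  have h1 : Fx g (sig z none) := typeU_fixes h hg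
  have h2 : Fx (y * g * y⁻¹) (sig y (sig z none)) := (Fx_conj_iff y g _).mpr h1
  have e : y * g * y⁻¹ = g := by rw [hy]; group
  rw [e] at h2
  have := (unique_fix_of_typeU h hne hg _).mp h2
  unfold Fx
  rw [sig_spec, this]

/-- solvable two-generator subgroups fix a point or normalise a maximal torus -/
theorem solvable_iff (hm : 1 ≤ m) (hF : Fintype.card F = 2 ^ (2 * m + 1))
    (h : SzHyp F (2 ^ (m + 1))) (x y : ↥(Cfsg.Sz F m)) :
    Group.IsSolvable ↥(Subgroup.closure ({x, y} : Set ↥(Cfsg.Sz F m))) ↔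
      (∃ a, Fx x a ∧ Fx y a) ∨ (∃ u, IsOdd u ∧ x ∈ NCen(u) ∧ y ∈ NCen(u)) := by
  constructor
  · intro hs
    set M := Subgroup.closure ({x, y} : Set ↥(Cfsg.Sz F m)) with hM
    have hxM : x ∈ M := Subgroup.subset_closure (by simp)
    have hyM : y ∈ M := Subgroup.subset_closure (by simp)
    by_cases htriv : Nontrivial ↥M
    · obtain ⟨A, hAn, hAne, hAc⟩ := exists_abelian_normal_of_solvable ↥M
      obtain ⟨⟨⟨a₀, ha₀M⟩, ha₀A⟩, ha₀1⟩ := (Subgroup.ne_bot_iff_exists_ne_one.mp hAne)
      have hg₀1 : a₀ ≠ 1 := by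
        intro h0
        apply ha₀1
        apply Subtype.ext
        apply Subtype.ext
        exact h0
      -- conjugates of `a₀` under `M` commute with `a₀`
      have hconj : ∀ k ∈ M, (k * a₀ * k⁻¹) * a₀ = a₀ * (k * a₀ * k⁻¹) := by
        intro k hk
        have h1 : (⟨k, hk⟩ : ↥M) * ⟨a₀, ha₀M⟩ * (⟨k, hk⟩ : ↥M)⁻¹ ∈ A :=
          hAn.conj_mem _ ha₀A _
        have := hAc _ h1 _ ha₀A
        exact congrArg Subtype.val this
      rcases classify hm hF h a₀ hg₀1 with ⟨z, a, b, hne, hz⟩ | hH | hX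
      · left
        refine ⟨sig z none, ?_, ?_⟩
        · -- `x` fixes the fixed point
          have hk := hconj x hxM
          have hz' : x * a₀ * x⁻¹ = (x * z) * qG h a b * (x * z)⁻¹ := by rw [hz]; group
          have := Fx_of_commute_typeU h hne hz' hk.symm
          have h2 := (unique_fix_of_typeU h hne hz _).mp this
          rw [sig_mul_apply] at h2
          unfold Fx
          rw [sig_spec, h2]
        · have hk := hconj y hyM
          have hz' : y * a₀ * y⁻¹ = (y * z) * qG h a b * (y * z)⁻¹ := by rw [hz]; group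
          have := Fx_of_commute_typeU h hne hz' hk.symm
          have h2 := (unique_fix_of_typeU h hne hz _).mp this
          rw [sig_mul_apply] at h2
          unfold Fx
          rw [sig_spec, h2]
      · right
        obtain ⟨z, s, hs1, hz⟩ := hH
        have hodd := typeH_isOdd hm hF h hs1 hz
        refine ⟨a₀, hodd, ?_, ?_⟩
        · rw [mem_normalizer_tor_iff hm hF h hodd, mem_centralizer_singleton]
          exact hconj x hxM
        · rw [mem_normalizer_tor_iff hm hF h hodd, mem_centralizer_singleton]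
          exact hconj y hyM
      · right
        have hodd := IsX.isOdd hm hF h hX
        refine ⟨a₀, hodd, ?_, ?_⟩
        · rw [mem_normalizer_tor_iff hm hF h hodd, mem_centralizer_singleton]
          exact hconj x hxM
        · rw [mem_normalizer_tor_iff hm hF h hodd, mem_centralizer_singleton]
          exact hconj y hyM
    · left
      rw [not_nontrivial_iff_subsingleton] at htriv
      have hx1 : x = 1 := by
        have := htriv.elim (⟨x, hxM⟩ : ↥M) 1
        exact congrArg Subtype.val this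
      have hy1 : y = 1 := by
        have := htriv.elim (⟨y, hyM⟩ : ↥M) 1
        exact congrArg Subtype.val this
      refine ⟨none, ?_, ?_⟩
      · rw [hx1]; exact one_smul _ _
      · rw [hy1]; exact one_smul _ _
  · rintro (⟨a, hx, hy⟩ | ⟨u, hu, hx, hy⟩)
    · have hle : Subgroup.closure ({x, y} : Set ↥(Cfsg.Sz F m)) ≤ Bpt F m a := by
        rw [Subgroup.closure_le]
        rintro w (rfl | rfl)
        · exact mem_Bpt.mpr hx
        · exact mem_Bpt.mpr hy
      haveI := isSolvable_Bpt hm hF h a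
      exact Group.isSolvable_of_isSolvable_injective (Subgroup.inclusion_injective hle)
    · have hle : Subgroup.closure ({x, y} : Set ↥(Cfsg.Sz F m)) ≤ NCen(u) := by
        rw [Subgroup.closure_le]
        rintro w (rfl | rfl)
        · exact hx
        · exact hy
      haveI := isSolvable_NCen hm hF h hu
      exact Group.isSolvable_of_isSolvable_injective (Subgroup.inclusion_injective hle)

end Cfsg.Agent.Helper37
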