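import Mathlib
import Cfsg.Agent.Lib.Helper37.SzSolv3

set_option autoImplicit false

namespace Cfsg.Agent.Helper37

open Cfsg.Agent.Helper6 Matrix Cfsg
open scoped Pointwise

variable {F : Type*} [Field F] {m : ℕ} [Fintype F]

set_option quotPrecheck false in
local notation "Cen(" g ")" => Subgroup.centralizer ({g} : Set ↥(Cfsg.Sz F m))
set_option quotPrecheck false in
local notation "NCen(" g ")" =>
  Subgroup.normalizer ((Subgroup.centralizer ({g} : Set ↥(Cfsg.Sz F m)) :
    Subgroup ↥(Cfsg.Sz F m)) : Set ↥(Cfsg.Sz F m))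

/-- the solubilizer of an anisotropic element is the normaliser of its torus -/
theorem card_sol_X (hm : 1 ≤ m) (hF : Fintype.card F = 2 ^ (2 * m + 1))
    (h : SzHyp F (2 ^ (m + 1))) {x : ↥(Cfsg.Sz F m)} (hX : IsX x) :
    Nat.card {y : ↥(Cfsg.Sz F m) //
      Group.IsSolvable ↥(Subgroup.closure ({x, y} : Set ↥(Cfsg.Sz F m)))} =
      4 * Nat.card ↥Cen(x) := by
  rw [← card_normalizer_typeX hm hF h hX]
  apply Nat.card_congr
  refine Equiv.subtypeEquiv (Equiv.refl _) ?_
  intro y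
  rw [Equiv.refl_apply, solvable_iff hm hF h]
  have hodd := hX.isOdd hm hF h
  constructor
  · rintro (⟨a, hx, -⟩ | ⟨u, hu, hx, hy⟩)
    · exact absurd hx (hX a)
    · have hxu := odd_mem_tor hm hF h hu hx hodd.2
      have := tor_centralizer hm hF h hu hxu hodd.1
      rw [this]
      exact hy
  · intro hy
    right
    exact ⟨x, hodd, Subgroup.le_normalizer (mem_cen_self x), hy⟩

/-- the solubilizer of a non-identity element of a split torus -/
theorem card_sol_H (hm : 1 ≤ m) (hF : Fintype.card F = 2 ^ (2 * m + 1))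
    (h : SzHyp F (2 ^ (m + 1))) {x z : ↥(Cfsg.Sz F m)} {s : Fˣ} (hs : s ≠ 1)
    (hx : x = z * hG h s * z⁻¹) :
    Nat.card {y : ↥(Cfsg.Sz F m) //
      Group.IsSolvable ↥(Subgroup.closure ({x, y} : Set ↥(Cfsg.Sz F m)))} =
      2 * (2 ^ (2 * m + 1)) ^ 2 * (2 ^ (2 * m + 1) - 1) := by
  set a := sig z none with ha
  set b := sig z (some ((0 : F), 0)) with hb
  have hab : a ≠ b := sig_none_ne_sig_zero z
  have hodd := typeH_isOdd hm hF h hs hx
  have hCx := centralizer_typeH hm hF h hs hx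
  obtain ⟨fa, fb⟩ := typeH_fixes h hx
  set A : Set ↥(Cfsg.Sz F m) := {y | Fx y a} with hA
  set B : Set ↥(Cfsg.Sz F m) := {y | Fx y b} with hB
  set C : Set ↥(Cfsg.Sz F m) := {y | sig y a = b ∧ sig y b = a} with hC
  have hset : {y : ↥(Cfsg.Sz F m) |
      Group.IsSolvable ↥(Subgroup.closure ({x, y} : Set ↥(Cfsg.Sz F m)))} = (A ∪ B) ∪ C := by
    ext y
    rw [Set.mem_setOf_eq, solvable_iff hm hF h]
    constructor
    · rintro (⟨p, hxp, hyp⟩ | ⟨u, hu, hxu, hyu⟩)
      · rcases typeH_fix h hs hx hxp with rfl | rfl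
        · left; left; exact hyp
        · left; right; exact hyp
      · have hxu' := odd_mem_tor hm hF h hu hxu hodd.2
        have hCu := tor_centralizer hm hF h hu hxu' hodd.1
        rw [← hCu, hCx, mem_normalizer_Tsub_iff hm hF h] at hyu
        rcases hyu with ⟨h1, h2⟩ | ⟨h1, h2⟩
        · left; left
          show y • pt F m a = pt F m a
          rw [sig_spec, ha, h1]
        · right
          exact ⟨h1, h2⟩
    · rintro ((hy | hy) | hy)
      · left; exact ⟨a, fa, hy⟩
      · left; exact ⟨b, fb, hy⟩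
      · right
        refine ⟨x, hodd, Subgroup.le_normalizer (mem_cen_self x), ?_⟩
        rw [hCx, mem_normalizer_Tsub_iff hm hF h]
        right
        exact hy
  have hAc : A.ncard = (2 ^ (2 * m + 1)) ^ 2 * (2 ^ (2 * m + 1) - 1) := by
    rw [← card_fix_one hm hF h a, ← Nat.card_coe_set_eq]
    rfl
  have hBc : B.ncard = (2 ^ (2 * m + 1)) ^ 2 * (2 ^ (2 * m + 1) - 1) := by
    rw [← card_fix_one hm hF h b, ← Nat.card_coe_set_eq]
    rfl
  have hABc : (A ∩ B).ncard = 2 ^ (2 * m + 1) - 1 := by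
    rw [← card_fix_two hm hF h hab, ← Nat.card_coe_set_eq]
    rfl
  -- the swapping elements
  set w' := z * wG h * z⁻¹ with hw'
  have hwa : sig w' a = b := sig_conj_wG_none h z
  have hwb : sig w' b = a := sig_conj_wG_zero h z
  have hCAB : C = (fun y => y * w') '' (A ∩ B) := by
    ext y
    constructor
    · rintro ⟨h1, h2⟩
      refine ⟨y * w'⁻¹, ⟨?_, ?_⟩, by simp⟩
      · have : sig w'⁻¹ a = b := by rw [← hwb, sig_inv_sig]
        show (y * w'⁻¹) • pt F m a = pt F m a
        rw [sig_spec, sig_mul_apply, this, h2]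
      · have : sig w'⁻¹ b = a := by rw [← hwa, sig_inv_sig]
        show (y * w'⁻¹) • pt F m b = pt F m b
        rw [sig_spec, sig_mul_apply, this, h1]
    · rintro ⟨y', ⟨h1, h2⟩, rfl⟩
      have h1' : sig y' a = a := (sig_eq_iff y' a a).mpr h1
      have h2' : sig y' b = b := (sig_eq_iff y' b b).mpr h2
      exact ⟨by rw [sig_mul_apply, hwa, h2'], by rw [sig_mul_apply, hwb, h1']⟩
  have hCc : C.ncard = 2 ^ (2 * m + 1) - 1 := by
    rw [hCAB, Set.ncard_image_of_injective _ (mul_left_injective w'), hABc]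
  have hdisj : Disjoint (A ∪ B) C := by
    rw [Set.disjoint_left]
    rintro y (hy | hy) ⟨h1, h2⟩
    · have : sig y a = a := (sig_eq_iff y a a).mpr hy
      exact hab (this.symm.trans h1)
    · have : sig y b = b := (sig_eq_iff y b b).mpr hy
      exact hab (h2.symm.trans this)
  have hU := Set.ncard_union_add_ncard_inter A B (Set.toFinite _) (Set.toFinite _)
  have hq8 := two_le_q m hm
  show Nat.card ↥{y : ↥(Cfsg.Sz F m) |
      Group.IsSolvable ↥(Subgroup.closure ({x, y} : Set ↥(Cfsg.Sz F m)))} = _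
  rw [hset, Nat.card_coe_set_eq, Set.ncard_union_eq hdisj (Set.toFinite _) (Set.toFinite _), hCc]
  rw [hAc, hBc, hABc] at hU
  have hpos : 2 ^ (2 * m + 1) - 1 ≤ (2 ^ (2 * m + 1)) ^ 2 * (2 ^ (2 * m + 1) - 1) :=
    Nat.le_mul_of_pos_left _ (by positivity)
  have e : 2 * (2 ^ (2 * m + 1)) ^ 2 * (2 ^ (2 * m + 1) - 1) =
      (2 ^ (2 * m + 1)) ^ 2 * (2 ^ (2 * m + 1) - 1) +
        (2 ^ (2 * m + 1)) ^ 2 * (2 ^ (2 * m + 1) - 1) := by ring
  rw [e]
  omega

end Cfsg.Agent.Helper37
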