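import Mathlib
import Cfsg.Agent.Lib.Helper37.SzSolv4

set_option autoImplicit false

namespace Cfsg.Agent.Helper37

open Cfsg.Agent.Helper6 Matrix Cfsg
open scoped Pointwise

variable {F : Type*} [Field F] {m : ℕ} [Fintype F]

set_option quotPrecheck false in
local notation "Cen(" g ")" => Subgroup.centralizer ({g} : Set ↥(Cfsg.Sz F m))
set_option quotPrecheck false in
local notation "NCen(" g ")" =>
  Subgroup.normalizer ((Subgroup.centralizer ({g} : Set ↥(Cfsg.Sz F m)) :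
    Subgroup ↥(Cfsg.Sz F m)) : Set ↥(Cfsg.Sz F m))

/-- `2`-elements are unipotent -/
theorem typeU_of_two_pow (hm : 1 ≤ m) (hF : Fintype.card F = 2 ^ (2 * m + 1))
    (h : SzHyp F (2 ^ (m + 1))) {g : ↥(Cfsg.Sz F m)} (hg1 : g ≠ 1) {k : ℕ}
    (hk : g ^ 2 ^ k = 1) :
    ∃ (z : ↥(Cfsg.Sz F m)) (a b : F), qG h a b ≠ 1 ∧ g = z * qG h a b * z⁻¹ := by
  rcases classify hm hF h g hg1 with hU | ⟨z, s, hs, hz⟩ | hX
  · exact hU
  · exfalso
    exact hg1 (eq_one_of_pow_of_pow hk (typeH_pow hF h hz) (coprime_two_pow_pred m k))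
  · exfalso
    have hX' : IsX g := hX
    have h1 := orderOf_dvd_of_pow_eq_one hk
    obtain ⟨j, -, hj⟩ := (Nat.dvd_prime_pow Nat.prime_two).mp h1
    rcases Nat.eq_zero_or_pos j with rfl | hjpos
    · rw [pow_zero] at hj
      exact hg1 (orderOf_eq_one_iff.mp hj)
    · apply hX'.odd_order hm hF h
      rw [hj]
      exact dvd_pow_self 2 hjpos.ne'

theorem Fx_qG_iff (h : SzHyp F (2 ^ (m + 1))) {a b : F} (hne : qG (m := m) h a b ≠ 1)
    (p : Option (F × F)) : Fx (qG h a b) p ↔ p = none := by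
  constructor
  · intro hp
    exact qG_fix h hp hne
  · rintro rfl
    exact qG_smul_none h a b

/-- the product of two involutions with different fixed points has odd order -/
theorem inv_prod_isOdd (hm : 1 ≤ m) (hF : Fintype.card F = 2 ^ (2 * m + 1))
    (h : SzHyp F (2 ^ (m + 1))) {x₀ x₁ : ↥(Cfsg.Sz F m)} (h0 : x₀ ^ 2 = 1) (h1 : x₁ ^ 2 = 1)
    (h01 : x₀ ≠ 1) (hdiff : ∀ p, Fx x₀ p → ¬ Fx x₁ p) : IsOdd (x₀ * x₁) := by
  have hx₀inv : x₀⁻¹ = x₀ := by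
    rw [inv_eq_iff_mul_eq_one, ← sq, h0]
  have hx₁inv : x₁⁻¹ = x₁ := by
    rw [inv_eq_iff_mul_eq_one, ← sq, h1]
  obtain ⟨z₀, a₀, b₀, hne₀, hz₀⟩ := typeU_of_two_pow hm hF h h01 (k := 1) (by rwa [pow_one])
  have hfix₀ : Fx x₀ (sig z₀ none) := typeU_fixes h hz₀
  set t := x₀ * x₁ with ht
  have ht1 : t ≠ 1 := by
    intro h0'
    have : x₁ = x₀ := by
      have : x₁ = x₀⁻¹ * t := by rw [ht]; group
      rw [this, h0', mul_one, hx₀inv]
    rw [this] at hdiff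
    exact hdiff _ hfix₀ hfix₀
  refine ⟨ht1, ?_⟩
  intro h2
  set n := orderOf t with hn
  have hn0 : n ≠ 0 := (orderOf_pos t).ne'
  set c := t ^ (n / 2) with hc
  have hc2 : orderOf c = 2 := orderOf_pow_orderOf_div hn0 h2
  have hc1 : c ≠ 1 := by
    intro h0'
    rw [h0', orderOf_one] at hc2
    omega
  have hcsq : c ^ 2 = 1 := by rw [← hc2]; exact pow_orderOf_eq_one c
  have hcinv : c⁻¹ = c := by rw [inv_eq_iff_mul_eq_one, ← sq, hcsq]
  have e0 : x₀ * t * x₀⁻¹ = t⁻¹ := by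
    rw [ht, _root_.mul_inv_rev, hx₀inv, hx₁inv]
    have : x₀ * (x₀ * x₁) * x₀ = (x₀ * x₀) * x₁ * x₀ := by group
    rw [this, ← sq, h0, one_mul]
  have e1 : x₁ * t * x₁⁻¹ = t⁻¹ := by
    rw [ht, _root_.mul_inv_rev, hx₀inv, hx₁inv]
    have : x₁ * (x₀ * x₁) * x₁ = x₁ * x₀ * (x₁ * x₁) := by group
    rw [this, ← sq, h1, mul_one]
  have hcomm₀ : x₀ * c = c * x₀ := by
    have this : x₀ * c * x₀⁻¹ = c := by
      rw [hc, ← conj_pow, e0, inv_pow, ← hc, hcinv]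
    have e : x₀ * c = (x₀ * c * x₀⁻¹) * x₀ := by group
    rw [e, this]
  have hcomm₁ : x₁ * c = c * x₁ := by
    have this : x₁ * c * x₁⁻¹ = c := by
      rw [hc, ← conj_pow, e1, inv_pow, ← hc, hcinv]
    have e : x₁ * c = (x₁ * c * x₁⁻¹) * x₁ := by group
    rw [e, this]
  obtain ⟨z, a, b, hne, hz⟩ := typeU_of_two_pow hm hF h hc1 (k := 1) (by rwa [pow_one])
  have f0 := Fx_of_commute_typeU h hne hz hcomm₀
  have f1 := Fx_of_commute_typeU h hne hz hcomm₁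
  exact hdiff _ f0 f1

/-- the centraliser of a central involution of `Q` -/
theorem commute_qG_zero_iff (hm : 1 ≤ m) (hF : Fintype.card F = 2 ^ (2 * m + 1))
    (h : SzHyp F (2 ^ (m + 1))) {β : F} (hβ : β ≠ 0) (y : ↥(Cfsg.Sz F m)) :
    y * qG h 0 β = qG h 0 β * y ↔ y ∈ Qsub h := by
  have hne : qG (m := m) h 0 β ≠ 1 := by
    rw [Ne, qG_eq_one_iff]
    exact fun hh => hβ hh.2
  constructor
  · intro hy
    exact comm_qG hm hF h hne y hy
  · rintro ⟨c, d, rfl⟩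
    exact qG_central h c d β

/-- a `2`-subgroup containing a non-identity element of `Q` fixes `∞` -/
theorem Fx_none_of_two_group (hm : 1 ≤ m) (hF : Fintype.card F = 2 ^ (2 * m + 1))
    (h : SzHyp F (2 ^ (m + 1))) {a b : F} (hne : qG (m := m) h a b ≠ 1)
    {P : Subgroup ↥(Cfsg.Sz F m)} (hP : IsPGroup 2 ↥P) (hx : qG h a b ∈ P) {y : ↥(Cfsg.Sz F m)}
    (hy : y ∈ P) : Fx y none := by
  haveI : Fact (Nat.Prime 2) := ⟨Nat.prime_two⟩
  obtain ⟨S, hS⟩ := hP.exists_le_sylow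
  obtain ⟨z, hz⟩ := exists_conj_Qsub hm hF h S
  have hxS : qG h a b ∈ (S : Subgroup ↥(Cfsg.Sz F m)) := hS hx
  have hyS : y ∈ (S : Subgroup ↥(Cfsg.Sz F m)) := hS hy
  rw [hz, mem_conj_Qsub] at hxS hyS
  obtain ⟨a', b', hab'⟩ := hxS
  obtain ⟨a'', b'', hab''⟩ := hyS
  have hx' : qG h a b = z * qG h a' b' * z⁻¹ := by rw [← hab']; group
  have hy' : y = z * qG h a'' b'' * z⁻¹ := by rw [← hab'']; group
  have hznone : sig z none = none := (Fx_qG_iff h hne _).mp (typeU_fixes h hx')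
  have := typeU_fixes h hy'
  rwa [hznone] at this

end Cfsg.Agent.Helper37
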