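import Mathlib
import Cfsg.Agent.Lib.Helper37.SzSolv5

set_option autoImplicit false

namespace Cfsg.Agent.Helper37

open Cfsg.Agent.Helper6 Matrix Cfsg
open scoped Pointwise

variable {F : Type*} [Field F] {m : ℕ} [Fintype F]

set_option quotPrecheck false in
local notation "Cen(" g ")" => Subgroup.centralizer ({g} : Set ↥(Cfsg.Sz F m))
set_option quotPrecheck false in
local notation "NCen(" g ")" =>
  Subgroup.normalizer ((Subgroup.centralizer ({g} : Set ↥(Cfsg.Sz F m)) :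
    Subgroup ↥(Cfsg.Sz F m)) : Set ↥(Cfsg.Sz F m))

theorem isOdd_of_mem_tor (hm : 1 ≤ m) (hF : Fintype.card F = 2 ^ (2 * m + 1))
    (h : SzHyp F (2 ^ (m + 1))) {u t : ↥(Cfsg.Sz F m)} (hu : IsOdd u) (ht : t ∈ Cen(u))
    (ht1 : t ≠ 1) : IsOdd t := by
  refine ⟨ht1, ?_⟩
  intro h2
  exact tor_card_odd hm hF h hu (h2.trans (Subgroup.orderOf_dvd_natCard _ ht))

/-- non-identity elements of a torus normalised by a unipotent element of `Q` move `∞` -/
theorem tor_not_fix_none (hm : 1 ≤ m) (hF : Fintype.card F = 2 ^ (2 * m + 1))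
    (h : SzHyp F (2 ^ (m + 1))) {a b : F} (hne : qG (m := m) h a b ≠ 1) {u : ↥(Cfsg.Sz F m)}
    (hu : IsOdd u) (hxu : qG h a b ∈ NCen(u)) {t : ↥(Cfsg.Sz F m)} (ht : t ∈ Cen(u))
    (ht1 : t ≠ 1) : ¬ Fx t none := by
  intro hfix
  have htodd := isOdd_of_mem_tor hm hF h hu ht ht1
  have hCt := tor_centralizer hm hF h hu ht ht1
  rcases isOdd_cases hm hF h htodd with ⟨z, s, hs, hz⟩ | hX
  · rw [← hCt, centralizer_typeH hm hF h hs hz, mem_normalizer_Tsub_iff hm hF h] at hxu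
    have hx : ∀ p, sig (qG h a b) p = p → p = none := by
      intro p hp
      exact (Fx_qG_iff h hne p).mp ((sig_eq_iff _ p p).mp hp)
    have hxn : sig (qG h a b) none = none := (sig_eq_iff _ _ _).mpr (qG_smul_none h a b)
    have hAB := sig_none_ne_sig_zero z
    rcases typeH_fix h hs hz hfix with h0 | h0
    · rcases hxu with ⟨h1, h2⟩ | ⟨h1, h2⟩
      · exact hAB ((hx _ h1).trans (hx _ h2).symm)
      · rw [← h0, hxn] at h1
        exact hAB (h0.symm.trans h1)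
    · rcases hxu with ⟨h1, h2⟩ | ⟨h1, h2⟩
      · exact hAB ((hx _ h1).trans (hx _ h2).symm)
      · rw [← h0, hxn] at h2
        exact hAB (h2.symm.trans h0)
  · exact hX none hfix

theorem fact_two (k n : ℕ) (hn : ¬ 2 ∣ n) : (2 ^ k * n).factorization 2 = k := by
  have hn0 : n ≠ 0 := by
    rintro rfl
    exact hn (dvd_zero 2)
  rw [Nat.factorization_mul (pow_ne_zero _ two_ne_zero) hn0, Finsupp.add_apply,
    Nat.Prime.factorization_pow Nat.prime_two, Nat.factorization_eq_zero_of_not_dvd hn]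
  simp

/-- the normaliser of a torus normalised by `x ∈ Q` splits over the stabiliser of `∞` -/
theorem tor_complement (hm : 1 ≤ m) (hF : Fintype.card F = 2 ^ (2 * m + 1))
    (h : SzHyp F (2 ^ (m + 1))) {a b : F} (hne : qG (m := m) h a b ≠ 1) {u : ↥(Cfsg.Sz F m)}
    (hu : IsOdd u) (hxu : qG h a b ∈ NCen(u)) {k : ℕ}
    (hk : Nat.card ↥NCen(u) = 2 ^ k * Nat.card ↥Cen(u)) :
    Nat.card ↥(NCen(u) ⊓ Bsub F m) = 2 ^ k ∧
      ∀ y ∈ NCen(u), ∃ t ∈ Cen(u), ∃ v ∈ NCen(u) ⊓ Bsub F m, y = t * v := by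
  haveI : Fact (Nat.Prime 2) := ⟨Nat.prime_two⟩
  set N := NCen(u) with hN
  set x' : ↥N := ⟨qG h a b, hxu⟩ with hx'
  have hodd := tor_card_odd hm hF h hu
  -- a Sylow `2`-subgroup of `N` containing `x`
  have hx4 : x' ^ 2 ^ 2 = 1 := by
    apply Subtype.ext
    show qG h a b ^ 2 ^ 2 = 1
    exact qG_pow_four h a b
  have hH₀ : IsPGroup 2 ↥(Subgroup.zpowers x') := by
    obtain ⟨j, -, hj⟩ := (Nat.dvd_prime_pow Nat.prime_two).mp (orderOf_dvd_of_pow_eq_one hx4)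
    exact IsPGroup.of_card (n := j) (by rw [Nat.card_zpowers, hj])
  obtain ⟨P, hP⟩ := hH₀.exists_le_sylow
  have hPc : Nat.card ↥(P : Subgroup ↥N) = 2 ^ k := by
    rw [P.card_eq_multiplicity, hk, fact_two k _ hodd]
  set T' := (Cen(u)).subgroupOf N with hT'
  have hT'c : Nat.card ↥T' = Nat.card ↥Cen(u) :=
    Nat.card_congr (Subgroup.subgroupOfEquivOfLe Subgroup.le_normalizer).toEquiv
  have hcompl : Subgroup.IsComplement' T' (P : Subgroup ↥N) := by
    apply Subgroup.isComplement'_of_coprime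
    · rw [hT'c, hPc, hk, mul_comm]
    · rw [hT'c, hPc]
      apply Nat.Coprime.pow_right
      rw [Nat.coprime_two_right, ← Nat.not_even_iff_odd, even_iff_two_dvd]
      exact hodd
  -- the image of `P` in `G`
  set P' := (P : Subgroup ↥N).map N.subtype with hP'
  have hP'p : IsPGroup 2 ↥P' := P.2.map N.subtype
  have hxP' : qG h a b ∈ P' :=
    ⟨x', hP (Subgroup.mem_zpowers x'), rfl⟩
  have hP'fix : ∀ y ∈ P', Fx y none := fun y hy =>
    Fx_none_of_two_group hm hF h hne hP'p hxP' hy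
  have hP'N : P' ≤ N := by
    rintro _ ⟨y, -, rfl⟩
    exact y.2
  have hdecomp : ∀ y ∈ N, ∃ t ∈ Cen(u), ∃ v ∈ P', y = t * v := by
    intro y hy
    obtain ⟨⟨⟨t', ht'⟩, ⟨v', hv'⟩⟩, hprod, -⟩ :=
      (Subgroup.isComplement'_def.mp hcompl).existsUnique (⟨y, hy⟩ : ↥N)
    have hprod' : t'.1 * v'.1 = y := congrArg Subtype.val hprod
    exact ⟨t'.1, Subgroup.mem_subgroupOf.mp ht', v'.1, ⟨v', hv', rfl⟩, hprod'.symm⟩
  have hVP : N ⊓ Bsub F m = P' := by
    apply le_antisymm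
    · rintro y ⟨hyN, hyB⟩
      obtain ⟨t, ht, v, hv, hy⟩ := hdecomp y hyN
      have ht1 : t = 1 := by
        by_contra ht1
        apply tor_not_fix_none hm hF h hne hu hxu ht ht1
        have : t = y * v⁻¹ := by rw [hy]; group
        rw [this]
        show (y * v⁻¹) • pt F m none = pt F m none
        rw [mul_smul, inv_smul_eq_iff.mpr (hP'fix v hv).symm]
        exact mem_Bsub.mp hyB
      rw [hy, ht1, one_mul]
      exact hv
    · intro y hy
      exact ⟨hP'N hy, mem_Bsub.mpr (hP'fix y hy)⟩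
  constructor
  · rw [hVP, hP', Subgroup.card_map_of_injective N.subtype_injective, hPc]
  · intro y hy
    obtain ⟨t, ht, v, hv, hyv⟩ := hdecomp y hy
    exact ⟨t, ht, v, hVP ▸ hv, hyv⟩

/-- two tori normalised by `x` whose normalisers share an element moving `∞` coincide -/
theorem tor_eq_of_common (hm : 1 ≤ m) (hF : Fintype.card F = 2 ^ (2 * m + 1))
    (h : SzHyp F (2 ^ (m + 1))) {a b : F} (hne : qG (m := m) h a b ≠ 1)
    {u u' y : ↥(Cfsg.Sz F m)} (hu : IsOdd u) (hu' : IsOdd u') (hxu : qG h a b ∈ NCen(u))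
    (hxu' : qG h a b ∈ NCen(u')) (hy : y ∈ NCen(u)) (hy' : y ∈ NCen(u')) (hyf : ¬ Fx y none) :
    Cen(u) = Cen(u') := by
  -- the involution in `⟨x⟩`
  obtain ⟨β, hβ, j, hj⟩ : ∃ β : F, β ≠ 0 ∧ ∃ j : ℕ, qG (m := m) h 0 β = qG h a b ^ j := by
    by_cases ha : a = 0
    · refine ⟨b, ?_, 1, by rw [pow_one, ha]⟩
      intro hb
      apply hne
      rw [ha, hb]
      exact qG_zero h
    · refine ⟨a ^ 2 ^ (m + 1) * a, mul_ne_zero (pow_ne_zero _ ha) ha, 2, (qG_sq h a b).symm⟩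
  set x₀ := qG (m := m) h 0 β with hx₀
  have hx₀ne : x₀ ≠ 1 := by
    rw [hx₀, Ne, qG_eq_one_iff]
    exact fun hh => hβ hh.2
  have hx₀sq : x₀ ^ 2 = 1 := by
    rw [hx₀, qG_sq, mul_zero]
    exact qG_zero h
  have hx₀u : x₀ ∈ NCen(u) := by rw [hj]; exact pow_mem hxu j
  have hx₀u' : x₀ ∈ NCen(u') := by rw [hj]; exact pow_mem hxu' j
  set x₁ := y * x₀ * y⁻¹ with hx₁
  have hx₁sq : x₁ ^ 2 = 1 := by rw [hx₁, conj_pow, hx₀sq]; group
  have hdiff : ∀ p, Fx x₀ p → ¬ Fx x₁ p := by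
    intro p hp hp1
    have hpn : p = none := (Fx_qG_iff h hx₀ne p).mp hp
    subst hpn
    have e : (none : Option (F × F)) = sig y (sig y⁻¹ none) := (sig_sig_inv y none).symm
    rw [e, hx₁, Fx_conj_iff] at hp1
    have := (Fx_qG_iff h hx₀ne _).mp hp1
    apply hyf
    have h2 : sig y none = none := by
      rw [← this, sig_sig_inv, this]
    exact (sig_eq_iff y none none).mp h2
  have hodd := inv_prod_isOdd hm hF h hx₀sq hx₁sq hx₀ne hdiff
  have hx₁u : x₁ ∈ NCen(u) := mul_mem (mul_mem hy hx₀u) (inv_mem hy)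
  have hx₁u' : x₁ ∈ NCen(u') := mul_mem (mul_mem hy' hx₀u') (inv_mem hy')
  have ht := odd_mem_tor hm hF h hu (mul_mem hx₀u hx₁u) hodd.2
  have ht' := odd_mem_tor hm hF h hu' (mul_mem hx₀u' hx₁u') hodd.2
  rw [← tor_centralizer hm hF h hu ht hodd.1, ← tor_centralizer hm hF h hu' ht' hodd.1]

end Cfsg.Agent.Helper37
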