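import Mathlib
import Cfsg.Agent.Lib.Helper37.SzSolv6

set_option autoImplicit false

namespace Cfsg.Agent.Helper37

open Cfsg.Agent.Helper6 Matrix Cfsg
open scoped Pointwise

variable {F : Type*} [Field F] {m : ℕ} [Fintype F]

set_option quotPrecheck false in
local notation "Cen(" g ")" => Subgroup.centralizer ({g} : Set ↥(Cfsg.Sz F m))
set_option quotPrecheck false in
local notation "NCen(" g ")" =>
  Subgroup.normalizer ((Subgroup.centralizer ({g} : Set ↥(Cfsg.Sz F m)) :
    Subgroup ↥(Cfsg.Sz F m)) : Set ↥(Cfsg.Sz F m))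

open Classical in
/-- the order of the part of a torus normaliser fixing `∞` -/
theorem card_V (hm : 1 ≤ m) (hF : Fintype.card F = 2 ^ (2 * m + 1))
    (h : SzHyp F (2 ^ (m + 1))) {a b : F} (hne : qG (m := m) h a b ≠ 1) {u : ↥(Cfsg.Sz F m)}
    (hu : IsOdd u) (hxu : qG h a b ∈ NCen(u)) :
    Nat.card {v : ↥(Cfsg.Sz F m) // v ∈ NCen(u) ⊓ Bsub F m} = if IsX u then 4 else 2 := by
  rcases isOdd_cases hm hF h hu with ⟨z, s, hs, hz⟩ | hX
  · have hnX : ¬ IsX u := fun hX => hX _ (typeH_fixes h hz).1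
    rw [if_neg hnX]
    have hk : Nat.card ↥NCen(u) = 2 ^ 1 * Nat.card ↥Cen(u) := by
      rw [centralizer_typeH hm hF h hs hz, card_normalizer_Tsub hm hF h, card_Tsub hF, pow_one]
    exact (tor_complement hm hF h hne hu hxu hk).1
  · rw [if_pos hX]
    have hk : Nat.card ↥NCen(u) = 2 ^ 2 * Nat.card ↥Cen(u) := card_normalizer_typeX hm hF h hX
    exact (tor_complement hm hF h hne hu hxu hk).1

/-- counting the solubilizer of a unipotent element outside the Borel subgroup -/
theorem card_D_add (hm : 1 ≤ m) (hF : Fintype.card F = 2 ^ (2 * m + 1))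
    (h : SzHyp F (2 ^ (m + 1))) {a b : F} (hne : qG (m := m) h a b ≠ 1) :
    Nat.card {y : ↥(Cfsg.Sz F m) //
        Group.IsSolvable ↥(Subgroup.closure ({qG h a b, y} : Set ↥(Cfsg.Sz F m))) ∧
          ¬ Fx y none} +
      2 * Nat.card {u : ↥(Cfsg.Sz F m) // (IsOdd u ∧ qG h a b ∈ NCen(u)) ∧ ¬ IsX u} =
      4 * Nat.card {u : ↥(Cfsg.Sz F m) // IsOdd u ∧ qG h a b ∈ NCen(u)} := by
  classical
  set x := qG (m := m) h a b with hx
  let Ix := {u : ↥(Cfsg.Sz F m) // IsOdd u ∧ x ∈ NCen(u)}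
  let D := {y : ↥(Cfsg.Sz F m) //
    Group.IsSolvable ↥(Subgroup.closure ({x, y} : Set ↥(Cfsg.Sz F m))) ∧ ¬ Fx y none}
  let Θ : (Σ u : Ix, {v : ↥(Cfsg.Sz F m) // v ∈ NCen(u.1) ⊓ Bsub F m}) → D := fun p =>
    ⟨p.1.1 * p.2.1, by
      obtain ⟨⟨u, hu, hxu⟩, ⟨v, hvN, hvB⟩⟩ := p
      constructor
      · rw [solvable_iff hm hF h]
        right
        exact ⟨u, hu, hxu, mul_mem (Subgroup.le_normalizer (mem_cen_self u)) hvN⟩
      · intro hfix
        apply tor_not_fix_none hm hF h hne hu hxu (mem_cen_self u) hu.1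
        have hv : v • pt F m none = pt F m none := mem_Bsub.mp hvB
        have : (u * v) • pt F m none = pt F m none := hfix
        rw [mul_smul, hv] at this
        exact this⟩
  have hΘ : Function.Bijective Θ := by
    constructor
    · rintro ⟨⟨u, hu, hxu⟩, ⟨v, hvN, hvB⟩⟩ ⟨⟨u', hu', hxu'⟩, ⟨v', hvN', hvB'⟩⟩ hp
      have hp' : u * v = u' * v' := congrArg Subtype.val hp
      have hyN : u * v ∈ NCen(u) := mul_mem (Subgroup.le_normalizer (mem_cen_self u)) hvN
      have hyN' : u * v ∈ NCen(u') := by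
        rw [hp']; exact mul_mem (Subgroup.le_normalizer (mem_cen_self u')) hvN'
      have hyf : ¬ Fx (u * v) none := (Θ ⟨⟨u, hu, hxu⟩, ⟨v, hvN, hvB⟩⟩).2.2
      have hC := tor_eq_of_common hm hF h hne hu hu' hxu hxu' hyN hyN' hyf
      have ht : u'⁻¹ * u ∈ Cen(u) := by
        apply mul_mem (inv_mem _) (mem_cen_self u)
        rw [hC]; exact mem_cen_self u'
      have hte : u'⁻¹ * u = v' * v⁻¹ := by
        have : u'⁻¹ * u = u'⁻¹ * (u * v) * v⁻¹ := by group
        rw [this, hp']; group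
      have ht1 : u'⁻¹ * u = 1 := by
        by_contra hne1
        apply tor_not_fix_none hm hF h hne hu hxu ht hne1
        rw [hte]
        exact mem_Bsub.mp (mul_mem hvB' (inv_mem hvB))
      have huu : u = u' := by
        have : u = u' * (u'⁻¹ * u) := by group
        rw [this, ht1, mul_one]
      subst huu
      have hvv : v = v' := mul_left_cancel hp'
      subst hvv
      rfl
    · rintro ⟨y, hys, hyf⟩
      rw [solvable_iff hm hF h] at hys
      rcases hys with ⟨p, hxp, hyp⟩ | ⟨u₀, hu₀, hxu₀, hyu₀⟩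
      · exfalso
        have := (Fx_qG_iff h hne p).mp hxp
        rw [this] at hyp
        exact hyf hyp
      · obtain ⟨k, -, hk⟩ := tor_card_normalizer hm hF h hu₀
        obtain ⟨t, ht, v, hv, hytv⟩ := (tor_complement hm hF h hne hu₀ hxu₀ hk).2 y hyu₀
        have ht1 : t ≠ 1 := by
          rintro rfl
          rw [one_mul] at hytv
          apply hyf
          rw [hytv]
          exact mem_Bsub.mp hv.2
        have htodd := isOdd_of_mem_tor hm hF h hu₀ ht ht1
        have hCt := tor_centralizer hm hF h hu₀ ht ht1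
        refine ⟨⟨⟨t, htodd, by rw [hCt]; exact hxu₀⟩, ⟨v, by rw [hCt]; exact hv⟩⟩, ?_⟩
        apply Subtype.ext
        exact hytv.symm
  have hcard : Nat.card D =
      Nat.card (Σ u : Ix, {v : ↥(Cfsg.Sz F m) // v ∈ NCen(u.1) ⊓ Bsub F m}) :=
    (Nat.card_congr (Equiv.ofBijective Θ hΘ)).symm
  haveI : Fintype Ix := Fintype.ofFinite _
  rw [Nat.card_sigma] at hcard
  have hV : ∀ u : Ix, Nat.card {v : ↥(Cfsg.Sz F m) // v ∈ NCen(u.1) ⊓ Bsub F m} =
      if IsX u.1 then 4 else 2 := fun u => card_V hm hF h hne u.2.1 u.2.2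
  simp_rw [hV] at hcard
  have hH : Nat.card {u : ↥(Cfsg.Sz F m) // (IsOdd u ∧ x ∈ NCen(u)) ∧ ¬ IsX u} =
      (Finset.univ.filter (fun u : Ix => ¬ IsX u.1)).card := by
    rw [← Fintype.card_subtype, ← Nat.card_eq_fintype_card]
    exact Nat.card_congr (Equiv.subtypeSubtypeEquivSubtypeInter _ _).symm
  have hI : Nat.card Ix = (Finset.univ : Finset Ix).card := by
    rw [Finset.card_univ, Nat.card_eq_fintype_card]
  show Nat.card D + 2 * Nat.card {u : ↥(Cfsg.Sz F m) // (IsOdd u ∧ x ∈ NCen(u)) ∧ ¬ IsX u} =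
    4 * Nat.card Ix
  rw [hcard, hH, hI]
  have hsum : ∀ s : Finset Ix, (∑ u ∈ s, if IsX u.1 then 4 else 2) +
      2 * (s.filter (fun u : Ix => ¬ IsX u.1)).card = 4 * s.card := by
    intro s
    induction s using Finset.induction_on with
    | empty => simp
    | insert u s hus ih =>
      rw [Finset.sum_insert hus, Finset.filter_insert, Finset.card_insert_of_notMem hus]
      by_cases hXu : IsX u.1
      · rw [if_pos hXu, if_neg (not_not.mpr hXu)]
        omega
      · rw [if_neg hXu, if_pos hXu, Finset.card_insert_of_notMem (fun hmem =>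
          hus (Finset.mem_of_mem_filter u hmem))]
        omega
  exact hsum Finset.univ

end Cfsg.Agent.Helper37
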