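import Mathlib
import Cfsg.Agent.Lib.Helper37.SzSolv7

set_option autoImplicit false

namespace Cfsg.Agent.Helper37

open Cfsg.Agent.Helper6 Matrix Cfsg
open scoped Pointwise

/-- double counting with constant fibres over the first factor -/
theorem card_pairs_fst {α β : Type*} [Finite α] [Finite β] (R : α → β → Prop) (n : ℕ)
    (hR : ∀ a, Nat.card {b // R a b} = n) :
    Nat.card {p : α × β // R p.1 p.2} = Nat.card α * n := by
  rw [Nat.card_congr (Equiv.subtypeProdEquivSigmaSubtype R)]
  have := Fintype.ofFinite α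
  rw [Nat.card_sigma]
  simp [hR, Nat.card_eq_fintype_card]

/-- double counting with constant fibres over the second factor -/
theorem card_pairs_snd {α β : Type*} [Finite α] [Finite β] (R : α → β → Prop) (n : ℕ)
    (hR : ∀ b, Nat.card {a // R a b} = n) :
    Nat.card {p : α × β // R p.1 p.2} = Nat.card β * n := by
  rw [← card_pairs_fst (fun b a => R a b) n hR]
  exact Nat.card_congr ((Equiv.prodComm α β).subtypeEquiv (by intro p; rfl))

variable {F : Type*} [Field F] {m : ℕ} [Fintype F]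

set_option quotPrecheck false in
local notation "Cen(" g ")" => Subgroup.centralizer ({g} : Set ↥(Cfsg.Sz F m))
set_option quotPrecheck false in
local notation "NCen(" g ")" =>
  Subgroup.normalizer ((Subgroup.centralizer ({g} : Set ↥(Cfsg.Sz F m)) :
    Subgroup ↥(Cfsg.Sz F m)) : Set ↥(Cfsg.Sz F m))

theorem card_ne_none (hF : Fintype.card F = 2 ^ (2 * m + 1)) :
    Nat.card {p : Option (F × F) // p ≠ none} = (2 ^ (2 * m + 1)) ^ 2 := by
  have e : F × F ≃ {p : Option (F × F) // p ≠ none} :=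
    Equiv.ofBijective (fun x => ⟨some x, by simp⟩) (by
      constructor
      · intro x y hxy
        have := congrArg Subtype.val hxy
        simpa using this
      · rintro ⟨p, hp⟩
        cases p with
        | none => exact absurd rfl hp
        | some x => exact ⟨x, rfl⟩)
  rw [← Nat.card_congr e, Nat.card_prod, Nat.card_eq_fintype_card, hF, sq]

/-- `2`-elements fixing `∞` are unipotent -/
theorem mem_Qsub_of_two_pow (hm : 1 ≤ m) (hF : Fintype.card F = 2 ^ (2 * m + 1))
    (h : SzHyp F (2 ^ (m + 1))) {g : ↥(Cfsg.Sz F m)} {k : ℕ} (hk : g ^ 2 ^ k = 1)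
    (hg : Fx g none) : ∃ a b : F, g = qG h a b := by
  by_cases hg1 : g = 1
  · exact ⟨0, 0, by rw [hg1, qG_zero]⟩
  rcases fix_inf_cases hm hF h g hg1 hg with hq | ⟨z, s, hs, hz⟩
  · exact hq
  · exfalso
    exact hg1 (eq_one_of_pow_of_pow hk (typeH_pow hF h hz) (coprime_two_pow_pred m k))

/-- involutions fixing `∞` -/
theorem inv_fix_none (hm : 1 ≤ m) (hF : Fintype.card F = 2 ^ (2 * m + 1))
    (h : SzHyp F (2 ^ (m + 1))) {g : ↥(Cfsg.Sz F m)} (hk : g ^ 2 = 1)
    (hg : Fx g none) : ∃ b : F, g = qG h 0 b := by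
  obtain ⟨a, b, rfl⟩ := mem_Qsub_of_two_pow hm hF h (k := 1) (by rwa [pow_one]) hg
  rw [qG_sq, qG_eq_one_iff] at hk
  have ha : a = 0 := by
    rcases mul_eq_zero.mp hk.2 with h3 | h3
    · exact pow_eq_zero_iff h.pos |>.mp h3
    · exact h3
  exact ⟨b, by rw [ha]⟩

theorem qG_zero_sq (h : SzHyp F (2 ^ (m + 1))) (b : F) : qG (m := m) h 0 b ^ 2 = 1 := by
  rw [qG_sq, mul_zero]
  exact qG_zero h

theorem qG_zero_inv (h : SzHyp F (2 ^ (m + 1))) (b : F) :
    (qG (m := m) h 0 b)⁻¹ = qG h 0 b := by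
  rw [qG_inv, mul_zero, add_zero]

theorem qG_zero_ne_one (h : SzHyp F (2 ^ (m + 1))) {b : F} (hb : b ≠ 0) :
    qG (m := m) h 0 b ≠ 1 := by
  rw [Ne, qG_eq_one_iff]
  exact fun hh => hb hh.2

/-- an involution of `Q` normalising a torus inverts it -/
theorem inverts_iff (hm : 1 ≤ m) (hF : Fintype.card F = 2 ^ (2 * m + 1))
    (h : SzHyp F (2 ^ (m + 1))) {β : F} (hβ : β ≠ 0) {u : ↥(Cfsg.Sz F m)} (hu : IsOdd u) :
    qG h 0 β ∈ NCen(u) ↔ qG h 0 β * u * (qG h 0 β)⁻¹ = u⁻¹ := by
  have hne := qG_zero_ne_one (m := m) h hβ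
  set x := qG (m := m) h 0 β with hx
  have hxinv : x⁻¹ = x := qG_zero_inv h β
  have hxx : x * x = 1 := by rw [← sq]; exact qG_zero_sq h β
  constructor
  · intro hxu
    have hc : x * u * x⁻¹ ∈ Cen(u) := (mem_normalizer_tor_iff hm hF h hu x).mp hxu
    set t := u * (x * u * x⁻¹) with ht
    have htC : t ∈ Cen(u) := mul_mem (mem_cen_self u) hc
    have hcomm : u * (x * u * x⁻¹) = (x * u * x⁻¹) * u := tor_comm hm hF h hu (mem_cen_self u) hc
    have htx : t * x = x * t := by
      rw [ht, hxinv]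
      have e1 : u * (x * u * x) * x = u * x * u * (x * x) := by group
      have e2 : x * (u * (x * u * x)) = x * ((x * u * x) * u) := by
        rw [hxinv] at hcomm
        rw [hcomm]
      rw [e1, e2, hxx, mul_one]
      have e3 : x * (x * u * x * u) = (x * x) * u * x * u := by group
      rw [e3, hxx, one_mul]
    have ht1 : t = 1 := by
      by_contra ht1
      apply tor_not_fix_none hm hF h hne hu hxu htC ht1
      have := Fx_of_commute_typeU (z := 1) h hne (by rw [one_mul, inv_one, mul_one]) htx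
      have e : sig (1 : ↥(Cfsg.Sz F m)) (none : Option (F × F)) = none := by
        rw [sig_one]; rfl
      rwa [e] at this
    rw [ht] at ht1
    exact (eq_inv_of_mul_eq_one_right ht1)
  · intro hinv
    rw [mem_normalizer_tor_iff hm hF h hu, hinv]
    exact inv_mem (mem_cen_self u)

end Cfsg.Agent.Helper37
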