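import Mathlib
import Cfsg.Agent.Lib.Helper37.SzSolv8

set_option autoImplicit false

namespace Cfsg.Agent.Helper37

open Cfsg.Agent.Helper6 Matrix Cfsg
open scoped Pointwise

variable {F : Type*} [Field F] {m : ℕ} [Fintype F]

set_option quotPrecheck false in
local notation "Cen(" g ")" => Subgroup.centralizer ({g} : Set ↥(Cfsg.Sz F m))
set_option quotPrecheck false in
local notation "NCen(" g ")" =>
  Subgroup.normalizer ((Subgroup.centralizer ({g} : Set ↥(Cfsg.Sz F m)) :
    Subgroup ↥(Cfsg.Sz F m)) : Set ↥(Cfsg.Sz F m))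

theorem Fx_one (p : Option (F × F)) : Fx (1 : ↥(Cfsg.Sz F m)) p := one_smul _ _

/-- non-identity `2`-elements have a unique fixed point -/
theorem two_elt_unique_fix (hm : 1 ≤ m) (hF : Fintype.card F = 2 ^ (2 * m + 1))
    (h : SzHyp F (2 ^ (m + 1))) {v : ↥(Cfsg.Sz F m)} (hv1 : v ≠ 1) {k : ℕ}
    (hk : v ^ 2 ^ k = 1) {p p' : Option (F × F)} (hp : Fx v p) (hp' : Fx v p') : p = p' := by
  obtain ⟨z, a, b, hne, hz⟩ := typeU_of_two_pow hm hF h hv1 hk
  rw [(unique_fix_of_typeU h hne hz p).mp hp, (unique_fix_of_typeU h hne hz p').mp hp']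

/-- the involutions fixing a given point -/
theorem card_inv_fix (hm : 1 ≤ m) (hF : Fintype.card F = 2 ^ (2 * m + 1))
    (h : SzHyp F (2 ^ (m + 1))) (p : Option (F × F)) :
    Nat.card {v : ↥(Cfsg.Sz F m) // (v ^ 2 = 1 ∧ v ≠ 1) ∧ Fx v p} = 2 ^ (2 * m + 1) - 1 := by
  obtain ⟨z, hz⟩ := exists_smul_none_eq h p
  have hzp : sig z none = p := (sig_eq_iff z none p).mpr hz
  have e : Fˣ ≃ {v : ↥(Cfsg.Sz F m) // (v ^ 2 = 1 ∧ v ≠ 1) ∧ Fx v p} :=
    Equiv.ofBijective (fun s => ⟨z * qG h 0 (s : F) * z⁻¹, by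
      refine ⟨⟨?_, ?_⟩, ?_⟩
      · rw [conj_pow, qG_zero_sq, mul_one, mul_inv_cancel]
      · exact typeU_ne_one h (qG_zero_ne_one h s.ne_zero) rfl
      · have := typeU_fixes h (g := z * qG h 0 (s : F) * z⁻¹) (x := z) rfl
        rwa [hzp] at this⟩) (by
      constructor
      · intro s s' hss
        have h1 : z * qG h 0 (s : F) * z⁻¹ = z * qG h 0 (s' : F) * z⁻¹ := congrArg Subtype.val hss
        have h2 : qG (m := m) h 0 (s : F) = qG h 0 (s' : F) := by
          have := congrArg (fun g => z⁻¹ * g * z) h1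
          simpa [mul_assoc] using this
        exact Units.ext (qG_injective h h2).2
      · rintro ⟨v, ⟨hv2, hv1⟩, hvp⟩
        have hv' : Fx (z⁻¹ * v * z) none := (Fx_conj hz).mp hvp
        have hv'2 : (z⁻¹ * v * z) ^ 2 = 1 := by
          have := conj_pow (a := z⁻¹) (b := v) (i := 2)
          rw [inv_inv] at this
          rw [this, hv2, mul_one, inv_mul_cancel]
        obtain ⟨b, hb⟩ := inv_fix_none hm hF h hv'2 hv'
        have hb0 : b ≠ 0 := by
          rintro rfl
          rw [qG_zero] at hb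
          apply hv1
          have : v = z * (z⁻¹ * v * z) * z⁻¹ := by group
          rw [this, hb]; group
        refine ⟨Units.mk0 b hb0, ?_⟩
        apply Subtype.ext
        show z * qG h 0 ((Units.mk0 b hb0 : Fˣ) : F) * z⁻¹ = v
        rw [Units.val_mk0, ← hb]; group)
  rw [← Nat.card_congr e, Nat.card_units, Nat.card_eq_fintype_card, hF]

/-- the number of involutions moving `∞` -/
theorem card_inv_not_fix (hm : 1 ≤ m) (hF : Fintype.card F = 2 ^ (2 * m + 1))
    (h : SzHyp F (2 ^ (m + 1))) :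
    Nat.card {v : ↥(Cfsg.Sz F m) // v ^ 2 = 1 ∧ ¬ Fx v none} =
      (2 ^ (2 * m + 1)) ^ 2 * (2 ^ (2 * m + 1) - 1) := by
  let J := {v : ↥(Cfsg.Sz F m) // v ^ 2 = 1 ∧ ¬ Fx v none}
  let P := {p : Option (F × F) // p ≠ none}
  let R : J → P → Prop := fun v p => Fx v.1 p.1
  have hJ1 : ∀ v : J, v.1 ≠ 1 := by
    rintro ⟨v, hv2, hvn⟩ rfl
    exact hvn (Fx_one none)
  have h1 : ∀ v : J, Nat.card {p : P // R v p} = 1 := by
    intro v
    obtain ⟨z, a, b, hne, hz⟩ :=
      typeU_of_two_pow hm hF h (hJ1 v) (k := 1) (by rw [pow_one]; exact v.2.1)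
    have hfix : Fx v.1 (sig z none) := typeU_fixes h hz
    have hnn : sig z none ≠ none := by
      intro hh
      rw [hh] at hfix
      exact v.2.2 hfix
    rw [Nat.card_eq_one_iff_unique]
    constructor
    · constructor
      rintro ⟨⟨p, hp⟩, hRp⟩ ⟨⟨p', hp'⟩, hRp'⟩
      apply Subtype.ext
      apply Subtype.ext
      show p = p'
      rw [(unique_fix_of_typeU h hne hz p).mp hRp, (unique_fix_of_typeU h hne hz p').mp hRp']
    · exact ⟨⟨⟨sig z none, hnn⟩, hfix⟩⟩
  have h2 : ∀ p : P, Nat.card {v : J // R v p} = 2 ^ (2 * m + 1) - 1 := by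
    rintro ⟨p, hp⟩
    rw [← card_inv_fix hm hF h p]
    refine Nat.card_congr ((Equiv.subtypeSubtypeEquivSubtypeInter
      (fun v : ↥(Cfsg.Sz F m) => v ^ 2 = 1 ∧ ¬ Fx v none) (fun v => Fx v p)).trans
      (Equiv.subtypeEquivRight ?_))
    intro v
    constructor
    · rintro ⟨⟨hv2, hvn⟩, hvp⟩
      refine ⟨⟨hv2, ?_⟩, hvp⟩
      rintro rfl
      exact hvn (Fx_one none)
    · rintro ⟨⟨hv2, hv1⟩, hvp⟩
      refine ⟨⟨hv2, ?_⟩, hvp⟩
      intro hvn
      exact hp (two_elt_unique_fix hm hF h hv1 (k := 1) (by rwa [pow_one]) hvp hvn)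
  have e1 := card_pairs_fst R 1 h1
  have e2 := card_pairs_snd R _ h2
  rw [e1, mul_one] at e2
  rw [← card_ne_none (F := F) hF]
  exact e2

/-- the number of odd-order elements whose torus is normalised by a given involution -/
theorem card_I_inv (hm : 1 ≤ m) (hF : Fintype.card F = 2 ^ (2 * m + 1))
    (h : SzHyp F (2 ^ (m + 1))) {β : F} (hβ : β ≠ 0) :
    Nat.card {u : ↥(Cfsg.Sz F m) // IsOdd u ∧ qG h 0 β ∈ NCen(u)} =
      (2 ^ (2 * m + 1)) ^ 2 * (2 ^ (2 * m + 1) - 1) := by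
  rw [← card_inv_not_fix hm hF h]
  have hne := qG_zero_ne_one (m := m) h hβ
  set x := qG (m := m) h 0 β with hx
  have hxinv : x⁻¹ = x := qG_zero_inv h β
  have hxx : x * x = 1 := by rw [← sq]; exact qG_zero_sq h β
  have hxfix : ∀ p, Fx x p ↔ p = none := Fx_qG_iff h hne
  refine Nat.card_congr (Equiv.ofBijective (fun u => ⟨x * u.1, ?_, ?_⟩) ⟨?_, ?_⟩)
  · obtain ⟨u, hu, hxu⟩ := u
    have hinv := (inverts_iff hm hF h hβ hu).mp hxu
    rw [hxinv] at hinv
    show (x * u) ^ 2 = 1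
    rw [sq]
    have : x * u * (x * u) = (x * u * x) * u := by group
    rw [this, hinv, inv_mul_cancel]
  · obtain ⟨u, hu, hxu⟩ := u
    intro hfix
    apply tor_not_fix_none hm hF h hne hu hxu (mem_cen_self u) hu.1
    have h1 : (x * u) • pt F m none = pt F m none := hfix
    have h2 : x • pt F m none = pt F m none := (hxfix none).mpr rfl
    rw [mul_smul] at h1
    have h3 : u • pt F m none = x⁻¹ • pt F m none := by
      rw [eq_inv_smul_iff]; exact h1
    show u • pt F m none = pt F m none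
    rw [h3, inv_smul_eq_iff, h2]
  · rintro ⟨u, hu⟩ ⟨u', hu'⟩ huu
    have : x * u = x * u' := congrArg Subtype.val huu
    exact Subtype.ext (mul_left_cancel this)
  · rintro ⟨v, hv2, hvn⟩
    have hodd : IsOdd (x * v) := by
      apply inv_prod_isOdd hm hF h (qG_zero_sq h β) hv2 hne
      intro p hp hp'
      rw [(hxfix p).mp hp] at hp'
      exact hvn hp'
    have hvinv : v⁻¹ = v := by rw [inv_eq_iff_mul_eq_one, ← sq, hv2]
    refine ⟨⟨x * v, hodd, ?_⟩, ?_⟩
    · rw [inverts_iff hm hF h hβ hodd, hxinv, _root_.mul_inv_rev, hxinv, hvinv]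
      have : x * (x * v) * x = (x * x) * v * x := by group
      rw [this, hxx, one_mul]
    · apply Subtype.ext
      show x * (x * v) = v
      rw [← mul_assoc, hxx, one_mul]

end Cfsg.Agent.Helper37
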