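import Mathlib
import Cfsg.Agent.Lib.Helper37.SzSolv9

set_option autoImplicit false

namespace Cfsg.Agent.Helper37

open Cfsg.Agent.Helper6 Matrix Cfsg
open scoped Pointwise

variable {F : Type*} [Field F] {m : ℕ} [Fintype F]

set_option quotPrecheck false in
local notation "Cen(" g ")" => Subgroup.centralizer ({g} : Set ↥(Cfsg.Sz F m))
set_option quotPrecheck false in
local notation "NCen(" g ")" =>
  Subgroup.normalizer ((Subgroup.centralizer ({g} : Set ↥(Cfsg.Sz F m)) :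
    Subgroup ↥(Cfsg.Sz F m)) : Set ↥(Cfsg.Sz F m))

theorem sig_one_apply (p : Option (F × F)) : sig (1 : ↥(Cfsg.Sz F m)) p = p := by
  rw [sig_one]; rfl

/-- a split torus normalised by a non-identity element of `Q` has its two fixed points
swapped by it -/
theorem IH_struct (hm : 1 ≤ m) (hF : Fintype.card F = 2 ^ (2 * m + 1))
    (h : SzHyp F (2 ^ (m + 1))) {a b : F} (hne : qG (m := m) h a b ≠ 1) {u : ↥(Cfsg.Sz F m)}
    (hu : IsOdd u) (hxu : qG h a b ∈ NCen(u)) (hnX : ¬ IsX u) :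
    ∃ (z : ↥(Cfsg.Sz F m)) (s : Fˣ), s ≠ 1 ∧ u = z * hG h s * z⁻¹ ∧
      sig (qG h a b) (sig z none) = sig z (some ((0 : F), 0)) ∧
      sig (qG h a b) (sig z (some ((0 : F), 0))) = sig z none ∧
      sig z none ≠ none ∧ sig z (some ((0 : F), 0)) ≠ none := by
  rcases isOdd_cases hm hF h hu with ⟨z, s, hs, hz⟩ | hX
  · refine ⟨z, s, hs, hz, ?_⟩
    rw [centralizer_typeH hm hF h hs hz, mem_normalizer_Tsub_iff hm hF h] at hxu
    have hx : ∀ p, sig (qG h a b) p = p → p = none := by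
      intro p hp
      exact (Fx_qG_iff h hne p).mp ((sig_eq_iff _ p p).mp hp)
    have hxn : sig (qG h a b) none = none := (sig_eq_iff _ _ _).mpr (qG_smul_none h a b)
    have hAB := sig_none_ne_sig_zero z
    rcases hxu with ⟨h1, h2⟩ | ⟨h1, h2⟩
    · exact absurd ((hx _ h1).trans (hx _ h2).symm) hAB
    · refine ⟨h1, h2, ?_, ?_⟩
      · intro h0
        rw [h0, hxn] at h1
        exact hAB (h0.trans h1)
      · intro h0
        rw [h0, hxn] at h2
        exact hAB (h2.symm.trans h0.symm)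
  · exact absurd hX hnX

/-- an element with two fixed points lies in a split torus -/
theorem typeH_of_two_fix (hm : 1 ≤ m) (hF : Fintype.card F = 2 ^ (2 * m + 1))
    (h : SzHyp F (2 ^ (m + 1))) {u : ↥(Cfsg.Sz F m)} (hu1 : u ≠ 1) {p p' : Option (F × F)}
    (hpp : p ≠ p') (hp : Fx u p) (hp' : Fx u p') :
    ∃ (z : ↥(Cfsg.Sz F m)) (s : Fˣ), s ≠ 1 ∧ u = z * hG h s * z⁻¹ ∧
      ((sig z none = p ∧ sig z (some ((0 : F), 0)) = p') ∨
        (sig z none = p' ∧ sig z (some ((0 : F), 0)) = p)) := by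
  rcases classify hm hF h u hu1 with ⟨z, a, b, hne, hz⟩ | ⟨z, s, hs, hz⟩ | hX
  · exfalso
    apply hpp
    rw [(unique_fix_of_typeU h hne hz p).mp hp, (unique_fix_of_typeU h hne hz p').mp hp']
  · refine ⟨z, s, hs, hz, ?_⟩
    rcases typeH_fix h hs hz hp with h1 | h1 <;> rcases typeH_fix h hs hz hp' with h2 | h2
    · exact absurd (h1.trans h2.symm) hpp
    · left; exact ⟨h1.symm, h2.symm⟩
    · right; exact ⟨h2.symm, h1.symm⟩
    · exact absurd (h1.trans h2.symm) hpp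
  · exact absurd hp (hX p)

/-- counting the split tori normalised by an involution -/
theorem two_mul_card_IH_inv (hm : 1 ≤ m) (hF : Fintype.card F = 2 ^ (2 * m + 1))
    (h : SzHyp F (2 ^ (m + 1))) {β : F} (hβ : β ≠ 0) :
    2 * Nat.card {u : ↥(Cfsg.Sz F m) // (IsOdd u ∧ qG h 0 β ∈ NCen(u)) ∧ ¬ IsX u} =
      (2 ^ (2 * m + 1)) ^ 2 * (2 ^ (2 * m + 1) - 2) := by
  have hne := qG_zero_ne_one (m := m) h hβ
  set x := qG (m := m) h 0 β with hx
  have hxx : x * x = 1 := by rw [← sq]; exact qG_zero_sq h β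
  have hxfix : ∀ p, Fx x p ↔ p = none := Fx_qG_iff h hne
  have hsigsig : ∀ p, sig x (sig x p) = p := by
    intro p
    rw [← sig_mul_apply, hxx, sig_one_apply]
  let IH := {u : ↥(Cfsg.Sz F m) // (IsOdd u ∧ x ∈ NCen(u)) ∧ ¬ IsX u}
  let P := {p : Option (F × F) // p ≠ none}
  let R : IH → P → Prop := fun u p => Fx u.1 p.1
  have h1 : ∀ u : IH, Nat.card {p : P // R u p} = 2 := by
    rintro ⟨u, ⟨hu, hxu⟩, hnX⟩
    obtain ⟨z, s, hs, hz, -, -, hA, hB⟩ := IH_struct hm hF h hne hu hxu hnX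
    obtain ⟨fA, fB⟩ := typeH_fixes h hz
    rw [Nat.card_eq_two_iff]
    refine ⟨⟨⟨_, hA⟩, fA⟩, ⟨⟨_, hB⟩, fB⟩, ?_, ?_⟩
    · intro heq
      have := congrArg (fun t => t.1.1) heq
      exact sig_none_ne_sig_zero z this
    · ext ⟨⟨p, hp⟩, hRp⟩
      simp only [Set.mem_insert_iff, Set.mem_singleton_iff, Set.mem_univ, iff_true]
      rcases typeH_fix h hs hz hRp with h0 | h0
      · left
        apply Subtype.ext; apply Subtype.ext; exact h0
      · right
        apply Subtype.ext; apply Subtype.ext; exact h0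
  have h2 : ∀ p : P, Nat.card {u : IH // R u p} = 2 ^ (2 * m + 1) - 2 := by
    rintro ⟨p, hp⟩
    set p' := sig x p with hp'
    have hpp : p ≠ p' := by
      intro heq
      exact hp ((hxfix p).mp ((sig_eq_iff x p p).mp heq.symm))
    have hcard := card_fix_two hm hF h hpp
    set S : Set ↥(Cfsg.Sz F m) := {u | Fx u p ∧ Fx u p'} with hS
    have hS1 : (1 : ↥(Cfsg.Sz F m)) ∈ S := ⟨Fx_one p, Fx_one p'⟩
    have hSc : S.ncard = 2 ^ (2 * m + 1) - 1 := by
      rw [← hcard, ← Nat.card_coe_set_eq]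
      rfl
    have hdiff : (S \ {1}).ncard = 2 ^ (2 * m + 1) - 2 := by
      rw [Set.ncard_diff_singleton_of_mem hS1, hSc]
      omega
    rw [← hdiff, ← Nat.card_coe_set_eq]
    refine Nat.card_congr ((Equiv.subtypeSubtypeEquivSubtypeInter
      (fun u : ↥(Cfsg.Sz F m) => (IsOdd u ∧ x ∈ NCen(u)) ∧ ¬ IsX u) (fun u => Fx u p)).trans
      (Equiv.subtypeEquivRight ?_))
    intro u
    show ((IsOdd u ∧ x ∈ NCen(u)) ∧ ¬ IsX u) ∧ Fx u p ↔ (Fx u p ∧ Fx u p') ∧ ¬ u ∈ ({1} : Set _)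
    rw [Set.mem_singleton_iff]
    constructor
    · rintro ⟨⟨⟨hu, hxu⟩, hnX⟩, hup⟩
      obtain ⟨z, s, hs, hz, hAB, hBA, -, -⟩ := IH_struct hm hF h hne hu hxu hnX
      obtain ⟨fA, fB⟩ := typeH_fixes h hz
      refine ⟨⟨hup, ?_⟩, hu.1⟩
      rcases typeH_fix h hs hz hup with h0 | h0
      · rw [hp', h0, hAB]; exact fB
      · rw [hp', h0, hBA]; exact fA
    · rintro ⟨⟨hup, hup'⟩, hu1⟩
      obtain ⟨z, s, hs, hz, hcases⟩ := typeH_of_two_fix hm hF h hu1 hpp hup hup'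
      have hodd := typeH_isOdd hm hF h hs hz
      refine ⟨⟨⟨hodd, ?_⟩, fun hX => hX p hup⟩, hup⟩
      rw [centralizer_typeH hm hF h hs hz, mem_normalizer_Tsub_iff hm hF h]
      right
      rcases hcases with ⟨e1, e2⟩ | ⟨e1, e2⟩
      · rw [e1, e2]
        exact ⟨rfl, hsigsig p⟩
      · rw [e1, e2]
        exact ⟨hsigsig p, rfl⟩
  have e1 := card_pairs_fst R 2 h1
  have e2 := card_pairs_snd R _ h2
  rw [e1] at e2
  rw [← card_ne_none (F := F) hF, mul_comm]
  exact e2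

end Cfsg.Agent.Helper37
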