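import Mathlib
import Cfsg.Agent.Lib.Helper37.SzSolv10

set_option autoImplicit false

namespace Cfsg.Agent.Helper37

open Cfsg.Agent.Helper6 Matrix Cfsg
open scoped Pointwise

variable {F : Type*} [Field F] {m : ℕ} [Fintype F]

set_option quotPrecheck false in
local notation "Cen(" g ")" => Subgroup.centralizer ({g} : Set ↥(Cfsg.Sz F m))
set_option quotPrecheck false in
local notation "NCen(" g ")" =>
  Subgroup.normalizer ((Subgroup.centralizer ({g} : Set ↥(Cfsg.Sz F m)) :
    Subgroup ↥(Cfsg.Sz F m)) : Set ↥(Cfsg.Sz F m))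

/-- the commutator map `c ↦ a^θ c + c^θ a` has image of index two, missing `a^θ a` -/
theorem phi_cover {e : ℕ} (h : SzHyp F e) {a : F} (ha : a ≠ 0) (γ : F) :
    ∃ c : F, a ^ e * c + c ^ e * a = γ ∨ a ^ e * c + c ^ e * a = γ + a ^ e * a := by
  classical
  have hae : a ^ e ≠ 0 := pow_ne_zero _ ha
  let φ : F →+ F :=
    { toFun := fun c => a ^ e * c + c ^ e * a
      map_zero' := by simp [h.pos]
      map_add' := by
        intro c d
        show a ^ e * (c + d) + (c + d) ^ e * a = _
        rw [h.add]; ring }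
  have hφ : ∀ c, φ c = a ^ e * c + c ^ e * a := fun c => rfl
  have hker : ∀ c, φ c = 0 ↔ c = 0 ∨ c = a := by
    intro c
    rw [hφ]
    constructor
    · intro h0
      have h1 : a ^ e * c = c ^ e * a := h.eq_of_add_eq_zero h0
      by_cases hc : c = 0
      · left; exact hc
      · right
        set w := c / a with hw
        have hwe : w ^ e = w := by
          rw [hw, div_pow]
          field_simp
          linear_combination -h1
        have hw2 : w ^ 2 = w := by
          rw [← h.sq, hwe, hwe]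
        have hw0 : w ≠ 0 := div_ne_zero hc ha
        have hw1 : w = 1 := by
          have : w * (w - 1) = 0 := by linear_combination hw2
          rcases mul_eq_zero.mp this with h3 | h3
          · exact absurd h3 hw0
          · linear_combination h3
        rw [hw, div_eq_one_iff_eq ha] at hw1
        exact hw1
    · rintro (rfl | rfl)
      · simp [h.pos]
      · exact h.add_self _
  have hcardker : Nat.card ↥φ.ker = 2 := by
    rw [Nat.card_eq_two_iff]
    refine ⟨⟨0, φ.ker.zero_mem⟩, ⟨a, (hker a).mpr (Or.inr rfl)⟩, ?_, ?_⟩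
    · intro heq
      exact ha (congrArg Subtype.val heq).symm
    · ext ⟨c, hc⟩
      simp only [Set.mem_insert_iff, Set.mem_singleton_iff, Set.mem_univ, iff_true]
      rcases (hker c).mp hc with h0 | h0
      · left; exact Subtype.ext h0
      · right; exact Subtype.ext h0
  have hidx : φ.range.index = 2 := by
    have e1 := AddSubgroup.card_mul_index φ.ker
    have e2 := AddSubgroup.card_mul_index φ.range
    rw [AddSubgroup.index_ker, hcardker] at e1
    have hpos : 0 < Nat.card ↥φ.range := Nat.card_pos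
    rw [← e1] at e2
    have : Nat.card ↥φ.range * φ.range.index = Nat.card ↥φ.range * 2 := by
      rw [e2, mul_comm]
    exact Nat.eq_of_mul_eq_mul_left hpos this
  have hβ : a ^ e * a ∉ φ.range := by
    rintro ⟨c, hc⟩
    rw [hφ] at hc
    apply no_root h (c / a)
    rw [div_pow]
    field_simp
    linear_combination hc + (a * a ^ e) * h.two
  obtain ⟨a₀, ha₀, hall⟩ := AddSubgroup.index_eq_two_iff_exists_notMem_and.mp hidx
  have h1 : a ^ e * a + a₀ ∈ φ.range := by
    rcases hall (a ^ e * a) with h3 | h3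
    · exact h3
    · exact absurd h3 hβ
  rcases hall γ with h3 | h3
  · obtain ⟨c, hc⟩ := φ.range.add_mem h3 h1
    refine ⟨c, Or.inr ?_⟩
    rw [← hφ, hc]
    have := h.add_self a₀
    linear_combination this
  · obtain ⟨c, hc⟩ := h3
    exact ⟨c, Or.inl hc⟩

/-- conjugating a unipotent element by another one -/
theorem qG_conj_qG (h : SzHyp F (2 ^ (m + 1))) (a b c d : F) :
    qG (m := m) h c d * qG h a b * (qG h c d)⁻¹ =
      qG h a (b + (a ^ 2 ^ (m + 1) * c + c ^ 2 ^ (m + 1) * a)) := by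
  rw [qG_inv, qG_mul, qG_mul]
  have e1 : c + a + c = a := by
    have := h.add_self c
    linear_combination this
  congr 1
  rw [h.add]
  have h1 := h.add_self d
  have h2 := h.add_self (c ^ 2 ^ (m + 1) * c)
  linear_combination h1 + h2

/-- membership in torus normalisers is conjugation-equivariant -/
theorem mem_NCen_conj (hm : 1 ≤ m) (hF : Fintype.card F = 2 ^ (2 * m + 1))
    (h : SzHyp F (2 ^ (m + 1))) {u : ↥(Cfsg.Sz F m)} (hu : IsOdd u) (g v : ↥(Cfsg.Sz F m))
    (hu' : IsOdd (g⁻¹ * u * g)) :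
    v ∈ NCen(g⁻¹ * u * g) ↔ g * v * g⁻¹ ∈ NCen(u) := by
  rw [mem_normalizer_tor_iff hm hF h hu', mem_normalizer_tor_iff hm hF h hu,
    mem_centralizer_singleton, mem_centralizer_singleton]
  constructor
  · intro hc
    have := congrArg (fun t => g * t * g⁻¹) hc
    beta_reduce at this
    have e1 : g * (v * (g⁻¹ * u * g) * v⁻¹ * (g⁻¹ * u * g)) * g⁻¹ =
        g * v * g⁻¹ * u * (g * v * g⁻¹)⁻¹ * u := by group
    have e2 : g * (g⁻¹ * u * g * (v * (g⁻¹ * u * g) * v⁻¹)) * g⁻¹ =
        u * (g * v * g⁻¹ * u * (g * v * g⁻¹)⁻¹) := by group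
    rw [e1, e2] at this
    exact this
  · intro hc
    have := congrArg (fun t => g⁻¹ * t * g) hc
    beta_reduce at this
    have e1 : g⁻¹ * (g * v * g⁻¹ * u * (g * v * g⁻¹)⁻¹ * u) * g =
        v * (g⁻¹ * u * g) * v⁻¹ * (g⁻¹ * u * g) := by group
    have e2 : g⁻¹ * (u * (g * v * g⁻¹ * u * (g * v * g⁻¹)⁻¹)) * g =
        g⁻¹ * u * g * (v * (g⁻¹ * u * g) * v⁻¹) := by group
    rw [e1, e2] at this
    exact this

theorem isOdd_conj {u : ↥(Cfsg.Sz F m)} (hu : IsOdd u) (g : ↥(Cfsg.Sz F m)) :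
    IsOdd (g * u * g⁻¹) := by
  refine ⟨?_, ?_⟩
  · intro h1
    apply hu.1
    have : u = g⁻¹ * (g * u * g⁻¹) * g := by group
    rw [this, h1]; group
  · have : orderOf (g * u * g⁻¹) = orderOf u := orderOf_injective (MulAut.conj g).toMonoidHom
      (MulAut.conj g).injective u
    rw [this]
    exact hu.2

/-- the number of tori normalised by an element is a class function -/
theorem card_I_conj (hm : 1 ≤ m) (hF : Fintype.card F = 2 ^ (2 * m + 1))
    (h : SzHyp F (2 ^ (m + 1))) (g v : ↥(Cfsg.Sz F m)) :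
    Nat.card {u : ↥(Cfsg.Sz F m) // IsOdd u ∧ g * v * g⁻¹ ∈ NCen(u)} =
      Nat.card {u : ↥(Cfsg.Sz F m) // IsOdd u ∧ v ∈ NCen(u)} := by
  apply Nat.card_congr
  refine Equiv.subtypeEquiv (MulAut.conj g⁻¹).toEquiv ?_
  intro u
  have hconj : (MulAut.conj g⁻¹).toEquiv u = g⁻¹ * u * g := by
    simp [MulAut.conj_apply]
  rw [hconj]
  constructor
  · rintro ⟨hu, hv⟩
    have hu' : IsOdd (g⁻¹ * u * g) := by
      have := isOdd_conj hu g⁻¹
      rwa [inv_inv] at this
    exact ⟨hu', (mem_NCen_conj hm hF h hu g v hu').mpr hv⟩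
  · rintro ⟨hu', hv⟩
    have hu : IsOdd u := by
      have := isOdd_conj hu' g
      have e : g * (g⁻¹ * u * g) * g⁻¹ = u := by group
      rwa [e] at this
    exact ⟨hu, (mem_NCen_conj hm hF h hu g v hu').mp hv⟩

theorem card_I_inv_eq (v : ↥(Cfsg.Sz F m)) :
    Nat.card {u : ↥(Cfsg.Sz F m) // IsOdd u ∧ v⁻¹ ∈ NCen(u)} =
      Nat.card {u : ↥(Cfsg.Sz F m) // IsOdd u ∧ v ∈ NCen(u)} := by
  apply Nat.card_congr
  refine Equiv.subtypeEquivRight ?_
  intro u
  rw [inv_mem_iff]

/-- the number of tori normalised by `qG a b` does not depend on `b` -/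
theorem card_I_const (hm : 1 ≤ m) (hF : Fintype.card F = 2 ^ (2 * m + 1))
    (h : SzHyp F (2 ^ (m + 1))) {a : F} (ha : a ≠ 0) (b b' : F) :
    Nat.card {u : ↥(Cfsg.Sz F m) // IsOdd u ∧ qG h a b' ∈ NCen(u)} =
      Nat.card {u : ↥(Cfsg.Sz F m) // IsOdd u ∧ qG h a b ∈ NCen(u)} := by
  obtain ⟨c, hc | hc⟩ := phi_cover h ha (b' + b)
  · have e : qG (m := m) h a b' = qG h c 0 * qG h a b * (qG h c 0)⁻¹ := by
      rw [qG_conj_qG, hc]
      congr 1
      have := h.add_self b
      linear_combination -this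
    rw [e]
    exact card_I_conj hm hF h _ _
  · have e : qG (m := m) h a b' = qG h c 0 * (qG h a b)⁻¹ * (qG h c 0)⁻¹ := by
      rw [qG_inv, qG_conj_qG, hc]
      congr 1
      have h1 := h.add_self b
      have h2 := h.add_self (a ^ 2 ^ (m + 1) * a)
      linear_combination -h1 - h2
    rw [e, card_I_conj hm hF h]
    exact card_I_inv_eq _

end Cfsg.Agent.Helper37
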