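import Mathlib
import Cfsg.Agent.Lib.Helper37.SzSolv11
import Cfsg.Agent.Lib.Helper37.SzGen

set_option autoImplicit false

namespace Cfsg.Agent.Helper37

open Cfsg.Agent.Helper6 Matrix Cfsg
open scoped Pointwise

variable {F : Type*} [Field F] {m : ℕ} [Fintype F]

set_option quotPrecheck false in
local notation "Cen(" g ")" => Subgroup.centralizer ({g} : Set ↥(Cfsg.Sz F m))
set_option quotPrecheck false in
local notation "NCen(" g ")" =>
  Subgroup.normalizer ((Subgroup.centralizer ({g} : Set ↥(Cfsg.Sz F m)) :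
    Subgroup ↥(Cfsg.Sz F m)) : Set ↥(Cfsg.Sz F m))

theorem beta_ne_zero {a : F} (ha : a ≠ 0) (e : ℕ) : a ^ e * a ≠ 0 :=
  mul_ne_zero (pow_ne_zero _ ha) ha

/-- an element of order four of `Q` normalises no split torus -/
theorem isX_of_four (hm : 1 ≤ m) (hF : Fintype.card F = 2 ^ (2 * m + 1))
    (h : SzHyp F (2 ^ (m + 1))) {a b : F} (ha : a ≠ 0) {u : ↥(Cfsg.Sz F m)}
    (hu : IsOdd u) (hxu : qG h a b ∈ NCen(u)) : IsX u := by
  by_contra hnX
  have hne : qG (m := m) h a b ≠ 1 := by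
    rw [Ne, qG_eq_one_iff]
    exact fun hh => ha hh.1
  obtain ⟨z, s, hs, hz, hAB, hBA, hA, hB⟩ := IH_struct hm hF h hne hu hxu hnX
  have h2 : sig (qG h a b ^ 2) (sig z none) = sig z none := by
    rw [sq, sig_mul_apply, hAB, hBA]
  rw [qG_sq] at h2
  have hne₀ := qG_zero_ne_one (m := m) h (beta_ne_zero ha (2 ^ (m + 1)))
  exact hA ((Fx_qG_iff h hne₀ _).mp ((sig_eq_iff _ _ _).mp h2))

/-- the only involution of `Q` normalising a torus normalised by `t₀` is `t₀` -/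
theorem inv_unique (hm : 1 ≤ m) (hF : Fintype.card F = 2 ^ (2 * m + 1))
    (h : SzHyp F (2 ^ (m + 1))) {β₀ β' : F} (hβ₀ : β₀ ≠ 0) (hβ' : β' ≠ 0)
    {u : ↥(Cfsg.Sz F m)} (hu : IsOdd u) (h0 : qG h 0 β₀ ∈ NCen(u))
    (h' : qG h 0 β' ∈ NCen(u)) : β' = β₀ := by
  have hne₀ := qG_zero_ne_one (m := m) h hβ₀
  have i0 := (inverts_iff hm hF h hβ₀ hu).mp h0
  have i' := (inverts_iff hm hF h hβ' hu).mp h'
  set t₀ := qG (m := m) h 0 β₀ with ht₀
  set i := qG (m := m) h 0 β' with hi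
  have hprod : i * t₀ = qG h 0 (β' + β₀) := by
    rw [hi, ht₀, qG_mul]
    congr 1
    · exact add_zero 0
    · rw [mul_zero, add_zero]
  have hcen : i * t₀ ∈ Cen(u) := by
    rw [mem_centralizer_singleton]
    have e1 : i * t₀ * u = i * (t₀ * u * t₀⁻¹) * i⁻¹ * (i * t₀) := by group
    rw [e1, i0]
    have e2 : i * u⁻¹ * i⁻¹ = (i * u * i⁻¹)⁻¹ := by group
    rw [e2, i', inv_inv]
  by_contra hne
  have hit : i * t₀ ≠ 1 := by
    rw [hprod, Ne, qG_eq_one_iff]
    intro hh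
    exact hne (h.eq_of_add_eq_zero hh.2)
  apply tor_not_fix_none hm hF h hne₀ hu h0 hcen hit
  rw [hprod]
  exact qG_smul_none h _ _

/-- in the normaliser of a torus normalised by `t₀ = qG 0 (a^θ a)`, exactly two elements
are square roots of `t₀` -/
theorem card_sqrt_in_normalizer (hm : 1 ≤ m) (hF : Fintype.card F = 2 ^ (2 * m + 1))
    (h : SzHyp F (2 ^ (m + 1))) {a : F} (ha : a ≠ 0) {u : ↥(Cfsg.Sz F m)} (hX : IsX u)
    (ht : qG h 0 (a ^ 2 ^ (m + 1) * a) ∈ NCen(u)) :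
    Nat.card {b' : F // qG h a b' ∈ NCen(u)} = 2 := by
  classical
  have hu : IsOdd u := hX.isOdd hm hF h
  set β₀ := a ^ 2 ^ (m + 1) * a with hβ₀
  have hβ₀0 : β₀ ≠ 0 := beta_ne_zero ha _
  have hne₀ := qG_zero_ne_one (m := m) h hβ₀0
  set t₀ := qG (m := m) h 0 β₀ with ht₀
  have hV := card_V hm hF h hne₀ hu ht
  rw [if_pos hX] at hV
  set V : Subgroup ↥(Cfsg.Sz F m) := NCen(u) ⊓ Bsub F m with hVdef
  have hVc : Nat.card ↥V = 4 := hV
  have hVQ : ∀ v ∈ V, ∃ a' b' : F, v = qG h a' b' := by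
    intro v hv
    have h4 : v ^ 2 ^ 2 = 1 := by
      have := pow_card_of_mem hv
      rw [hVc] at this
      exact this
    exact mem_Qsub_of_two_pow hm hF h h4 (mem_Bsub.mp hv.2)
  have hVa : ∀ a' b' : F, qG h a' b' ∈ V → (a' = 0 ∧ (b' = 0 ∨ b' = β₀)) ∨ a' = a := by
    intro a' b' hv
    by_cases ha' : a' = 0
    · left
      refine ⟨ha', ?_⟩
      by_cases hb' : b' = 0
      · left; exact hb'
      · right
        rw [ha'] at hv
        exact inv_unique hm hF h hβ₀0 hb' hu ht hv.1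
    · right
      have hsq : qG h a' b' ^ 2 ∈ NCen(u) := pow_mem hv.1 2
      rw [qG_sq] at hsq
      have := inv_unique hm hF h hβ₀0 (beta_ne_zero ha' _) hu ht hsq
      apply pow_succ_injective h
      show a' ^ (2 ^ (m + 1) + 1) = a ^ (2 ^ (m + 1) + 1)
      rw [pow_succ a' (2 ^ (m + 1)), pow_succ a (2 ^ (m + 1)), this]
  have h1V : (1 : ↥(Cfsg.Sz F m)) ∈ (V : Set ↥(Cfsg.Sz F m)) := V.one_mem
  have htV : t₀ ∈ (V : Set ↥(Cfsg.Sz F m)) \ {1} := by
    refine ⟨⟨ht, mem_Bsub.mpr (qG_smul_none h _ _)⟩, ?_⟩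
    rw [Set.mem_singleton_iff]
    exact hne₀
  have hcard : (((V : Set ↥(Cfsg.Sz F m)) \ {1}) \ {t₀}).ncard = 2 := by
    rw [Set.ncard_diff_singleton_of_mem htV, Set.ncard_diff_singleton_of_mem h1V,
      ← Nat.card_coe_set_eq]
    have : Nat.card ↥(V : Set ↥(Cfsg.Sz F m)) = 4 := hVc
    rw [this]
  have himg : (fun b' : F => qG (m := m) h a b') '' {b' : F | qG h a b' ∈ NCen(u)} =
      ((V : Set ↥(Cfsg.Sz F m)) \ {1}) \ {t₀} := by
    ext v
    constructor
    · rintro ⟨b', hb', rfl⟩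
      refine ⟨⟨⟨hb', mem_Bsub.mpr (qG_smul_none h _ _)⟩, ?_⟩, ?_⟩
      · rw [Set.mem_singleton_iff, qG_eq_one_iff]
        exact fun hh => ha hh.1
      · rw [Set.mem_singleton_iff, ht₀]
        intro hh
        exact ha (qG_injective h hh).1
    · rintro ⟨⟨hvV, hv1⟩, hvt⟩
      rw [Set.mem_singleton_iff] at hv1 hvt
      obtain ⟨a', b', rfl⟩ := hVQ v hvV
      rcases hVa a' b' hvV with ⟨ha', hb' | hb'⟩ | ha'
      · exfalso
        apply hv1
        rw [ha', hb']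
        exact qG_zero h
      · exfalso
        apply hvt
        rw [ha', hb']
      · refine ⟨b', ?_, by rw [ha']⟩
        show qG h a b' ∈ NCen(u)
        rw [← ha']
        exact hvV.1
  have hinj : Function.Injective (fun b' : F => qG (m := m) h a b') := by
    intro b₁ b₂ hb
    exact (qG_injective h hb).2
  rw [← hcard, ← himg, Set.ncard_image_of_injective _ hinj, ← Nat.card_coe_set_eq]
  rfl

end Cfsg.Agent.Helper37
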