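import Mathlib
import Cfsg.Agent.Lib.Helper37.SzSolv12

set_option autoImplicit false

namespace Cfsg.Agent.Helper37

open Cfsg.Agent.Helper6 Matrix Cfsg
open scoped Pointwise

variable {F : Type*} [Field F] {m : ℕ} [Fintype F]

set_option quotPrecheck false in
local notation "Cen(" g ")" => Subgroup.centralizer ({g} : Set ↥(Cfsg.Sz F m))
set_option quotPrecheck false in
local notation "NCen(" g ")" =>
  Subgroup.normalizer ((Subgroup.centralizer ({g} : Set ↥(Cfsg.Sz F m)) :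
    Subgroup ↥(Cfsg.Sz F m)) : Set ↥(Cfsg.Sz F m))

/-- splitting a subtype count along a predicate -/
theorem card_split {α : Type*} [Finite α] (P Q : α → Prop) :
    Nat.card {x : α // P x ∧ Q x} + Nat.card {x : α // P x ∧ ¬ Q x} = Nat.card {x : α // P x} := by
  have h1 : Nat.card {x : α // P x ∧ Q x} = ({x | P x} ∩ {x | Q x}).ncard := by
    rw [← Nat.card_coe_set_eq]; rfl
  have h2 : Nat.card {x : α // P x ∧ ¬ Q x} = ({x | P x} \ {x | Q x}).ncard := by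
    rw [← Nat.card_coe_set_eq]; rfl
  have h3 : Nat.card {x : α // P x} = ({x | P x}).ncard := by
    rw [← Nat.card_coe_set_eq]; rfl
  rw [h1, h2, h3]
  exact Set.ncard_inter_add_ncard_diff_eq_ncard _ _ (Set.toFinite _)

/-- the number of tori normalised by an element of order four of `Q` -/
theorem card_I_four (hm : 1 ≤ m) (hF : Fintype.card F = 2 ^ (2 * m + 1))
    (h : SzHyp F (2 ^ (m + 1))) {a : F} (ha : a ≠ 0) (b : F) :
    Nat.card {u : ↥(Cfsg.Sz F m) // IsOdd u ∧ qG h a b ∈ NCen(u)} = (2 ^ (2 * m + 1)) ^ 2 := by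
  set β₀ := a ^ 2 ^ (m + 1) * a with hβ₀
  have hβ₀0 : β₀ ≠ 0 := beta_ne_zero ha _
  set t₀ := qG (m := m) h 0 β₀ with ht₀
  set n := Nat.card {u : ↥(Cfsg.Sz F m) // IsOdd u ∧ qG h a b ∈ NCen(u)} with hn
  let IX := {u : ↥(Cfsg.Sz F m) // (IsOdd u ∧ t₀ ∈ NCen(u)) ∧ IsX u}
  let R : F → IX → Prop := fun b' u => qG h a b' ∈ NCen(u.1)
  have h1 : ∀ b' : F, Nat.card {u : IX // R b' u} = n := by
    intro b'
    rw [hn, ← card_I_const hm hF h ha b b']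
    refine Nat.card_congr ((Equiv.subtypeSubtypeEquivSubtypeInter
      (fun u : ↥(Cfsg.Sz F m) => (IsOdd u ∧ t₀ ∈ NCen(u)) ∧ IsX u)
      (fun u => qG h a b' ∈ NCen(u))).trans (Equiv.subtypeEquivRight ?_))
    intro u
    constructor
    · rintro ⟨⟨⟨hu, -⟩, -⟩, hv⟩
      exact ⟨hu, hv⟩
    · rintro ⟨hu, hv⟩
      refine ⟨⟨⟨hu, ?_⟩, isX_of_four hm hF h ha hu hv⟩, hv⟩
      have := pow_mem hv 2
      rwa [qG_sq] at this
  have h2 : ∀ u : IX, Nat.card {b' : F // R b' u} = 2 := by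
    rintro ⟨u, ⟨hu, ht⟩, hX⟩
    exact card_sqrt_in_normalizer hm hF h ha hX ht
  have e1 := card_pairs_fst R n h1
  have e2 := card_pairs_snd R 2 h2
  rw [e1] at e2
  have hI := card_I_inv hm hF h hβ₀0
  have hH := two_mul_card_IH_inv hm hF h hβ₀0
  have hs := card_split (fun u : ↥(Cfsg.Sz F m) => IsOdd u ∧ t₀ ∈ NCen(u)) IsX
  have hIX : Nat.card IX = Nat.card {u : ↥(Cfsg.Sz F m) // (IsOdd u ∧ t₀ ∈ NCen(u)) ∧ IsX u} :=
    rfl
  rw [Nat.card_eq_fintype_card (α := F), hF, hIX] at e2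
  rw [← ht₀] at hI hH
  have hq8 := two_le_q m hm
  obtain ⟨k, hk⟩ : ∃ k, 2 ^ (2 * m + 1) = k + 2 := ⟨2 ^ (2 * m + 1) - 2, by omega⟩
  rw [hk] at e2 hI hH ⊢
  have e3 : k + 2 - 1 = k + 1 := by omega
  have e4 : k + 2 - 2 = k := by omega
  rw [e3] at hI
  rw [e4] at hH
  -- `2 |IX| = (k+2)^3`
  have h5 : 2 * Nat.card {u : ↥(Cfsg.Sz F m) // (IsOdd u ∧ t₀ ∈ NCen(u)) ∧ IsX u} =
      (k + 2) ^ 2 * (k + 2) := by
    have : 2 * Nat.card {u : ↥(Cfsg.Sz F m) // (IsOdd u ∧ t₀ ∈ NCen(u)) ∧ IsX u} +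
        2 * Nat.card {u : ↥(Cfsg.Sz F m) // (IsOdd u ∧ t₀ ∈ NCen(u)) ∧ ¬ IsX u} =
        2 * ((k + 2) ^ 2 * (k + 1)) := by
      rw [← mul_add, hs, hI]
    rw [hH] at this
    have e5 : 2 * ((k + 2) ^ 2 * (k + 1)) = (k + 2) ^ 2 * (k + 2) + (k + 2) ^ 2 * k := by ring
    omega
  have h6 : (k + 2) * n = (k + 2) * (k + 2) ^ 2 := by
    rw [e2, mul_comm _ 2, h5]; ring
  exact Nat.eq_of_mul_eq_mul_left (by omega) h6

/-- the solubilizer of `x ∈ Q` splits into the stabiliser of `∞` and the rest -/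
theorem card_sol_split (hm : 1 ≤ m) (hF : Fintype.card F = 2 ^ (2 * m + 1))
    (h : SzHyp F (2 ^ (m + 1))) (a b : F) :
    Nat.card {y : ↥(Cfsg.Sz F m) //
        Group.IsSolvable ↥(Subgroup.closure ({qG h a b, y} : Set ↥(Cfsg.Sz F m)))} =
      (2 ^ (2 * m + 1)) ^ 2 * (2 ^ (2 * m + 1) - 1) +
        Nat.card {y : ↥(Cfsg.Sz F m) //
          Group.IsSolvable ↥(Subgroup.closure ({qG h a b, y} : Set ↥(Cfsg.Sz F m))) ∧
            ¬ Fx y none} := by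
  have hs := card_split (fun y : ↥(Cfsg.Sz F m) =>
    Group.IsSolvable ↥(Subgroup.closure ({qG h a b, y} : Set ↥(Cfsg.Sz F m))))
    (fun y => Fx y none)
  rw [← hs, ← card_fix_none hm hF h]
  congr 1
  apply Nat.card_congr
  refine Equiv.subtypeEquivRight ?_
  intro y
  constructor
  · exact fun hy => hy.2
  · intro hy
    refine ⟨?_, hy⟩
    rw [solvable_iff hm hF h]
    left
    exact ⟨none, qG_smul_none h a b, hy⟩

/-- the solubilizer of an involution -/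
theorem card_sol_inv (hm : 1 ≤ m) (hF : Fintype.card F = 2 ^ (2 * m + 1))
    (h : SzHyp F (2 ^ (m + 1))) {β : F} (hβ : β ≠ 0) :
    Nat.card {y : ↥(Cfsg.Sz F m) //
        Group.IsSolvable ↥(Subgroup.closure ({qG h 0 β, y} : Set ↥(Cfsg.Sz F m)))} =
      (2 ^ (2 * m + 1)) ^ 2 * (4 * 2 ^ (2 * m + 1) - 3) := by
  have hne := qG_zero_ne_one (m := m) h hβ
  rw [card_sol_split hm hF h]
  have hD := card_D_add hm hF h hne
  rw [card_I_inv hm hF h hβ, two_mul_card_IH_inv hm hF h hβ] at hD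
  have hq8 := two_le_q m hm
  obtain ⟨k, hk⟩ : ∃ k, 2 ^ (2 * m + 1) = k + 2 := ⟨2 ^ (2 * m + 1) - 2, by omega⟩
  rw [hk] at hD ⊢
  have e3 : k + 2 - 1 = k + 1 := by omega
  have e4 : k + 2 - 2 = k := by omega
  have e5 : 4 * (k + 2) - 3 = 4 * k + 5 := by omega
  rw [e3, e4] at hD
  rw [e3, e5]
  have e6 : 4 * ((k + 2) ^ 2 * (k + 1)) = (k + 2) ^ 2 * (3 * k + 4) + (k + 2) ^ 2 * k := by ring
  have e7 : (k + 2) ^ 2 * (4 * k + 5) = (k + 2) ^ 2 * (k + 1) + (k + 2) ^ 2 * (3 * k + 4) := by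
    ring
  omega

/-- the solubilizer of an element of order four -/
theorem card_sol_four (hm : 1 ≤ m) (hF : Fintype.card F = 2 ^ (2 * m + 1))
    (h : SzHyp F (2 ^ (m + 1))) {a : F} (ha : a ≠ 0) (b : F) :
    Nat.card {y : ↥(Cfsg.Sz F m) //
        Group.IsSolvable ↥(Subgroup.closure ({qG h a b, y} : Set ↥(Cfsg.Sz F m)))} =
      (2 ^ (2 * m + 1)) ^ 2 * (2 ^ (2 * m + 1) + 3) := by
  have hne : qG (m := m) h a b ≠ 1 := by
    rw [Ne, qG_eq_one_iff]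
    exact fun hh => ha hh.1
  rw [card_sol_split hm hF h]
  have hD := card_D_add hm hF h hne
  have hempty : Nat.card {u : ↥(Cfsg.Sz F m) //
      (IsOdd u ∧ qG h a b ∈ NCen(u)) ∧ ¬ IsX u} = 0 := by
    haveI : IsEmpty {u : ↥(Cfsg.Sz F m) // (IsOdd u ∧ qG h a b ∈ NCen(u)) ∧ ¬ IsX u} := by
      constructor
      rintro ⟨u, ⟨hu, hxu⟩, hnX⟩
      exact hnX (isX_of_four hm hF h ha hu hxu)
    exact Nat.card_of_isEmpty
  rw [card_I_four hm hF h ha b, hempty] at hD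
  have hq8 := two_le_q m hm
  obtain ⟨k, hk⟩ : ∃ k, 2 ^ (2 * m + 1) = k + 2 := ⟨2 ^ (2 * m + 1) - 2, by omega⟩
  rw [hk] at hD ⊢
  have e3 : k + 2 - 1 = k + 1 := by omega
  rw [e3]
  have e7 : (k + 2) ^ 2 * (k + 2 + 3) = (k + 2) ^ 2 * (k + 1) + 4 * (k + 2) ^ 2 := by ring
  omega

end Cfsg.Agent.Helper37
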