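import Mathlib
import Cfsg.Agent.Lib.Helper37.SzSolv13
import Cfsg.Agent.Lib.Helper37.SzSolvT

set_option autoImplicit false

namespace Cfsg.Agent.Helper37

open Cfsg.Agent.Helper6 Matrix Cfsg
open scoped Pointwise

variable {F : Type*} [Field F] {m : ℕ} [Fintype F]

set_option quotPrecheck false in
local notation "Cen(" g ")" => Subgroup.centralizer ({g} : Set ↥(Cfsg.Sz F m))
set_option quotPrecheck false in
local notation "Sol(" g ")" =>
  Nat.card {y : ↥(Cfsg.Sz F m) //
    Group.IsSolvable ↥(Subgroup.closure ({g, y} : Set ↥(Cfsg.Sz F m)))}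

theorem eq_one_of_orderOf_dvd_coprime {G : Type*} [Group G] {x : G} {a b : ℕ}
    (ha : orderOf x ∣ a) (hb : orderOf x ∣ b) (hab : Nat.Coprime a b) : x = 1 := by
  rw [← orderOf_eq_one_iff]
  exact Nat.eq_one_of_dvd_coprimes hab ha hb

/-- the sizes of the solubilizers in the Suzuki group (ovoid model) -/
theorem sol_main (hm : 1 ≤ m) (hF : Fintype.card F = 2 ^ (2 * m + 1))
    (h : SzHyp F (2 ^ (m + 1))) (x : ↥(Cfsg.Sz F m)) :
    (orderOf x = 2 → Sol(x) = (2 ^ (2 * m + 1)) ^ 2 * (4 * 2 ^ (2 * m + 1) - 3)) ∧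
    (orderOf x = 4 → Sol(x) = (2 ^ (2 * m + 1)) ^ 2 * (2 ^ (2 * m + 1) + 3)) ∧
    (x ≠ 1 → orderOf x ∣ 2 ^ (2 * m + 1) - 1 →
      Sol(x) = 2 * (2 ^ (2 * m + 1)) ^ 2 * (2 ^ (2 * m + 1) - 1)) ∧
    (x ≠ 1 → orderOf x ∣ 2 ^ (2 * m + 1) + 2 ^ (m + 1) + 1 →
      Sol(x) = 4 * (2 ^ (2 * m + 1) + 2 ^ (m + 1) + 1)) ∧
    (x ≠ 1 → orderOf x ∣ 2 ^ (2 * m + 1) - 2 ^ (m + 1) + 1 →
      Sol(x) = 4 * (2 ^ (2 * m + 1) - 2 ^ (m + 1) + 1)) := by
  by_cases hx1 : x = 1
  · subst hx1
    refine ⟨?_, ?_, ?_, ?_, ?_⟩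
    · intro h2; rw [orderOf_one] at h2; omega
    · intro h2; rw [orderOf_one] at h2; omega
    · intro h2; exact absurd rfl h2
    · intro h2; exact absurd rfl h2
    · intro h2; exact absurd rfl h2
  have hoddP := odd_of_mem m hm (n := 2 ^ (2 * m + 1) + 2 ^ (m + 1) + 1) (by simp)
  have hoddM := odd_of_mem m hm (n := 2 ^ (2 * m + 1) - 2 ^ (m + 1) + 1) (by simp)
  have hcopP : Nat.Coprime (2 ^ 2) (2 ^ (2 * m + 1) + 2 ^ (m + 1) + 1) := by
    apply Nat.Coprime.pow_left
    exact (Nat.Prime.coprime_iff_not_dvd Nat.prime_two).mpr hoddP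
  have hcopM : Nat.Coprime (2 ^ 2) (2 ^ (2 * m + 1) - 2 ^ (m + 1) + 1) := by
    apply Nat.Coprime.pow_left
    exact (Nat.Prime.coprime_iff_not_dvd Nat.prime_two).mpr hoddM
  obtain ⟨hdP, hdM⟩ := n_dvd hm hF h
  rcases classify hm hF h x hx1 with ⟨z, a, b, hne, hz⟩ | ⟨z, s, hs, hz⟩ | hX
  · -- unipotent
    have hconj : (MulAut.conj z⁻¹) x = qG h a b := by
      rw [MulAut.conj_apply, hz]; group
    have hsol : Sol(x) = Sol(qG h a b) := by
      rw [card_solubilizer_equiv (MulAut.conj z⁻¹) x, hconj]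
    have hord : orderOf x = orderOf (qG h a b) := by
      rw [← hconj]
      exact (orderOf_injective (MulAut.conj z⁻¹).toMonoidHom (MulAut.conj z⁻¹).injective x).symm
    have hx4 : orderOf x ∣ 2 ^ 2 := orderOf_dvd_of_pow_eq_one (typeU_pow_four h hz)
    refine ⟨?_, ?_, ?_, ?_, ?_⟩
    · intro h2
      rw [hord] at h2
      have ha : a = 0 := (orderOf_qG_eq_two_iff h hne).mp h2
      subst ha
      have hb : b ≠ 0 := by
        rintro rfl
        exact hne (qG_zero h)
      rw [hsol]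
      exact card_sol_inv hm hF h hb
    · intro h4
      rw [hord] at h4
      have ha : a ≠ 0 := by
        intro ha
        rw [(orderOf_qG_eq_two_iff h hne).mpr ha] at h4
        omega
      rw [hsol]
      exact card_sol_four hm hF h ha b
    · intro _ hd
      exact absurd (eq_one_of_orderOf_dvd_coprime hx4 hd (coprime_two_pow_pred m 2)) hx1
    · intro _ hd
      exact absurd (eq_one_of_orderOf_dvd_coprime hx4 hd hcopP) hx1
    · intro _ hd
      exact absurd (eq_one_of_orderOf_dvd_coprime hx4 hd hcopM) hx1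
  · -- split torus
    have hodd := typeH_isOdd hm hF h hs hz
    have hxq : orderOf x ∣ 2 ^ (2 * m + 1) - 1 := orderOf_dvd_of_pow_eq_one (typeH_pow hF h hz)
    refine ⟨?_, ?_, ?_, ?_, ?_⟩
    · intro h2
      exact absurd (by rw [h2]) hodd.2
    · intro h4
      exact absurd (by rw [h4]; norm_num) hodd.2
    · intro _ _
      exact card_sol_H hm hF h hs hz
    · intro _ hd
      exact absurd (eq_one_of_orderOf_dvd_coprime hxq (hd.trans hdP) (coprime_pred_D m)) hx1
    · intro _ hd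
      exact absurd (eq_one_of_orderOf_dvd_coprime hxq (hd.trans hdM) (coprime_pred_D m)) hx1
  · -- anisotropic torus
    have hX' : IsX x := hX
    have hodd := hX'.odd_order hm hF h
    have hxC : orderOf x ∣ Nat.card ↥Cen(x) :=
      Subgroup.orderOf_dvd_natCard _ (mem_cen_self x)
    have hCD := hX'.card_centralizer_dvd hm hF h
    have hsol := card_sol_X hm hF h hX'
    refine ⟨?_, ?_, ?_, ?_, ?_⟩
    · intro h2
      exact absurd (by rw [h2]) hodd
    · intro h4
      exact absurd (by rw [h4]; norm_num) hodd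
    · intro _ hd
      exact absurd (eq_one_of_orderOf_dvd_coprime hd (hxC.trans hCD) (coprime_pred_D m)) hx1
    · intro _ hd
      rcases card_centralizer_X hm hF h hX' with hc | hc
      · rw [hsol, hc]
      · rw [hc] at hxC
        exact absurd (eq_one_of_orderOf_dvd_coprime hd hxC (n_coprime hm hF h)) hx1
    · intro _ hd
      rcases card_centralizer_X hm hF h hX' with hc | hc
      · rw [hc] at hxC
        exact absurd (eq_one_of_orderOf_dvd_coprime hxC hd (n_coprime hm hF h)) hx1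
      · rw [hsol, hc]

end Cfsg.Agent.Helper37
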