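import Mathlib
import Cfsg.Agent.Lib.Helper40.SL2
import Cfsg.Agent.Lib.Helper41.SL2Class
import Cfsg.Agent.Lib.Helper41.SL2Commutant
import Cfsg.Agent.Lib.Helper37.SzSolv14

set_option autoImplicit false

namespace Cfsg.Agent.Helper37.L2

open Matrix Cfsg.Agent.Helper40 Cfsg.Agent.Helper41 Cfsg.Agent.Helper37

variable {F : Type*} [Field F]

set_option quotPrecheck false in
local notation "S2" => Matrix.SpecialLinearGroup (Fin 2) F
set_option quotPrecheck false in
local notation "M2" => Matrix (Fin 2) (Fin 2) F
set_option quotPrecheck false in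
local notation "C(" g ")" => Subgroup.centralizer ({g} : Set (Matrix.SpecialLinearGroup (Fin 2) F))
set_option quotPrecheck false in
local notation "NC(" g ")" =>
  Subgroup.normalizer ((Subgroup.centralizer ({g} : Set (Matrix.SpecialLinearGroup (Fin 2) F)) :
    Subgroup (Matrix.SpecialLinearGroup (Fin 2) F)) : Set (Matrix.SpecialLinearGroup (Fin 2) F))

/-- the trace of an element of `SL₂` -/
def tr (g : S2) : F := (g : M2) 0 0 + (g : M2) 1 1

theorem trace_eq (g : S2) : (g : M2).trace = tr g := Matrix.trace_fin_two _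

theorem tr_conj (k g : S2) : tr (k * g * k⁻¹) = tr g := by
  rw [← trace_eq, ← trace_eq]
  exact sl2_trace_conj k g

theorem neg_eq (h2 : (2 : F) = 0) (a : F) : -a = a := by
  have : a + a = 0 := by
    have : a + a = 2 * a := by ring
    rw [this, h2, zero_mul]
  exact neg_eq_of_add_eq_zero_left this

theorem add_self (h2 : (2 : F) = 0) (a : F) : a + a = 0 := by
  have : a + a = 2 * a := by ring
  rw [this, h2, zero_mul]

theorem tr_inv (h2 : (2 : F) = 0) (g : S2) : tr g⁻¹ = tr g := by
  unfold tr
  rw [inv_00, inv_11, add_comm]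

theorem ns_of_ne_one (h2 : (2 : F) = 0) {g : S2} (hg : g ≠ 1) :
    ¬ ((g : M2) 0 1 = 0 ∧ (g : M2) 1 0 = 0 ∧ (g : M2) 0 0 = (g : M2) 1 1) :=
  fun h => hg (sl2_eq_one_of_scalar_char_two h2 g h)

/-- centralisers of non-identity elements are abelian -/
theorem comm_of_comm (h2 : (2 : F) = 0) {g y z : S2} (hg : g ≠ 1) (hy : y * g = g * y)
    (hz : z * g = g * z) : y * z = z * y := by
  have hy' : (g : M2) * (y : M2) = (y : M2) * (g : M2) := by
    rw [← Matrix.SpecialLinearGroup.coe_mul, ← Matrix.SpecialLinearGroup.coe_mul, hy]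
  have hz' : (g : M2) * (z : M2) = (z : M2) * (g : M2) := by
    rw [← Matrix.SpecialLinearGroup.coe_mul, ← Matrix.SpecialLinearGroup.coe_mul, hz]
  have := commute_of_commute_nonscalar (g : M2) (y : M2) (z : M2) (ns_of_ne_one h2 hg) hy' hz'
  apply Subtype.ext
  rw [Matrix.SpecialLinearGroup.coe_mul, Matrix.SpecialLinearGroup.coe_mul, this]

/-- centralisers of non-identity elements form a partition -/
theorem cen_eq (h2 : (2 : F) = 0) {g t : S2} (hg : g ≠ 1) (ht : t ≠ 1) (htg : t * g = g * t) :
    C(t) = C(g) := by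
  ext y
  rw [mem_centralizer_singleton, mem_centralizer_singleton]
  constructor
  · intro hy
    exact comm_of_comm h2 ht hy htg.symm
  · intro hy
    exact comm_of_comm h2 hg hy htg

theorem mem_cen_self (g : S2) : g ∈ C(g) := mem_centralizer_singleton.mpr rfl

/-- membership in the normaliser of the centraliser of a non-identity element -/
theorem mem_NC_iff (h2 : (2 : F) = 0) {u : S2} (hu : u ≠ 1) (y : S2) :
    y ∈ NC(u) ↔ (y * u * y⁻¹) * u = u * (y * u * y⁻¹) := by
  constructor
  · intro hy
    have := (Subgroup.mem_normalizer_iff.mp hy u).mp (mem_cen_self u)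
    exact mem_centralizer_singleton.mp this
  · intro hc
    have hw1 : y * u * y⁻¹ ≠ 1 := by
      intro h1
      apply hu
      have : u = y⁻¹ * (y * u * y⁻¹) * y := by group
      rw [this, h1]; group
    have hC := cen_eq h2 hu hw1 hc
    rw [Subgroup.mem_normalizer_iff]
    intro c
    have e : y⁻¹ * (y * c * y⁻¹) * y = c := by group
    constructor
    · intro hcu
      rw [← hC, centralizer_conj, e]
      exact hcu
    · intro hcu
      rw [← hC, centralizer_conj, e] at hcu
      exact hcu

theorem le_NC (u : S2) : C(u) ≤ NC(u) := Subgroup.le_normalizer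

/-- the normaliser of a centraliser only depends on the centraliser -/
theorem NC_eq (h2 : (2 : F) = 0) {g t : S2} (hg : g ≠ 1) (ht : t ≠ 1) (htg : t * g = g * t) :
    NC(t) = NC(g) := by
  rw [cen_eq h2 hg ht htg]

theorem mat_ext {A B : M2} (h00 : A 0 0 = B 0 0) (h01 : A 0 1 = B 0 1) (h10 : A 1 0 = B 1 0)
    (h11 : A 1 1 = B 1 1) : A = B := by
  ext i j
  fin_cases i <;> fin_cases j <;> assumption

/-- Cayley–Hamilton in characteristic two -/
theorem sq_eq (h2 : (2 : F) = 0) (g : S2) :
    ((g * g : S2) : M2) = tr g • (g : M2) + 1 := by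
  have hd := det2 g
  have hn := neg_eq h2 ((g : M2) 0 1 * (g : M2) 1 0)
  apply mat_ext
  · rw [mul_00]
    simp only [Matrix.add_apply, Matrix.smul_apply, Matrix.one_apply_eq, smul_eq_mul, tr]
    linear_combination -hd - h2
  · rw [mul_01]
    simp only [Matrix.add_apply, Matrix.smul_apply, smul_eq_mul, tr]
    rw [Matrix.one_apply_ne (by decide)]
    ring
  · rw [mul_10]
    simp only [Matrix.add_apply, Matrix.smul_apply, smul_eq_mul, tr]
    rw [Matrix.one_apply_ne (by decide)]
    ring
  · rw [mul_11]
    simp only [Matrix.add_apply, Matrix.smul_apply, Matrix.one_apply_eq, smul_eq_mul, tr]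
    linear_combination -hd - h2

/-- involutions are the non-identity elements of trace zero -/
theorem sq_eq_one_iff (h2 : (2 : F) = 0) (g : S2) : g * g = 1 ↔ tr g = 0 ∨ g = 1 := by
  constructor
  · intro hg
    by_cases ht : tr g = 0
    · left; exact ht
    · right
      have h1 := sq_eq h2 g
      rw [hg, Matrix.SpecialLinearGroup.coe_one] at h1
      have h3 : tr g • (g : M2) = 0 := by
        have : (1 : M2) = tr g • (g : M2) + 1 := h1
        have h4 : tr g • (g : M2) + 1 = 0 + 1 := by rw [zero_add]; exact this.symm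
        exact add_right_cancel h4
      have h5 : (g : M2) = 0 := by
        rcases smul_eq_zero.mp h3 with h | h
        · exact absurd h ht
        · exact h
      exfalso
      have := g.2
      rw [h5] at this
      simp at this
  · rintro (ht | rfl)
    · apply Subtype.ext
      rw [sq_eq h2 g, ht, zero_smul, zero_add, Matrix.SpecialLinearGroup.coe_one]
    · exact mul_one 1

theorem inv_eq (h2 : (2 : F) = 0) (g : S2) :
    ((g⁻¹ : S2) : M2) = tr g • (1 : M2) + (g : M2) := by
  apply mat_ext
  · rw [inv_00]
    simp only [Matrix.add_apply, Matrix.smul_apply, Matrix.one_apply_eq, smul_eq_mul, tr]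
    have := add_self h2 ((g : M2) 0 0)
    linear_combination -this
  · rw [inv_01, neg_eq h2]
    simp only [Matrix.add_apply, Matrix.smul_apply, smul_eq_mul]
    rw [Matrix.one_apply_ne (by decide)]
    ring
  · rw [inv_10, neg_eq h2]
    simp only [Matrix.add_apply, Matrix.smul_apply, smul_eq_mul]
    rw [Matrix.one_apply_ne (by decide)]
    ring
  · rw [inv_11]
    simp only [Matrix.add_apply, Matrix.smul_apply, Matrix.one_apply_eq, smul_eq_mul, tr]
    have := add_self h2 ((g : M2) 1 1)
    linear_combination -this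

end Cfsg.Agent.Helper37.L2
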