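import Mathlib
import Cfsg.Agent.Lib.Helper37.L2A

set_option autoImplicit false

namespace Cfsg.Agent.Helper37.L2

open Matrix Cfsg.Agent.Helper40 Cfsg.Agent.Helper41 Cfsg.Agent.Helper37

variable {F : Type*} [Field F]

set_option quotPrecheck false in
local notation "S2" => Matrix.SpecialLinearGroup (Fin 2) F
set_option quotPrecheck false in
local notation "M2" => Matrix (Fin 2) (Fin 2) F
set_option quotPrecheck false in
local notation "C(" g ")" => Subgroup.centralizer ({g} : Set (Matrix.SpecialLinearGroup (Fin 2) F))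
set_option quotPrecheck false in
local notation "NC(" g ")" =>
  Subgroup.normalizer ((Subgroup.centralizer ({g} : Set (Matrix.SpecialLinearGroup (Fin 2) F)) :
    Subgroup (Matrix.SpecialLinearGroup (Fin 2) F)) : Set (Matrix.SpecialLinearGroup (Fin 2) F))

theorem tr_one (h2 : (2 : F) = 0) : tr (1 : S2) = 0 := by
  unfold tr
  rw [one_00, one_11]
  exact add_self h2 1

theorem ne_one_of_tr (h2 : (2 : F) = 0) {u : S2} (hτ : tr u ≠ 0) : u ≠ 1 := by
  rintro rfl
  exact hτ (tr_one h2)

theorem ne_inv_of_tr (h2 : (2 : F) = 0) {u : S2} (hτ : tr u ≠ 0) : u ≠ u⁻¹ := by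
  intro h
  have h1 : u * u = 1 := by
    nth_rewrite 2 [h]
    exact mul_inv_cancel u
  rcases (sq_eq_one_iff h2 u).mp h1 with h3 | h3
  · exact hτ h3
  · exact ne_one_of_tr h2 hτ h3

/-- an element commuting with `u` and of the same trace is `u` or `u⁻¹` -/
theorem eq_or_eq_inv (h2 : (2 : F) = 0) {u w : S2} (hτ : tr u ≠ 0) (hw : w * u = u * w)
    (htr : tr w = tr u) : w = u ∨ w = u⁻¹ := by
  have hu1 := ne_one_of_tr h2 hτ
  have hw' : (u : M2) * (w : M2) = (w : M2) * (u : M2) := by
    have h : ((w * u : S2) : M2) = ((u * w : S2) : M2) := by rw [hw]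
    rw [Matrix.SpecialLinearGroup.coe_mul, Matrix.SpecialLinearGroup.coe_mul] at h
    exact h.symm
  obtain ⟨α, β, hαβ⟩ := exists_eq_smul_add_smul_of_commute (u : M2) (w : M2)
    (ns_of_ne_one h2 hu1) hw'
  have e00 : (w : M2) 0 0 = α + β * (u : M2) 0 0 := by
    rw [hαβ]; simp
  have e01 : (w : M2) 0 1 = β * (u : M2) 0 1 := by
    rw [hαβ]; simp
  have e10 : (w : M2) 1 0 = β * (u : M2) 1 0 := by
    rw [hαβ]; simp
  have e11 : (w : M2) 1 1 = α + β * (u : M2) 1 1 := by
    rw [hαβ]; simp
  have hβ : β = 1 := by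
    have h1 : tr w = β * tr u := by
      unfold tr
      rw [e00, e11]
      have := add_self h2 α
      linear_combination this
    rw [htr] at h1
    have : (β - 1) * tr u = 0 := by linear_combination -h1
    rcases mul_eq_zero.mp this with h | h
    · linear_combination h
    · exact absurd h hτ
  rw [hβ, one_mul] at e00 e01 e10 e11
  have hdw := det2 w
  have hdu := det2 u
  rw [e00, e01, e10, e11] at hdw
  have hα : α * (α + tr u) = 0 := by
    unfold tr
    linear_combination hdw - hdu
  rcases mul_eq_zero.mp hα with h | h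
  · left
    rw [h, zero_add] at e00 e11
    exact ext2 e00 e01 e10 e11
  · right
    have hα' : α = tr u := by
      have := add_self h2 (tr u)
      linear_combination h - this
    apply ext2
    · rw [inv_00, e00, hα']
      unfold tr
      have := add_self h2 ((u : M2) 0 0)
      linear_combination this
    · rw [inv_01, e01, neg_eq h2]
    · rw [inv_10, e10, neg_eq h2]
    · rw [inv_11, e11, hα']
      unfold tr
      have := add_self h2 ((u : M2) 1 1)
      linear_combination this

/-- the normaliser of a torus: elements centralising or inverting `u` -/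
theorem mem_NC_iff' (h2 : (2 : F) = 0) {u : S2} (hτ : tr u ≠ 0) (y : S2) :
    y ∈ NC(u) ↔ y * u * y⁻¹ = u ∨ y * u * y⁻¹ = u⁻¹ := by
  rw [mem_NC_iff h2 (ne_one_of_tr h2 hτ)]
  constructor
  · intro hc
    exact eq_or_eq_inv h2 hτ hc (tr_conj y u)
  · rintro (h | h)
    · rw [h]
    · rw [h, inv_mul_cancel, mul_inv_cancel]

theorem conj_eq_iff {G : Type*} [Group G] (y u : G) : y * u * y⁻¹ = u ↔ y * u = u * y := by
  constructor
  · intro h
    have : y * u = (y * u * y⁻¹) * y := by group
    rw [this, h]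
  · intro h
    rw [h]; group

section Finite

variable [Fintype F]

theorem exists_inverter (h2 : (2 : F) = 0) {u : S2} (hτ : tr u ≠ 0) :
    ∃ k : S2, k * u * k⁻¹ = u⁻¹ := by
  have hu1 := ne_one_of_tr h2 hτ
  have hu1' : u⁻¹ ≠ 1 := by
    intro h
    exact hu1 (inv_eq_one.mp h)
  apply sl2_exists_conj_char_two h2 u u⁻¹ hu1 hu1'
  rw [trace_eq, trace_eq, tr_inv h2]

/-- a maximal torus has index two in its normaliser -/
theorem card_NC (h2 : (2 : F) = 0) {u : S2} (hτ : tr u ≠ 0) :
    Nat.card ↥NC(u) = 2 * Nat.card ↥C(u) := by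
  obtain ⟨k, hk⟩ := exists_inverter h2 hτ
  have hne := ne_inv_of_tr h2 hτ
  have hset : (NC(u) : Set S2) = (C(u) : Set S2) ∪ (fun c => k * c) '' (C(u) : Set S2) := by
    ext y
    rw [SetLike.mem_coe, mem_NC_iff' h2 hτ]
    constructor
    · rintro (h | h)
      · left
        exact mem_centralizer_singleton.mpr ((conj_eq_iff y u).mp h)
      · right
        refine ⟨k⁻¹ * y, ?_, by group⟩
        rw [SetLike.mem_coe, mem_centralizer_singleton, ← conj_eq_iff]
        have e : k⁻¹ * y * u * (k⁻¹ * y)⁻¹ = k⁻¹ * (y * u * y⁻¹) * k := by group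
        rw [e, h, ← hk]; group
    · rintro (h | ⟨c, hc, rfl⟩)
      · left
        exact (conj_eq_iff y u).mpr (mem_centralizer_singleton.mp h)
      · right
        have hc' : c * u * c⁻¹ = u := (conj_eq_iff c u).mpr (mem_centralizer_singleton.mp hc)
        have e : k * c * u * (k * c)⁻¹ = k * (c * u * c⁻¹) * k⁻¹ := by group
        rw [e, hc', hk]
  have hdisj : Disjoint (C(u) : Set S2) ((fun c => k * c) '' (C(u) : Set S2)) := by
    rw [Set.disjoint_left]
    rintro y hy ⟨c, hc, rfl⟩
    have hkC : k ∈ C(u) := by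
      have : k = (k * c) * c⁻¹ := by group
      rw [this]
      exact mul_mem hy (inv_mem hc)
    have := (conj_eq_iff k u).mpr (mem_centralizer_singleton.mp hkC)
    rw [hk] at this
    exact hne this.symm
  have h1 : Nat.card ↥NC(u) = (NC(u) : Set S2).ncard := by
    rw [← Nat.card_coe_set_eq]; rfl
  have h2' : Nat.card ↥C(u) = (C(u) : Set S2).ncard := by
    rw [← Nat.card_coe_set_eq]; rfl
  rw [h1, hset, Set.ncard_union_eq hdisj (Set.toFinite _) (Set.toFinite _),
    Set.ncard_image_of_injective _ (mul_right_injective k), h2']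
  ring

/-- the normaliser of a maximal torus is solvable -/
theorem isSolvable_NC (h2 : (2 : F) = 0) {u : S2} (hτ : tr u ≠ 0) :
    Group.IsSolvable ↥NC(u) := by
  have hu1 := ne_one_of_tr h2 hτ
  set K := (C(u)).subgroupOf NC(u) with hK
  haveI : K.Normal := Subgroup.normal_in_normalizer
  rw [Group.isSolvable_iff_subgroup_quotient K]
  constructor
  · apply Group.isSolvable_of_comm
    intro a b
    apply Subtype.ext
    apply Subtype.ext
    have ha : a.1.1 ∈ C(u) := Subgroup.mem_subgroupOf.mp a.2
    have hb : b.1.1 ∈ C(u) := Subgroup.mem_subgroupOf.mp b.2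
    exact comm_of_comm h2 hu1 (mem_centralizer_singleton.mp ha) (mem_centralizer_singleton.mp hb)
  · have hcK : Nat.card ↥K = Nat.card ↥C(u) :=
      Nat.card_congr (Subgroup.subgroupOfEquivOfLe Subgroup.le_normalizer).toEquiv
    have hidx : K.index = 2 ^ 1 := by
      have := K.card_mul_index
      rw [hcK, card_NC h2 hτ, mul_comm] at this
      rw [pow_one]
      exact Nat.eq_of_mul_eq_mul_right Nat.card_pos this
    haveI : Fact (Nat.Prime 2) := ⟨Nat.prime_two⟩
    have hp : IsPGroup 2 (↥NC(u) ⧸ K) := IsPGroup.of_card hidx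
    haveI := hp.isNilpotent
    infer_instance

end Finite

end Cfsg.Agent.Helper37.L2
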