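import Mathlib
import Cfsg.Agent.Lib.Helper37.L2B

set_option autoImplicit false

namespace Cfsg.Agent.Helper37.L2

open Matrix Cfsg.Agent.Helper40 Cfsg.Agent.Helper41 Cfsg.Agent.Helper37

variable {F : Type*} [Field F] [Fintype F]

set_option quotPrecheck false in
local notation "S2" => Matrix.SpecialLinearGroup (Fin 2) F
set_option quotPrecheck false in
local notation "M2" => Matrix (Fin 2) (Fin 2) F
set_option quotPrecheck false in
local notation "C(" g ")" => Subgroup.centralizer ({g} : Set (Matrix.SpecialLinearGroup (Fin 2) F))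
set_option quotPrecheck false in
local notation "NC(" g ")" =>
  Subgroup.normalizer ((Subgroup.centralizer ({g} : Set (Matrix.SpecialLinearGroup (Fin 2) F)) :
    Subgroup (Matrix.SpecialLinearGroup (Fin 2) F)) : Set (Matrix.SpecialLinearGroup (Fin 2) F))

/-- conjugacy classes of non-identity elements are given by the trace -/
theorem class_eq (h2 : (2 : F) = 0) {g : S2} (hg : g ≠ 1) :
    {Y : S2 | IsConj g Y} = {Y : S2 | tr Y = tr g ∧ Y ≠ 1} := by
  ext Y
  simp only [Set.mem_setOf_eq, isConj_iff]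
  constructor
  · rintro ⟨c, rfl⟩
    refine ⟨tr_conj c g, ?_⟩
    intro h1
    apply hg
    have : g = c⁻¹ * (c * g * c⁻¹) * c := by group
    rw [this, h1]; group
  · rintro ⟨ht, hY⟩
    apply sl2_exists_conj_char_two h2 g Y hg hY
    rw [trace_eq, trace_eq, ht]

theorem card_cen_mul (g : S2) :
    Nat.card ↥C(g) * ({Y : S2 | IsConj g Y}).ncard =
      Fintype.card F * (Fintype.card F - 1) * (Fintype.card F + 1) := by
  rw [← index_centralizer_eq_ncard, Subgroup.card_mul_index, card_SL2]

/-- the number of elements of a given trace -/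
theorem ncard_tr (s : F) [DecidableEq F] :
    ({Y : S2 | tr Y = s}).ncard =
      Fintype.card F * (Fintype.card F - 1) +
        Fintype.card F * Fintype.card {a : F // a * (s - a) - 1 = 0} := by
  rw [← card_trace_fiber s, ← Nat.card_coe_set_eq]
  apply Nat.card_congr
  refine Equiv.subtypeEquivRight ?_
  intro Y
  rw [Set.mem_setOf_eq, trace_eq]

theorem card_roots_zero (h2 : (2 : F) = 0) [DecidableEq F] :
    Fintype.card {a : F // a * (0 - a) - 1 = 0} = 1 := by
  rw [Fintype.card_eq_one_iff]
  refine ⟨⟨1, ?_⟩, ?_⟩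
  · have := add_self h2 (1 : F)
    linear_combination -this
  · rintro ⟨a, ha⟩
    apply Subtype.ext
    show a = 1
    have h1 : (a - 1) ^ 2 = 0 := by
      linear_combination -ha - a * h2
    have := pow_eq_zero_iff (two_ne_zero) |>.mp h1
    linear_combination this

/-- the number of elements of trace zero -/
theorem ncard_tr_zero (h2 : (2 : F) = 0) :
    ({Y : S2 | tr Y = 0}).ncard = Fintype.card F ^ 2 := by
  classical
  rw [ncard_tr, card_roots_zero h2]
  have hq : 1 ≤ Fintype.card F := Fintype.card_pos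
  obtain ⟨k, hk⟩ : ∃ k, Fintype.card F = k + 1 := ⟨Fintype.card F - 1, by omega⟩
  rw [hk]
  have : k + 1 - 1 = k := by omega
  rw [this]
  ring

/-- the centraliser of an involution has order `q` -/
theorem card_cen_inv (h2 : (2 : F) = 0) {g : S2} (hg : g ≠ 1) (ht : tr g = 0) :
    Nat.card ↥C(g) = Fintype.card F := by
  have hcls : ({Y : S2 | IsConj g Y}).ncard = Fintype.card F ^ 2 - 1 := by
    rw [class_eq h2 hg, ht]
    have : {Y : S2 | tr Y = 0 ∧ Y ≠ 1} = {Y : S2 | tr Y = 0} \ {1} := by
      ext Y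
      simp
    rw [this, Set.ncard_diff_singleton_of_mem
      (show (1 : S2) ∈ {Y : S2 | tr Y = 0} from tr_one h2), ncard_tr_zero h2]
  have h1 := card_cen_mul g
  rw [hcls] at h1
  have hq : 1 ≤ Fintype.card F := Fintype.card_pos
  obtain ⟨k, hk⟩ : ∃ k, Fintype.card F = k + 1 := ⟨Fintype.card F - 1, by omega⟩
  rw [hk] at h1 ⊢
  have e1 : k + 1 - 1 = k := by omega
  have e2 : (k + 1) ^ 2 - 1 = k * (k + 1 + 1) := by
    have : (k + 1) ^ 2 = k * (k + 1 + 1) + 1 := by ring
    omega
  rw [e1, e2] at h1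
  by_cases hk0 : k = 0
  · subst hk0
    -- the field has one element: impossible
    exfalso
    have := Fintype.one_lt_card (α := F)
    omega
  · have h3 : Nat.card ↥C(g) * (k * (k + 1 + 1)) = (k + 1) * (k * (k + 1 + 1)) := by
      rw [h1]; ring
    exact Nat.eq_of_mul_eq_mul_right (by positivity) h3

/-- the centraliser of a semisimple element has order `q + 1` or `q - 1` -/
theorem card_cen_ss (h2 : (2 : F) = 0) {g : S2} (hτ : tr g ≠ 0) :
    Nat.card ↥C(g) = Fintype.card F + 1 ∨
      (Nat.card ↥C(g) = Fintype.card F - 1 ∧ ∃ a : F, a * (tr g - a) - 1 = 0) := by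
  classical
  have hg := ne_one_of_tr h2 hτ
  have hcls : ({Y : S2 | IsConj g Y}).ncard = Fintype.card F * (Fintype.card F - 1) +
      Fintype.card F * Fintype.card {a : F // a * (tr g - a) - 1 = 0} := by
    have hn := ncard_tr (F := F) (tr g)
    rw [class_eq h2 hg, ← hn]
    congr 1
    ext Y
    simp only [Set.mem_setOf_eq, and_iff_left_iff_imp]
    intro hY
    apply ne_one_of_tr h2
    rw [hY]
    exact hτ
  have h4 : (4 : F) = 0 := by
    have : (4 : F) = 2 * 2 := by norm_num
    rw [this, h2, mul_zero]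
  have hs : tr g ^ 2 ≠ 4 := by
    rw [h4]
    exact pow_ne_zero 2 hτ
  have h1 := card_cen_mul g
  rw [hcls] at h1
  have hq : 2 ≤ Fintype.card F := Fintype.one_lt_card
  obtain ⟨k, hk⟩ : ∃ k, Fintype.card F = k + 2 := ⟨Fintype.card F - 2, by omega⟩
  rw [hk] at h1 ⊢
  have e1 : k + 2 - 1 = k + 1 := by omega
  rw [e1] at h1 ⊢
  rcases card_roots_eq (tr g) hs with hr | hr
  · left
    rw [hr, mul_zero, add_zero] at h1
    have h3 : Nat.card ↥C(g) * ((k + 2) * (k + 1)) = (k + 2 + 1) * ((k + 2) * (k + 1)) := by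
      rw [h1]; ring
    exact Nat.eq_of_mul_eq_mul_right (by positivity) h3
  · right
    constructor
    · rw [hr] at h1
      have h3 : Nat.card ↥C(g) * ((k + 2) * (k + 2 + 1)) = (k + 1) * ((k + 2) * (k + 2 + 1)) := by
        have : (k + 2) * (k + 1) + (k + 2) * 2 = (k + 2) * (k + 2 + 1) := by ring
        rw [← this, h1]; ring
      exact Nat.eq_of_mul_eq_mul_right (by positivity) h3
    · have hne : Nonempty {a : F // a * (tr g - a) - 1 = 0} := by
        rw [← Fintype.card_pos_iff, hr]
        norm_num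
      obtain ⟨⟨a, ha⟩⟩ := hne
      exact ⟨a, ha⟩

end Cfsg.Agent.Helper37.L2
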