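import Mathlib
import Cfsg.Agent.Lib.Helper37.L2C

set_option autoImplicit false

namespace Cfsg.Agent.Helper37.L2

open Matrix Cfsg.Agent.Helper40 Cfsg.Agent.Helper41 Cfsg.Agent.Helper37

/-- conjugation-equivariance of normalisers of centralisers -/
theorem mem_NC_conj_iff {G : Type*} [Group G] (z a y : G) :
    y ∈ Subgroup.normalizer
        ((Subgroup.centralizer ({z * a * z⁻¹} : Set G) : Subgroup G) : Set G) ↔
      z⁻¹ * y * z ∈ Subgroup.normalizer
        ((Subgroup.centralizer ({a} : Set G) : Subgroup G) : Set G) := by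
  rw [Subgroup.mem_normalizer_iff, Subgroup.mem_normalizer_iff]
  constructor
  · intro hy c
    have := hy (z * c * z⁻¹)
    rw [centralizer_conj, centralizer_conj] at this
    have e1 : z⁻¹ * (z * c * z⁻¹) * z = c := by group
    have e2 : z⁻¹ * (y * (z * c * z⁻¹) * y⁻¹) * z = z⁻¹ * y * z * c * (z⁻¹ * y * z)⁻¹ := by group
    rw [e1, e2] at this
    exact this
  · intro hy c
    have := hy (z⁻¹ * c * z)
    rw [centralizer_conj, centralizer_conj]
    have e2 : z⁻¹ * (y * c * y⁻¹) * z = z⁻¹ * y * z * (z⁻¹ * c * z) * (z⁻¹ * y * z)⁻¹ := by group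
    rw [e2]
    exact this

variable {F : Type*} [Field F]

set_option quotPrecheck false in
local notation "S2" => Matrix.SpecialLinearGroup (Fin 2) F
set_option quotPrecheck false in
local notation "M2" => Matrix (Fin 2) (Fin 2) F
set_option quotPrecheck false in
local notation "C(" g ")" => Subgroup.centralizer ({g} : Set (Matrix.SpecialLinearGroup (Fin 2) F))
set_option quotPrecheck false in
local notation "NC(" g ")" =>
  Subgroup.normalizer ((Subgroup.centralizer ({g} : Set (Matrix.SpecialLinearGroup (Fin 2) F)) :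
    Subgroup (Matrix.SpecialLinearGroup (Fin 2) F)) : Set (Matrix.SpecialLinearGroup (Fin 2) F))

/-- the standard involution -/
def t0 (F : Type*) [Field F] : Matrix.SpecialLinearGroup (Fin 2) F := mk2 1 1 0 1 (by ring)

theorem tr_t0 (h2 : (2 : F) = 0) : tr (t0 F) = 0 := by
  unfold tr t0
  rw [mk2_00, mk2_11]
  exact add_self h2 1

theorem t0_ne_one : t0 F ≠ 1 := by
  intro h
  have := congrArg (fun g : S2 => (g : M2) 0 1) h
  simp only [t0, mk2_01, one_01] at this
  exact one_ne_zero this

theorem mem_cen_t0 (y : S2) :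
    y ∈ C(t0 F) ↔ (y : M2) 1 0 = 0 ∧ (y : M2) 0 0 = (y : M2) 1 1 := by
  rw [mem_centralizer_singleton]
  constructor
  · intro h
    have e00 := congrArg (fun g : S2 => (g : M2) 0 0) h
    have e01 := congrArg (fun g : S2 => (g : M2) 0 1) h
    simp only [mul_00, mul_01, t0, mk2_00, mk2_01, mk2_10, mk2_11] at e00 e01
    constructor
    · linear_combination -e00
    · linear_combination e01
  · rintro ⟨h10, h00⟩
    apply ext2
    · simp only [mul_00, t0, mk2_00, mk2_01, mk2_10, mk2_11]
      rw [h10]; ring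
    · simp only [mul_01, t0, mk2_00, mk2_01, mk2_10, mk2_11]
      rw [h00]; ring
    · simp only [mul_10, t0, mk2_00, mk2_01, mk2_10, mk2_11]
      ring
    · simp only [mul_11, t0, mk2_00, mk2_01, mk2_10, mk2_11]
      rw [h10]; ring

/-- the normaliser of the standard unipotent subgroup is the Borel subgroup -/
theorem mem_NC_t0 (h2 : (2 : F) = 0) (y : S2) : y ∈ NC(t0 F) ↔ (y : M2) 1 0 = 0 := by
  rw [mem_NC_iff h2 t0_ne_one, ← mem_centralizer_singleton, mem_cen_t0]
  have hd := det2 y
  have e10 : ((y * t0 F * y⁻¹ : S2) : M2) 1 0 = -((y : M2) 1 0) ^ 2 := by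
    simp only [mul_10, mul_00, mul_01, mul_11, inv_00, inv_10, t0, mk2_00, mk2_01, mk2_10, mk2_11]
    ring
  have e00 : ((y * t0 F * y⁻¹ : S2) : M2) 0 0 = 1 - (y : M2) 0 0 * (y : M2) 1 0 := by
    simp only [mul_10, mul_00, mul_01, mul_11, inv_00, inv_10, t0, mk2_00, mk2_01, mk2_10, mk2_11]
    linear_combination hd
  have e11 : ((y * t0 F * y⁻¹ : S2) : M2) 1 1 = 1 + (y : M2) 0 0 * (y : M2) 1 0 := by
    simp only [mul_10, mul_00, mul_01, mul_11, inv_01, inv_11, t0, mk2_00, mk2_01, mk2_10, mk2_11]
    linear_combination hd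
  rw [e10, e00, e11]
  constructor
  · rintro ⟨h, -⟩
    have : (y : M2) 1 0 ^ 2 = 0 := by linear_combination -h
    exact pow_eq_zero_iff two_ne_zero |>.mp this
  · intro h
    rw [h]
    constructor <;> ring

theorem NC_t0_eq (h2 : (2 : F) = 0) : NC(t0 F) = borel F := by
  ext y
  rw [mem_NC_t0 h2, mem_borel]

/-- the Borel subgroup is solvable -/
theorem isSolvable_borel' : Group.IsSolvable ↥(borel F) := by
  let φ : ↥(borel F) →* Fˣ :=
    { toFun := fun g => Units.mk0 ((g.1 : M2) 0 0) (g00_ne_zero_of_g10 g.1 ((mem_borel g.1).mp g.2))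
      map_one' := by
        apply Units.ext
        simp
      map_mul' := by
        intro g k
        apply Units.ext
        have hk : (k.1 : M2) 1 0 = 0 := (mem_borel k.1).mp k.2
        show ((g.1 * k.1 : S2) : M2) 0 0 = (g.1 : M2) 0 0 * (k.1 : M2) 0 0
        rw [mul_00, hk, mul_zero, add_zero] }
  have hker : ∀ g : ↥(borel F), g ∈ φ.ker ↔ (g.1 : M2) 0 0 = 1 := by
    intro g
    rw [MonoidHom.mem_ker]
    constructor
    · intro h
      have := congrArg Units.val h
      exact this
    · intro h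
      apply Units.ext
      exact h
  haveI : Group.IsSolvable ↥φ.ker := by
    apply Group.isSolvable_of_comm
    intro a b
    apply Subtype.ext
    apply Subtype.ext
    have ha0 : (a.1.1 : M2) 0 0 = 1 := (hker a.1).mp a.2
    have hb0 : (b.1.1 : M2) 0 0 = 1 := (hker b.1).mp b.2
    have ha1 : (a.1.1 : M2) 1 0 = 0 := (mem_borel a.1.1).mp a.1.2
    have hb1 : (b.1.1 : M2) 1 0 = 0 := (mem_borel b.1.1).mp b.1.2
    have ha2 : (a.1.1 : M2) 1 1 = 1 := by
      have := det2 a.1.1
      rw [ha0, ha1] at this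
      linear_combination this
    have hb2 : (b.1.1 : M2) 1 1 = 1 := by
      have := det2 b.1.1
      rw [hb0, hb1] at this
      linear_combination this
    show a.1.1 * b.1.1 = b.1.1 * a.1.1
    apply ext2
    · rw [mul_00, mul_00, ha0, hb0, ha1, hb1]; ring
    · rw [mul_01, mul_01, ha0, hb0, ha2, hb2]; ring
    · rw [mul_10, mul_10, ha0, hb0, ha1, hb1]; ring
    · rw [mul_11, mul_11, ha1, hb1, ha2, hb2]; ring
  exact solvable_of_ker_le_range φ.ker.subtype φ (by
    intro g hg
    exact ⟨⟨g, hg⟩, rfl⟩)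

section Finite

variable [Fintype F]

/-- involutions are conjugate to the standard one -/
theorem exists_conj_t0 (h2 : (2 : F) = 0) {u : S2} (hu : u ≠ 1) (ht : tr u = 0) :
    ∃ k : S2, u = k * t0 F * k⁻¹ := by
  obtain ⟨k, hk⟩ := sl2_exists_conj_char_two h2 (t0 F) u t0_ne_one hu (by
    rw [trace_eq, trace_eq, tr_t0 h2, ht])
  exact ⟨k, hk.symm⟩

/-- two-generator solvable subgroups normalise the centraliser of a non-identity element -/
theorem solvable_iff_L2 (h2 : (2 : F) = 0) (x y : S2) :
    Group.IsSolvable ↥(Subgroup.closure ({x, y} : Set S2)) ↔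
      (x = 1 ∧ y = 1) ∨ (∃ u : S2, u ≠ 1 ∧ x ∈ NC(u) ∧ y ∈ NC(u)) := by
  constructor
  · intro hs
    set M := Subgroup.closure ({x, y} : Set S2) with hM
    have hxM : x ∈ M := Subgroup.subset_closure (by simp)
    have hyM : y ∈ M := Subgroup.subset_closure (by simp)
    by_cases htriv : Nontrivial ↥M
    · right
      obtain ⟨A, hAn, hAne, hAc⟩ := exists_abelian_normal_of_solvable ↥M
      obtain ⟨⟨⟨a₀, ha₀M⟩, ha₀A⟩, ha₀1⟩ := (Subgroup.ne_bot_iff_exists_ne_one.mp hAne)
      have hg₀1 : a₀ ≠ 1 := by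
        intro h0
        apply ha₀1
        apply Subtype.ext
        apply Subtype.ext
        exact h0
      have hconj : ∀ k ∈ M, (k * a₀ * k⁻¹) * a₀ = a₀ * (k * a₀ * k⁻¹) := by
        intro k hk
        have h1 : (⟨k, hk⟩ : ↥M) * ⟨a₀, ha₀M⟩ * (⟨k, hk⟩ : ↥M)⁻¹ ∈ A :=
          hAn.conj_mem _ ha₀A _
        have := hAc _ h1 _ ha₀A
        exact congrArg Subtype.val this
      exact ⟨a₀, hg₀1, (mem_NC_iff h2 hg₀1 x).mpr (hconj x hxM),
        (mem_NC_iff h2 hg₀1 y).mpr (hconj y hyM)⟩
    · left
      rw [not_nontrivial_iff_subsingleton] at htriv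
      constructor
      · have := htriv.elim (⟨x, hxM⟩ : ↥M) 1
        exact congrArg Subtype.val this
      · have := htriv.elim (⟨y, hyM⟩ : ↥M) 1
        exact congrArg Subtype.val this
  · rintro (⟨rfl, rfl⟩ | ⟨u, hu, hx, hy⟩)
    · have : Subgroup.closure ({1, 1} : Set S2) = ⊥ := by
        rw [Subgroup.closure_eq_bot_iff]
        intro z hz
        rcases hz with rfl | rfl <;> rfl
      rw [this]
      infer_instance
    · by_cases hτ : tr u = 0
      · obtain ⟨k, hk⟩ := exists_conj_t0 h2 hu hτ
        rw [hk, mem_NC_conj_iff, NC_t0_eq h2] at hx hy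
        rw [isSolvable_closure_pair_iff (MulAut.conj k⁻¹) x y]
        have e : ∀ z : S2, (MulAut.conj k⁻¹) z = k⁻¹ * z * k := by
          intro z
          simp [MulAut.conj_apply]
        rw [e, e]
        have hle : Subgroup.closure ({k⁻¹ * x * k, k⁻¹ * y * k} : Set S2) ≤ borel F := by
          rw [Subgroup.closure_le]
          rintro w (rfl | rfl)
          · exact hx
          · exact hy
        haveI := isSolvable_borel' (F := F)
        exact Group.isSolvable_of_isSolvable_injective (Subgroup.inclusion_injective hle)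
      · have hle : Subgroup.closure ({x, y} : Set S2) ≤ NC(u) := by
          rw [Subgroup.closure_le]
          rintro w (rfl | rfl)
          · exact hx
          · exact hy
        haveI := isSolvable_NC h2 hτ
        exact Group.isSolvable_of_isSolvable_injective (Subgroup.inclusion_injective hle)

end Finite

end Cfsg.Agent.Helper37.L2
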