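import Mathlib
import Cfsg.Agent.Lib.Helper37.L2D

set_option autoImplicit false

namespace Cfsg.Agent.Helper37.L2

open Matrix Cfsg.Agent.Helper40 Cfsg.Agent.Helper41 Cfsg.Agent.Helper37

/-- an element of odd order commutes with whatever its square commutes with -/
theorem commute_of_sq_commute {G : Type*} [Group G] {x u : G} (hodd : ¬ 2 ∣ orderOf x)
    (h : (x * x) * u = u * (x * x)) : x * u = u * x := by
  have hn : Odd (orderOf x) := by
    rw [← Nat.not_even_iff_odd, even_iff_two_dvd]
    exact hodd
  obtain ⟨j, hj⟩ := hn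
  have hx : x = (x * x) ^ (j + 1) := by
    rw [← pow_two, ← pow_mul]
    have : 2 * (j + 1) = orderOf x + 1 := by omega
    rw [this, pow_succ, pow_orderOf_eq_one, one_mul]
  have hc : Commute ((x * x) ^ (j + 1)) u := (show Commute (x * x) u from h).pow_left _
  rw [hx]
  exact hc

variable {F : Type*} [Field F] [Fintype F]

set_option quotPrecheck false in
local notation "S2" => Matrix.SpecialLinearGroup (Fin 2) F
set_option quotPrecheck false in
local notation "M2" => Matrix (Fin 2) (Fin 2) F
set_option quotPrecheck false in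
local notation "C(" g ")" => Subgroup.centralizer ({g} : Set (Matrix.SpecialLinearGroup (Fin 2) F))
set_option quotPrecheck false in
local notation "NC(" g ")" =>
  Subgroup.normalizer ((Subgroup.centralizer ({g} : Set (Matrix.SpecialLinearGroup (Fin 2) F)) :
    Subgroup (Matrix.SpecialLinearGroup (Fin 2) F)) : Set (Matrix.SpecialLinearGroup (Fin 2) F))
set_option quotPrecheck false in
local notation "Sol(" g ")" =>
  Nat.card {y : Matrix.SpecialLinearGroup (Fin 2) F //
    Group.IsSolvable ↥(Subgroup.closure ({g, y} : Set (Matrix.SpecialLinearGroup (Fin 2) F)))}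

theorem two_eq_zero_of_card {n : ℕ} (hF : Fintype.card F = 2 ^ n) : (2 : F) = 0 := by
  have : Fact (Nat.Prime 2) := ⟨Nat.prime_two⟩
  have : CharP F 2 := charP_of_card_eq_prime_pow hF
  have h := CharP.cast_eq_zero F 2
  exact_mod_cast h

theorem card_NC_inv (h2 : (2 : F) = 0) {u : S2} (hu : u ≠ 1) (ht : tr u = 0) :
    Nat.card ↥NC(u) = Fintype.card F * (Fintype.card F - 1) := by
  obtain ⟨k, hk⟩ := exists_conj_t0 h2 hu ht
  rw [hk, card_normalizer_centralizer_conj, NC_t0_eq h2, card_borel]

/-- a semisimple element normalising a torus lies in it -/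
theorem mem_cen_of_mem_NC (h2 : (2 : F) = 0) {x u : S2} (hodd : ¬ 2 ∣ orderOf x)
    (hτ : tr u ≠ 0) (hx : x ∈ NC(u)) : x * u = u * x := by
  rcases (mem_NC_iff' h2 hτ x).mp hx with h | h
  · exact (conj_eq_iff x u).mp h
  · apply commute_of_sq_commute hodd
    rw [← conj_eq_iff]
    have e : x * x * u * (x * x)⁻¹ = x * (x * u * x⁻¹) * x⁻¹ := by group
    rw [e, h]
    have e2 : x * u⁻¹ * x⁻¹ = (x * u * x⁻¹)⁻¹ := by group
    rw [e2, h, inv_inv]

theorem odd_of_card_cen {n : ℕ} (hn : 1 ≤ n) (hF : Fintype.card F = 2 ^ n) {x : S2}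
    (hc : Nat.card ↥C(x) = Fintype.card F + 1 ∨ Nat.card ↥C(x) = Fintype.card F - 1) :
    ¬ 2 ∣ orderOf x := by
  intro h
  have hd : orderOf x ∣ Nat.card ↥C(x) := Subgroup.orderOf_dvd_natCard _ (mem_cen_self x)
  have h2c := h.trans hd
  have hq : 2 ∣ Fintype.card F := by
    rw [hF]
    exact dvd_pow_self 2 (by omega)
  have hq2 : 2 ≤ Fintype.card F := Fintype.one_lt_card
  rcases hc with hc | hc <;> rw [hc] at h2c <;> omega

/-- the solubilizer of an element of a non-split torus -/
theorem card_sol_X {n : ℕ} (hn : 1 ≤ n) (hF : Fintype.card F = 2 ^ n) {x : S2}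
    (hτ : tr x ≠ 0) (hc : Nat.card ↥C(x) = Fintype.card F + 1) :
    Sol(x) = 2 * (Fintype.card F + 1) := by
  have h2 := two_eq_zero_of_card hF
  have hx1 := ne_one_of_tr h2 hτ
  have hodd := odd_of_card_cen hn hF (Or.inl hc)
  rw [← hc, ← card_NC h2 hτ]
  apply Nat.card_congr
  refine Equiv.subtypeEquivRight ?_
  intro y
  rw [solvable_iff_L2 h2]
  constructor
  · rintro (⟨h1, -⟩ | ⟨u, hu, hx, hy⟩)
    · exact absurd h1 hx1
    · by_cases hτu : tr u = 0
      · exfalso
        have hd1 : orderOf x ∣ Nat.card ↥NC(u) := Subgroup.orderOf_dvd_natCard _ hx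
        rw [card_NC_inv h2 hu hτu] at hd1
        have hd2 : orderOf x ∣ Fintype.card F + 1 := by
          rw [← hc]
          exact Subgroup.orderOf_dvd_natCard _ (mem_cen_self x)
        apply hx1
        apply eq_one_of_orderOf_dvd_coprime hd1 hd2
        have hq2 : 2 ≤ Fintype.card F := Fintype.one_lt_card
        have hq : 2 ∣ Fintype.card F := by
          rw [hF]
          exact dvd_pow_self 2 (by omega)
        apply Nat.Coprime.mul_left
        · rw [Nat.coprime_self_add_right]
          exact Nat.coprime_one_right _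
        · have h3 : Fintype.card F + 1 = (Fintype.card F - 1) + 2 := by omega
          rw [h3, Nat.coprime_self_add_right]
          apply Nat.Coprime.symm
          rw [Nat.Prime.coprime_iff_not_dvd Nat.prime_two]
          omega
      · have hxu := mem_cen_of_mem_NC h2 hodd hτu hx
        rw [NC_eq h2 hu hx1 hxu]
        exact hy
  · intro hy
    right
    exact ⟨x, hx1, le_NC x (mem_cen_self x), hy⟩

end Cfsg.Agent.Helper37.L2
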