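import Mathlib
import Cfsg.Agent.Lib.Helper37.L2E

set_option autoImplicit false

namespace Cfsg.Agent.Helper37.L2

open Matrix Cfsg.Agent.Helper40 Cfsg.Agent.Helper41 Cfsg.Agent.Helper37

variable {F : Type*} [Field F]

set_option quotPrecheck false in
local notation "S2" => Matrix.SpecialLinearGroup (Fin 2) F
set_option quotPrecheck false in
local notation "M2" => Matrix (Fin 2) (Fin 2) F
set_option quotPrecheck false in
local notation "C(" g ")" => Subgroup.centralizer ({g} : Set (Matrix.SpecialLinearGroup (Fin 2) F))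
set_option quotPrecheck false in
local notation "NC(" g ")" =>
  Subgroup.normalizer ((Subgroup.centralizer ({g} : Set (Matrix.SpecialLinearGroup (Fin 2) F)) :
    Subgroup (Matrix.SpecialLinearGroup (Fin 2) F)) : Set (Matrix.SpecialLinearGroup (Fin 2) F))
set_option quotPrecheck false in
local notation "Sol(" g ")" =>
  Nat.card {y : Matrix.SpecialLinearGroup (Fin 2) F //
    Group.IsSolvable ↥(Subgroup.closure ({g, y} : Set (Matrix.SpecialLinearGroup (Fin 2) F)))}

/-- the lower standard involution -/
def t0' (F : Type*) [Field F] : Matrix.SpecialLinearGroup (Fin 2) F := mk2 1 0 1 1 (by ring)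

theorem t0'_ne_one : t0' F ≠ 1 := by
  intro h
  have := congrArg (fun g : S2 => (g : M2) 1 0) h
  simp only [t0', mk2_10, one_10] at this
  exact one_ne_zero this

theorem mem_cen_t0' (y : S2) :
    y ∈ C(t0' F) ↔ (y : M2) 0 1 = 0 ∧ (y : M2) 0 0 = (y : M2) 1 1 := by
  rw [mem_centralizer_singleton]
  constructor
  · intro h
    have e00 := congrArg (fun g : S2 => (g : M2) 0 0) h
    have e10 := congrArg (fun g : S2 => (g : M2) 1 0) h
    simp only [mul_00, mul_10, t0', mk2_00, mk2_01, mk2_10, mk2_11] at e00 e10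
    constructor
    · linear_combination e00
    · linear_combination -e10
  · rintro ⟨h01, h00⟩
    apply ext2
    · simp only [mul_00, t0', mk2_00, mk2_01, mk2_10, mk2_11]
      rw [h01]; ring
    · simp only [mul_01, t0', mk2_00, mk2_01, mk2_10, mk2_11]
      ring
    · simp only [mul_10, t0', mk2_00, mk2_01, mk2_10, mk2_11]
      rw [h00]; ring
    · simp only [mul_11, t0', mk2_00, mk2_01, mk2_10, mk2_11]
      rw [h01]; ring

theorem mem_NC_t0' (h2 : (2 : F) = 0) (y : S2) : y ∈ NC(t0' F) ↔ (y : M2) 0 1 = 0 := by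
  rw [mem_NC_iff h2 t0'_ne_one, ← mem_centralizer_singleton, mem_cen_t0']
  have hd := det2 y
  have e01 : ((y * t0' F * y⁻¹ : S2) : M2) 0 1 = -((y : M2) 0 1) ^ 2 := by
    simp only [mul_10, mul_00, mul_01, mul_11, inv_01, inv_11, t0', mk2_00, mk2_01, mk2_10, mk2_11]
    ring
  have e00 : ((y * t0' F * y⁻¹ : S2) : M2) 0 0 = 1 + (y : M2) 0 1 * (y : M2) 1 1 := by
    simp only [mul_10, mul_00, mul_01, mul_11, inv_00, inv_10, t0', mk2_00, mk2_01, mk2_10, mk2_11]
    linear_combination hd
  have e11 : ((y * t0' F * y⁻¹ : S2) : M2) 1 1 = 1 - (y : M2) 0 1 * (y : M2) 1 1 := by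
    simp only [mul_10, mul_00, mul_01, mul_11, inv_01, inv_11, t0', mk2_00, mk2_01, mk2_10, mk2_11]
    linear_combination hd
  rw [e01, e00, e11]
  constructor
  · rintro ⟨h, -⟩
    have : (y : M2) 0 1 ^ 2 = 0 := by linear_combination -h
    exact pow_eq_zero_iff two_ne_zero |>.mp this
  · intro h
    rw [h]
    constructor <;> ring

/-- diagonal elements -/
def dm (a : Fˣ) : Matrix.SpecialLinearGroup (Fin 2) F :=
  mk2 (a : F) 0 0 ((a⁻¹ : Fˣ) : F) (by simp)

theorem tr_dm (a : Fˣ) : tr (dm a) = (a : F) + ((a⁻¹ : Fˣ) : F) := rfl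

theorem tr_dm_ne (h2 : (2 : F) = 0) {a : Fˣ} (ha : (a : F) ^ 2 ≠ 1) : tr (dm a) ≠ 0 := by
  rw [tr_dm]
  intro h
  apply ha
  have h1 : (a : F) * ((a⁻¹ : Fˣ) : F) = 1 := by simp
  linear_combination (a : F) * h - h1 - h2

theorem inv_sub_ne (h2 : (2 : F) = 0) {a : Fˣ} (ha : (a : F) ^ 2 ≠ 1) :
    ((a⁻¹ : Fˣ) : F) - (a : F) ≠ 0 := by
  intro h
  apply tr_dm_ne h2 ha
  rw [tr_dm]
  have := add_self h2 (a : F)
  linear_combination h + this

section Finite

variable [Fintype F]

/-- description of the solubilizer of a diagonal element -/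
theorem solvable_dm_iff {n : ℕ} (hn : 1 ≤ n) (hF : Fintype.card F = 2 ^ n) {a : Fˣ}
    (ha : (a : F) ^ 2 ≠ 1) (hc : Nat.card ↥C(dm a) = Fintype.card F - 1) (y : S2) :
    Group.IsSolvable ↥(Subgroup.closure ({dm a, y} : Set S2)) ↔
      (y : M2) 1 0 = 0 ∨ (y : M2) 0 1 = 0 ∨ ((y : M2) 0 0 = 0 ∧ (y : M2) 1 1 = 0) := by
  have h2 := two_eq_zero_of_card hF
  have hτ := tr_dm_ne h2 ha
  have hd1 := ne_one_of_tr h2 hτ
  have hodd := odd_of_card_cen hn hF (Or.inr hc)
  have hsub := inv_sub_ne h2 ha
  have haa : (a : F) * ((a⁻¹ : Fˣ) : F) = 1 := by simp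
  rw [solvable_iff_L2 h2]
  constructor
  · rintro (⟨h1, -⟩ | ⟨u, hu, hx, hy⟩)
    · exact absurd h1 hd1
    · by_cases hτu : tr u = 0
      · -- `u` is an involution
        have hu11 : (u : M2) 1 1 = (u : M2) 0 0 := by
          unfold tr at hτu
          have := add_self h2 ((u : M2) 0 0)
          linear_combination hτu - this
        have hcomm := (mem_NC_iff h2 hu (dm a)).mp hx
        have e00 := congrArg (fun g : S2 => (g : M2) 0 0) hcomm
        simp only [mul_00, mul_01, mul_10, mul_11, inv_00, inv_01, inv_10, inv_11, dm, mk2_00,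
          mk2_01, mk2_10, mk2_11] at e00
        have hprod : (u : M2) 0 1 * (u : M2) 1 0 = 0 := by
          have h4 : ((a : F) ^ 2 - ((a⁻¹ : Fˣ) : F) ^ 2) * ((u : M2) 0 1 * (u : M2) 1 0) = 0 := by
            linear_combination e00
          rcases mul_eq_zero.mp h4 with h | h
          · exfalso
            have h5 : ((a : F) - ((a⁻¹ : Fˣ) : F)) * ((a : F) + ((a⁻¹ : Fˣ) : F)) = 0 := by
              linear_combination h
            rcases mul_eq_zero.mp h5 with h6 | h6
            · apply hsub
              linear_combination -h6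
            · exact hτ h6
          · exact h
        rcases mul_eq_zero.mp hprod with h01 | h10
        · right; left
          have hut : u * t0' F = t0' F * u :=
            mem_centralizer_singleton.mp ((mem_cen_t0' u).mpr ⟨h01, hu11.symm⟩)
          rw [NC_eq h2 t0'_ne_one hu hut, mem_NC_t0' h2] at hy
          exact hy
        · left
          have hut : u * t0 F = t0 F * u :=
            mem_centralizer_singleton.mp ((mem_cen_t0 u).mpr ⟨h10, hu11.symm⟩)
          rw [NC_eq h2 t0_ne_one hu hut, mem_NC_t0 h2] at hy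
          exact hy
      · have hxu := mem_cen_of_mem_NC h2 hodd hτu hx
        rw [← NC_eq h2 hu hd1 hxu, mem_NC_iff' h2 hτ] at hy
        rcases hy with h | h
        · right; left
          have h3 := (conj_eq_iff y (dm a)).mp h
          have e01 := congrArg (fun g : S2 => (g : M2) 0 1) h3
          simp only [mul_01, dm, mk2_00, mk2_01, mk2_10, mk2_11] at e01
          have : (((a⁻¹ : Fˣ) : F) - (a : F)) * (y : M2) 0 1 = 0 := by linear_combination e01
          rcases mul_eq_zero.mp this with h4 | h4
          · exact absurd h4 hsub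
          · exact h4
        · right; right
          have h3 : y * dm a = (dm a)⁻¹ * y := by
            rw [← h]; group
          have e00 := congrArg (fun g : S2 => (g : M2) 0 0) h3
          have e11 := congrArg (fun g : S2 => (g : M2) 1 1) h3
          simp only [mul_00, mul_11, inv_00, inv_01, inv_10, inv_11, dm, mk2_00, mk2_01, mk2_10,
            mk2_11] at e00 e11
          constructor
          · have : (((a⁻¹ : Fˣ) : F) - (a : F)) * (y : M2) 0 0 = 0 := by linear_combination -e00
            rcases mul_eq_zero.mp this with h4 | h4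
            · exact absurd h4 hsub
            · exact h4
          · have : (((a⁻¹ : Fˣ) : F) - (a : F)) * (y : M2) 1 1 = 0 := by linear_combination e11
            rcases mul_eq_zero.mp this with h4 | h4
            · exact absurd h4 hsub
            · exact h4
  · rintro (h | h | ⟨h00, h11⟩)
    · right
      refine ⟨t0 F, t0_ne_one, ?_, ?_⟩
      · rw [mem_NC_t0 h2]; rfl
      · rw [mem_NC_t0 h2]; exact h
    · right
      refine ⟨t0' F, t0'_ne_one, ?_, ?_⟩
      · rw [mem_NC_t0' h2]; rfl
      · rw [mem_NC_t0' h2]; exact h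
    · right
      refine ⟨dm a, hd1, le_NC _ (mem_cen_self _), ?_⟩
      rw [mem_NC_iff' h2 hτ]
      right
      have h3 : y * dm a = (dm a)⁻¹ * y := by
        apply ext2
        · simp only [mul_00, inv_00, inv_01, dm, mk2_00, mk2_01, mk2_10, mk2_11]
          rw [h00]; ring
        · simp only [mul_01, inv_00, inv_01, dm, mk2_00, mk2_01, mk2_10, mk2_11]
          ring
        · simp only [mul_10, inv_10, inv_11, dm, mk2_00, mk2_01, mk2_10, mk2_11]
          ring
        · simp only [mul_11, inv_10, inv_11, dm, mk2_00, mk2_01, mk2_10, mk2_11]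
          rw [h11]; ring
      rw [h3]; group

end Finite

end Cfsg.Agent.Helper37.L2
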