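import Mathlib
import Cfsg.Agent.Lib.Helper37.L2F

set_option autoImplicit false

namespace Cfsg.Agent.Helper37.L2

open Matrix Cfsg.Agent.Helper40 Cfsg.Agent.Helper41 Cfsg.Agent.Helper37

variable {F : Type*} [Field F]

set_option quotPrecheck false in
local notation "S2" => Matrix.SpecialLinearGroup (Fin 2) F
set_option quotPrecheck false in
local notation "M2" => Matrix (Fin 2) (Fin 2) F
set_option quotPrecheck false in
local notation "C(" g ")" => Subgroup.centralizer ({g} : Set (Matrix.SpecialLinearGroup (Fin 2) F))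
set_option quotPrecheck false in
local notation "Sol(" g ")" =>
  Nat.card {y : Matrix.SpecialLinearGroup (Fin 2) F //
    Group.IsSolvable ↥(Subgroup.closure ({g, y} : Set (Matrix.SpecialLinearGroup (Fin 2) F)))}

/-- transposition on `SL₂` -/
def tp (g : S2) : S2 := ⟨(g : M2)ᵀ, by rw [Matrix.det_transpose]; exact g.2⟩

theorem tp_apply (g : S2) (i j : Fin 2) : (tp g : M2) i j = (g : M2) j i := rfl

theorem tp_tp (g : S2) : tp (tp g) = g := by
  apply ext2 <;> rfl

/-- antidiagonal elements -/
def am (h2 : (2 : F) = 0) (a : Fˣ) : Matrix.SpecialLinearGroup (Fin 2) F :=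
  mk2 0 (a : F) ((a⁻¹ : Fˣ) : F) 0 (by
    have h1 : (a : F) * ((a⁻¹ : Fˣ) : F) = 1 := by simp
    linear_combination -h1 - h2)

section Finite

variable [Fintype F]

theorem card_upper : Nat.card {y : S2 // (y : M2) 1 0 = 0} =
    Fintype.card F * (Fintype.card F - 1) := by
  rw [Nat.card_congr borelEquiv, Nat.card_prod, Nat.card_units, Nat.card_eq_fintype_card, mul_comm]

theorem card_lower : Nat.card {y : S2 // (y : M2) 0 1 = 0} =
    Fintype.card F * (Fintype.card F - 1) := by
  rw [← card_upper]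
  apply Nat.card_congr
  exact
    { toFun := fun y => ⟨tp y.1, y.2⟩
      invFun := fun y => ⟨tp y.1, y.2⟩
      left_inv := fun y => Subtype.ext (tp_tp y.1)
      right_inv := fun y => Subtype.ext (tp_tp y.1) }

theorem card_diag : Nat.card {y : S2 // (y : M2) 1 0 = 0 ∧ (y : M2) 0 1 = 0} =
    Fintype.card F - 1 := by
  have e : Fˣ ≃ {y : S2 // (y : M2) 1 0 = 0 ∧ (y : M2) 0 1 = 0} :=
    Equiv.ofBijective (fun a => ⟨dm a, rfl, rfl⟩) (by
      constructor
      · intro a b hab
        have := congrArg (fun y : {y : S2 // (y : M2) 1 0 = 0 ∧ (y : M2) 0 1 = 0} =>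
          (y.1 : M2) 0 0) hab
        exact Units.ext this
      · rintro ⟨y, h10, h01⟩
        refine ⟨Units.mk0 ((y : M2) 0 0) (g00_ne_zero_of_g10 y h10), ?_⟩
        apply Subtype.ext
        apply ext2
        · rfl
        · exact h01.symm
        · exact h10.symm
        · show (((Units.mk0 ((y : M2) 0 0) (g00_ne_zero_of_g10 y h10))⁻¹ : Fˣ) : F) = (y : M2) 1 1
          rw [Units.val_inv_eq_inv_val, Units.val_mk0]
          exact (g11_eq_inv_of_g10 y h10).symm)
  rw [← Nat.card_congr e, Nat.card_units, Nat.card_eq_fintype_card]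

theorem card_anti (h2 : (2 : F) = 0) :
    Nat.card {y : S2 // (y : M2) 0 0 = 0 ∧ (y : M2) 1 1 = 0} = Fintype.card F - 1 := by
  have e : Fˣ ≃ {y : S2 // (y : M2) 0 0 = 0 ∧ (y : M2) 1 1 = 0} :=
    Equiv.ofBijective (fun a => ⟨am h2 a, rfl, rfl⟩) (by
      constructor
      · intro a b hab
        have := congrArg (fun y : {y : S2 // (y : M2) 0 0 = 0 ∧ (y : M2) 1 1 = 0} =>
          (y.1 : M2) 0 1) hab
        exact Units.ext this
      · rintro ⟨y, h00, h11⟩
        have hd := det2 y
        rw [h00, h11] at hd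
        have hprod : (y : M2) 0 1 * (y : M2) 1 0 = 1 := by
          have := neg_eq h2 ((y : M2) 0 1 * (y : M2) 1 0)
          linear_combination hd - this
        have hne : (y : M2) 0 1 ≠ 0 := by
          intro h0
          rw [h0, zero_mul] at hprod
          exact zero_ne_one hprod
        refine ⟨Units.mk0 ((y : M2) 0 1) hne, ?_⟩
        apply Subtype.ext
        apply ext2
        · exact h00.symm
        · rfl
        · show (((Units.mk0 ((y : M2) 0 1) hne)⁻¹ : Fˣ) : F) = (y : M2) 1 0
          rw [Units.val_inv_eq_inv_val, Units.val_mk0]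
          exact (eq_inv_of_mul_eq_one_right hprod).symm
        · exact h11.symm)
  rw [← Nat.card_congr e, Nat.card_units, Nat.card_eq_fintype_card]

/-- the solubilizer of a non-identity element of a split torus -/
theorem card_sol_dm {n : ℕ} (hn : 1 ≤ n) (hF : Fintype.card F = 2 ^ n) {a : Fˣ}
    (ha : (a : F) ^ 2 ≠ 1) (hc : Nat.card ↥C(dm a) = Fintype.card F - 1) :
    Sol(dm a) = 2 * Fintype.card F * (Fintype.card F - 1) := by
  have h2 := two_eq_zero_of_card hF
  set A₁ : Set S2 := {y | (y : M2) 1 0 = 0} with hA₁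
  set A₂ : Set S2 := {y | (y : M2) 0 1 = 0} with hA₂
  set A₃ : Set S2 := {y | (y : M2) 0 0 = 0 ∧ (y : M2) 1 1 = 0} with hA₃
  have hset : {y : S2 | Group.IsSolvable ↥(Subgroup.closure ({dm a, y} : Set S2))} =
      (A₁ ∪ A₂) ∪ A₃ := by
    ext y
    rw [Set.mem_setOf_eq, solvable_dm_iff hn hF ha hc]
    simp only [Set.mem_union, Set.mem_setOf_eq, hA₁, hA₂, hA₃, or_assoc]
  have h1 : A₁.ncard = Fintype.card F * (Fintype.card F - 1) := by
    rw [← card_upper, ← Nat.card_coe_set_eq]; rfl
  have h2' : A₂.ncard = Fintype.card F * (Fintype.card F - 1) := by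
    rw [← card_lower, ← Nat.card_coe_set_eq]; rfl
  have h12 : (A₁ ∩ A₂).ncard = Fintype.card F - 1 := by
    rw [← card_diag, ← Nat.card_coe_set_eq]; rfl
  have h3 : A₃.ncard = Fintype.card F - 1 := by
    rw [← card_anti h2, ← Nat.card_coe_set_eq]; rfl
  have hdisj : Disjoint (A₁ ∪ A₂) A₃ := by
    rw [Set.disjoint_left]
    rintro y hy ⟨h00, h11⟩
    have hd := det2 y
    rw [h00, h11] at hd
    rcases hy with h | h
    · have h' : (y : M2) 1 0 = 0 := h
      rw [h'] at hd
      simp at hd
    · have h' : (y : M2) 0 1 = 0 := h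
      rw [h'] at hd
      simp at hd
  have hU := Set.ncard_union_add_ncard_inter A₁ A₂ (Set.toFinite _) (Set.toFinite _)
  show Nat.card ↥{y : S2 | Group.IsSolvable ↥(Subgroup.closure ({dm a, y} : Set S2))} = _
  rw [hset, Nat.card_coe_set_eq, Set.ncard_union_eq hdisj (Set.toFinite _) (Set.toFinite _), h3]
  rw [h1, h2', h12] at hU
  have e : 2 * Fintype.card F * (Fintype.card F - 1) =
      Fintype.card F * (Fintype.card F - 1) + Fintype.card F * (Fintype.card F - 1) := by ring
  rw [e]
  omega

end Finite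

end Cfsg.Agent.Helper37.L2
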