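import Mathlib
import Cfsg.Agent.Lib.Helper37.L2G

set_option autoImplicit false

namespace Cfsg.Agent.Helper37.L2

open Matrix Cfsg.Agent.Helper40 Cfsg.Agent.Helper41 Cfsg.Agent.Helper37

variable {F : Type*} [Field F] [Fintype F]

set_option quotPrecheck false in
local notation "S2" => Matrix.SpecialLinearGroup (Fin 2) F
set_option quotPrecheck false in
local notation "M2" => Matrix (Fin 2) (Fin 2) F
set_option quotPrecheck false in
local notation "C(" g ")" => Subgroup.centralizer ({g} : Set (Matrix.SpecialLinearGroup (Fin 2) F))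
set_option quotPrecheck false in
local notation "NC(" g ")" =>
  Subgroup.normalizer ((Subgroup.centralizer ({g} : Set (Matrix.SpecialLinearGroup (Fin 2) F)) :
    Subgroup (Matrix.SpecialLinearGroup (Fin 2) F)) : Set (Matrix.SpecialLinearGroup (Fin 2) F))
set_option quotPrecheck false in
local notation "Sol(" g ")" =>
  Nat.card {y : Matrix.SpecialLinearGroup (Fin 2) F //
    Group.IsSolvable ↥(Subgroup.closure ({g, y} : Set (Matrix.SpecialLinearGroup (Fin 2) F)))}

theorem t0_mul_self (h2 : (2 : F) = 0) : t0 F * t0 F = 1 :=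
  (sq_eq_one_iff h2 _).mpr (Or.inl (tr_t0 h2))

theorem t0_inv (h2 : (2 : F) = 0) : (t0 F)⁻¹ = t0 F :=
  inv_eq_of_mul_eq_one_right (t0_mul_self h2)

theorem t0_mul_10 (y : S2) : ((t0 F * y : S2) : M2) 1 0 = (y : M2) 1 0 := by
  simp only [mul_10, t0, mk2_10, mk2_11]
  ring

/-- elements commuting with a semisimple element are semisimple -/
theorem tr_ne_of_commute (h2 : (2 : F) = 0) {u c : S2} (hτ : tr u ≠ 0) (hc1 : c ≠ 1)
    (hcu : c * u = u * c) : tr c ≠ 0 := by
  intro h0
  have hu1 := ne_one_of_tr h2 hτ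
  have hC := cen_eq h2 hu1 hc1 hcu
  have h1 := card_cen_inv h2 hc1 h0
  rw [hC] at h1
  have hq2 : 2 ≤ Fintype.card F := Fintype.one_lt_card
  rcases card_cen_ss h2 hτ with h3 | ⟨h3, -⟩ <;> omega

/-- an element inverting `u` inverts the whole torus of `u` -/
theorem inverts_all (h2 : (2 : F) = 0) {u t c : S2} (hτ : tr u ≠ 0) (ht : t * u * t⁻¹ = u⁻¹)
    (hcu : c * u = u * c) : t * c * t⁻¹ = c⁻¹ := by
  by_cases hc1 : c = 1
  · rw [hc1]; group
  have hu1 := ne_one_of_tr h2 hτ
  have hτc := tr_ne_of_commute h2 hτ hc1 hcu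
  have hN := NC_eq h2 hu1 hc1 hcu
  have htN : t ∈ NC(c) := by
    rw [hN, mem_NC_iff' h2 hτ]
    right; exact ht
  rcases (mem_NC_iff' h2 hτc t).mp htN with h | h
  · exfalso
    have htc : t * c = c * t := (conj_eq_iff t c).mp h
    have htu : t * u = u * t := by
      have : t ∈ C(c) := mem_centralizer_singleton.mpr htc
      rw [cen_eq h2 hu1 hc1 hcu] at this
      exact mem_centralizer_singleton.mp this
    have := (conj_eq_iff t u).mpr htu
    rw [ht] at this
    exact ne_inv_of_tr h2 hτ this.symm
  · exact h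

/-- involutions outside the Borel subgroup generate a dihedral group with `t₀` -/
theorem solv_of_J (h2 : (2 : F) = 0) {y : S2} (hy : tr y = 0) (h10 : (y : M2) 1 0 ≠ 0) :
    ∃ u : S2, u ≠ 1 ∧ t0 F ∈ NC(u) ∧ y ∈ NC(u) := by
  have hyy : y * y = 1 := (sq_eq_one_iff h2 y).mpr (Or.inl hy)
  have hyinv : y⁻¹ = y := inv_eq_of_mul_eq_one_right hyy
  have htt := t0_mul_self (F := F) h2
  have htinv := t0_inv (F := F) h2
  set u := t0 F * y with hu
  have hτ : tr u ≠ 0 := by
    intro h0
    have huu : u * u = 1 := (sq_eq_one_iff h2 u).mpr (Or.inl h0)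
    apply h10
    have hcomm : y * t0 F = t0 F * y := by
      have h1 : u⁻¹ = u := inv_eq_of_mul_eq_one_right huu
      rw [hu, _root_.mul_inv_rev, hyinv, htinv] at h1
      exact h1
    exact ((mem_cen_t0 y).mp (mem_centralizer_singleton.mpr hcomm)).1
  refine ⟨u, ne_one_of_tr h2 hτ, ?_, ?_⟩
  · rw [mem_NC_iff' h2 hτ]
    right
    rw [hu, htinv, _root_.mul_inv_rev, hyinv, htinv]
    have : t0 F * (t0 F * y) * t0 F = (t0 F * t0 F) * y * t0 F := by group
    rw [this, htt, one_mul]
  · rw [mem_NC_iff' h2 hτ]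
    right
    rw [hu, hyinv, _root_.mul_inv_rev, hyinv, htinv]
    have : y * (t0 F * y) * y = y * t0 F * (y * y) := by group
    rw [this, hyy, mul_one]

/-- the solubilizer of the standard involution, described explicitly -/
theorem solvable_t0_iff (h2 : (2 : F) = 0) (y : S2) :
    Group.IsSolvable ↥(Subgroup.closure ({t0 F, y} : Set S2)) ↔
      (y : M2) 1 0 = 0 ∨ (tr y = 0 ∧ (y : M2) 1 0 ≠ 0) ∨
        (tr (t0 F * y) = 0 ∧ (y : M2) 1 0 ≠ 0) := by
  have htt := t0_mul_self (F := F) h2
  have htinv := t0_inv (F := F) h2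
  rw [solvable_iff_L2 h2]
  constructor
  · rintro (⟨h1, -⟩ | ⟨u, hu, ht, hy⟩)
    · exact absurd h1 t0_ne_one
    · by_cases h10 : (y : M2) 1 0 = 0
      · left; exact h10
      right
      by_cases hτ : tr u = 0
      · exfalso
        obtain ⟨k, hk⟩ := exists_conj_t0 h2 hu hτ
        have ht' := ht
        rw [hk, mem_NC_conj_iff, mem_NC_t0 h2] at ht'
        have hw : k⁻¹ * t0 F * k ∈ C(t0 F) := by
          rw [mem_cen_t0]
          refine ⟨ht', ?_⟩
          have h0 : tr (k⁻¹ * t0 F * k) = 0 := by
            have := tr_conj k⁻¹ (t0 F)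
            rw [inv_inv] at this
            rw [this, tr_t0 h2]
          unfold tr at h0
          have hn := neg_eq h2 (((k⁻¹ * t0 F * k : S2) : M2) 1 1)
          linear_combination h0 + hn
        have hcomm : t0 F * u = u * t0 F := by
          have h := mem_centralizer_singleton.mp hw
          rw [hk]
          have e1 : t0 F * (k * t0 F * k⁻¹) = k * (k⁻¹ * t0 F * k * t0 F) * k⁻¹ := by group
          have e2 : k * t0 F * k⁻¹ * t0 F = k * (t0 F * (k⁻¹ * t0 F * k)) * k⁻¹ := by group
          rw [e1, e2, h]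
        have hN := NC_eq h2 hu t0_ne_one hcomm
        rw [← hN, mem_NC_t0 h2] at hy
        exact h10 hy
      · rcases (mem_NC_iff' h2 hτ (t0 F)).mp ht with h | h
        · exfalso
          have hc : t0 F * u = u * t0 F := (conj_eq_iff (t0 F) u).mp h
          exact tr_ne_of_commute h2 hτ t0_ne_one hc (tr_t0 h2)
        · rcases (mem_NC_iff' h2 hτ y).mp hy with hy' | hy'
          · right
            refine ⟨?_, h10⟩
            have hyc : y * u = u * y := (conj_eq_iff y u).mp hy'
            have hinv := inverts_all h2 hτ h hyc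
            rw [htinv] at hinv
            have hsq : (t0 F * y) * (t0 F * y) = 1 := by
              have e : (t0 F * y) * (t0 F * y) = (t0 F * y * t0 F) * y := by group
              rw [e, hinv, inv_mul_cancel]
            rcases (sq_eq_one_iff h2 _).mp hsq with h0 | h1
            · exact h0
            · exfalso
              apply h10
              have : y = t0 F := by
                have := eq_inv_of_mul_eq_one_right h1
                rw [htinv] at this
                exact this
              rw [this]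
              rfl
          · left
            refine ⟨?_, h10⟩
            have hc : (y * t0 F) * u = u * (y * t0 F) := by
              apply (conj_eq_iff (y * t0 F) u).mp
              have e : y * t0 F * u * (y * t0 F)⁻¹ = y * (t0 F * u * (t0 F)⁻¹) * y⁻¹ := by group
              rw [e, h]
              have e2 : y * u⁻¹ * y⁻¹ = (y * u * y⁻¹)⁻¹ := by group
              rw [e2, hy', inv_inv]
            have hinv := inverts_all h2 hτ h hc
            rw [htinv, _root_.mul_inv_rev, htinv] at hinv
            have e : t0 F * (y * t0 F) * t0 F = t0 F * y * (t0 F * t0 F) := by group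
            rw [e, htt, mul_one] at hinv
            have hyy : y = y⁻¹ := mul_left_cancel hinv
            have hsq : y * y = 1 := by
              nth_rewrite 2 [hyy]
              exact mul_inv_cancel y
            rcases (sq_eq_one_iff h2 _).mp hsq with h0 | h1
            · exact h0
            · exfalso
              apply h10
              rw [h1]
              rfl
  · rintro (h10 | ⟨hy, h10⟩ | ⟨hy, h10⟩)
    · right
      exact ⟨t0 F, t0_ne_one, le_NC _ (mem_cen_self _), (mem_NC_t0 h2 y).mpr h10⟩
    · right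
      exact solv_of_J h2 hy h10
    · right
      have h10' : ((t0 F * y : S2) : M2) 1 0 ≠ 0 := by rw [t0_mul_10]; exact h10
      obtain ⟨u, hu, ht, hty⟩ := solv_of_J h2 hy h10'
      refine ⟨u, hu, ht, ?_⟩
      have e : y = (t0 F)⁻¹ * (t0 F * y) := by group
      rw [e]
      exact Subgroup.mul_mem _ (Subgroup.inv_mem _ ht) hty

theorem tr_t0_mul (y : S2) : tr (t0 F * y) = tr y + (y : M2) 1 0 := by
  unfold tr
  simp only [mul_00, mul_11, t0, mk2_00, mk2_01, mk2_10, mk2_11]
  ring

/-- the solubilizer of an involution of `SL₂(2ⁿ)` has `3q(q-1)` elements -/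
theorem card_sol_t0 (h2 : (2 : F) = 0) :
    Sol(t0 F) = 3 * Fintype.card F * (Fintype.card F - 1) := by
  set B : Set S2 := {y | (y : M2) 1 0 = 0} with hB
  set J : Set S2 := {y | tr y = 0 ∧ (y : M2) 1 0 ≠ 0} with hJ
  set J' : Set S2 := {y | tr (t0 F * y) = 0 ∧ (y : M2) 1 0 ≠ 0} with hJ'
  have hset : {y : S2 | Group.IsSolvable ↥(Subgroup.closure ({t0 F, y} : Set S2))} =
      (B ∪ J) ∪ J' := by
    ext y
    rw [Set.mem_setOf_eq, solvable_t0_iff h2]
    simp only [Set.mem_union, Set.mem_setOf_eq, hB, hJ, hJ', or_assoc]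
  have hq : 1 ≤ Fintype.card F := Fintype.card_pos
  have hqq : Fintype.card F ^ 2 = Fintype.card F * (Fintype.card F - 1) + Fintype.card F := by
    obtain ⟨m, hm⟩ := Nat.exists_eq_add_of_le hq
    rw [hm]
    have : 1 + m - 1 = m := by omega
    rw [this]
    ring
  have hBc : B.ncard = Fintype.card F * (Fintype.card F - 1) := by
    rw [← card_upper, ← Nat.card_coe_set_eq]; rfl
  have hJc : J.ncard = Fintype.card F * (Fintype.card F - 1) := by
    have hT := ncard_tr_zero (F := F) h2
    have hsplit : {Y : S2 | tr Y = 0} = J ∪ ((C(t0 F) : Subgroup S2) : Set S2) := by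
      ext y
      simp only [Set.mem_union, Set.mem_setOf_eq, hJ, SetLike.mem_coe, mem_cen_t0]
      constructor
      · intro h
        by_cases h10 : (y : M2) 1 0 = 0
        · right
          refine ⟨h10, ?_⟩
          unfold tr at h
          have := neg_eq h2 ((y : M2) 1 1)
          linear_combination h + this
        · left; exact ⟨h, h10⟩
      · rintro (⟨h, -⟩ | ⟨-, h⟩)
        · exact h
        · unfold tr; rw [h]; exact add_self h2 _
    have hdisj : Disjoint J ((C(t0 F) : Subgroup S2) : Set S2) := by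
      rw [Set.disjoint_left]
      rintro y ⟨-, h10⟩ hy
      exact h10 ((mem_cen_t0 y).mp hy).1
    have hC : (((C(t0 F) : Subgroup S2) : Set S2)).ncard = Fintype.card F := by
      rw [← card_cen_inv h2 t0_ne_one (tr_t0 h2), ← Nat.card_coe_set_eq]; rfl
    rw [hsplit, Set.ncard_union_eq hdisj (Set.toFinite _) (Set.toFinite _), hC] at hT
    omega
  have hJ'c : J'.ncard = J.ncard := by
    rw [← Nat.card_coe_set_eq, ← Nat.card_coe_set_eq]
    apply Nat.card_congr
    exact (Equiv.mulLeft (t0 F)).subtypeEquiv (fun y => by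
      show (tr (t0 F * y) = 0 ∧ (y : M2) 1 0 ≠ 0) ↔
        (tr (t0 F * y) = 0 ∧ ((t0 F * y : S2) : M2) 1 0 ≠ 0)
      rw [t0_mul_10])
  have hd1 : Disjoint B J := by
    rw [Set.disjoint_left]
    rintro y hy ⟨-, h10⟩
    exact h10 hy
  have hd2 : Disjoint (B ∪ J) J' := by
    rw [Set.disjoint_left]
    rintro y hy ⟨ht, h10⟩
    rcases hy with hy | ⟨hy, -⟩
    · exact h10 hy
    · rw [tr_t0_mul, hy, zero_add] at ht
      exact h10 ht
  show Nat.card ↥{y : S2 | Group.IsSolvable ↥(Subgroup.closure ({t0 F, y} : Set S2))} = _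
  rw [hset, Nat.card_coe_set_eq, Set.ncard_union_eq hd2 (Set.toFinite _) (Set.toFinite _),
    Set.ncard_union_eq hd1 (Set.toFinite _) (Set.toFinite _), hJ'c, hJc, hBc]
  ring

end Cfsg.Agent.Helper37.L2
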