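import Mathlib
import Cfsg.Agent.Lib.Helper37.L2H

set_option autoImplicit false

namespace Cfsg.Agent.Helper37.L2

open Matrix Cfsg.Agent.Helper40 Cfsg.Agent.Helper41 Cfsg.Agent.Helper37

variable {F : Type*} [Field F] [Fintype F]

set_option quotPrecheck false in
local notation "S2" => Matrix.SpecialLinearGroup (Fin 2) F
set_option quotPrecheck false in
local notation "M2" => Matrix (Fin 2) (Fin 2) F
set_option quotPrecheck false in
local notation "C(" g ")" => Subgroup.centralizer ({g} : Set (Matrix.SpecialLinearGroup (Fin 2) F))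
set_option quotPrecheck false in
local notation "Sol(" g ")" =>
  Nat.card {y : Matrix.SpecialLinearGroup (Fin 2) F //
    Group.IsSolvable ↥(Subgroup.closure ({g, y} : Set (Matrix.SpecialLinearGroup (Fin 2) F)))}

/-- solubilizer sizes are conjugation invariant -/
theorem card_sol_conj (k a : S2) : Sol(k * a * k⁻¹) = Sol(a) := by
  have h := card_solubilizer_equiv (MulAut.conj k⁻¹) (k * a * k⁻¹)
  have e : (MulAut.conj k⁻¹) (k * a * k⁻¹) = a := by
    simp only [MulAut.conj_apply]
    group
  rw [e] at h
  exact h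

/-- the sizes of the solubilizers in `SL₂(2ⁿ)` -/
theorem sol_main_L2 {n : ℕ} (hn : 1 ≤ n) (hF : Fintype.card F = 2 ^ n) (x : S2) :
    (orderOf x = 2 → Sol(x) = 3 * Fintype.card F * (Fintype.card F - 1)) ∧
    (x ≠ 1 → orderOf x ∣ Fintype.card F - 1 →
      Sol(x) = 2 * Fintype.card F * (Fintype.card F - 1)) ∧
    (x ≠ 1 → orderOf x ∣ Fintype.card F + 1 → Sol(x) = 2 * (Fintype.card F + 1)) := by
  have h2 := two_eq_zero_of_card hF
  obtain ⟨m, hm1, hqm⟩ : ∃ m, 1 ≤ m ∧ Fintype.card F = 2 * m := by
    refine ⟨2 ^ (n - 1), Nat.one_le_two_pow, ?_⟩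
    rw [hF, ← pow_succ']
    congr 1
    omega
  have hcop : Nat.Coprime (Fintype.card F - 1) (Fintype.card F + 1) := by
    have e : Fintype.card F + 1 = (Fintype.card F - 1) + 2 := by omega
    rw [e, Nat.coprime_self_add_right]
    rw [Nat.coprime_comm, Nat.Prime.coprime_iff_not_dvd Nat.prime_two]
    omega
  have hdvd : orderOf x ∣ Nat.card ↥C(x) := Subgroup.orderOf_dvd_natCard _ (mem_cen_self x)
  by_cases hx1 : x = 1
  · refine ⟨?_, fun h => absurd hx1 h, fun h => absurd hx1 h⟩
    intro h
    rw [hx1, orderOf_one] at h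
    omega
  by_cases hτ : tr x = 0
  · have hxx : x * x = 1 := (sq_eq_one_iff h2 x).mpr (Or.inl hτ)
    have hord : orderOf x = 2 := by
      haveI : Fact (Nat.Prime 2) := ⟨Nat.prime_two⟩
      apply orderOf_eq_prime _ hx1
      rw [pow_two, hxx]
    refine ⟨fun _ => ?_, fun _ h => ?_, fun _ h => ?_⟩
    · obtain ⟨k, hk⟩ := exists_conj_t0 h2 hx1 hτ
      rw [hk, card_sol_conj, card_sol_t0 h2]
    · exfalso
      rw [hord] at h
      omega
    · exfalso
      rw [hord] at h
      omega
  · rcases card_cen_ss h2 hτ with hc | ⟨hc, a, ha⟩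
    · have hodd := odd_of_card_cen hn hF (Or.inl hc)
      refine ⟨fun h => ?_, fun _ h => ?_, fun _ _ => card_sol_X hn hF hτ hc⟩
      · exfalso
        apply hodd
        rw [h]
      · exfalso
        rw [hc] at hdvd
        exact hx1 (eq_one_of_orderOf_dvd_coprime h hdvd hcop)
    · have hodd := odd_of_card_cen hn hF (Or.inr hc)
      refine ⟨fun h => ?_, fun _ _ => ?_, fun _ h => ?_⟩
      · exfalso
        apply hodd
        rw [h]
      · have ha0 : a ≠ 0 := by
          intro h0
          rw [h0] at ha
          simp at ha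
        set au : Fˣ := Units.mk0 a ha0 with hau
        have hinv : ((au⁻¹ : Fˣ) : F) = tr x - a := by
          rw [Units.val_inv_eq_inv_val, Units.val_mk0]
          apply inv_eq_of_mul_eq_one_right
          linear_combination ha
        have htr : tr (dm au) = tr x := by
          rw [tr_dm, hinv, Units.val_mk0]
          ring
        have hasq : ((au : Fˣ) : F) ^ 2 ≠ 1 := by
          intro h1
          apply hτ
          rw [Units.val_mk0] at h1
          have h0 : a * tr x = 0 := by linear_combination ha + h1 + h2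
          exact (mul_eq_zero.mp h0).resolve_left ha0
        have hd1 : dm au ≠ 1 := ne_one_of_tr h2 (tr_dm_ne h2 hasq)
        obtain ⟨k, hk⟩ := sl2_exists_conj_char_two h2 (dm au) x hd1 hx1 (by
          rw [trace_eq, trace_eq, htr])
        have hcd : Nat.card ↥C(dm au) = Fintype.card F - 1 := by
          rw [← hc, ← hk, card_centralizer_conj]
        rw [← hk, card_sol_conj, card_sol_dm hn hF hasq hcd]
      · exfalso
        rw [hc] at hdvd
        exact hx1 (eq_one_of_orderOf_dvd_coprime hdvd h hcop)

end Cfsg.Agent.Helper37.L2
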