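import Mathlib
import Cfsg.Agent.Lib.Helper37.L2I
import Cfsg.Agent.S2431

set_option autoImplicit false

namespace Cfsg.Agent.Helper37.L3

open Matrix Cfsg.Agent.Helper40 Cfsg.Agent.Helper41 Cfsg.Agent.Helper37
open Cfsg.Agent.Helper37.L2 (tr trace_eq tr_conj mat_ext mem_cen_self le_NC conj_eq_iff)

variable {F : Type*} [Field F]

set_option quotPrecheck false in
local notation "S2" => Matrix.SpecialLinearGroup (Fin 2) F
set_option quotPrecheck false in
local notation "M2" => Matrix (Fin 2) (Fin 2) F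
set_option quotPrecheck false in
local notation "C(" g ")" => Subgroup.centralizer ({g} : Set (Matrix.SpecialLinearGroup (Fin 2) F))
set_option quotPrecheck false in
local notation "NC(" g ")" =>
  Subgroup.normalizer ((Subgroup.centralizer ({g} : Set (Matrix.SpecialLinearGroup (Fin 2) F)) :
    Subgroup (Matrix.SpecialLinearGroup (Fin 2) F)) : Set (Matrix.SpecialLinearGroup (Fin 2) F))

/-- minus the identity -/
abbrev nOne (F : Type*) [Field F] : Matrix.SpecialLinearGroup (Fin 2) F := Cfsg.Agent.S2429.negOne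

/-- scalar elements of `SL₂` -/
def IsSc (g : S2) : Prop := (g : M2) 0 1 = 0 ∧ (g : M2) 1 0 = 0 ∧ (g : M2) 0 0 = (g : M2) 1 1

theorem nOne_00 : ((nOne F : S2) : M2) 0 0 = -1 := rfl
theorem nOne_01 : ((nOne F : S2) : M2) 0 1 = 0 := rfl
theorem nOne_10 : ((nOne F : S2) : M2) 1 0 = 0 := rfl
theorem nOne_11 : ((nOne F : S2) : M2) 1 1 = -1 := rfl

theorem nOne_mul (g : S2) : nOne F * g = g * nOne F := (Cfsg.Agent.S2431.negOne_central g).symm

theorem nOne_mul_00 (g : S2) : ((nOne F * g : S2) : M2) 0 0 = -(g : M2) 0 0 := by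
  rw [mul_00, nOne_00, nOne_01]; ring
theorem nOne_mul_01 (g : S2) : ((nOne F * g : S2) : M2) 0 1 = -(g : M2) 0 1 := by
  rw [mul_01, nOne_00, nOne_01]; ring
theorem nOne_mul_10 (g : S2) : ((nOne F * g : S2) : M2) 1 0 = -(g : M2) 1 0 := by
  rw [mul_10, nOne_10, nOne_11]; ring
theorem nOne_mul_11 (g : S2) : ((nOne F * g : S2) : M2) 1 1 = -(g : M2) 1 1 := by
  rw [mul_11, nOne_10, nOne_11]; ring

theorem nOne_sq : nOne F * nOne F = 1 := Cfsg.Agent.S2429.negOne_sq

theorem nOne_inv : (nOne F)⁻¹ = nOne F := inv_eq_of_mul_eq_one_right nOne_sq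

theorem isSc_one : IsSc (1 : S2) := ⟨one_01, one_10, by rw [one_00, one_11]⟩

theorem isSc_nOne : IsSc (nOne F) := ⟨rfl, rfl, rfl⟩

theorem isSc_iff (g : S2) : IsSc g ↔ g = 1 ∨ g = nOne F := by
  constructor
  · rintro ⟨h01, h10, h00⟩
    have hd := det2 g
    rw [h01, ← h00] at hd
    have hsq : (g : M2) 0 0 ^ 2 = 1 := by linear_combination hd
    rcases sq_eq_one_iff.mp hsq with ha | ha
    · left
      apply ext2
      · rw [ha, one_00]
      · rw [h01, one_01]
      · rw [h10, one_10]
      · rw [← h00, ha, one_11]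
    · right
      apply ext2
      · rw [ha, nOne_00]
      · rw [h01, nOne_01]
      · rw [h10, nOne_10]
      · rw [← h00, ha, nOne_11]
  · rintro (rfl | rfl)
    · exact isSc_one
    · exact isSc_nOne

theorem IsSc.comm {g : S2} (hg : IsSc g) (y : S2) : y * g = g * y := by
  rcases (isSc_iff g).mp hg with rfl | rfl
  · rw [mul_one, one_mul]
  · exact (nOne_mul y).symm

theorem isSc_conj (k g : S2) : IsSc (k * g * k⁻¹) ↔ IsSc g := by
  constructor
  · intro h
    have e2 : k⁻¹ * (k * g * k⁻¹) * k = k * g * k⁻¹ := by rw [h.comm k⁻¹]; group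
    have e : g = k⁻¹ * (k * g * k⁻¹) * k := by group
    rw [e, e2]; exact h
  · intro h
    have h1 := h.comm k
    rw [h1]
    have e : g * k * k⁻¹ = g := by group
    rw [e]
    exact h

theorem isSc_mul {g k : S2} (hg : IsSc g) (hk : IsSc k) : IsSc (g * k) := by
  rcases (isSc_iff g).mp hg with rfl | rfl <;> rcases (isSc_iff k).mp hk with rfl | rfl
  · rw [mul_one]; exact isSc_one
  · rw [one_mul]; exact isSc_nOne
  · rw [mul_one]; exact isSc_nOne
  · rw [nOne_sq]; exact isSc_one

theorem isSc_inv {g : S2} (hg : IsSc g) : IsSc g⁻¹ := by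
  rcases (isSc_iff g).mp hg with rfl | rfl
  · rw [inv_one]; exact isSc_one
  · rw [nOne_inv]; exact isSc_nOne

/-- centralisers of non-scalar elements are abelian -/
theorem comm_of_comm {g y z : S2} (hg : ¬ IsSc g) (hy : y * g = g * y)
    (hz : z * g = g * z) : y * z = z * y := by
  have hy' : (g : M2) * (y : M2) = (y : M2) * (g : M2) := by
    rw [← Matrix.SpecialLinearGroup.coe_mul, ← Matrix.SpecialLinearGroup.coe_mul, hy]
  have hz' : (g : M2) * (z : M2) = (z : M2) * (g : M2) := by
    rw [← Matrix.SpecialLinearGroup.coe_mul, ← Matrix.SpecialLinearGroup.coe_mul, hz]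
  have := commute_of_commute_nonscalar (g : M2) (y : M2) (z : M2) hg hy' hz'
  apply Subtype.ext
  rw [Matrix.SpecialLinearGroup.coe_mul, Matrix.SpecialLinearGroup.coe_mul, this]

theorem cen_eq {g t : S2} (hg : ¬ IsSc g) (ht : ¬ IsSc t) (htg : t * g = g * t) :
    C(t) = C(g) := by
  ext y
  rw [mem_centralizer_singleton, mem_centralizer_singleton]
  constructor
  · intro hy
    exact comm_of_comm ht hy htg.symm
  · intro hy
    exact comm_of_comm hg hy htg

/-- membership in the normaliser of the centraliser of a non-scalar element -/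
theorem mem_NC_iff {u : S2} (hu : ¬ IsSc u) (y : S2) :
    y ∈ NC(u) ↔ (y * u * y⁻¹) * u = u * (y * u * y⁻¹) := by
  constructor
  · intro hy
    have := (Subgroup.mem_normalizer_iff.mp hy u).mp (mem_centralizer_singleton.mpr rfl)
    exact mem_centralizer_singleton.mp this
  · intro hc
    have hw1 : ¬ IsSc (y * u * y⁻¹) := fun h => hu ((isSc_conj y u).mp h)
    have hC := cen_eq hu hw1 hc
    rw [Subgroup.mem_normalizer_iff]
    intro c
    have e : y⁻¹ * (y * c * y⁻¹) * y = c := by group
    constructor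
    · intro hcu
      rw [← hC, centralizer_conj, e]
      exact hcu
    · intro hcu
      rw [← hC, centralizer_conj, e] at hcu
      exact hcu

theorem NC_eq {g t : S2} (hg : ¬ IsSc g) (ht : ¬ IsSc t) (htg : t * g = g * t) :
    NC(t) = NC(g) := by
  rw [cen_eq hg ht htg]

theorem tr_one : tr (1 : S2) = 2 := by
  unfold tr
  rw [one_00, one_11]; ring

theorem tr_nOne : tr (nOne F) = -2 := by
  unfold tr
  rw [nOne_00, nOne_11]; ring

theorem tr_nOne_mul (g : S2) : tr (nOne F * g) = -tr g := by
  unfold tr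
  rw [nOne_mul_00, nOne_mul_11]; ring

theorem tr_inv (g : S2) : tr g⁻¹ = tr g := by
  unfold tr
  rw [inv_00, inv_11, add_comm]

/-- Cayley–Hamilton -/
theorem sq_eq (g : S2) : ((g * g : S2) : M2) = tr g • (g : M2) - 1 := by
  have hd := det2 g
  apply mat_ext
  · rw [mul_00]
    simp only [Matrix.sub_apply, Matrix.smul_apply, Matrix.one_apply_eq, smul_eq_mul, tr]
    linear_combination -hd
  · rw [mul_01]
    simp only [Matrix.sub_apply, Matrix.smul_apply, smul_eq_mul, tr]
    rw [Matrix.one_apply_ne (by decide)]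
    ring
  · rw [mul_10]
    simp only [Matrix.sub_apply, Matrix.smul_apply, smul_eq_mul, tr]
    rw [Matrix.one_apply_ne (by decide)]
    ring
  · rw [mul_11]
    simp only [Matrix.sub_apply, Matrix.smul_apply, Matrix.one_apply_eq, smul_eq_mul, tr]
    linear_combination -hd

theorem sq_eq_nOne_of_tr {g : S2} (ht : tr g = 0) : g * g = nOne F := by
  apply Subtype.ext
  rw [sq_eq, ht, zero_smul, zero_sub]
  exact Cfsg.Agent.S2431.negOne_coe.symm

theorem tr_of_sq_eq_nOne {g : S2} (h : g * g = nOne F) : tr g = 0 := by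
  unfold tr
  rw [Cfsg.Agent.S2431.trace_zero_of_sq g h]; ring

theorem not_isSc_of_tr (h2 : (2 : F) ≠ 0) {g : S2} (ht : tr g = 0) : ¬ IsSc g := by
  intro h
  rcases (isSc_iff g).mp h with rfl | rfl
  · rw [tr_one] at ht; exact h2 ht
  · rw [tr_nOne] at ht
    apply h2
    linear_combination -ht

theorem inv_eq_of_tr {g : S2} (ht : tr g = 0) : g⁻¹ = nOne F * g := by
  have h := sq_eq_nOne_of_tr ht
  have : g * (nOne F * g) = 1 := by
    rw [nOne_mul, ← mul_assoc, h, nOne_sq]
  exact inv_eq_of_mul_eq_one_right this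

/-- if `g² = 1` then `g` is scalar -/
theorem isSc_of_sq_eq_one (h2 : (2 : F) ≠ 0) {g : S2} (h : g * g = 1) : IsSc g := by
  have h1 := sq_eq g
  rw [h, Matrix.SpecialLinearGroup.coe_one] at h1
  have e01 := congrFun (congrFun h1 0) 1
  have e10 := congrFun (congrFun h1 1) 0
  have e00 := congrFun (congrFun h1 0) 0
  have e11 := congrFun (congrFun h1 1) 1
  simp only [Matrix.sub_apply, Matrix.smul_apply, smul_eq_mul, Matrix.one_apply_eq] at e00 e11
  simp only [Matrix.sub_apply, Matrix.smul_apply, smul_eq_mul] at e01 e10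
  rw [Matrix.one_apply_ne (by decide)] at e01 e10
  have ht : tr g ≠ 0 := by
    intro h0
    rw [h0] at e00
    apply h2
    linear_combination e00
  refine ⟨?_, ?_, ?_⟩
  · have : tr g * (g : M2) 0 1 = 0 := by linear_combination -e01
    exact (mul_eq_zero.mp this).resolve_left ht
  · have : tr g * (g : M2) 1 0 = 0 := by linear_combination -e10
    exact (mul_eq_zero.mp this).resolve_left ht
  · have : tr g * ((g : M2) 0 0 - (g : M2) 1 1) = 0 := by linear_combination e11 - e00
    have := (mul_eq_zero.mp this).resolve_left ht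
    linear_combination this

/-- if `g²` is scalar then `g` is scalar or has trace zero -/
theorem isSc_or_tr_of_sq (h2 : (2 : F) ≠ 0) {g : S2} (h : IsSc (g * g)) : IsSc g ∨ tr g = 0 := by
  rcases (isSc_iff _).mp h with h1 | h1
  · left; exact isSc_of_sq_eq_one h2 h1
  · right; exact tr_of_sq_eq_nOne h1

end Cfsg.Agent.Helper37.L3
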