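import Mathlib
import Cfsg.Agent.Lib.Helper37.L3A

set_option autoImplicit false

namespace Cfsg.Agent.Helper37.L3

open Matrix Cfsg.Agent.Helper40 Cfsg.Agent.Helper41 Cfsg.Agent.Helper37
open Cfsg.Agent.Helper37.L2 (tr trace_eq tr_conj mat_ext le_NC conj_eq_iff)

variable {F : Type*} [Field F]

set_option quotPrecheck false in
local notation "S2" => Matrix.SpecialLinearGroup (Fin 2) F
set_option quotPrecheck false in
local notation "M2" => Matrix (Fin 2) (Fin 2) F
set_option quotPrecheck false in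
local notation "C(" g ")" => Subgroup.centralizer ({g} : Set (Matrix.SpecialLinearGroup (Fin 2) F))
set_option quotPrecheck false in
local notation "NC(" g ")" =>
  Subgroup.normalizer ((Subgroup.centralizer ({g} : Set (Matrix.SpecialLinearGroup (Fin 2) F)) :
    Subgroup (Matrix.SpecialLinearGroup (Fin 2) F)) : Set (Matrix.SpecialLinearGroup (Fin 2) F))

theorem tr_sq_of_isSc {g : S2} (h : IsSc g) : tr g ^ 2 = 4 := by
  rcases (isSc_iff g).mp h with rfl | rfl
  · rw [tr_one]; norm_num
  · rw [tr_nOne]; norm_num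

theorem not_isSc_of_rs {u : S2} (hτ : tr u ^ 2 ≠ 4) : ¬ IsSc u := fun h => hτ (tr_sq_of_isSc h)

theorem ne_inv_of_rs (h2 : (2 : F) ≠ 0) {u : S2} (hτ : tr u ^ 2 ≠ 4) : u ≠ u⁻¹ := by
  intro h
  have h1 : u * u = 1 := by
    nth_rewrite 2 [h]
    exact mul_inv_cancel u
  exact not_isSc_of_rs hτ (isSc_of_sq_eq_one h2 h1)

/-- an element commuting with `u` and of the same trace is `u` or `u⁻¹` -/
theorem eq_or_eq_inv (h2 : (2 : F) ≠ 0) {u w : S2} (hτ : tr u ^ 2 ≠ 4) (hw : w * u = u * w)
    (htr : tr w = tr u) : w = u ∨ w = u⁻¹ := by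
  have hw' : (u : M2) * (w : M2) = (w : M2) * (u : M2) := by
    have h : ((w * u : S2) : M2) = ((u * w : S2) : M2) := by rw [hw]
    rw [Matrix.SpecialLinearGroup.coe_mul, Matrix.SpecialLinearGroup.coe_mul] at h
    exact h.symm
  obtain ⟨α, β, hαβ⟩ := exists_eq_smul_add_smul_of_commute (u : M2) (w : M2)
    (not_isSc_of_rs hτ) hw'
  have e00 : (w : M2) 0 0 = α + β * (u : M2) 0 0 := by
    rw [hαβ]; simp
  have e01 : (w : M2) 0 1 = β * (u : M2) 0 1 := by
    rw [hαβ]; simp
  have e10 : (w : M2) 1 0 = β * (u : M2) 1 0 := by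
    rw [hαβ]; simp
  have e11 : (w : M2) 1 1 = α + β * (u : M2) 1 1 := by
    rw [hαβ]; simp
  have hdw := det2 w
  have hdu := det2 u
  rw [e00, e01, e10, e11] at hdw
  have htr' : 2 * α + β * tr u = tr u := by
    have : tr w = 2 * α + β * tr u := by
      unfold tr
      rw [e00, e11]; ring
    rw [← this, htr]
  have hdw' : α ^ 2 + α * β * tr u + β ^ 2 = 1 := by
    unfold tr
    linear_combination hdw - β ^ 2 * hdu
  have hβ : (1 - β) * (1 + β) * (tr u ^ 2 - 4) = 0 := by
    linear_combination (4 : F) * hdw' - (tr u * (1 - β) + 2 * α + 2 * β * tr u) * htr'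
  have hτ' : tr u ^ 2 - 4 ≠ 0 := sub_ne_zero.mpr hτ
  have hβ' : (1 - β) * (1 + β) = 0 := (mul_eq_zero.mp hβ).resolve_right hτ'
  rcases mul_eq_zero.mp hβ' with h | h
  · left
    have hb : β = 1 := by linear_combination -h
    have hα : α = 0 := by
      rw [hb] at htr'
      have : 2 * α = 0 := by linear_combination htr'
      exact (mul_eq_zero.mp this).resolve_left h2
    subst hb
    subst hα
    apply ext2
    · rw [e00]; ring
    · rw [e01]; ring
    · rw [e10]; ring
    · rw [e11]; ring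
  · right
    have hb : β = -1 := by linear_combination h
    have hα : α = tr u := by
      rw [hb] at htr'
      have : 2 * (α - tr u) = 0 := by linear_combination htr'
      have := (mul_eq_zero.mp this).resolve_left h2
      linear_combination this
    subst hb
    subst hα
    apply ext2
    · rw [inv_00, e00]; unfold tr; ring
    · rw [inv_01, e01]; ring
    · rw [inv_10, e10]; ring
    · rw [inv_11, e11]; unfold tr; ring

/-- the normaliser of a torus: elements centralising or inverting `u` -/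
theorem mem_NC_iff' (h2 : (2 : F) ≠ 0) {u : S2} (hτ : tr u ^ 2 ≠ 4) (y : S2) :
    y ∈ NC(u) ↔ y * u * y⁻¹ = u ∨ y * u * y⁻¹ = u⁻¹ := by
  rw [mem_NC_iff (not_isSc_of_rs hτ)]
  constructor
  · intro hc
    exact eq_or_eq_inv h2 hτ hc (tr_conj y u)
  · rintro (h | h)
    · rw [h]
    · rw [h, inv_mul_cancel, mul_inv_cancel]

section Finite

variable [Fintype F]

theorem exists_conj_of_tr {u w : S2} (hτ : tr u ^ 2 ≠ 4) (h : tr w = tr u) :
    ∃ k : S2, k * u * k⁻¹ = w := by
  have hs : (u : M2).trace ^ 2 ≠ 4 := by rw [trace_eq]; exact hτ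
  have := sl2_conj_class_eq u hs
  have hw : w ∈ {Y : S2 | IsConj u Y} := by
    rw [this, Set.mem_setOf_eq, trace_eq, trace_eq, h]
  exact isConj_iff.mp hw

theorem exists_inverter {u : S2} (hτ : tr u ^ 2 ≠ 4) : ∃ k : S2, k * u * k⁻¹ = u⁻¹ :=
  exists_conj_of_tr hτ (tr_inv u)

/-- a maximal torus has index two in its normaliser -/
theorem card_NC (h2 : (2 : F) ≠ 0) {u : S2} (hτ : tr u ^ 2 ≠ 4) :
    Nat.card ↥NC(u) = 2 * Nat.card ↥C(u) := by
  obtain ⟨k, hk⟩ := exists_inverter hτ
  have hne := ne_inv_of_rs h2 hτ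
  have hset : (NC(u) : Set S2) = (C(u) : Set S2) ∪ (fun c => k * c) '' (C(u) : Set S2) := by
    ext y
    rw [SetLike.mem_coe, mem_NC_iff' h2 hτ]
    constructor
    · rintro (h | h)
      · left
        exact mem_centralizer_singleton.mpr ((conj_eq_iff y u).mp h)
      · right
        refine ⟨k⁻¹ * y, ?_, by group⟩
        rw [SetLike.mem_coe, mem_centralizer_singleton, ← conj_eq_iff]
        have e : k⁻¹ * y * u * (k⁻¹ * y)⁻¹ = k⁻¹ * (y * u * y⁻¹) * k := by group
        rw [e, h, ← hk]; group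
    · rintro (h | ⟨c, hc, rfl⟩)
      · left
        exact (conj_eq_iff y u).mpr (mem_centralizer_singleton.mp h)
      · right
        have hc' : c * u * c⁻¹ = u := (conj_eq_iff c u).mpr (mem_centralizer_singleton.mp hc)
        have e : k * c * u * (k * c)⁻¹ = k * (c * u * c⁻¹) * k⁻¹ := by group
        rw [e, hc', hk]
  have hdisj : Disjoint (C(u) : Set S2) ((fun c => k * c) '' (C(u) : Set S2)) := by
    rw [Set.disjoint_left]
    rintro y hy ⟨c, hc, rfl⟩
    have hkC : k ∈ C(u) := by
      have : k = (k * c) * c⁻¹ := by group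
      rw [this]
      exact mul_mem hy (inv_mem hc)
    have := (conj_eq_iff k u).mpr (mem_centralizer_singleton.mp hkC)
    rw [hk] at this
    exact hne this.symm
  have h1 : Nat.card ↥NC(u) = (NC(u) : Set S2).ncard := by
    rw [← Nat.card_coe_set_eq]; rfl
  have h2' : Nat.card ↥C(u) = (C(u) : Set S2).ncard := by
    rw [← Nat.card_coe_set_eq]; rfl
  rw [h1, hset, Set.ncard_union_eq hdisj (Set.toFinite _) (Set.toFinite _),
    Set.ncard_image_of_injective _ (mul_right_injective k), h2']
  ring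

/-- the normaliser of a maximal torus is solvable -/
theorem isSolvable_NC (h2 : (2 : F) ≠ 0) {u : S2} (hτ : tr u ^ 2 ≠ 4) :
    Group.IsSolvable ↥NC(u) := by
  have hu1 := not_isSc_of_rs hτ
  set K := (C(u)).subgroupOf NC(u) with hK
  haveI : K.Normal := Subgroup.normal_in_normalizer
  rw [Group.isSolvable_iff_subgroup_quotient K]
  constructor
  · apply Group.isSolvable_of_comm
    intro a b
    apply Subtype.ext
    apply Subtype.ext
    have ha : a.1.1 ∈ C(u) := Subgroup.mem_subgroupOf.mp a.2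
    have hb : b.1.1 ∈ C(u) := Subgroup.mem_subgroupOf.mp b.2
    exact comm_of_comm hu1 (mem_centralizer_singleton.mp ha) (mem_centralizer_singleton.mp hb)
  · have hcK : Nat.card ↥K = Nat.card ↥C(u) :=
      Nat.card_congr (Subgroup.subgroupOfEquivOfLe Subgroup.le_normalizer).toEquiv
    have hidx : K.index = 2 ^ 1 := by
      have := K.card_mul_index
      rw [hcK, card_NC h2 hτ, mul_comm] at this
      rw [pow_one]
      exact Nat.eq_of_mul_eq_mul_right Nat.card_pos this
    haveI : Fact (Nat.Prime 2) := ⟨Nat.prime_two⟩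
    have hp : IsPGroup 2 (↥NC(u) ⧸ K) := IsPGroup.of_card hidx
    haveI := hp.isNilpotent
    infer_instance

/-- the centraliser of a regular semisimple element has order `q + 1` or `q - 1` -/
theorem card_cen_rs {g : S2} (hτ : tr g ^ 2 ≠ 4) :
    ((∀ a : F, a * (tr g - a) - 1 ≠ 0) ∧ Nat.card ↥C(g) = Fintype.card F + 1) ∨
      ((∃ a : F, a * (tr g - a) - 1 = 0) ∧ Nat.card ↥C(g) = Fintype.card F - 1) := by
  classical
  have hcls : ({Y : S2 | IsConj g Y}).ncard = Fintype.card F * (Fintype.card F - 1) +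
      Fintype.card F * Fintype.card {a : F // a * (tr g - a) - 1 = 0} := by
    have hn := L2.ncard_tr (F := F) (tr g)
    have hs : (g : M2).trace ^ 2 ≠ 4 := by rw [trace_eq]; exact hτ
    rw [sl2_conj_class_eq g hs, ← hn]
    congr 1
    ext Y
    simp only [Set.mem_setOf_eq, trace_eq]
  have h1 := L2.card_cen_mul g
  rw [hcls] at h1
  have hq : 2 ≤ Fintype.card F := Fintype.one_lt_card
  obtain ⟨k, hk⟩ : ∃ k, Fintype.card F = k + 2 := ⟨Fintype.card F - 2, by omega⟩
  rw [hk] at h1 ⊢
  have e1 : k + 2 - 1 = k + 1 := by omega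
  rw [e1] at h1 ⊢
  rcases card_roots_eq (tr g) hτ with hr | hr
  · left
    constructor
    · intro a ha
      have : 0 < Fintype.card {a : F // a * (tr g - a) - 1 = 0} :=
        Fintype.card_pos_iff.mpr ⟨⟨a, ha⟩⟩
      omega
    · rw [hr, mul_zero, add_zero] at h1
      have h3 : Nat.card ↥C(g) * ((k + 2) * (k + 1)) = (k + 2 + 1) * ((k + 2) * (k + 1)) := by
        rw [h1]; ring
      exact Nat.eq_of_mul_eq_mul_right (by positivity) h3
  · right
    constructor
    · have hne : Nonempty {a : F // a * (tr g - a) - 1 = 0} := by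
        rw [← Fintype.card_pos_iff, hr]
        norm_num
      obtain ⟨⟨a, ha⟩⟩ := hne
      exact ⟨a, ha⟩
    · rw [hr] at h1
      have h3 : Nat.card ↥C(g) * ((k + 2) * (k + 2 + 1)) = (k + 1) * ((k + 2) * (k + 2 + 1)) := by
        have : (k + 2) * (k + 1) + (k + 2) * 2 = (k + 2) * (k + 2 + 1) := by ring
        rw [← this, h1]; ring
      exact Nat.eq_of_mul_eq_mul_right (by positivity) h3

end Finite

end Cfsg.Agent.Helper37.L3
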