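import Mathlib
import Cfsg.Agent.Lib.Helper37.L3B

set_option autoImplicit false

namespace Cfsg.Agent.Helper37.L3

open Matrix Cfsg.Agent.Helper40 Cfsg.Agent.Helper41 Cfsg.Agent.Helper37
open Cfsg.Agent.Helper37.L2 (tr trace_eq tr_conj mat_ext le_NC conj_eq_iff)

variable {F : Type*} [Field F]

set_option quotPrecheck false in
local notation "S2" => Matrix.SpecialLinearGroup (Fin 2) F
set_option quotPrecheck false in
local notation "M2" => Matrix (Fin 2) (Fin 2) F
set_option quotPrecheck false in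
local notation "C(" g ")" => Subgroup.centralizer ({g} : Set (Matrix.SpecialLinearGroup (Fin 2) F))
set_option quotPrecheck false in
local notation "NC(" g ")" =>
  Subgroup.normalizer ((Subgroup.centralizer ({g} : Set (Matrix.SpecialLinearGroup (Fin 2) F)) :
    Subgroup (Matrix.SpecialLinearGroup (Fin 2) F)) : Set (Matrix.SpecialLinearGroup (Fin 2) F))

/-- an eigenvector for a root of the characteristic polynomial -/
theorem exists_eigvec {g : S2} (hg : ¬ IsSc g) {a : F} (ha : a * (tr g - a) - 1 = 0) :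
    ∃ v0 v1 : F, (v0 ≠ 0 ∨ v1 ≠ 0) ∧ (g : M2) 0 0 * v0 + (g : M2) 0 1 * v1 = a * v0 ∧
      (g : M2) 1 0 * v0 + (g : M2) 1 1 * v1 = a * v1 := by
  have hd := det2 g
  unfold tr at ha
  by_cases hc0 : (g : M2) 0 0 - (tr g - a) = 0 ∧ (g : M2) 1 0 = 0
  · by_cases hc1 : (g : M2) 0 1 = 0 ∧ (g : M2) 1 1 - (tr g - a) = 0
    · exfalso
      apply hg
      refine ⟨hc1.1, hc0.2, ?_⟩
      linear_combination hc0.1 - hc1.2
    · refine ⟨(g : M2) 0 1, (g : M2) 1 1 - (tr g - a), ?_, ?_, ?_⟩
      · by_contra h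
        push_neg at h
        exact hc1 h
      · unfold tr; ring
      · unfold tr; linear_combination -hd + ha
  · refine ⟨(g : M2) 0 0 - (tr g - a), (g : M2) 1 0, ?_, ?_, ?_⟩
    · by_contra h
      push_neg at h
      exact hc0 h
    · unfold tr; linear_combination -hd + ha
    · unfold tr; ring

/-- conjugating an eigenvector to the first basis vector -/
theorem conj_col (k g : S2) (a : F)
    (h0 : (g : M2) 0 0 * (k : M2) 0 0 + (g : M2) 0 1 * (k : M2) 1 0 = a * (k : M2) 0 0)
    (h1 : (g : M2) 1 0 * (k : M2) 0 0 + (g : M2) 1 1 * (k : M2) 1 0 = a * (k : M2) 1 0) :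
    ((k⁻¹ * g * k : S2) : M2) 1 0 = 0 ∧ ((k⁻¹ * g * k : S2) : M2) 0 0 = a := by
  have hd := det2 k
  constructor
  · rw [mul_10, mul_10, mul_11, inv_10, inv_11]
    linear_combination (-(k : M2) 1 0) * h0 + (k : M2) 0 0 * h1
  · rw [mul_00, mul_00, mul_01, inv_00, inv_01]
    linear_combination (k : M2) 1 1 * h0 - (k : M2) 0 1 * h1 + a * hd

theorem exists_conj_upper {g : S2} (hg : ¬ IsSc g) {a : F} (ha : a * (tr g - a) - 1 = 0) :
    ∃ k : S2, ((k⁻¹ * g * k : S2) : M2) 1 0 = 0 ∧ ((k⁻¹ * g * k : S2) : M2) 0 0 = a := by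
  obtain ⟨v0, v1, hv, e0, e1⟩ := exists_eigvec hg ha
  by_cases h0 : v0 = 0
  · have h1 : v1 ≠ 0 := by
      rcases hv with h | h
      · exact absurd h0 h
      · exact h
    refine ⟨mk2 0 (-v1⁻¹) v1 0 (by have := mul_inv_cancel₀ h1; linear_combination this), ?_⟩
    apply conj_col
    · rw [mk2_00, mk2_10]
      rw [h0] at e0
      linear_combination e0
    · rw [mk2_00, mk2_10]
      rw [h0] at e1
      linear_combination e1
  · refine ⟨mk2 v0 0 v1 v0⁻¹ (by have := mul_inv_cancel₀ h0; linear_combination this), ?_⟩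
    apply conj_col
    · rw [mk2_00, mk2_10]; exact e0
    · rw [mk2_00, mk2_10]; exact e1

/-- upper triangular non-scalar elements with equal diagonal entries -/
theorem mem_cen_ut {u : S2} (h10 : (u : M2) 1 0 = 0) (h00 : (u : M2) 0 0 = (u : M2) 1 1)
    (h01 : (u : M2) 0 1 ≠ 0) (y : S2) :
    y ∈ C(u) ↔ (y : M2) 1 0 = 0 ∧ (y : M2) 0 0 = (y : M2) 1 1 := by
  rw [mem_centralizer_singleton]
  constructor
  · intro h
    have e00 := congrArg (fun g : S2 => (g : M2) 0 0) h
    have e01 := congrArg (fun g : S2 => (g : M2) 0 1) h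
    simp only [mul_00, mul_01, h10, h00] at e00 e01
    constructor
    · have : (u : M2) 0 1 * (y : M2) 1 0 = 0 := by linear_combination -e00
      exact (mul_eq_zero.mp this).resolve_left h01
    · have : (u : M2) 0 1 * ((y : M2) 0 0 - (y : M2) 1 1) = 0 := by linear_combination e01
      have := (mul_eq_zero.mp this).resolve_left h01
      linear_combination this
  · rintro ⟨hy10, hy00⟩
    apply ext2
    · rw [mul_00, mul_00, h10, hy10]; ring
    · rw [mul_01, mul_01, h00, hy00]; ring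
    · rw [mul_10, mul_10, h10, hy10]; ring
    · rw [mul_11, mul_11, h10, hy10]; ring

theorem not_isSc_ut {u : S2} (h01 : (u : M2) 0 1 ≠ 0) : ¬ IsSc u := fun h => h01 h.1

theorem mem_NC_ut {u : S2} (h10 : (u : M2) 1 0 = 0) (h00 : (u : M2) 0 0 = (u : M2) 1 1)
    (h01 : (u : M2) 0 1 ≠ 0) (y : S2) : y ∈ NC(u) ↔ (y : M2) 1 0 = 0 := by
  rw [mem_NC_iff (not_isSc_ut h01), ← mem_centralizer_singleton, mem_cen_ut h10 h00 h01]
  have hd := det2 y
  have e10 : ((y * u * y⁻¹ : S2) : M2) 1 0 = -((u : M2) 0 1 * (y : M2) 1 0 ^ 2) := by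
    simp only [mul_10, mul_00, mul_01, mul_11, inv_00, inv_10, h10, h00]
    ring
  have e00 : ((y * u * y⁻¹ : S2) : M2) 0 0 =
      (u : M2) 1 1 - (u : M2) 0 1 * (y : M2) 0 0 * (y : M2) 1 0 := by
    simp only [mul_10, mul_00, mul_01, mul_11, inv_00, inv_10, h10, h00]
    linear_combination (u : M2) 1 1 * hd
  have e11 : ((y * u * y⁻¹ : S2) : M2) 1 1 =
      (u : M2) 1 1 + (u : M2) 0 1 * (y : M2) 0 0 * (y : M2) 1 0 := by
    simp only [mul_10, mul_00, mul_01, mul_11, inv_01, inv_11, h10, h00]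
    linear_combination (u : M2) 1 1 * hd
  rw [e10, e00, e11]
  constructor
  · rintro ⟨h, -⟩
    have : (u : M2) 0 1 * (y : M2) 1 0 ^ 2 = 0 := by linear_combination -h
    have := (mul_eq_zero.mp this).resolve_left h01
    exact pow_eq_zero_iff two_ne_zero |>.mp this
  · intro h
    rw [h]
    constructor <;> ring

theorem NC_ut_eq {u : S2} (h10 : (u : M2) 1 0 = 0) (h00 : (u : M2) 0 0 = (u : M2) 1 1)
    (h01 : (u : M2) 0 1 ≠ 0) : NC(u) = borel F := by
  ext y
  rw [mem_NC_ut h10 h00 h01, mem_borel]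

/-- every non-scalar element of squared trace four is conjugate to an upper unitriangular one -/
theorem exists_conj_ut {u : S2} (hu : ¬ IsSc u) (ht : tr u ^ 2 = 4) :
    ∃ k u' : S2, u = k * u' * k⁻¹ ∧ (u' : M2) 1 0 = 0 ∧ (u' : M2) 0 0 = (u' : M2) 1 1 ∧
      (u' : M2) 0 1 ≠ 0 := by
  obtain ⟨a, haa, ha⟩ : ∃ a : F, tr u = 2 * a ∧ a * (tr u - a) - 1 = 0 := by
    have h : (tr u - 2) * (tr u + 2) = 0 := by linear_combination ht
    rcases mul_eq_zero.mp h with h | h
    · have h' : tr u = 2 := by linear_combination h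
      exact ⟨1, by rw [h']; ring, by rw [h']; ring⟩
    · have h' : tr u = -2 := by linear_combination h
      exact ⟨-1, by rw [h']; ring, by rw [h']; ring⟩
  obtain ⟨k, hk10, hk00⟩ := exists_conj_upper hu ha
  have htr : tr (k⁻¹ * u * k) = tr u := by
    have := tr_conj k⁻¹ u
    rw [inv_inv] at this
    exact this
  have h11 : ((k⁻¹ * u * k : S2) : M2) 0 0 = ((k⁻¹ * u * k : S2) : M2) 1 1 := by
    unfold tr at htr haa
    rw [hk00] at htr ⊢
    linear_combination -htr - haa
  refine ⟨k, k⁻¹ * u * k, by group, hk10, h11, ?_⟩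
  intro h01
  apply hu
  have hsc : IsSc (k⁻¹ * u * k) := ⟨h01, hk10, h11⟩
  exact (isSc_conj k⁻¹ u).mp (by rw [inv_inv]; exact hsc)

section Finite

variable [Fintype F]

/-- two elements normalising the centraliser of a non-scalar element generate a solvable group -/
theorem solvable_of_mem_NC (h2 : (2 : F) ≠ 0) {u x y : S2} (hu : ¬ IsSc u) (hx : x ∈ NC(u))
    (hy : y ∈ NC(u)) : Group.IsSolvable ↥(Subgroup.closure ({x, y} : Set S2)) := by
  by_cases hτ : tr u ^ 2 = 4
  · obtain ⟨k, u', hk, h10, h00, h01⟩ := exists_conj_ut hu hτ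
    rw [hk, L2.mem_NC_conj_iff, NC_ut_eq h10 h00 h01] at hx hy
    rw [isSolvable_closure_pair_iff (MulAut.conj k⁻¹) x y]
    have e : ∀ z : S2, (MulAut.conj k⁻¹) z = k⁻¹ * z * k := by
      intro z
      simp [MulAut.conj_apply]
    rw [e, e]
    have hle : Subgroup.closure ({k⁻¹ * x * k, k⁻¹ * y * k} : Set S2) ≤ borel F := by
      rw [Subgroup.closure_le]
      rintro w (rfl | rfl)
      · exact hx
      · exact hy
    haveI := L2.isSolvable_borel' (F := F)
    exact Group.isSolvable_of_isSolvable_injective (Subgroup.inclusion_injective hle)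
  · have hle : Subgroup.closure ({x, y} : Set S2) ≤ NC(u) := by
      rw [Subgroup.closure_le]
      rintro w (rfl | rfl)
      · exact hx
      · exact hy
    haveI := isSolvable_NC h2 hτ
    exact Group.isSolvable_of_isSolvable_injective (Subgroup.inclusion_injective hle)

end Finite

end Cfsg.Agent.Helper37.L3
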