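import Mathlib
import Cfsg.Agent.Lib.Helper37.L3C

set_option autoImplicit false

namespace Cfsg.Agent.Helper37.L3

open Matrix Cfsg.Agent.Helper40 Cfsg.Agent.Helper41 Cfsg.Agent.Helper37
open Cfsg.Agent.Helper37.L2 (tr trace_eq tr_conj mat_ext le_NC conj_eq_iff)

variable {F : Type*} [Field F]

set_option quotPrecheck false in
local notation "S2" => Matrix.SpecialLinearGroup (Fin 2) F
set_option quotPrecheck false in
local notation "M2" => Matrix (Fin 2) (Fin 2) F

/-- anticommuting elements -/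
def Ac (w u : S2) : Prop := w * u = nOne F * (u * w)

theorem nOne_ne_one (h2 : (2 : F) ≠ 0) : nOne F ≠ 1 := Cfsg.Agent.S2429.negOne_ne_one h2

theorem nOne_nOne_mul (g : S2) : nOne F * (nOne F * g) = g := by
  rw [← mul_assoc, nOne_sq, one_mul]

theorem Ac.symm {w u : S2} (h : Ac w u) : Ac u w := by
  unfold Ac at h ⊢
  rw [h, nOne_nOne_mul]

theorem Ac.not_comm (h2 : (2 : F) ≠ 0) {w u : S2} (h : Ac w u) : w * u ≠ u * w := by
  intro hc
  unfold Ac at h
  rw [hc] at h
  apply nOne_ne_one h2
  have : nOne F * (u * w) * (u * w)⁻¹ = (u * w) * (u * w)⁻¹ := by rw [← h]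
  rw [mul_assoc, mul_inv_cancel, mul_one] at this
  exact this

theorem Ac.tr_left (h2 : (2 : F) ≠ 0) {w u : S2} (h : Ac w u) : tr w = 0 := by
  have e : u * w * u⁻¹ = nOne F * w := by
    have h' := h.symm
    unfold Ac at h'
    rw [h']
    rw [mul_assoc, mul_assoc, mul_inv_cancel, mul_one]
  have h1 := tr_conj u w
  rw [e, tr_nOne_mul] at h1
  have : 2 * tr w = 0 := by linear_combination -h1
  exact (mul_eq_zero.mp this).resolve_left h2

theorem Ac.tr_right (h2 : (2 : F) ≠ 0) {w u : S2} (h : Ac w u) : tr u = 0 := h.symm.tr_left h2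

theorem Ac.tr_mul (h2 : (2 : F) ≠ 0) {w u : S2} (h : Ac w u) : tr (w * u) = 0 := by
  have h1 : tr (u * w) = tr (w * u) := by
    have := tr_conj u (w * u)
    have e : u * (w * u) * u⁻¹ = u * w := by group
    rw [e] at this
    exact this
  unfold Ac at h
  have h3 : tr (w * u) = -tr (u * w) := by rw [h, tr_nOne_mul]
  rw [h1] at h3
  have : 2 * tr (w * u) = 0 := by linear_combination h3
  exact (mul_eq_zero.mp this).resolve_left h2

theorem Ac.nOne_left {w u : S2} (h : Ac w u) : Ac (nOne F * w) u := by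
  unfold Ac at h ⊢
  rw [mul_assoc, h, ← mul_assoc u, ← nOne_mul u, mul_assoc (nOne F) u w]

theorem Ac.nOne_right {w u : S2} (h : Ac w u) : Ac w (nOne F * u) := (h.symm.nOne_left).symm

theorem mul_nOne_mul (a b : S2) : a * (nOne F * b) = nOne F * (a * b) := by
  rw [← mul_assoc, ← nOne_mul a, mul_assoc]

/-- products: anticommuting times anticommuting commutes -/
theorem comm_mul_of_ac {w v u : S2} (hw : Ac w u) (hv : Ac v u) : (w * v) * u = u * (w * v) := by
  unfold Ac at hw hv
  calc (w * v) * u = w * (v * u) := mul_assoc _ _ _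
    _ = w * (nOne F * (u * v)) := by rw [hv]
    _ = nOne F * ((w * u) * v) := by rw [mul_nOne_mul, mul_assoc]
    _ = nOne F * ((nOne F * (u * w)) * v) := by rw [hw]
    _ = u * (w * v) := by rw [mul_assoc (nOne F), nOne_nOne_mul, mul_assoc]

theorem comm_mul_of_comm {w v u : S2} (hw : w * u = u * w) (hv : v * u = u * v) :
    (w * v) * u = u * (w * v) := by
  rw [mul_assoc, hv, ← mul_assoc, hw, mul_assoc]

theorem ac_mul_of_ac_comm {w v u : S2} (hw : Ac w u) (hv : v * u = u * v) : Ac (w * v) u := by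
  unfold Ac at hw ⊢
  calc (w * v) * u = w * (v * u) := mul_assoc _ _ _
    _ = (w * u) * v := by rw [hv, mul_assoc]
    _ = (nOne F * (u * w)) * v := by rw [hw]
    _ = nOne F * (u * (w * v)) := by rw [mul_assoc, mul_assoc]

theorem ac_mul_of_comm_ac {w v u : S2} (hw : w * u = u * w) (hv : Ac v u) : Ac (w * v) u := by
  unfold Ac at hv ⊢
  calc (w * v) * u = w * (v * u) := mul_assoc _ _ _
    _ = w * (nOne F * (u * v)) := by rw [hv]
    _ = nOne F * ((w * u) * v) := by rw [mul_nOne_mul, mul_assoc]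
    _ = nOne F * (u * (w * v)) := by rw [hw, mul_assoc]

/-- an element commuting with two anticommuting elements is scalar -/
theorem isSc_of_comm_comm (h2 : (2 : F) ≠ 0) {w u v : S2} (huv : Ac u v) (hu : w * u = u * w)
    (hv : w * v = v * w) : IsSc w := by
  by_contra hw
  exact huv.not_comm h2 (comm_of_comm hw hu.symm hv.symm)

/-- the quaternion group attached to an anticommuting pair, as the set of elements commuting or
anticommuting with both generators -/
def Fx (u v : S2) : Subgroup S2 where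
  carrier := {w | (w * u = u * w ∨ Ac w u) ∧ (w * v = v * w ∨ Ac w v)}
  one_mem' := ⟨Or.inl (by rw [one_mul, mul_one]), Or.inl (by rw [one_mul, mul_one])⟩
  mul_mem' := by
    rintro a b ⟨ha1, ha2⟩ ⟨hb1, hb2⟩
    constructor
    · rcases ha1 with ha | ha <;> rcases hb1 with hb | hb
      · exact Or.inl (comm_mul_of_comm ha hb)
      · exact Or.inr (ac_mul_of_comm_ac ha hb)
      · exact Or.inr (ac_mul_of_ac_comm ha hb)
      · exact Or.inl (comm_mul_of_ac ha hb)
    · rcases ha2 with ha | ha <;> rcases hb2 with hb | hb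
      · exact Or.inl (comm_mul_of_comm ha hb)
      · exact Or.inr (ac_mul_of_comm_ac ha hb)
      · exact Or.inr (ac_mul_of_ac_comm ha hb)
      · exact Or.inl (comm_mul_of_ac ha hb)
  inv_mem' := by
    have key : ∀ a z : S2, (a * z = z * a ∨ Ac a z) → (a⁻¹ * z = z * a⁻¹ ∨ Ac a⁻¹ z) := by
      intro a z h
      rcases h with h | h
      · left
        have : a⁻¹ * z = a⁻¹ * (z * a) * a⁻¹ := by group
        rw [this, ← h]; group
      · right
        unfold Ac at h ⊢
        have e1 : z * a⁻¹ = a⁻¹ * (a * z) * a⁻¹ := by group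
        rw [h] at e1
        have e2 : a⁻¹ * (nOne F * (z * a)) * a⁻¹ = nOne F * (a⁻¹ * z) := by
          rw [mul_nOne_mul, mul_assoc]
          congr 1
          group
        rw [e2] at e1
        rw [e1, nOne_nOne_mul]
    rintro a ⟨ha1, ha2⟩
    exact ⟨key a u ha1, key a v ha2⟩

theorem mem_Fx (u v w : S2) :
    w ∈ Fx u v ↔ (w * u = u * w ∨ Ac w u) ∧ (w * v = v * w ∨ Ac w v) := Iff.rfl

theorem nOne_mem_Fx (u v : S2) : nOne F ∈ Fx u v :=
  ⟨Or.inl (nOne_mul u), Or.inl (nOne_mul v)⟩

theorem left_mem_Fx {u v : S2} (h : Ac u v) : u ∈ Fx u v := ⟨Or.inl rfl, Or.inr h⟩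

theorem right_mem_Fx {u v : S2} (h : Ac u v) : v ∈ Fx u v := ⟨Or.inr h.symm, Or.inl rfl⟩

theorem inv_eq_nOne_mul {w : S2} (ht : tr w = 0) : w⁻¹ = nOne F * w := inv_eq_of_tr ht

/-- the eight elements of the quaternion group -/
theorem mem_Fx_cases (h2 : (2 : F) ≠ 0) {u v w : S2} (huv : Ac u v) (hw : w ∈ Fx u v) :
    (w = 1 ∨ w = nOne F) ∨ (w = u ∨ w = nOne F * u) ∨ (w = v ∨ w = nOne F * v) ∨
      (w = u * v ∨ w = nOne F * (u * v)) := by
  have htu := huv.tr_left h2
  have htv := huv.tr_right h2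
  have htuv := huv.tr_mul h2
  have huvu : Ac (u * v) u := ac_mul_of_comm_ac rfl huv.symm
  have huvv : Ac (u * v) v := ac_mul_of_ac_comm huv rfl
  have fin : ∀ z : S2, tr z = 0 → IsSc (w * z) → (w = z ∨ w = nOne F * z) := by
    intro z hz hsc
    have hzi := inv_eq_nOne_mul hz
    rcases (isSc_iff _).mp hsc with h | h
    · right
      have : w = z⁻¹ := eq_inv_of_mul_eq_one_left h
      rw [this, hzi]
    · left
      have : w = nOne F * z⁻¹ := by
        have e : w = (w * z) * z⁻¹ := by group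
        rw [e, h]
      rw [this, hzi, nOne_nOne_mul]
  obtain ⟨h1, h2'⟩ := hw
  rcases h1 with h1 | h1 <;> rcases h2' with h3 | h3
  · left
    exact (isSc_iff w).mp (isSc_of_comm_comm h2 huv h1 h3)
  · right; left
    apply fin u htu
    exact isSc_of_comm_comm h2 huv (comm_mul_of_comm h1 rfl) (comm_mul_of_ac h3 huv)
  · right; right; left
    apply fin v htv
    exact isSc_of_comm_comm h2 huv (comm_mul_of_ac h1 huv.symm) (comm_mul_of_comm h3 rfl)
  · right; right; right
    apply fin (u * v) htuv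
    exact isSc_of_comm_comm h2 huv (comm_mul_of_ac h1 huvu) (comm_mul_of_ac h3 huvv)

/-- elements of the quaternion group are scalar or of trace zero -/
theorem isSc_or_tr_of_mem_Fx (h2 : (2 : F) ≠ 0) {u v w : S2} (huv : Ac u v) (hw : w ∈ Fx u v) :
    IsSc w ∨ tr w = 0 := by
  rcases mem_Fx_cases h2 huv hw with h | h | h | h
  · left; exact (isSc_iff w).mpr h
  · right
    rcases h with rfl | rfl
    · exact huv.tr_left h2
    · rw [tr_nOne_mul, huv.tr_left h2, neg_zero]
  · right
    rcases h with rfl | rfl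
    · exact huv.tr_right h2
    · rw [tr_nOne_mul, huv.tr_right h2, neg_zero]
  · right
    rcases h with rfl | rfl
    · exact huv.tr_mul h2
    · rw [tr_nOne_mul, huv.tr_mul h2, neg_zero]

end Cfsg.Agent.Helper37.L3
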