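import Mathlib
import Cfsg.Agent.Lib.Helper37.L3D
import Cfsg.Agent.S0809

set_option autoImplicit false

namespace Cfsg.Agent.Helper37.L3

open Matrix Cfsg.Agent.Helper40 Cfsg.Agent.Helper41 Cfsg.Agent.Helper37
open Cfsg.Agent.Helper37.L2 (tr trace_eq tr_conj mat_ext le_NC conj_eq_iff)

/-- an element conjugating a finite subgroup into itself normalises it -/
theorem mem_normalizer_of_conj_mem {G : Type*} [Group G] (H : Subgroup G) [Finite H] (g : G)
    (h : ∀ x ∈ H, g * x * g⁻¹ ∈ H) : g ∈ Subgroup.normalizer (H : Set G) := by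
  let f : H → H := fun x => ⟨g * x.1 * g⁻¹, h x.1 x.2⟩
  have hinj : Function.Injective f := by
    intro a b hab
    have h1 : g * a.1 * g⁻¹ = g * b.1 * g⁻¹ := congrArg Subtype.val hab
    apply Subtype.ext
    have : a.1 = g⁻¹ * (g * a.1 * g⁻¹) * g := by group
    rw [this, h1]; group
  have hsurj : Function.Surjective f := Finite.injective_iff_surjective.mp hinj
  rw [Subgroup.mem_normalizer_iff]
  intro x
  constructor
  · exact h x
  · intro hx
    obtain ⟨a, ha⟩ := hsurj ⟨g * x * g⁻¹, hx⟩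
    have h1 : g * a.1 * g⁻¹ = g * x * g⁻¹ := congrArg Subtype.val ha
    have : x = a.1 := by
      have e : x = g⁻¹ * (g * x * g⁻¹) * g := by group
      rw [e, ← h1]; group
    rw [this]
    exact a.2

variable {F : Type*} [Field F]

set_option quotPrecheck false in
local notation "S2" => Matrix.SpecialLinearGroup (Fin 2) F
set_option quotPrecheck false in
local notation "M2" => Matrix (Fin 2) (Fin 2) F

theorem Ac.mul_left_self {u v : S2} (huv : Ac u v) : Ac (u * v) u :=
  ac_mul_of_comm_ac rfl huv.symm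

theorem Ac.mul_right_self {u v : S2} (huv : Ac u v) : Ac (u * v) v :=
  ac_mul_of_ac_comm huv rfl

theorem nOne_conj (k : S2) : k * nOne F * k⁻¹ = nOne F := by
  rw [← nOne_mul k, mul_assoc, mul_inv_cancel, mul_one]

/-- two non-scalar elements of the quaternion group are proportional or anticommute -/
theorem same_or_ac (h2 : (2 : F) ≠ 0) {u v w w' : S2} (huv : Ac u v) (hw : w ∈ Fx u v)
    (hw' : w' ∈ Fx u v) (hns : ¬ IsSc w) (hns' : ¬ IsSc w') :
    w' = w ∨ w' = nOne F * w ∨ Ac w w' := by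
  have ax : ∀ x : S2, x ∈ Fx u v → ¬ IsSc x →
      ∃ z : S2, (z = u ∨ z = v ∨ z = u * v) ∧ (x = z ∨ x = nOne F * z) := by
    intro x hx hxs
    rcases mem_Fx_cases h2 huv hx with h | h | h | h
    · exact absurd ((isSc_iff x).mpr h) hxs
    · exact ⟨u, Or.inl rfl, h⟩
    · exact ⟨v, Or.inr (Or.inl rfl), h⟩
    · exact ⟨u * v, Or.inr (Or.inr rfl), h⟩
  obtain ⟨z, hz, hwz⟩ := ax w hw hns
  obtain ⟨z', hz', hwz'⟩ := ax w' hw' hns'
  have sgn : ∀ a b : S2, Ac a b → Ac w w' → Ac w w' := fun _ _ _ h => h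
  have key : z = z' ∨ Ac z z' := by
    rcases hz with rfl | rfl | rfl <;> rcases hz' with rfl | rfl | rfl
    · left; rfl
    · right; exact huv
    · right; exact huv.mul_left_self.symm
    · right; exact huv.symm
    · left; rfl
    · right; exact huv.mul_right_self.symm
    · right; exact huv.mul_left_self
    · right; exact huv.mul_right_self
    · left; rfl
  rcases key with rfl | hac
  · rcases hwz with rfl | rfl <;> rcases hwz' with rfl | rfl
    · left; rfl
    · right; left; rfl
    · right; left; rw [nOne_nOne_mul]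
    · left; rfl
  · right; right
    rcases hwz with rfl | rfl <;> rcases hwz' with rfl | rfl
    · exact hac
    · exact hac.nOne_right
    · exact hac.nOne_left
    · exact hac.nOne_left.nOne_right

/-- conjugation by an element mapping the generators into the quaternion group preserves it -/
theorem conj_mem_Fx (h2 : (2 : F) ≠ 0) {u v k : S2} (huv : Ac u v)
    (hu' : k * u * k⁻¹ ∈ Fx u v) (hv' : k * v * k⁻¹ ∈ Fx u v) {w : S2} (hw : w ∈ Fx u v) :
    k * w * k⁻¹ ∈ Fx u v := by
  have hn : k * nOne F * k⁻¹ ∈ Fx u v := by rw [nOne_conj]; exact nOne_mem_Fx u v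
  have cm : ∀ a b : S2, k * (a * b) * k⁻¹ = (k * a * k⁻¹) * (k * b * k⁻¹) := by
    intro a b; group
  rcases mem_Fx_cases h2 huv hw with (rfl | rfl) | (rfl | rfl) | (rfl | rfl) | (rfl | rfl)
  · have : k * 1 * k⁻¹ = (1 : S2) := by group
    rw [this]; exact Subgroup.one_mem _
  · exact hn
  · exact hu'
  · rw [cm]; exact Subgroup.mul_mem _ hn hu'
  · exact hv'
  · rw [cm]; exact Subgroup.mul_mem _ hn hv'
  · rw [cm]; exact Subgroup.mul_mem _ hu' hv'
  · rw [cm, cm]; exact Subgroup.mul_mem _ hn (Subgroup.mul_mem _ hu' hv')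

theorem sq_of_ac_left (h2 : (2 : F) ≠ 0) {u v : S2} (huv : Ac u v) : u * u = nOne F :=
  sq_eq_nOne_of_tr (huv.tr_left h2)

theorem orderOf_of_tr (h2 : (2 : F) ≠ 0) {u : S2} (ht : tr u = 0) : orderOf u = 4 :=
  Cfsg.Agent.S0809.orderOf_eq_four h2 u (sq_eq_nOne_of_tr ht)

section Finite

variable [Fintype F]

instance : Finite S2 := by
  classical
  exact Finite.of_fintype _

theorem card_Fx (h2 : (2 : F) ≠ 0) {u v : S2} (huv : Ac u v) : Nat.card ↥(Fx u v) = 8 := by
  classical
  have hle : Nat.card ↥(Fx u v) ≤ 8 := by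
    let L : List S2 := [1, nOne F, u, nOne F * u, v, nOne F * v, u * v, nOne F * (u * v)]
    have hsub : ((Fx u v : Subgroup S2) : Set S2) ⊆ ↑L.toFinset := by
      intro w hw
      have := mem_Fx_cases h2 huv hw
      simp only [Finset.mem_coe, List.mem_toFinset, L, List.mem_cons, List.mem_nil_iff, or_false]
      tauto
    have h1 : Nat.card ↥(Fx u v) = ((Fx u v : Subgroup S2) : Set S2).ncard := by
      rw [← Nat.card_coe_set_eq]; rfl
    rw [h1]
    calc ((Fx u v : Subgroup S2) : Set S2).ncard ≤ (↑L.toFinset : Set S2).ncard :=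
          Set.ncard_le_ncard hsub (Finset.finite_toSet _)
      _ = L.toFinset.card := Set.ncard_coe_finset _
      _ ≤ L.length := List.toFinset_card_le L
      _ = 8 := rfl
  have hz : Subgroup.zpowers u ≤ Fx u v := by
    rw [Subgroup.zpowers_le]
    exact left_mem_Fx huv
  have hdvd : 4 ∣ Nat.card ↥(Fx u v) := by
    have := Subgroup.card_dvd_of_le hz
    rw [Nat.card_zpowers, orderOf_of_tr h2 (huv.tr_left h2)] at this
    exact this
  have hne : Nat.card ↥(Fx u v) ≠ 4 := by
    intro h4
    have hcard : Nat.card ↥(Fx u v) ≤ Nat.card ↥(Subgroup.zpowers u) := by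
      rw [Nat.card_zpowers, orderOf_of_tr h2 (huv.tr_left h2), h4]
    have heq : Subgroup.zpowers u = Fx u v := Subgroup.eq_of_le_of_card_ge hz hcard
    have hv : v ∈ Subgroup.zpowers u := by rw [heq]; exact right_mem_Fx huv
    obtain ⟨n, hn⟩ := Subgroup.mem_zpowers_iff.mp hv
    apply huv.not_comm h2
    rw [← hn]
    exact (Commute.self_zpow u n)
  have hpos : 0 < Nat.card ↥(Fx u v) := Nat.card_pos
  obtain ⟨m, hm⟩ := hdvd
  omega

end Finite

end Cfsg.Agent.Helper37.L3
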