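import Mathlib
import Cfsg.Agent.Lib.Helper37.L3E

set_option autoImplicit false

namespace Cfsg.Agent.Helper37.L3

open Matrix Cfsg.Agent.Helper40 Cfsg.Agent.Helper41 Cfsg.Agent.Helper37
open Cfsg.Agent.Helper37.L2 (tr trace_eq tr_conj mat_ext le_NC conj_eq_iff)

/-- cosets of a normal subgroup of index three -/
theorem coset_cases {G : Type*} [Group G] (K : Subgroup G) [K.Normal]
    (h3 : Nat.card (G ⧸ K) = 3) {t : G} (ht : t ∉ K) (y : G) :
    y ∈ K ∨ y * t⁻¹ ∈ K ∨ y * t ∈ K := by
  haveI : Fact (Nat.Prime 3) := ⟨Nat.prime_three⟩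
  have ht1 : (QuotientGroup.mk t : G ⧸ K) ≠ 1 := by
    intro h
    exact ht ((QuotientGroup.eq_one_iff t).mp h)
  have htop := zpowers_eq_top_of_prime_card h3 ht1
  have hy : (QuotientGroup.mk y : G ⧸ K) ∈ Subgroup.zpowers (QuotientGroup.mk t : G ⧸ K) := by
    rw [htop]; exact Subgroup.mem_top _
  obtain ⟨n, hn⟩ := Subgroup.mem_zpowers_iff.mp hy
  have hp3 : (QuotientGroup.mk t : G ⧸ K) ^ (3 : ℤ) = 1 := by
    have := pow_card_eq_one' (G := G ⧸ K) (x := QuotientGroup.mk t)
    rw [h3] at this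
    exact_mod_cast this
  have hdecomp : n = 3 * (n / 3) + n % 3 := (Int.mul_ediv_add_emod n 3).symm
  have hr0 : 0 ≤ n % 3 := Int.emod_nonneg n (by norm_num)
  have hr3 : n % 3 < 3 := Int.emod_lt_of_pos n (by norm_num)
  have hpow : (QuotientGroup.mk t : G ⧸ K) ^ n = (QuotientGroup.mk t : G ⧸ K) ^ (n % 3) := by
    conv_lhs => rw [hdecomp]
    rw [_root_.zpow_add, _root_.zpow_mul, hp3, _root_.one_zpow, one_mul]
  rw [hpow] at hn
  have hcases : n % 3 = 0 ∨ n % 3 = 1 ∨ n % 3 = 2 := by omega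
  rcases hcases with h | h | h
  · left
    rw [h, zpow_zero] at hn
    exact (QuotientGroup.eq_one_iff y).mp hn.symm
  · right; left
    rw [h, zpow_one] at hn
    apply (QuotientGroup.eq_one_iff _).mp
    rw [QuotientGroup.mk_mul, QuotientGroup.mk_inv, ← hn, mul_inv_cancel]
  · right; right
    have h2 : (QuotientGroup.mk t : G ⧸ K) ^ (2 : ℤ) = (QuotientGroup.mk t : G ⧸ K)⁻¹ := by
      have : (QuotientGroup.mk t : G ⧸ K) ^ (2 : ℤ) * (QuotientGroup.mk t : G ⧸ K) = 1 := by
        rw [← _root_.zpow_add_one]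
        exact hp3
      exact eq_inv_of_mul_eq_one_left this
    rw [h, h2] at hn
    apply (QuotientGroup.eq_one_iff _).mp
    rw [QuotientGroup.mk_mul, ← hn, inv_mul_cancel]

/-- elements of order dividing four in a group with a normal subgroup of index three -/
theorem mem_of_pow_four {G : Type*} [Group G] (K : Subgroup G) [K.Normal]
    (h3 : Nat.card (G ⧸ K) = 3) {w : G} (hw : w ^ 4 = 1) : w ∈ K := by
  apply (QuotientGroup.eq_one_iff w).mp
  have h1 : (QuotientGroup.mk w : G ⧸ K) ^ 3 = 1 := by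
    have := pow_card_eq_one' (G := G ⧸ K) (x := QuotientGroup.mk w)
    rw [h3] at this
    exact this
  have h4 : (QuotientGroup.mk w : G ⧸ K) ^ 4 = 1 := by
    rw [← QuotientGroup.mk_pow, hw, QuotientGroup.mk_one]
  have : (QuotientGroup.mk w : G ⧸ K) ^ 4 = (QuotientGroup.mk w : G ⧸ K) ^ 3 * QuotientGroup.mk w :=
    pow_succ _ 3
  rw [h1, one_mul] at this
  rw [← this, h4]

variable {F : Type*} [Field F] [Fintype F]

set_option quotPrecheck false in
local notation "S2" => Matrix.SpecialLinearGroup (Fin 2) F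
set_option quotPrecheck false in
local notation "M2" => Matrix (Fin 2) (Fin 2) F

theorem two_ne_zero_of_mod (hq : Fintype.card F % 8 = 3) : (2 : F) ≠ 0 :=
  Cfsg.Agent.S2431.char_ne_two (by omega)

/-- the normaliser of a quaternion subgroup has order 24 -/
theorem card_normalizer_Fx (hq : Fintype.card F % 8 = 3) {u v : S2} (huv : Ac u v) :
    Nat.card ↥(Subgroup.normalizer ((Fx u v : Subgroup S2) : Set S2)) = 24 := by
  have h2 := two_ne_zero_of_mod hq
  haveI : Fact (Nat.Prime 2) := ⟨Nat.prime_two⟩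
  have hq1 : 1 < Fintype.card F := Fintype.one_lt_card
  have hfac : (Nat.card S2).factorization 2 = 3 := by
    rw [card_SL2]
    have h1 := Cfsg.Agent.S2431.fact_two_one (Fintype.card F - 1) (by omega)
    have h2' := Cfsg.Agent.S2431.fact_eq_two (Fintype.card F + 1) (by omega)
    exact Cfsg.Agent.S2431.val_card (Fintype.card F) 2 hq1 (by rw [h1, h2']) (by omega)
  have hcard : Nat.card ↥(Fx u v) = 2 ^ (Nat.card S2).factorization 2 := by
    rw [hfac, card_Fx h2 huv]; norm_num
  let P : Sylow 2 S2 := Sylow.ofCard (Fx u v) hcard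
  have hP : (P : Subgroup S2) = Fx u v := Sylow.coe_ofCard _ _
  have hodd : Odd (Fintype.card F) := by
    rw [Nat.odd_iff]; omega
  have h := (Cfsg.Agent.S2431.result hodd P).2.2 (Or.inl hq)
  rw [hP] at h
  rw [h, card_Fx h2 huv]

theorem card_quot_Fx (hq : Fintype.card F % 8 = 3) {u v : S2} (huv : Ac u v) :
    Nat.card (↥(Subgroup.normalizer ((Fx u v : Subgroup S2) : Set S2)) ⧸
      (Fx u v).subgroupOf (Subgroup.normalizer ((Fx u v : Subgroup S2) : Set S2))) = 3 := by
  have h2 := two_ne_zero_of_mod hq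
  have h1 := Subgroup.card_eq_card_quotient_mul_card_subgroup
    ((Fx u v).subgroupOf (Subgroup.normalizer ((Fx u v : Subgroup S2) : Set S2)))
  have hK : Nat.card ↥((Fx u v).subgroupOf (Subgroup.normalizer ((Fx u v : Subgroup S2) : Set S2))) =
      8 := by
    rw [← card_Fx h2 huv]
    exact Nat.card_congr (Subgroup.subgroupOfEquivOfLe Subgroup.le_normalizer).toEquiv
  rw [card_normalizer_Fx hq huv, hK] at h1
  omega

/-- elements of the normaliser of a quaternion subgroup have order dividing 24 -/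
theorem pow_eq_one_of_mem_normalizer (hq : Fintype.card F % 8 = 3) {u v x : S2} (huv : Ac u v)
    (hx : x ∈ Subgroup.normalizer ((Fx u v : Subgroup S2) : Set S2)) : x ^ 24 = 1 := by
  have h := pow_card_eq_one' (G := ↥(Subgroup.normalizer ((Fx u v : Subgroup S2) : Set S2)))
    (x := ⟨x, hx⟩)
  rw [card_normalizer_Fx hq huv] at h
  exact congrArg Subtype.val h

/-- the normaliser of a quaternion subgroup is the union of three cosets -/
theorem normalizer_cosets (hq : Fintype.card F % 8 = 3) {u v t y : S2} (huv : Ac u v)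
    (ht : t ∈ Subgroup.normalizer ((Fx u v : Subgroup S2) : Set S2))
    (hy : y ∈ Subgroup.normalizer ((Fx u v : Subgroup S2) : Set S2)) (htQ : t ∉ Fx u v) :
    y ∈ Fx u v ∨ y * t⁻¹ ∈ Fx u v ∨ y * t ∈ Fx u v := by
  haveI : ((Fx u v).subgroupOf (Subgroup.normalizer ((Fx u v : Subgroup S2) : Set S2))).Normal :=
    Subgroup.normal_in_normalizer
  have h := coset_cases _ (card_quot_Fx hq huv)
    (t := (⟨t, ht⟩ : ↥(Subgroup.normalizer ((Fx u v : Subgroup S2) : Set S2))))
    (by rw [Subgroup.mem_subgroupOf]; exact htQ) ⟨y, hy⟩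
  simp only [Subgroup.mem_subgroupOf] at h
  exact h

theorem mem_Fx_of_pow_four (hq : Fintype.card F % 8 = 3) {u v w : S2} (huv : Ac u v)
    (hw : w ∈ Subgroup.normalizer ((Fx u v : Subgroup S2) : Set S2)) (h4 : w ^ 4 = 1) :
    w ∈ Fx u v := by
  haveI : ((Fx u v).subgroupOf (Subgroup.normalizer ((Fx u v : Subgroup S2) : Set S2))).Normal :=
    Subgroup.normal_in_normalizer
  have h := mem_of_pow_four _ (card_quot_Fx hq huv)
    (w := (⟨w, hw⟩ : ↥(Subgroup.normalizer ((Fx u v : Subgroup S2) : Set S2))))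
    (by apply Subtype.ext; exact h4)
  exact Subgroup.mem_subgroupOf.mp h

/-- the normaliser of a quaternion subgroup is solvable -/
theorem isSolvable_normalizer_Fx (hq : Fintype.card F % 8 = 3) {u v : S2} (huv : Ac u v) :
    Group.IsSolvable ↥(Subgroup.normalizer ((Fx u v : Subgroup S2) : Set S2)) := by
  have h2 := two_ne_zero_of_mod hq
  set K := (Fx u v).subgroupOf (Subgroup.normalizer ((Fx u v : Subgroup S2) : Set S2)) with hK
  haveI : K.Normal := Subgroup.normal_in_normalizer
  rw [Group.isSolvable_iff_subgroup_quotient K]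
  haveI : Fact (Nat.Prime 2) := ⟨Nat.prime_two⟩
  haveI : Fact (Nat.Prime 3) := ⟨Nat.prime_three⟩
  constructor
  · have hcK : Nat.card ↥K = 2 ^ 3 := by
      rw [show (2 : ℕ) ^ 3 = 8 from rfl, ← card_Fx h2 huv]
      exact Nat.card_congr (Subgroup.subgroupOfEquivOfLe Subgroup.le_normalizer).toEquiv
    have hp : IsPGroup 2 ↥K := IsPGroup.of_card hcK
    haveI := hp.isNilpotent
    infer_instance
  · have h3 : Nat.card (↥(Subgroup.normalizer ((Fx u v : Subgroup S2) : Set S2)) ⧸ K) = 3 ^ 1 := by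
      rw [pow_one]; exact card_quot_Fx hq huv
    have hp : IsPGroup 3 (↥(Subgroup.normalizer ((Fx u v : Subgroup S2) : Set S2)) ⧸ K) :=
      IsPGroup.of_card h3
    haveI := hp.isNilpotent
    infer_instance

end Cfsg.Agent.Helper37.L3
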