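import Mathlib
import Cfsg.Agent.Lib.Helper37.L3F

set_option autoImplicit false

namespace Cfsg.Agent.Helper37.L3

open Matrix Cfsg.Agent.Helper40 Cfsg.Agent.Helper41 Cfsg.Agent.Helper37
open Cfsg.Agent.Helper37.L2 (tr trace_eq tr_conj mat_ext le_NC conj_eq_iff)

variable {F : Type*} [Field F] [Fintype F]

set_option quotPrecheck false in
local notation "S2" => Matrix.SpecialLinearGroup (Fin 2) F
set_option quotPrecheck false in
local notation "M2" => Matrix (Fin 2) (Fin 2) F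
set_option quotPrecheck false in
local notation "C(" g ")" => Subgroup.centralizer ({g} : Set (Matrix.SpecialLinearGroup (Fin 2) F))
set_option quotPrecheck false in
local notation "NC(" g ")" =>
  Subgroup.normalizer ((Subgroup.centralizer ({g} : Set (Matrix.SpecialLinearGroup (Fin 2) F)) :
    Subgroup (Matrix.SpecialLinearGroup (Fin 2) F)) : Set (Matrix.SpecialLinearGroup (Fin 2) F))
set_option quotPrecheck false in
local notation "NQ(" u "," v ")" =>
  Subgroup.normalizer ((Fx u v : Subgroup (Matrix.SpecialLinearGroup (Fin 2) F)) :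
    Set (Matrix.SpecialLinearGroup (Fin 2) F))

theorem comm_or_ac_of_isSc {w c : S2} (h : IsSc (w * c * w⁻¹ * c⁻¹)) :
    w * c = c * w ∨ Ac w c := by
  have e : w * c = (w * c * w⁻¹ * c⁻¹) * (c * w) := by group
  rcases (isSc_iff _).mp h with h | h
  · left
    rw [e, h, one_mul]
  · right
    unfold Ac
    rw [e, h]

/-- the structure of two-generator solvable subgroups of `SL₂(q)`, `q ≡ 3 mod 8` -/
theorem solvable_cases (hq : Fintype.card F % 8 = 3) {x y : S2}
    (hs : Group.IsSolvable ↥(Subgroup.closure ({x, y} : Set S2))) :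
    (IsSc x ∧ IsSc y) ∨ (∃ u : S2, ¬ IsSc u ∧ x ∈ NC(u) ∧ y ∈ NC(u)) ∨
      (∃ u v : S2, Ac u v ∧ x ∈ NQ(u, v) ∧ y ∈ NQ(u, v)) := by
  have h2 := two_ne_zero_of_mod hq
  set M := Subgroup.closure ({x, y} : Set S2) with hM
  have hxM : x ∈ M := Subgroup.subset_closure (by simp)
  have hyM : y ∈ M := Subgroup.subset_closure (by simp)
  let ZM : Subgroup ↥M :=
    { carrier := {m | IsSc m.1}
      one_mem' := isSc_one
      mul_mem' := fun ha hb => isSc_mul ha hb
      inv_mem' := fun ha => isSc_inv ha }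
  have hZM : ∀ m : ↥M, m ∈ ZM ↔ IsSc m.1 := fun m => Iff.rfl
  haveI : ZM.Normal := ⟨fun n hn g => by
    rw [hZM] at hn ⊢
    have : ((g * n * g⁻¹ : ↥M) : S2) = g.1 * n.1 * g.1⁻¹ := rfl
    rw [this, isSc_conj]
    exact hn⟩
  by_cases htriv : Nontrivial (↥M ⧸ ZM)
  · right
    obtain ⟨A, hAn, hAne, hAc⟩ := exists_abelian_normal_of_solvable (↥M ⧸ ZM)
    let N : Subgroup ↥M := A.comap (QuotientGroup.mk' ZM)
    have hNn : N.Normal := hAn.comap _
    obtain ⟨⟨a₀, ha₀A⟩, ha₀1⟩ := Subgroup.ne_bot_iff_exists_ne_one.mp hAne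
    obtain ⟨n₀, rfl⟩ := QuotientGroup.mk_surjective a₀
    have hn₀N : n₀ ∈ N := ha₀A
    have hn₀ns : ¬ IsSc n₀.1 := by
      intro h
      apply ha₀1
      apply Subtype.ext
      exact (QuotientGroup.eq_one_iff n₀).mpr ((hZM n₀).mpr h)
    have hcomm : ∀ a ∈ N, ∀ b ∈ N, IsSc (a.1 * b.1 * a.1⁻¹ * b.1⁻¹) := by
      intro a ha b hb
      have h1 : (QuotientGroup.mk a : ↥M ⧸ ZM) * QuotientGroup.mk b =
          QuotientGroup.mk b * QuotientGroup.mk a := hAc _ ha _ hb
      have h3 : (QuotientGroup.mk (a * b * a⁻¹ * b⁻¹) : ↥M ⧸ ZM) = 1 := by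
        rw [QuotientGroup.mk_mul, QuotientGroup.mk_mul, QuotientGroup.mk_mul,
          QuotientGroup.mk_inv, QuotientGroup.mk_inv, h1]
        group
      exact (hZM _).mp ((QuotientGroup.eq_one_iff _).mp h3)
    by_cases hab : ∀ a ∈ N, ∀ b ∈ N, a * b = b * a
    · left
      have hconj : ∀ k ∈ M, (k * n₀.1 * k⁻¹) * n₀.1 = n₀.1 * (k * n₀.1 * k⁻¹) := by
        intro k hk
        have h1 : (⟨k, hk⟩ : ↥M) * n₀ * (⟨k, hk⟩ : ↥M)⁻¹ ∈ N := hNn.conj_mem _ hn₀N _
        have := hab _ h1 _ hn₀N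
        exact congrArg Subtype.val this
      exact ⟨n₀.1, hn₀ns, (mem_NC_iff hn₀ns x).mpr (hconj x hxM),
        (mem_NC_iff hn₀ns y).mpr (hconj y hyM)⟩
    · right
      push_neg at hab
      obtain ⟨a, ha, b, hb, hne⟩ := hab
      have hac : Ac a.1 b.1 := by
        rcases comm_or_ac_of_isSc (hcomm a ha b hb) with h | h
        · exfalso
          apply hne
          apply Subtype.ext
          exact h
        · exact h
      have hNFx : ∀ w ∈ N, w.1 ∈ Fx a.1 b.1 := by
        intro w hw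
        exact ⟨comm_or_ac_of_isSc (hcomm w hw a ha), comm_or_ac_of_isSc (hcomm w hw b hb)⟩
      have hnorm : ∀ k ∈ M, k ∈ NQ(a.1, b.1) := by
        intro k hk
        apply mem_normalizer_of_conj_mem
        intro w hw
        have h1 : (⟨k, hk⟩ : ↥M) * a * (⟨k, hk⟩ : ↥M)⁻¹ ∈ N := hNn.conj_mem _ ha _
        have h2' : (⟨k, hk⟩ : ↥M) * b * (⟨k, hk⟩ : ↥M)⁻¹ ∈ N := hNn.conj_mem _ hb _
        exact conj_mem_Fx h2 hac (hNFx _ h1) (hNFx _ h2') hw
      exact ⟨a.1, b.1, hac, hnorm x hxM, hnorm y hyM⟩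
  · left
    rw [not_nontrivial_iff_subsingleton] at htriv
    constructor
    · have := htriv.elim (QuotientGroup.mk (⟨x, hxM⟩ : ↥M) : ↥M ⧸ ZM) 1
      exact (hZM _).mp ((QuotientGroup.eq_one_iff _).mp this)
    · have := htriv.elim (QuotientGroup.mk (⟨y, hyM⟩ : ↥M) : ↥M ⧸ ZM) 1
      exact (hZM _).mp ((QuotientGroup.eq_one_iff _).mp this)

theorem t0_not_isSc : ¬ IsSc (L2.t0 F) := by
  intro h
  have := h.1
  simp only [L2.t0, mk2_01] at this
  exact one_ne_zero this

/-- characterisation of two-generator solvable subgroups -/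
theorem solvable_iff_L3 (hq : Fintype.card F % 8 = 3) (x y : S2) :
    Group.IsSolvable ↥(Subgroup.closure ({x, y} : Set S2)) ↔
      (∃ u : S2, ¬ IsSc u ∧ x ∈ NC(u) ∧ y ∈ NC(u)) ∨
        (∃ u v : S2, Ac u v ∧ x ∈ NQ(u, v) ∧ y ∈ NQ(u, v)) := by
  have h2 := two_ne_zero_of_mod hq
  constructor
  · intro hs
    rcases solvable_cases hq hs with ⟨hx, hy⟩ | h | h
    · left
      refine ⟨L2.t0 F, t0_not_isSc, ?_, ?_⟩
      · exact le_NC _ (mem_centralizer_singleton.mpr (hx.comm _).symm)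
      · exact le_NC _ (mem_centralizer_singleton.mpr (hy.comm _).symm)
    · left; exact h
    · right; exact h
  · rintro (⟨u, hu, hx, hy⟩ | ⟨u, v, huv, hx, hy⟩)
    · exact solvable_of_mem_NC h2 hu hx hy
    · have hle : Subgroup.closure ({x, y} : Set S2) ≤ NQ(u, v) := by
        rw [Subgroup.closure_le]
        rintro w (rfl | rfl)
        · exact hx
        · exact hy
      haveI := isSolvable_normalizer_Fx hq huv
      exact Group.isSolvable_of_isSolvable_injective (Subgroup.inclusion_injective hle)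

end Cfsg.Agent.Helper37.L3
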