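import Mathlib
import Cfsg.Agent.Lib.Helper37.L3G

set_option autoImplicit false

namespace Cfsg.Agent.Helper37.L3

open Matrix Cfsg.Agent.Helper40 Cfsg.Agent.Helper41 Cfsg.Agent.Helper37
open Cfsg.Agent.Helper37.L2 (tr trace_eq tr_conj mat_ext le_NC conj_eq_iff)

variable {F : Type*} [Field F]

set_option quotPrecheck false in
local notation "S2" => Matrix.SpecialLinearGroup (Fin 2) F
set_option quotPrecheck false in
local notation "M2" => Matrix (Fin 2) (Fin 2) F
set_option quotPrecheck false in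
local notation "C(" g ")" => Subgroup.centralizer ({g} : Set (Matrix.SpecialLinearGroup (Fin 2) F))
set_option quotPrecheck false in
local notation "NC(" g ")" =>
  Subgroup.normalizer ((Subgroup.centralizer ({g} : Set (Matrix.SpecialLinearGroup (Fin 2) F)) :
    Subgroup (Matrix.SpecialLinearGroup (Fin 2) F)) : Set (Matrix.SpecialLinearGroup (Fin 2) F))
set_option quotPrecheck false in
local notation "NQ(" u "," v ")" =>
  Subgroup.normalizer ((Fx u v : Subgroup (Matrix.SpecialLinearGroup (Fin 2) F)) :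
    Set (Matrix.SpecialLinearGroup (Fin 2) F))
set_option quotPrecheck false in
local notation "Sol(" g ")" =>
  Nat.card {y : Matrix.SpecialLinearGroup (Fin 2) F //
    Group.IsSolvable ↥(Subgroup.closure ({g, y} : Set (Matrix.SpecialLinearGroup (Fin 2) F)))}

/-- an element inverting a regular semisimple element has trace zero -/
theorem tr_zero_of_inverts (h2 : (2 : F) ≠ 0) {x u : S2} (hτ : tr u ^ 2 ≠ 4)
    (hinv : x * u * x⁻¹ = u⁻¹) : tr x = 0 := by
  have hu := not_isSc_of_rs hτ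
  have hne := ne_inv_of_rs h2 hτ
  have hxx : (x * x) * u = u * (x * x) := by
    apply (conj_eq_iff (x * x) u).mp
    have e : x * x * u * (x * x)⁻¹ = x * (x * u * x⁻¹) * x⁻¹ := by group
    rw [e, hinv]
    have e2 : x * u⁻¹ * x⁻¹ = (x * u * x⁻¹)⁻¹ := by group
    rw [e2, hinv, inv_inv]
  by_cases hsc : IsSc (x * x)
  · rcases isSc_or_tr_of_sq h2 hsc with h | h
    · exfalso
      apply hne
      have := (conj_eq_iff x u).mpr (h.comm u).symm
      rw [hinv] at this
      exact this.symm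
    · exact h
  · exfalso
    apply hne
    have hC := cen_eq hu hsc hxx
    have hx : x ∈ C(x * x) := mem_centralizer_singleton.mpr (by group)
    rw [hC] at hx
    have := (conj_eq_iff x u).mpr (mem_centralizer_singleton.mp hx)
    rw [hinv] at this
    exact this.symm

/-- the conjugate `k⁻¹ g k`, lower left entry -/
theorem conj10 (k g : S2) : ((k⁻¹ * g * k : S2) : M2) 1 0 =
    (k : M2) 0 0 ^ 2 * (g : M2) 1 0 - (k : M2) 1 0 ^ 2 * (g : M2) 0 1 +
      (k : M2) 0 0 * (k : M2) 1 0 * ((g : M2) 1 1 - (g : M2) 0 0) := by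
  rw [mul_10, mul_10, mul_11, inv_10, inv_11]
  ring

/-- upper triangular elements have an eigenvalue -/
theorem root_of_upper {g : S2} (h : (g : M2) 1 0 = 0) :
    (g : M2) 0 0 * (tr g - (g : M2) 0 0) - 1 = 0 := by
  have hd := det2 g
  rw [h] at hd
  unfold tr
  linear_combination hd

theorem dvd_four_of_dvd {d q : ℕ} (h8 : q % 8 = 3) (h3 : q % 3 = 0) (h24 : d ∣ 24)
    (hd : d ∣ q + 1) : d ∣ 4 := by
  obtain ⟨k, hk⟩ : ∃ k, q = 24 * k + 3 := ⟨q / 24, by omega⟩
  have h1 : d ∣ 24 * k := Dvd.dvd.mul_right h24 k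
  have h2 : q + 1 = 24 * k + 4 := by omega
  rw [h2] at hd
  exact (Nat.dvd_add_right h1).mp hd

theorem dvd_two_of_dvd {d q : ℕ} (h8 : q % 8 = 3) (h3 : q % 3 = 0) (h24 : d ∣ 24)
    (hd : d ∣ q - 1) : d ∣ 2 := by
  obtain ⟨k, hk⟩ : ∃ k, q = 24 * k + 3 := ⟨q / 24, by omega⟩
  have h1 : d ∣ 24 * k := Dvd.dvd.mul_right h24 k
  have h2 : q - 1 = 24 * k + 2 := by omega
  rw [h2] at hd
  exact (Nat.dvd_add_right h1).mp hd

section Finite

variable [Fintype F]

/-- regular semisimple elements of non-zero trace do not normalise a quaternion subgroup -/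
theorem not_mem_NQ_of_rs (hq : Fintype.card F % 8 = 3) (hq3 : Fintype.card F % 3 = 0) {x u v : S2}
    (hτ : tr x ^ 2 ≠ 4) (ht0 : tr x ≠ 0) (huv : Ac u v) : x ∉ NQ(u, v) := by
  intro hx
  have h2 := two_ne_zero_of_mod hq
  have h24 := pow_eq_one_of_mem_normalizer hq huv hx
  have hd24 : orderOf x ∣ 24 := orderOf_dvd_of_pow_eq_one h24
  have hdC : orderOf x ∣ Nat.card ↥C(x) :=
    Subgroup.orderOf_dvd_natCard _ (mem_centralizer_singleton.mpr rfl)
  have h4 : orderOf x ∣ 4 := by
    rcases card_cen_rs hτ with ⟨-, hc⟩ | ⟨-, hc⟩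
    · rw [hc] at hdC
      exact dvd_four_of_dvd hq hq3 hd24 hdC
    · rw [hc] at hdC
      exact (dvd_two_of_dvd hq hq3 hd24 hdC).trans (by norm_num)
  have hx4 : x ^ 4 = 1 := orderOf_dvd_iff_pow_eq_one.mp h4
  have hxx : (x * x) * (x * x) = 1 := by
    rw [← hx4, Cfsg.Agent.S0809.pow_four_eq]
  have hsc := isSc_of_sq_eq_one h2 hxx
  rcases isSc_or_tr_of_sq h2 hsc with h | h
  · exact not_isSc_of_rs hτ h
  · exact ht0 h

/-- solvable subgroups containing a non-split regular semisimple element -/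
theorem solvable_ns_iff (hq : Fintype.card F % 8 = 3) (hq3 : Fintype.card F % 3 = 0) {x : S2}
    (hτ : tr x ^ 2 ≠ 4) (ht0 : tr x ≠ 0) (hc : Nat.card ↥C(x) = Fintype.card F + 1) (y : S2) :
    Group.IsSolvable ↥(Subgroup.closure ({x, y} : Set S2)) ↔ y ∈ NC(x) := by
  have h2 := two_ne_zero_of_mod hq
  have hxs := not_isSc_of_rs hτ
  have hnoroot : ∀ a : F, a * (tr x - a) - 1 ≠ 0 := by
    rcases card_cen_rs hτ with ⟨h, -⟩ | ⟨-, hc'⟩
    · exact h
    · exfalso
      rw [hc] at hc'
      omega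
  constructor
  · intro hs
    rcases (solvable_iff_L3 hq x y).mp hs with ⟨u, hu, hxu, hyu⟩ | ⟨u, v, huv, hxu, -⟩
    · by_cases hτu : tr u ^ 2 = 4
      · exfalso
        obtain ⟨k, u', hk, h10, h00, h01⟩ := exists_conj_ut hu hτu
        rw [hk, L2.mem_NC_conj_iff, mem_NC_ut h10 h00 h01] at hxu
        have hroot := root_of_upper hxu
        have htr : tr (k⁻¹ * x * k) = tr x := by
          have := tr_conj k⁻¹ x
          rw [inv_inv] at this
          exact this
        rw [htr] at hroot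
        exact hnoroot _ hroot
      · rcases (mem_NC_iff' h2 hτu x).mp hxu with h | h
        · have hcomm : x * u = u * x := (conj_eq_iff x u).mp h
          rw [NC_eq hu hxs hcomm]
          exact hyu
        · exact absurd (tr_zero_of_inverts h2 hτu h) ht0
    · exact absurd hxu (not_mem_NQ_of_rs hq hq3 hτ ht0 huv)
  · intro hy
    exact solvable_of_mem_NC h2 hxs (le_NC _ (mem_centralizer_singleton.mpr rfl)) hy

theorem card_sol_ns (hq : Fintype.card F % 8 = 3) (hq3 : Fintype.card F % 3 = 0) {x : S2}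
    (hτ : tr x ^ 2 ≠ 4) (ht0 : tr x ≠ 0) (hc : Nat.card ↥C(x) = Fintype.card F + 1) :
    Sol(x) = 2 * (Fintype.card F + 1) := by
  have h2 := two_ne_zero_of_mod hq
  rw [← hc, ← card_NC h2 hτ]
  apply Nat.card_congr
  refine Equiv.subtypeEquivRight ?_
  intro y
  exact solvable_ns_iff hq hq3 hτ ht0 hc y

end Finite

end Cfsg.Agent.Helper37.L3
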