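import Mathlib
import Cfsg.Agent.Lib.Helper37.L3H
import Cfsg.Agent.S2428

set_option autoImplicit false

namespace Cfsg.Agent.Helper37.L3

open Matrix Cfsg.Agent.Helper40 Cfsg.Agent.Helper41 Cfsg.Agent.Helper37
open Cfsg.Agent.Helper37.L2 (tr trace_eq tr_conj mat_ext le_NC conj_eq_iff dm)

variable {F : Type*} [Field F]

set_option quotPrecheck false in
local notation "S2" => Matrix.SpecialLinearGroup (Fin 2) F
set_option quotPrecheck false in
local notation "M2" => Matrix (Fin 2) (Fin 2) F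
set_option quotPrecheck false in
local notation "C(" g ")" => Subgroup.centralizer ({g} : Set (Matrix.SpecialLinearGroup (Fin 2) F))
set_option quotPrecheck false in
local notation "NC(" g ")" =>
  Subgroup.normalizer ((Subgroup.centralizer ({g} : Set (Matrix.SpecialLinearGroup (Fin 2) F)) :
    Subgroup (Matrix.SpecialLinearGroup (Fin 2) F)) : Set (Matrix.SpecialLinearGroup (Fin 2) F))
set_option quotPrecheck false in
local notation "NQ(" u "," v ")" =>
  Subgroup.normalizer ((Fx u v : Subgroup (Matrix.SpecialLinearGroup (Fin 2) F)) :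
    Set (Matrix.SpecialLinearGroup (Fin 2) F))
set_option quotPrecheck false in
local notation "Sol(" g ")" =>
  Nat.card {y : Matrix.SpecialLinearGroup (Fin 2) F //
    Group.IsSolvable ↥(Subgroup.closure ({g, y} : Set (Matrix.SpecialLinearGroup (Fin 2) F)))}

/-- lower triangular non-scalar elements with equal diagonal entries -/
theorem mem_cen_lt {u : S2} (h01 : (u : M2) 0 1 = 0) (h00 : (u : M2) 0 0 = (u : M2) 1 1)
    (h10 : (u : M2) 1 0 ≠ 0) (y : S2) :
    y ∈ C(u) ↔ (y : M2) 0 1 = 0 ∧ (y : M2) 0 0 = (y : M2) 1 1 := by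
  rw [mem_centralizer_singleton]
  constructor
  · intro h
    have e11 := congrArg (fun g : S2 => (g : M2) 1 1) h
    have e10 := congrArg (fun g : S2 => (g : M2) 1 0) h
    simp only [mul_11, mul_10, h01, h00] at e11 e10
    constructor
    · have : (u : M2) 1 0 * (y : M2) 0 1 = 0 := by linear_combination -e11
      exact (mul_eq_zero.mp this).resolve_left h10
    · have : (u : M2) 1 0 * ((y : M2) 0 0 - (y : M2) 1 1) = 0 := by linear_combination -e10
      have := (mul_eq_zero.mp this).resolve_left h10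
      linear_combination this
  · rintro ⟨hy01, hy00⟩
    apply ext2
    · rw [mul_00, mul_00, h01, hy01]; ring
    · rw [mul_01, mul_01, h01, hy01]; ring
    · rw [mul_10, mul_10, h00, hy00]; ring
    · rw [mul_11, mul_11, h01, hy01]; ring

theorem mem_NC_lt {u : S2} (h01 : (u : M2) 0 1 = 0) (h00 : (u : M2) 0 0 = (u : M2) 1 1)
    (h10 : (u : M2) 1 0 ≠ 0) (y : S2) : y ∈ NC(u) ↔ (y : M2) 0 1 = 0 := by
  have hns : ¬ IsSc u := fun h => h10 h.2.1
  rw [mem_NC_iff hns, ← mem_centralizer_singleton, mem_cen_lt h01 h00 h10]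
  have hd := det2 y
  have e01 : ((y * u * y⁻¹ : S2) : M2) 0 1 = -((u : M2) 1 0 * (y : M2) 0 1 ^ 2) := by
    simp only [mul_10, mul_00, mul_01, mul_11, inv_01, inv_11, h01, h00]
    ring
  have e00 : ((y * u * y⁻¹ : S2) : M2) 0 0 =
      (u : M2) 1 1 + (u : M2) 1 0 * (y : M2) 0 1 * (y : M2) 1 1 := by
    simp only [mul_10, mul_00, mul_01, mul_11, inv_00, inv_10, h01, h00]
    linear_combination (u : M2) 1 1 * hd
  have e11 : ((y * u * y⁻¹ : S2) : M2) 1 1 =
      (u : M2) 1 1 - (u : M2) 1 0 * (y : M2) 0 1 * (y : M2) 1 1 := by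
    simp only [mul_10, mul_00, mul_01, mul_11, inv_01, inv_11, h01, h00]
    linear_combination (u : M2) 1 1 * hd
  rw [e01, e00, e11]
  constructor
  · rintro ⟨h, -⟩
    have : (u : M2) 1 0 * (y : M2) 0 1 ^ 2 = 0 := by linear_combination -h
    have := (mul_eq_zero.mp this).resolve_left h10
    exact pow_eq_zero_iff two_ne_zero |>.mp this
  · intro h
    rw [h]
    constructor <;> ring

theorem tr_dm_sq_ne {a : Fˣ} (ha : (a : F) ^ 2 ≠ 1) : tr (dm a) ^ 2 ≠ 4 := by
  intro h
  apply ha
  have h1 : (a : F) * ((a⁻¹ : Fˣ) : F) = 1 := by simp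
  have h0 : ((a : F) - ((a⁻¹ : Fˣ) : F)) ^ 2 = 0 := by
    rw [L2.tr_dm] at h
    linear_combination h - 4 * h1
  have h3 : (a : F) - ((a⁻¹ : Fˣ) : F) = 0 := pow_eq_zero_iff two_ne_zero |>.mp h0
  linear_combination (a : F) * h3 + h1

theorem tr_dm_ne_zero {a : Fˣ} (ha : (a : F) ^ 2 ≠ -1) : tr (dm a) ≠ 0 := by
  intro h
  apply ha
  have h1 : (a : F) * ((a⁻¹ : Fˣ) : F) = 1 := by simp
  rw [L2.tr_dm] at h
  linear_combination (a : F) * h - h1

/-- antidiagonal elements -/
def am' (a : Fˣ) : Matrix.SpecialLinearGroup (Fin 2) F :=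
  mk2 0 (a : F) (-((a⁻¹ : Fˣ) : F)) 0 (by
    have h1 : (a : F) * ((a⁻¹ : Fˣ) : F) = 1 := by simp
    linear_combination h1)

section Finite

variable [Fintype F]

theorem card_anti' :
    Nat.card {y : S2 // (y : M2) 0 0 = 0 ∧ (y : M2) 1 1 = 0} = Fintype.card F - 1 := by
  have e : Fˣ ≃ {y : S2 // (y : M2) 0 0 = 0 ∧ (y : M2) 1 1 = 0} :=
    Equiv.ofBijective (fun a => ⟨am' a, rfl, rfl⟩) (by
      constructor
      · intro a b hab
        have := congrArg (fun y : {y : S2 // (y : M2) 0 0 = 0 ∧ (y : M2) 1 1 = 0} =>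
          (y.1 : M2) 0 1) hab
        exact Units.ext this
      · rintro ⟨y, h00, h11⟩
        have hd := det2 y
        rw [h00, h11] at hd
        have hprod : (y : M2) 0 1 * (-(y : M2) 1 0) = 1 := by linear_combination hd
        have hne : (y : M2) 0 1 ≠ 0 := by
          intro h0
          rw [h0, zero_mul] at hprod
          exact zero_ne_one hprod
        refine ⟨Units.mk0 ((y : M2) 0 1) hne, ?_⟩
        apply Subtype.ext
        apply ext2
        · exact h00.symm
        · rfl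
        · show -(((Units.mk0 ((y : M2) 0 1) hne)⁻¹ : Fˣ) : F) = (y : M2) 1 0
          rw [Units.val_inv_eq_inv_val, Units.val_mk0]
          have := eq_inv_of_mul_eq_one_right hprod
          rw [← this]; ring
        · exact h11.symm)
  rw [← Nat.card_congr e, Nat.card_units, Nat.card_eq_fintype_card]

/-- solvable subgroups containing a non-central element of the split torus -/
theorem solvable_dm_iff' (hq : Fintype.card F % 8 = 3) (hq3 : Fintype.card F % 3 = 0) {a : Fˣ}
    (ha : (a : F) ^ 2 ≠ 1) (ha' : (a : F) ^ 2 ≠ -1) (y : S2) :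
    Group.IsSolvable ↥(Subgroup.closure ({dm a, y} : Set S2)) ↔
      (y : M2) 1 0 = 0 ∨ (y : M2) 0 1 = 0 ∨ ((y : M2) 0 0 = 0 ∧ (y : M2) 1 1 = 0) := by
  have h2 := two_ne_zero_of_mod hq
  have hτ := tr_dm_sq_ne ha
  have ht0 := tr_dm_ne_zero ha'
  have hxs := not_isSc_of_rs hτ
  have hinv : ((a⁻¹ : Fˣ) : F) - (a : F) ≠ 0 := by
    intro h
    apply ha
    have h1 : (a : F) * ((a⁻¹ : Fˣ) : F) = 1 := by simp
    linear_combination (-(a : F)) * h + h1
  have hNd : ∀ z : S2, z ∈ NC(dm a) ↔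
      (((z : M2) 0 1 = 0 ∧ (z : M2) 1 0 = 0) ∨ ((z : M2) 0 0 = 0 ∧ (z : M2) 1 1 = 0)) :=
    fun z => Cfsg.Agent.S2428.mem_norm (dm a) rfl rfl ha z
  constructor
  · intro hs
    rcases (solvable_iff_L3 hq (dm a) y).mp hs with ⟨u, hu, hxu, hyu⟩ | ⟨u, v, huv, hxu, -⟩
    · by_cases hτu : tr u ^ 2 = 4
      · obtain ⟨k, u', hk, h10, h00, h01⟩ := exists_conj_ut hu hτu
        rw [hk, L2.mem_NC_conj_iff, mem_NC_ut h10 h00 h01, conj10] at hxu hyu
        have hdk := det2 k
        simp only [dm, mk2_00, mk2_01, mk2_10, mk2_11] at hxu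
        have hk0 : (k : M2) 0 0 * (k : M2) 1 0 = 0 := by
          have : (k : M2) 0 0 * (k : M2) 1 0 * (((a⁻¹ : Fˣ) : F) - (a : F)) = 0 := by
            linear_combination hxu
          exact (mul_eq_zero.mp this).resolve_right hinv
        rcases mul_eq_zero.mp hk0 with h | h
        · right; left
          rw [h] at hyu hdk
          have hk10 : (k : M2) 1 0 ≠ 0 := by
            intro h0
            rw [h0] at hdk
            simp at hdk
          have : (k : M2) 1 0 ^ 2 * (y : M2) 0 1 = 0 := by linear_combination -hyu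
          exact (mul_eq_zero.mp this).resolve_left (pow_ne_zero 2 hk10)
        · left
          rw [h] at hyu hdk
          have hk00 : (k : M2) 0 0 ≠ 0 := by
            intro h0
            rw [h0] at hdk
            simp at hdk
          have : (k : M2) 0 0 ^ 2 * (y : M2) 1 0 = 0 := by linear_combination hyu
          exact (mul_eq_zero.mp this).resolve_left (pow_ne_zero 2 hk00)
      · rcases (mem_NC_iff' h2 hτu (dm a)).mp hxu with h | h
        · have hcomm : dm a * u = u * dm a := (conj_eq_iff (dm a) u).mp h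
          rw [← NC_eq hu hxs hcomm, hNd] at hyu
          rcases hyu with ⟨-, h10⟩ | h
          · left; exact h10
          · right; right; exact h
        · exact absurd (tr_zero_of_inverts h2 hτu h) ht0
    · exact absurd hxu (not_mem_NQ_of_rs hq hq3 hτ ht0 huv)
  · rintro (h | h | h)
    · have h10 : ((L2.t0 F : S2) : M2) 1 0 = 0 := rfl
      have h00 : ((L2.t0 F : S2) : M2) 0 0 = ((L2.t0 F : S2) : M2) 1 1 := rfl
      have h01 : ((L2.t0 F : S2) : M2) 0 1 ≠ 0 := by
        simp only [L2.t0, mk2_01]; exact one_ne_zero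
      exact solvable_of_mem_NC h2 (not_isSc_ut h01) ((mem_NC_ut h10 h00 h01 _).mpr rfl)
        ((mem_NC_ut h10 h00 h01 _).mpr h)
    · have h01 : ((L2.t0' F : S2) : M2) 0 1 = 0 := rfl
      have h00 : ((L2.t0' F : S2) : M2) 0 0 = ((L2.t0' F : S2) : M2) 1 1 := rfl
      have h10 : ((L2.t0' F : S2) : M2) 1 0 ≠ 0 := by
        simp only [L2.t0', mk2_10]; exact one_ne_zero
      have hns : ¬ IsSc (L2.t0' F) := fun hsc => h10 hsc.2.1
      exact solvable_of_mem_NC h2 hns ((mem_NC_lt h01 h00 h10 _).mpr rfl)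
        ((mem_NC_lt h01 h00 h10 _).mpr h)
    · exact solvable_of_mem_NC h2 hxs ((hNd _).mpr (Or.inl ⟨rfl, rfl⟩)) ((hNd _).mpr (Or.inr h))

/-- the solubilizer of a non-central element of the split torus -/
theorem card_sol_dm' (hq : Fintype.card F % 8 = 3) (hq3 : Fintype.card F % 3 = 0) {a : Fˣ}
    (ha : (a : F) ^ 2 ≠ 1) (ha' : (a : F) ^ 2 ≠ -1) :
    Sol(dm a) = 2 * Fintype.card F * (Fintype.card F - 1) := by
  set A₁ : Set S2 := {y | (y : M2) 1 0 = 0} with hA₁
  set A₂ : Set S2 := {y | (y : M2) 0 1 = 0} with hA₂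
  set A₃ : Set S2 := {y | (y : M2) 0 0 = 0 ∧ (y : M2) 1 1 = 0} with hA₃
  have hset : {y : S2 | Group.IsSolvable ↥(Subgroup.closure ({dm a, y} : Set S2))} =
      (A₁ ∪ A₂) ∪ A₃ := by
    ext y
    rw [Set.mem_setOf_eq, solvable_dm_iff' hq hq3 ha ha']
    simp only [Set.mem_union, Set.mem_setOf_eq, hA₁, hA₂, hA₃, or_assoc]
  have h1 : A₁.ncard = Fintype.card F * (Fintype.card F - 1) := by
    rw [← L2.card_upper, ← Nat.card_coe_set_eq]; rfl
  have h2' : A₂.ncard = Fintype.card F * (Fintype.card F - 1) := by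
    rw [← L2.card_lower, ← Nat.card_coe_set_eq]; rfl
  have h12 : (A₁ ∩ A₂).ncard = Fintype.card F - 1 := by
    rw [← L2.card_diag, ← Nat.card_coe_set_eq]; rfl
  have h3 : A₃.ncard = Fintype.card F - 1 := by
    rw [← card_anti', ← Nat.card_coe_set_eq]; rfl
  have hdisj : Disjoint (A₁ ∪ A₂) A₃ := by
    rw [Set.disjoint_left]
    rintro y hy ⟨h00, h11⟩
    have hd := det2 y
    rw [h00, h11] at hd
    rcases hy with h | h
    · have h' : (y : M2) 1 0 = 0 := h
      rw [h'] at hd
      simp at hd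
    · have h' : (y : M2) 0 1 = 0 := h
      rw [h'] at hd
      simp at hd
  have hU := Set.ncard_union_add_ncard_inter A₁ A₂ (Set.toFinite _) (Set.toFinite _)
  show Nat.card ↥{y : S2 | Group.IsSolvable ↥(Subgroup.closure ({dm a, y} : Set S2))} = _
  rw [hset, Nat.card_coe_set_eq, Set.ncard_union_eq hdisj (Set.toFinite _) (Set.toFinite _), h3]
  rw [h1, h2', h12] at hU
  have e : 2 * Fintype.card F * (Fintype.card F - 1) =
      Fintype.card F * (Fintype.card F - 1) + Fintype.card F * (Fintype.card F - 1) := by ring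
  rw [e]
  omega

end Finite

end Cfsg.Agent.Helper37.L3
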