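import Mathlib
import Cfsg.Agent.Lib.Helper37.L3I

set_option autoImplicit false

namespace Cfsg.Agent.Helper37.L3

open Matrix Cfsg.Agent.Helper40 Cfsg.Agent.Helper41 Cfsg.Agent.Helper37
open Cfsg.Agent.Helper37.L2 (tr trace_eq tr_conj mat_ext le_NC conj_eq_iff)

variable {F : Type*} [Field F]

set_option quotPrecheck false in
local notation "S2" => Matrix.SpecialLinearGroup (Fin 2) F
set_option quotPrecheck false in
local notation "M2" => Matrix (Fin 2) (Fin 2) F
set_option quotPrecheck false in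
local notation "C(" g ")" => Subgroup.centralizer ({g} : Set (Matrix.SpecialLinearGroup (Fin 2) F))
set_option quotPrecheck false in
local notation "NC(" g ")" =>
  Subgroup.normalizer ((Subgroup.centralizer ({g} : Set (Matrix.SpecialLinearGroup (Fin 2) F)) :
    Subgroup (Matrix.SpecialLinearGroup (Fin 2) F)) : Set (Matrix.SpecialLinearGroup (Fin 2) F))
set_option quotPrecheck false in
local notation "NQ(" u "," v ")" =>
  Subgroup.normalizer ((Fx u v : Subgroup (Matrix.SpecialLinearGroup (Fin 2) F)) :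
    Set (Matrix.SpecialLinearGroup (Fin 2) F))
set_option quotPrecheck false in
local notation "Sol(" g ")" =>
  Nat.card {y : Matrix.SpecialLinearGroup (Fin 2) F //
    Group.IsSolvable ↥(Subgroup.closure ({g, y} : Set (Matrix.SpecialLinearGroup (Fin 2) F)))}

/-- conjugation preserves anticommutation -/
theorem Ac.conj {a b : S2} (h : Ac a b) (k : S2) : Ac (k * a * k⁻¹) (k * b * k⁻¹) := by
  unfold Ac at h ⊢
  have e1 : k * a * k⁻¹ * (k * b * k⁻¹) = k * (a * b) * k⁻¹ := by group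
  have e2 : k * b * k⁻¹ * (k * a * k⁻¹) = k * (b * a) * k⁻¹ := by group
  rw [e1, e2, h, mul_nOne_mul, mul_assoc]

/-- trace zero elements whose product has trace zero anticommute -/
theorem ac_of_tr {w v : S2} (hw : tr w = 0) (hv : tr v = 0) (hwv : tr (w * v) = 0) : Ac w v := by
  unfold Ac
  unfold tr at hw hv hwv
  rw [mul_00, mul_11] at hwv
  have hw11 : (w : M2) 1 1 = -(w : M2) 0 0 := by linear_combination hw
  have hv11 : (v : M2) 1 1 = -(v : M2) 0 0 := by linear_combination hv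
  rw [hw11, hv11] at hwv
  apply ext2
  · rw [nOne_mul_00, mul_00, mul_00]; linear_combination hwv
  · rw [nOne_mul_01, mul_01, mul_01, hw11, hv11]; ring
  · rw [nOne_mul_10, mul_10, mul_10, hw11, hv11]; ring
  · rw [nOne_mul_11, mul_11, mul_11, hw11, hv11]; linear_combination hwv

/-- the diagonal entry of an element in `ut` form -/
theorem ut_sq {x : S2} (h10 : (x : M2) 1 0 = 0) (h00 : (x : M2) 0 0 = (x : M2) 1 1) :
    (x : M2) 0 0 ^ 2 = 1 := by
  have hd := det2 x
  rw [h10, ← h00] at hd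
  linear_combination hd

theorem ut_tr_ne (h2 : (2 : F) ≠ 0) {x : S2} (h10 : (x : M2) 1 0 = 0)
    (h00 : (x : M2) 0 0 = (x : M2) 1 1) : tr x ≠ 0 := by
  intro h
  have hsq := ut_sq h10 h00
  unfold tr at h
  rw [← h00] at h
  have : (2 : F) * (x : M2) 0 0 = 0 := by linear_combination h
  rcases mul_eq_zero.mp this with h' | h'
  · exact h2 h'
  · rw [h'] at hsq
    simp at hsq

theorem tr_conj_prod_ut (h3 : (3 : F) = 0) {x w : S2} (h10 : (x : M2) 1 0 = 0)
    (h00 : (x : M2) 0 0 = (x : M2) 1 1) (hw : tr w = 0) :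
    tr (w * (x * w * x⁻¹)) = 1 - ((x : M2) 0 1 * (w : M2) 1 0) ^ 2 := by
  have hε := ut_sq h10 h00
  have h11 : (x : M2) 1 1 = (x : M2) 0 0 := h00.symm
  have hw11 : (w : M2) 1 1 = -(w : M2) 0 0 := by unfold tr at hw; linear_combination hw
  have hdw := det2 w
  rw [hw11] at hdw
  unfold tr
  simp only [mul_00, mul_01, mul_10, mul_11, inv_00, inv_01, inv_10, inv_11, h10, h11, hw11]
  linear_combination (2 * ((w : M2) 0 0 ^ 2 + (w : M2) 0 1 * (w : M2) 1 0)) * hε - 2 * hdw - h3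

/-- the cube of an element in `ut` form is scalar in characteristic three -/
theorem isSc_cube_ut (h3 : (3 : F) = 0) {x : S2} (h10 : (x : M2) 1 0 = 0)
    (h00 : (x : M2) 0 0 = (x : M2) 1 1) : IsSc (x * x * x) := by
  have h11 : (x : M2) 1 1 = (x : M2) 0 0 := h00.symm
  refine ⟨?_, ?_, ?_⟩
  · simp only [mul_00, mul_01, mul_10, mul_11, h10, h11]
    linear_combination ((x : M2) 0 0 ^ 2 * (x : M2) 0 1) * h3
  · simp only [mul_00, mul_01, mul_10, mul_11, h10, h11]
    ring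
  · simp only [mul_00, mul_01, mul_10, mul_11, h10, h11]
    ring

section Finite

variable [Fintype F]

/-- an element of a quaternion group normalised by `x` in `ut` form, outside the Borel subgroup -/
theorem ut_aux (hq : Fintype.card F % 8 = 3) (h3 : (3 : F) = 0) {x u v w : S2}
    (h10 : (x : M2) 1 0 = 0) (h00 : (x : M2) 0 0 = (x : M2) 1 1) (h01 : (x : M2) 0 1 ≠ 0)
    (huv : Ac u v) (hxN : x ∈ NQ(u, v)) (hwQ : w ∈ Fx u v) (hw10 : (w : M2) 1 0 ≠ 0) :
    tr w = 0 ∧ ((x : M2) 0 1 * (w : M2) 1 0) ^ 2 = 1 := by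
  have h2 := two_ne_zero_of_mod hq
  have hns : ¬ IsSc w := fun h => hw10 h.2.1
  have htw : tr w = 0 := (isSc_or_tr_of_mem_Fx h2 huv hwQ).resolve_left hns
  refine ⟨htw, ?_⟩
  have hw'Q : x * w * x⁻¹ ∈ Fx u v := (Subgroup.mem_normalizer_iff.mp hxN w).mp hwQ
  have hns' : ¬ IsSc (x * w * x⁻¹) := fun h => hns ((isSc_conj x w).mp h)
  have hτw : tr w ^ 2 ≠ 4 := by
    rw [htw]
    intro h
    apply h2
    have : (2 : F) * 2 = 0 := by linear_combination -h
    exact (mul_self_eq_zero.mp this)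
  rcases same_or_ac h2 huv hwQ hw'Q hns hns' with h | h | h
  · exfalso
    have hcomm : x * w = w * x := (conj_eq_iff x w).mp h
    have hwC : w ∈ C(x) := mem_centralizer_singleton.mpr hcomm.symm
    exact hw10 ((mem_cen_ut h10 h00 h01 w).mp hwC).1
  · exfalso
    rw [← inv_eq_of_tr htw] at h
    exact ut_tr_ne h2 h10 h00 (tr_zero_of_inverts h2 hτw h)
  · have := h.tr_mul h2
    rw [tr_conj_prod_ut h3 h10 h00 htw] at this
    linear_combination -this

theorem solvable_ut_imp (hq : Fintype.card F % 8 = 3) (h3 : (3 : F) = 0) {x y : S2}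
    (h10 : (x : M2) 1 0 = 0) (h00 : (x : M2) 0 0 = (x : M2) 1 1) (h01 : (x : M2) 0 1 ≠ 0)
    (hs : Group.IsSolvable ↥(Subgroup.closure ({x, y} : Set S2))) :
    (y : M2) 1 0 = 0 ∨
      (((x : M2) 0 1 * (y : M2) 1 0) ^ 2 = 1 ∧ (tr y = 0 ∨ tr y ^ 2 = 1)) := by
  have h2 := two_ne_zero_of_mod hq
  have hε := ut_sq h10 h00
  have h11 : (x : M2) 1 1 = (x : M2) 0 0 := h00.symm
  have htx := ut_tr_ne h2 h10 h00
  rcases (solvable_iff_L3 hq x y).mp hs with ⟨u, hu, hxu, hyu⟩ | ⟨u, v, huv, hxu, hyu⟩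
  · left
    by_cases hτu : tr u ^ 2 = 4
    · obtain ⟨k, u', hk, h10', h00', h01'⟩ := exists_conj_ut hu hτu
      rw [hk, L2.mem_NC_conj_iff, mem_NC_ut h10' h00' h01', conj10] at hxu hyu
      have hdk := det2 k
      rw [h10, h11] at hxu
      have hk10 : (k : M2) 1 0 = 0 := by
        have : (k : M2) 1 0 ^ 2 * (x : M2) 0 1 = 0 := by linear_combination -hxu
        have := (mul_eq_zero.mp this).resolve_right h01
        exact pow_eq_zero_iff two_ne_zero |>.mp this
      rw [hk10] at hyu hdk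
      have hk00 : (k : M2) 0 0 ≠ 0 := by
        intro h0
        rw [h0] at hdk
        simp at hdk
      have : (k : M2) 0 0 ^ 2 * (y : M2) 1 0 = 0 := by linear_combination hyu
      exact (mul_eq_zero.mp this).resolve_left (pow_ne_zero 2 hk00)
    · exfalso
      rcases (mem_NC_iff' h2 hτu x).mp hxu with h | h
      · have hcomm : x * u = u * x := (conj_eq_iff x u).mp h
        have huC : u ∈ C(x) := mem_centralizer_singleton.mpr hcomm.symm
        obtain ⟨hu10, hu00⟩ := (mem_cen_ut h10 h00 h01 u).mp huC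
        apply hτu
        have := ut_sq hu10 hu00
        unfold tr
        rw [← hu00]
        linear_combination 4 * this
      · exact htx (tr_zero_of_inverts h2 hτu h)
  · by_cases hy10 : (y : M2) 1 0 = 0
    · left; exact hy10
    right
    have hxQ : x ∉ Fx u v := by
      intro h
      rcases isSc_or_tr_of_mem_Fx h2 huv h with h | h
      · exact h01 h.1
      · exact htx h
    have hε0 : (x : M2) 0 0 ≠ 0 := by
      intro h0
      rw [h0] at hε
      simp at hε
    rcases normalizer_cosets hq huv hxu hyu hxQ with hw | hw | hw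
    · obtain ⟨h1, h2'⟩ := ut_aux hq h3 h10 h00 h01 huv hxu hw hy10
      exact ⟨h2', Or.inl h1⟩
    · have e10 : ((y * x⁻¹ : S2) : M2) 1 0 = (x : M2) 0 0 * (y : M2) 1 0 := by
        rw [mul_10, inv_00, inv_10, h10, h11]; ring
      have hw10 : ((y * x⁻¹ : S2) : M2) 1 0 ≠ 0 := by
        rw [e10]; exact mul_ne_zero hε0 hy10
      obtain ⟨h1, h2'⟩ := ut_aux hq h3 h10 h00 h01 huv hxu hw hw10
      rw [e10] at h2'
      have hc : ((x : M2) 0 1 * (y : M2) 1 0) ^ 2 = 1 := by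
        linear_combination h2' - ((x : M2) 0 1 * (y : M2) 1 0) ^ 2 * hε
      refine ⟨hc, Or.inr ?_⟩
      unfold tr at h1 ⊢
      rw [mul_00, mul_11, inv_00, inv_10, inv_01, inv_11, h10, h11] at h1
      have e : (x : M2) 0 0 * ((y : M2) 0 0 + (y : M2) 1 1) = (x : M2) 0 1 * (y : M2) 1 0 := by
        linear_combination h1
      have e2 : ((x : M2) 0 0 * ((y : M2) 0 0 + (y : M2) 1 1)) ^ 2 = 1 := by rw [e, hc]
      linear_combination e2 - ((y : M2) 0 0 + (y : M2) 1 1) ^ 2 * hε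
    · have e10 : ((y * x : S2) : M2) 1 0 = (x : M2) 0 0 * (y : M2) 1 0 := by
        rw [mul_10, h10]; ring
      have hw10 : ((y * x : S2) : M2) 1 0 ≠ 0 := by
        rw [e10]; exact mul_ne_zero hε0 hy10
      obtain ⟨h1, h2'⟩ := ut_aux hq h3 h10 h00 h01 huv hxu hw hw10
      rw [e10] at h2'
      have hc : ((x : M2) 0 1 * (y : M2) 1 0) ^ 2 = 1 := by
        linear_combination h2' - ((x : M2) 0 1 * (y : M2) 1 0) ^ 2 * hε
      refine ⟨hc, Or.inr ?_⟩
      unfold tr at h1 ⊢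
      rw [mul_00, mul_11, h10, h11] at h1
      have e : (x : M2) 0 0 * ((y : M2) 0 0 + (y : M2) 1 1) = -((x : M2) 0 1 * (y : M2) 1 0) := by
        linear_combination h1
      have e2 : ((x : M2) 0 0 * ((y : M2) 0 0 + (y : M2) 1 1)) ^ 2 = 1 := by
        rw [e, neg_sq, hc]
      linear_combination e2 - ((y : M2) 0 0 + (y : M2) 1 1) ^ 2 * hε

/-- `x` in `ut` form normalises the quaternion group generated by suitable `w` and `x w x⁻¹` -/
theorem ut_normalizes (hq : Fintype.card F % 8 = 3) (h3 : (3 : F) = 0) {x w : S2}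
    (h10 : (x : M2) 1 0 = 0) (h00 : (x : M2) 0 0 = (x : M2) 1 1) (hw : tr w = 0)
    (hc : ((x : M2) 0 1 * (w : M2) 1 0) ^ 2 = 1) :
    Ac w (x * w * x⁻¹) ∧ x ∈ NQ(w, x * w * x⁻¹) := by
  have h2 := two_ne_zero_of_mod hq
  have htv : tr (x * w * x⁻¹) = 0 := by rw [tr_conj, hw]
  have htwv : tr (w * (x * w * x⁻¹)) = 0 := by
    rw [tr_conj_prod_ut h3 h10 h00 hw, hc]; ring
  have hAc : Ac w (x * w * x⁻¹) := ac_of_tr hw htv htwv
  refine ⟨hAc, ?_⟩
  have hAc1 := hAc.conj x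
  have hAc2 := hAc1.conj x
  have hcube : x * (x * (x * w * x⁻¹) * x⁻¹) * x⁻¹ = w := by
    have e : x * (x * (x * w * x⁻¹) * x⁻¹) * x⁻¹ = (x * x * x) * w * (x * x * x)⁻¹ := by group
    rw [e, ← (isSc_cube_ut h3 h10 h00).comm w]
    group
  rw [hcube] at hAc2
  have hu' : x * w * x⁻¹ ∈ Fx w (x * w * x⁻¹) := right_mem_Fx hAc
  have hv' : x * (x * w * x⁻¹) * x⁻¹ ∈ Fx w (x * w * x⁻¹) := ⟨Or.inr hAc2, Or.inr hAc1.symm⟩
  exact mem_normalizer_of_conj_mem _ x (fun z hz => conj_mem_Fx h2 hAc hu' hv' hz)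

theorem solvable_ut_of (hq : Fintype.card F % 8 = 3) (h3 : (3 : F) = 0) {x y : S2}
    (h10 : (x : M2) 1 0 = 0) (h00 : (x : M2) 0 0 = (x : M2) 1 1)
    (hc : ((x : M2) 0 1 * (y : M2) 1 0) ^ 2 = 1) (ht : tr y = 0 ∨ tr y ^ 2 = 1) :
    Group.IsSolvable ↥(Subgroup.closure ({x, y} : Set S2)) := by
  have h2 := two_ne_zero_of_mod hq
  have hε := ut_sq h10 h00
  have h11 : (x : M2) 1 1 = (x : M2) 0 0 := h00.symm
  rcases ht with ht | ht
  · obtain ⟨hAc, hxN⟩ := ut_normalizes hq h3 h10 h00 ht hc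
    exact (solvable_iff_L3 hq x y).mpr (Or.inr ⟨y, x * y * x⁻¹, hAc, hxN,
      Subgroup.le_normalizer (left_mem_Fx hAc)⟩)
  · have hsq : ((x : M2) 0 0 * tr y) ^ 2 = ((x : M2) 0 1 * (y : M2) 1 0) ^ 2 := by
      rw [hc]
      linear_combination tr y ^ 2 * hε + ht
    rcases eq_or_eq_neg_of_sq_eq_sq _ _ hsq with h | h
    · -- w = y * x⁻¹
      have e10 : ((y * x⁻¹ : S2) : M2) 1 0 = (x : M2) 0 0 * (y : M2) 1 0 := by
        rw [mul_10, inv_00, inv_10, h10, h11]; ring
      have htw : tr (y * x⁻¹) = 0 := by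
        unfold tr at h ⊢
        rw [mul_00, mul_11, inv_00, inv_10, inv_01, inv_11, h10, h11]
        linear_combination h
      have hcw : ((x : M2) 0 1 * ((y * x⁻¹ : S2) : M2) 1 0) ^ 2 = 1 := by
        rw [e10]
        linear_combination hc + ((x : M2) 0 1 * (y : M2) 1 0) ^ 2 * hε
      obtain ⟨hAc, hxN⟩ := ut_normalizes hq h3 h10 h00 htw hcw
      have hwN : y * x⁻¹ ∈ NQ(y * x⁻¹, x * (y * x⁻¹) * x⁻¹) :=
        Subgroup.le_normalizer (left_mem_Fx hAc)
      have hyN : y ∈ NQ(y * x⁻¹, x * (y * x⁻¹) * x⁻¹) := by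
        have hm := Subgroup.mul_mem _ hwN hxN
        have e : (y * x⁻¹) * x = y := by group
        rwa [e] at hm
      exact (solvable_iff_L3 hq x y).mpr (Or.inr ⟨_, _, hAc, hxN, hyN⟩)
    · -- w = y * x
      have e10 : ((y * x : S2) : M2) 1 0 = (x : M2) 0 0 * (y : M2) 1 0 := by
        rw [mul_10, h10]; ring
      have htw : tr (y * x) = 0 := by
        unfold tr at h ⊢
        rw [mul_00, mul_11, h10, h11]
        linear_combination h
      have hcw : ((x : M2) 0 1 * ((y * x : S2) : M2) 1 0) ^ 2 = 1 := by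
        rw [e10]
        linear_combination hc + ((x : M2) 0 1 * (y : M2) 1 0) ^ 2 * hε
      obtain ⟨hAc, hxN⟩ := ut_normalizes hq h3 h10 h00 htw hcw
      have hwN : y * x ∈ NQ(y * x, x * (y * x) * x⁻¹) :=
        Subgroup.le_normalizer (left_mem_Fx hAc)
      have hyN : y ∈ NQ(y * x, x * (y * x) * x⁻¹) := by
        have hm := Subgroup.mul_mem _ hwN (Subgroup.inv_mem _ hxN)
        have e : (y * x) * x⁻¹ = y := by group
        rwa [e] at hm
      exact (solvable_iff_L3 hq x y).mpr (Or.inr ⟨_, _, hAc, hxN, hyN⟩)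

theorem solvable_ut_iff (hq : Fintype.card F % 8 = 3) (h3 : (3 : F) = 0) {x : S2}
    (h10 : (x : M2) 1 0 = 0) (h00 : (x : M2) 0 0 = (x : M2) 1 1) (h01 : (x : M2) 0 1 ≠ 0)
    (y : S2) :
    Group.IsSolvable ↥(Subgroup.closure ({x, y} : Set S2)) ↔
      ((y : M2) 1 0 = 0 ∨
        (((x : M2) 0 1 * (y : M2) 1 0) ^ 2 = 1 ∧ (tr y = 0 ∨ tr y ^ 2 = 1))) := by
  have h2 := two_ne_zero_of_mod hq
  constructor
  · exact solvable_ut_imp hq h3 h10 h00 h01
  · rintro (h | ⟨hc, ht⟩)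
    · exact solvable_of_mem_NC h2 (not_isSc_ut h01) ((mem_NC_ut h10 h00 h01 _).mpr h10)
        ((mem_NC_ut h10 h00 h01 _).mpr h)
    · exact solvable_ut_of hq h3 h10 h00 hc ht

end Finite

end Cfsg.Agent.Helper37.L3
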