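import Mathlib
import Cfsg.Agent.Lib.Helper37.L3J

set_option autoImplicit false

namespace Cfsg.Agent.Helper37.L3

open Matrix Cfsg.Agent.Helper40 Cfsg.Agent.Helper41 Cfsg.Agent.Helper37
open Cfsg.Agent.Helper37.L2 (tr trace_eq tr_conj mat_ext le_NC conj_eq_iff)

variable {F : Type*} [Field F]

set_option quotPrecheck false in
local notation "S2" => Matrix.SpecialLinearGroup (Fin 2) F
set_option quotPrecheck false in
local notation "M2" => Matrix (Fin 2) (Fin 2) F
set_option quotPrecheck false in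
local notation "Sol(" g ")" =>
  Nat.card {y : Matrix.SpecialLinearGroup (Fin 2) F //
    Group.IsSolvable ↥(Subgroup.closure ({g, y} : Set (Matrix.SpecialLinearGroup (Fin 2) F)))}

/-- parametrisation of the elements with prescribed lower left entry and trace -/
noncomputable def cellEquiv (P R : F → Prop) (hP : ∀ c, P c → c ≠ 0) :
    {y : S2 // P ((y : M2) 1 0) ∧ R (tr y)} ≃ {c : F // P c} × {t : F // R t} × F where
  toFun y := (⟨(y.1 : M2) 1 0, y.2.1⟩, ⟨tr y.1, y.2.2⟩, (y.1 : M2) 0 0)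
  invFun p := ⟨mk2 p.2.2 ((p.2.2 * (p.2.1.1 - p.2.2) - 1) * p.1.1⁻¹) p.1.1 (p.2.1.1 - p.2.2) (by
      have := inv_mul_cancel₀ (hP p.1.1 p.1.2)
      linear_combination (-(p.2.2 * (p.2.1.1 - p.2.2) - 1)) * this), by
    constructor
    · rw [mk2_10]; exact p.1.2
    · have e : tr (mk2 p.2.2 ((p.2.2 * (p.2.1.1 - p.2.2) - 1) * p.1.1⁻¹) p.1.1 (p.2.1.1 - p.2.2) (by
        have := inv_mul_cancel₀ (hP p.1.1 p.1.2)
        linear_combination (-(p.2.2 * (p.2.1.1 - p.2.2) - 1)) * this)) = p.2.1.1 := by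
        unfold tr
        rw [mk2_00, mk2_11]; ring
      rw [e]; exact p.2.1.2⟩
  left_inv := by
    rintro ⟨y, hy1, hy2⟩
    apply Subtype.ext
    have hne := hP _ hy1
    have hd := det2 y
    apply ext2
    · rfl
    · show ((y : M2) 0 0 * (tr y - (y : M2) 0 0) - 1) * ((y : M2) 1 0)⁻¹ = (y : M2) 0 1
      rw [mul_inv_eq_iff_eq_mul₀ hne]
      unfold tr
      linear_combination hd
    · rfl
    · show tr y - (y : M2) 0 0 = (y : M2) 1 1
      unfold tr; ring
  right_inv := by
    rintro ⟨⟨c, hc⟩, ⟨t, ht⟩, a⟩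
    refine Prod.ext ?_ (Prod.ext ?_ ?_)
    · rfl
    · apply Subtype.ext
      dsimp only
      unfold tr
      simp only [mk2_00, mk2_11]
      ring
    · rfl

theorem card_sq_eq_one (h2 : (2 : F) ≠ 0) {β : F} (hβ : β ≠ 0) :
    Nat.card {c : F // (β * c) ^ 2 = 1} = 2 := by
  have hb := mul_inv_cancel₀ hβ
  have hset : {c : F | (β * c) ^ 2 = 1} = {β⁻¹, -β⁻¹} := by
    ext c
    simp only [Set.mem_setOf_eq, Set.mem_insert_iff, Set.mem_singleton_iff]
    constructor
    · intro h
      rcases sq_eq_one_iff.mp h with h | h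
      · left
        exact eq_inv_of_mul_eq_one_right h
      · right
        have h' : β * (-c) = 1 := by linear_combination -h
        have := eq_inv_of_mul_eq_one_right h'
        rw [← this, neg_neg]
    · rintro (rfl | rfl)
      · rw [hb]; ring
      · rw [mul_neg, hb]; ring
  have hne : β⁻¹ ≠ -β⁻¹ := by
    intro h
    have h0 : (2 : F) * β⁻¹ = 0 := by linear_combination h
    rcases mul_eq_zero.mp h0 with h' | h'
    · exact h2 h'
    · exact inv_ne_zero hβ h'
  show Nat.card ↥{c : F | (β * c) ^ 2 = 1} = 2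
  rw [hset, Nat.card_coe_set_eq, Set.ncard_pair hne]

theorem card_tr_three (h2 : (2 : F) ≠ 0) :
    Nat.card {t : F // t = 0 ∨ t ^ 2 = 1} = 3 := by
  have hset : {t : F | t = 0 ∨ t ^ 2 = 1} = {0, 1, -1} := by
    ext t
    simp only [Set.mem_setOf_eq, Set.mem_insert_iff, Set.mem_singleton_iff, sq_eq_one_iff]
  show Nat.card ↥{t : F | t = 0 ∨ t ^ 2 = 1} = 3
  rw [hset, Nat.card_coe_set_eq]
  apply Set.ncard_eq_three.mpr
  refine ⟨0, 1, -1, zero_ne_one, ?_, ?_, rfl⟩
  · intro h
    have : (1 : F) = 0 := by linear_combination h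
    exact one_ne_zero this
  · intro h
    apply h2
    linear_combination h

section Finite

variable [Fintype F]

/-- the solubilizer of an element in `ut` form -/
theorem card_sol_ut (hq : Fintype.card F % 8 = 3) (h3 : (3 : F) = 0) {x : S2}
    (h10 : (x : M2) 1 0 = 0) (h00 : (x : M2) 0 0 = (x : M2) 1 1) (h01 : (x : M2) 0 1 ≠ 0) :
    Sol(x) = Fintype.card F * (Fintype.card F + 5) := by
  have h2 := two_ne_zero_of_mod hq
  set B : Set S2 := {y | (y : M2) 1 0 = 0} with hB
  set J : Set S2 := {y | ((x : M2) 0 1 * (y : M2) 1 0) ^ 2 = 1 ∧ (tr y = 0 ∨ tr y ^ 2 = 1)} with hJ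
  have hset : {y : S2 | Group.IsSolvable ↥(Subgroup.closure ({x, y} : Set S2))} = B ∪ J := by
    ext y
    rw [Set.mem_setOf_eq, solvable_ut_iff hq h3 h10 h00 h01]
    simp only [Set.mem_union, Set.mem_setOf_eq, hB, hJ]
  have hBc : B.ncard = Fintype.card F * (Fintype.card F - 1) := by
    rw [← L2.card_upper, ← Nat.card_coe_set_eq]; rfl
  have hJc : J.ncard = 2 * (3 * Fintype.card F) := by
    rw [← Nat.card_coe_set_eq]
    have e := cellEquiv (F := F) (fun c => ((x : M2) 0 1 * c) ^ 2 = 1) (fun t => t = 0 ∨ t ^ 2 = 1)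
      (by
        intro c hc h0
        rw [h0, mul_zero] at hc
        simp at hc)
    have := Nat.card_congr e
    rw [Nat.card_prod, Nat.card_prod, card_sq_eq_one h2 h01, card_tr_three h2,
      Nat.card_eq_fintype_card (α := F)] at this
    rw [← this]
    rfl
  have hdisj : Disjoint B J := by
    rw [Set.disjoint_left]
    rintro y hy ⟨hc, -⟩
    have h' : (y : M2) 1 0 = 0 := hy
    rw [h', mul_zero] at hc
    simp at hc
  have hq1 : 1 ≤ Fintype.card F := Fintype.card_pos
  show Nat.card ↥{y : S2 | Group.IsSolvable ↥(Subgroup.closure ({x, y} : Set S2))} = _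
  rw [hset, Nat.card_coe_set_eq, Set.ncard_union_eq hdisj (Set.toFinite _) (Set.toFinite _),
    hBc, hJc]
  obtain ⟨m, hm⟩ := Nat.exists_eq_add_of_le hq1
  rw [hm]
  have : 1 + m - 1 = m := by omega
  rw [this]
  ring

end Finite

end Cfsg.Agent.Helper37.L3
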