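import Mathlib
import Cfsg.Agent.Lib.Helper37.L3K

set_option autoImplicit false

namespace Cfsg.Agent.Helper37.L3

open Matrix Cfsg.Agent.Helper40 Cfsg.Agent.Helper41 Cfsg.Agent.Helper37
open Cfsg.Agent.Helper37.L2 (tr trace_eq tr_conj mat_ext le_NC conj_eq_iff)

variable {F : Type*} [Field F]

set_option quotPrecheck false in
local notation "S2" => Matrix.SpecialLinearGroup (Fin 2) F
set_option quotPrecheck false in
local notation "M2" => Matrix (Fin 2) (Fin 2) F
set_option quotPrecheck false in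
local notation "C(" g ")" => Subgroup.centralizer ({g} : Set (Matrix.SpecialLinearGroup (Fin 2) F))
set_option quotPrecheck false in
local notation "NC(" g ")" =>
  Subgroup.normalizer ((Subgroup.centralizer ({g} : Set (Matrix.SpecialLinearGroup (Fin 2) F)) :
    Subgroup (Matrix.SpecialLinearGroup (Fin 2) F)) : Set (Matrix.SpecialLinearGroup (Fin 2) F))
set_option quotPrecheck false in
local notation "NQ(" u "," v ")" =>
  Subgroup.normalizer ((Fx u v : Subgroup (Matrix.SpecialLinearGroup (Fin 2) F)) :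
    Set (Matrix.SpecialLinearGroup (Fin 2) F))
set_option quotPrecheck false in
local notation "Sol(" g ")" =>
  Nat.card {y : Matrix.SpecialLinearGroup (Fin 2) F //
    Group.IsSolvable ↥(Subgroup.closure ({g, y} : Set (Matrix.SpecialLinearGroup (Fin 2) F)))}

/-- the standard element of order four -/
def w0 (F : Type*) [Field F] : Matrix.SpecialLinearGroup (Fin 2) F := mk2 0 1 (-1) 0 (by ring)

theorem w0_00 : ((w0 F : S2) : M2) 0 0 = 0 := rfl
theorem w0_01 : ((w0 F : S2) : M2) 0 1 = 1 := rfl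
theorem w0_10 : ((w0 F : S2) : M2) 1 0 = -1 := rfl
theorem w0_11 : ((w0 F : S2) : M2) 1 1 = 0 := rfl

theorem tr_w0 : tr (w0 F) = 0 := by
  unfold tr
  rw [w0_00, w0_11]; ring

theorem w0_not_isSc : ¬ IsSc (w0 F) := by
  intro h
  have := h.1
  rw [w0_01] at this
  exact one_ne_zero this

theorem w0_conj_00 (y : S2) : ((w0 F * y * (w0 F)⁻¹ : S2) : M2) 0 0 = (y : M2) 1 1 := by
  simp only [mul_00, mul_01, mul_10, mul_11, inv_00, inv_01, inv_10, inv_11, w0_00, w0_01, w0_10,
    w0_11]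
  ring

theorem w0_conj_01 (y : S2) : ((w0 F * y * (w0 F)⁻¹ : S2) : M2) 0 1 = -(y : M2) 1 0 := by
  simp only [mul_00, mul_01, mul_10, mul_11, inv_00, inv_01, inv_10, inv_11, w0_00, w0_01, w0_10,
    w0_11]
  ring

theorem w0_conj_10 (y : S2) : ((w0 F * y * (w0 F)⁻¹ : S2) : M2) 1 0 = -(y : M2) 0 1 := by
  simp only [mul_00, mul_01, mul_10, mul_11, inv_00, inv_01, inv_10, inv_11, w0_00, w0_01, w0_10,
    w0_11]
  ring

theorem w0_conj_11 (y : S2) : ((w0 F * y * (w0 F)⁻¹ : S2) : M2) 1 1 = (y : M2) 0 0 := by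
  simp only [mul_00, mul_01, mul_10, mul_11, inv_00, inv_01, inv_10, inv_11, w0_00, w0_01, w0_10,
    w0_11]
  ring

theorem w0_conj_eq_iff (y : S2) :
    w0 F * y * (w0 F)⁻¹ = y ↔ (y : M2) 0 0 = (y : M2) 1 1 ∧ (y : M2) 0 1 = -(y : M2) 1 0 := by
  constructor
  · intro h
    have e00 := congrArg (fun g : S2 => (g : M2) 0 0) h
    have e10 := congrArg (fun g : S2 => (g : M2) 1 0) h
    simp only [w0_conj_00, w0_conj_10] at e00 e10
    exact ⟨e00.symm, by linear_combination -e10⟩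
  · rintro ⟨h1, h2⟩
    apply ext2
    · rw [w0_conj_00, h1]
    · rw [w0_conj_01, h2]
    · rw [w0_conj_10, h2]; ring
    · rw [w0_conj_11, h1]

theorem w0_conj_eq_inv_iff (y : S2) :
    w0 F * y * (w0 F)⁻¹ = y⁻¹ ↔ (y : M2) 0 1 = (y : M2) 1 0 := by
  constructor
  · intro h
    have e10 := congrArg (fun g : S2 => (g : M2) 1 0) h
    simp only [w0_conj_10, inv_10] at e10
    linear_combination -e10
  · intro h1
    apply ext2
    · rw [w0_conj_00, inv_00]
    · rw [w0_conj_01, inv_01, h1]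
    · rw [w0_conj_10, inv_10, h1]
    · rw [w0_conj_11, inv_11]

theorem tr_w0_conj (y : S2) : tr (w0 F * (y * w0 F * y⁻¹)) =
    -(tr y ^ 2 - 2 + ((y : M2) 0 1 - (y : M2) 1 0) ^ 2) := by
  have hd := det2 y
  unfold tr
  simp only [mul_00, mul_01, mul_10, mul_11, inv_00, inv_01, inv_10, inv_11, w0_00, w0_01, w0_10,
    w0_11]
  linear_combination 2 * hd

theorem w0_pow_four : (w0 F) ^ 4 = 1 := by
  rw [Cfsg.Agent.S0809.pow_four_eq, sq_eq_nOne_of_tr tr_w0, nOne_sq]

/-- Cayley–Hamilton for the cube -/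
theorem isSc_cube_of_tr_sq {g : S2} (h : tr g ^ 2 = 1) : IsSc (g * g * g) := by
  have hd := det2 g
  unfold tr at h
  refine ⟨?_, ?_, ?_⟩
  · simp only [mul_00, mul_01, mul_10, mul_11]
    linear_combination (g : M2) 0 1 * h - (g : M2) 0 1 * hd
  · simp only [mul_00, mul_01, mul_10, mul_11]
    linear_combination (g : M2) 1 0 * h - (g : M2) 1 0 * hd
  · simp only [mul_00, mul_01, mul_10, mul_11]
    linear_combination ((g : M2) 0 0 - (g : M2) 1 1) * h - ((g : M2) 0 0 - (g : M2) 1 1) * hd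

/-- elements commuting with an element conjugate to `ut` form -/
theorem tr_sq_of_comm_ut_type {y u : S2} (hy : ¬ IsSc y) (hτy : tr y ^ 2 = 4)
    (hcomm : u * y = y * u) : tr u ^ 2 = 4 := by
  obtain ⟨k, y', hk, h10, h00, h01⟩ := exists_conj_ut hy hτy
  have hc : (k⁻¹ * u * k) * y' = y' * (k⁻¹ * u * k) := by
    have e1 : (k⁻¹ * u * k) * y' = k⁻¹ * (u * (k * y' * k⁻¹)) * k := by group
    have e2 : y' * (k⁻¹ * u * k) = k⁻¹ * ((k * y' * k⁻¹) * u) * k := by group
    rw [e1, e2, ← hk, hcomm]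
  obtain ⟨hu10, hu00⟩ := (mem_cen_ut h10 h00 h01 _).mp (mem_centralizer_singleton.mpr hc)
  have hsq := ut_sq hu10 hu00
  have htr : tr (k⁻¹ * u * k) = tr u := by
    have := tr_conj k⁻¹ u
    rw [inv_inv] at this
    exact this
  rw [← htr]
  unfold tr
  rw [← hu00]
  linear_combination 4 * hsq

/-- an element with a cube that is scalar normalises suitable quaternion groups -/
theorem cube_normalizes [Finite F] (h2 : (2 : F) ≠ 0) {x w : S2} (hcube : IsSc (x * x * x))
    (hAc : Ac w (x * w * x⁻¹)) : x ∈ NQ(w, x * w * x⁻¹) := by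
  have hAc1 := hAc.conj x
  have hAc2 := hAc1.conj x
  have hc : x * (x * (x * w * x⁻¹) * x⁻¹) * x⁻¹ = w := by
    have e : x * (x * (x * w * x⁻¹) * x⁻¹) * x⁻¹ = (x * x * x) * w * (x * x * x)⁻¹ := by group
    rw [e, ← hcube.comm w]
    group
  rw [hc] at hAc2
  have hu' : x * w * x⁻¹ ∈ Fx w (x * w * x⁻¹) := right_mem_Fx hAc
  have hv' : x * (x * w * x⁻¹) * x⁻¹ ∈ Fx w (x * w * x⁻¹) := ⟨Or.inr hAc2, Or.inr hAc1.symm⟩
  exact mem_normalizer_of_conj_mem _ x (fun z hz => conj_mem_Fx h2 hAc hu' hv' hz)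

section Finite

variable [Fintype F]

/-- two elements of trace zero generate a solvable group -/
theorem solvable_of_tr_zero (h2 : (2 : F) ≠ 0) {x y : S2} (hx : tr x = 0) (hy : tr y = 0) :
    Group.IsSolvable ↥(Subgroup.closure ({x, y} : Set S2)) := by
  have hxs := not_isSc_of_tr h2 hx
  have hxx := sq_eq_nOne_of_tr hx
  have hyy := sq_eq_nOne_of_tr hy
  by_cases hsc : IsSc (x * y)
  · have h1 := hsc.comm x
    have hcomm : y * x = x * y := by
      have : x * (x * y) = x * (y * x) := by rw [h1, mul_assoc]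
      exact (mul_left_cancel this).symm
    exact solvable_of_mem_NC h2 hxs (le_NC x (mem_centralizer_singleton.mpr rfl))
      (le_NC x (mem_centralizer_singleton.mpr hcomm))
  · have hxu : x ∈ NC(x * y) := by
      rw [mem_NC_iff hsc]
      have e : x * (x * y) * x⁻¹ * (x * y) = (x * x) * (y * y) := by group
      have h1 : x * (x * y) * x⁻¹ = (x * y)⁻¹ := by
        apply eq_inv_of_mul_eq_one_left
        rw [e, hxx, hyy, nOne_sq]
      rw [h1, inv_mul_cancel, mul_inv_cancel]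
    have hyu : y ∈ NC(x * y) := by
      rw [mem_NC_iff hsc]
      have e : y * (x * y) * y⁻¹ * (x * y) = y * (x * x) * y := by group
      have h1 : y * (x * y) * y⁻¹ = (x * y)⁻¹ := by
        apply eq_inv_of_mul_eq_one_left
        rw [e, hxx, ← nOne_mul y, mul_assoc, hyy, nOne_sq]
      rw [h1, inv_mul_cancel, mul_inv_cancel]
    exact solvable_of_mem_NC h2 hsc hxu hyu


theorem not_isSquare_neg_one (hq : Fintype.card F % 8 = 3) : ¬ IsSquare (-1 : F) := by
  rw [FiniteField.isSquare_neg_one_iff]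
  omega

/-- trace zero elements lie in no Borel subgroup -/
theorem tr0_not_mem_NC (hnsq : ¬ IsSquare (-1 : F)) {x u : S2} (hx : tr x = 0) (hu : ¬ IsSc u)
    (hτu : tr u ^ 2 = 4) : x ∉ NC(u) := by
  intro hxu
  obtain ⟨k, u', hk, h10, h00, h01⟩ := exists_conj_ut hu hτu
  rw [hk, L2.mem_NC_conj_iff, mem_NC_ut h10 h00 h01] at hxu
  have hroot := root_of_upper hxu
  have htr : tr (k⁻¹ * x * k) = tr x := by
    have := tr_conj k⁻¹ x
    rw [inv_inv] at this
    exact this
  rw [htr, hx] at hroot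
  apply hnsq
  exact ⟨((k⁻¹ * x * k : S2) : M2) 0 0, by linear_combination hroot⟩

theorem solvable_w0_imp (hq : Fintype.card F % 8 = 3) (hq3 : Fintype.card F % 3 = 0)
    (h3 : (3 : F) = 0) {y : S2}
    (hs : Group.IsSolvable ↥(Subgroup.closure ({w0 F, y} : Set S2))) :
    ((y : M2) 0 0 = (y : M2) 1 1 ∧ (y : M2) 0 1 = -(y : M2) 1 0) ∨ tr y = 0 ∨
      (y : M2) 0 1 = (y : M2) 1 0 ∨
        (tr y ^ 2 = 1 ∧ ((y : M2) 0 1 - (y : M2) 1 0) ^ 2 = 1) := by
  have h2 := two_ne_zero_of_mod hq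
  by_cases hysc : IsSc y
  · left
    exact ⟨hysc.2.2, by rw [hysc.1, hysc.2.1, neg_zero]⟩
  by_cases hty : tr y = 0
  · right; left; exact hty
  have hnsq := not_isSquare_neg_one hq
  have hτw : tr (w0 F) ^ 2 ≠ 4 := by
    rw [tr_w0]
    intro h
    apply h2
    have : (2 : F) * 2 = 0 := by linear_combination -h
    exact mul_self_eq_zero.mp this
  rcases (solvable_iff_L3 hq (w0 F) y).mp hs with ⟨u, hu, hxu, hyu⟩ | ⟨u, v, huv, hxu, hyu⟩
  · by_cases hτu : tr u ^ 2 = 4
    · exact absurd hxu (tr0_not_mem_NC hnsq tr_w0 hu hτu)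
    · rcases (mem_NC_iff' h2 hτu y).mp hyu with h | h
      · have hcomm : y * u = u * y := (conj_eq_iff y u).mp h
        have hτy : tr y ^ 2 ≠ 4 := fun hτy => hτu (tr_sq_of_comm_ut_type hysc hτy hcomm.symm)
        rw [← NC_eq hu hysc hcomm] at hxu
        rcases (mem_NC_iff' h2 hτy (w0 F)).mp hxu with h' | h'
        · left; exact (w0_conj_eq_iff y).mp h'
        · right; right; left; exact (w0_conj_eq_inv_iff y).mp h'
      · exact absurd (tr_zero_of_inverts h2 hτu h) hty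
  · have hw0Q : w0 F ∈ Fx u v := mem_Fx_of_pow_four hq huv hxu w0_pow_four
    by_cases hτy : tr y ^ 2 = 4
    · have hv'Q : y * w0 F * y⁻¹ ∈ Fx u v := (Subgroup.mem_normalizer_iff.mp hyu _).mp hw0Q
      have hns' : ¬ IsSc (y * w0 F * y⁻¹) := fun h => w0_not_isSc ((isSc_conj y _).mp h)
      rcases same_or_ac h2 huv hw0Q hv'Q w0_not_isSc hns' with h | h | h
      · left
        have hc : y * w0 F = w0 F * y := (conj_eq_iff y _).mp h
        exact (w0_conj_eq_iff y).mp ((conj_eq_iff _ y).mpr hc.symm)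
      · exfalso
        rw [← inv_eq_of_tr tr_w0] at h
        exact hty (tr_zero_of_inverts h2 hτw h)
      · right; right; right
        have := h.tr_mul h2
        rw [tr_w0_conj] at this
        refine ⟨by linear_combination hτy + h3, ?_⟩
        linear_combination -this - hτy - h3
    · exact absurd hyu (not_mem_NQ_of_rs hq hq3 hτy hty huv)

theorem solvable_w0_of (hq : Fintype.card F % 8 = 3) (h3 : (3 : F) = 0) {y : S2}
    (h : ((y : M2) 0 0 = (y : M2) 1 1 ∧ (y : M2) 0 1 = -(y : M2) 1 0) ∨ tr y = 0 ∨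
      (y : M2) 0 1 = (y : M2) 1 0 ∨
        (tr y ^ 2 = 1 ∧ ((y : M2) 0 1 - (y : M2) 1 0) ^ 2 = 1)) :
    Group.IsSolvable ↥(Subgroup.closure ({w0 F, y} : Set S2)) := by
  have h2 := two_ne_zero_of_mod hq
  rcases h with h | h | h | ⟨hτ, hσ⟩
  · have hc : w0 F * y = y * w0 F := (conj_eq_iff _ y).mp ((w0_conj_eq_iff y).mpr h)
    exact solvable_of_mem_NC h2 w0_not_isSc (le_NC _ (mem_centralizer_singleton.mpr rfl))
      (le_NC _ (mem_centralizer_singleton.mpr hc.symm))
  · exact solvable_of_tr_zero h2 tr_w0 h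
  · have hinv := (w0_conj_eq_inv_iff y).mpr h
    by_cases hysc : IsSc y
    · have hc := hysc.comm (w0 F)
      exact solvable_of_mem_NC h2 w0_not_isSc (le_NC _ (mem_centralizer_singleton.mpr rfl))
        (le_NC _ (mem_centralizer_singleton.mpr hc.symm))
    · have hw : w0 F ∈ NC(y) := by
        rw [mem_NC_iff hysc, hinv, inv_mul_cancel, mul_inv_cancel]
      exact solvable_of_mem_NC h2 hysc hw (le_NC _ (mem_centralizer_singleton.mpr rfl))
  · have htv : tr (y * w0 F * y⁻¹) = 0 := by rw [tr_conj, tr_w0]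
    have htwv : tr (w0 F * (y * w0 F * y⁻¹)) = 0 := by
      rw [tr_w0_conj, hτ, hσ]
      ring
    have hAc : Ac (w0 F) (y * w0 F * y⁻¹) := ac_of_tr tr_w0 htv htwv
    have hyN := cube_normalizes h2 (isSc_cube_of_tr_sq hτ) hAc
    exact (solvable_iff_L3 hq (w0 F) y).mpr (Or.inr ⟨_, _, hAc,
      Subgroup.le_normalizer (left_mem_Fx hAc), hyN⟩)

theorem solvable_w0_iff (hq : Fintype.card F % 8 = 3) (hq3 : Fintype.card F % 3 = 0)
    (h3 : (3 : F) = 0) (y : S2) :
    Group.IsSolvable ↥(Subgroup.closure ({w0 F, y} : Set S2)) ↔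
      (((y : M2) 0 0 = (y : M2) 1 1 ∧ (y : M2) 0 1 = -(y : M2) 1 0) ∨ tr y = 0 ∨
        (y : M2) 0 1 = (y : M2) 1 0 ∨
          (tr y ^ 2 = 1 ∧ ((y : M2) 0 1 - (y : M2) 1 0) ^ 2 = 1)) :=
  ⟨solvable_w0_imp hq hq3 h3, solvable_w0_of hq h3⟩

end Finite

end Cfsg.Agent.Helper37.L3
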