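import Mathlib
import Cfsg.Agent.Lib.Helper37.L3L

set_option autoImplicit false

namespace Cfsg.Agent.Helper37.L3

open Matrix Cfsg.Agent.Helper40 Cfsg.Agent.Helper41 Cfsg.Agent.Helper37
open Cfsg.Agent.Helper37.L2 (tr trace_eq tr_conj mat_ext le_NC conj_eq_iff)

variable {F : Type*} [Field F]

set_option quotPrecheck false in
local notation "S2" => Matrix.SpecialLinearGroup (Fin 2) F
set_option quotPrecheck false in
local notation "M2" => Matrix (Fin 2) (Fin 2) F
set_option quotPrecheck false in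
local notation "Sol(" g ")" =>
  Nat.card {y : Matrix.SpecialLinearGroup (Fin 2) F //
    Group.IsSolvable ↥(Subgroup.closure ({g, y} : Set (Matrix.SpecialLinearGroup (Fin 2) F)))}

/-- the conic `a² + b² = 1` -/
abbrev Conic (F : Type*) [Field F] : Type _ := {p : F × F // p.1 ^ 2 - (-1) * p.2 ^ 2 = 1}

theorem card_sq_one (h2 : (2 : F) ≠ 0) : Nat.card {t : F // t ^ 2 = 1} = 2 := by
  have hset : {t : F | t ^ 2 = 1} = {1, -1} := by
    ext t
    simp only [Set.mem_setOf_eq, Set.mem_insert_iff, Set.mem_singleton_iff, sq_eq_one_iff]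
  have hne : (1 : F) ≠ -1 := by
    intro h
    apply h2
    linear_combination h
  show Nat.card ↥{t : F | t ^ 2 = 1} = 2
  rw [hset, Nat.card_coe_set_eq, Set.ncard_pair hne]

/-- trace zero symmetric elements form a conic -/
def symZeroEquiv (h3 : (3 : F) = 0) :
    {y : S2 // tr y = 0 ∧ (y : M2) 0 1 = (y : M2) 1 0} ≃ Conic F where
  toFun y := ⟨((y.1 : M2) 0 0 - (y.1 : M2) 0 1, (y.1 : M2) 0 0 + (y.1 : M2) 0 1), by
    obtain ⟨y, ht, hs⟩ := y
    have hd := det2 y
    unfold tr at ht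
    have h11 : (y : M2) 1 1 = -(y : M2) 0 0 := by linear_combination ht
    rw [h11, ← hs] at hd
    show ((y : M2) 0 0 - (y : M2) 0 1) ^ 2 - (-1) * ((y : M2) 0 0 + (y : M2) 0 1) ^ 2 = 1
    linear_combination (-2) * hd - h3⟩
  invFun p := ⟨mk2 (-(p.1.1 + p.1.2)) (p.1.1 - p.1.2) (p.1.1 - p.1.2) (p.1.1 + p.1.2) (by
    have := p.2
    linear_combination (-2) * this - h3), by
    constructor
    · unfold tr
      rw [mk2_00, mk2_11]; ring
    · rw [mk2_01, mk2_10]⟩
  left_inv := by
    rintro ⟨y, ht, hs⟩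
    apply Subtype.ext
    unfold tr at ht
    have h11 : (y : M2) 1 1 = -(y : M2) 0 0 := by linear_combination ht
    apply ext2
    · show -(((y : M2) 0 0 - (y : M2) 0 1) + ((y : M2) 0 0 + (y : M2) 0 1)) = (y : M2) 0 0
      linear_combination (-(y : M2) 0 0) * h3
    · show ((y : M2) 0 0 - (y : M2) 0 1) - ((y : M2) 0 0 + (y : M2) 0 1) = (y : M2) 0 1
      linear_combination (-(y : M2) 0 1) * h3
    · show ((y : M2) 0 0 - (y : M2) 0 1) - ((y : M2) 0 0 + (y : M2) 0 1) = (y : M2) 1 0
      rw [← hs]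
      linear_combination (-(y : M2) 0 1) * h3
    · show ((y : M2) 0 0 - (y : M2) 0 1) + ((y : M2) 0 0 + (y : M2) 0 1) = (y : M2) 1 1
      rw [h11]
      linear_combination ((y : M2) 0 0) * h3
  right_inv := by
    rintro ⟨⟨p1, p2⟩, hp⟩
    apply Subtype.ext
    apply Prod.ext
    · show -(p1 + p2) - (p1 - p2) = p1
      linear_combination (-p1) * h3
    · show -(p1 + p2) + (p1 - p2) = p2
      linear_combination (-p2) * h3

/-- the elements of the quaternion groups containing `w0`, outside the torus normaliser -/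
def p3Equiv (h3 : (3 : F) = 0) :
    {y : S2 // tr y ^ 2 = 1 ∧ ((y : M2) 0 1 - (y : M2) 1 0) ^ 2 = 1} ≃
      {t : F // t ^ 2 = 1} × {t : F // t ^ 2 = 1} × Conic F where
  toFun y := (⟨tr y.1, y.2.1⟩, ⟨(y.1 : M2) 0 1 - (y.1 : M2) 1 0, y.2.2⟩,
    ⟨((y.1 : M2) 1 1 - (y.1 : M2) 0 0, -((y.1 : M2) 0 1 + (y.1 : M2) 1 0)), by
      obtain ⟨y, ht, hs⟩ := y
      have hd := det2 y
      unfold tr at ht
      show ((y : M2) 1 1 - (y : M2) 0 0) ^ 2 - (-1) * (-((y : M2) 0 1 + (y : M2) 1 0)) ^ 2 = 1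
      linear_combination ht + hs - 4 * hd - h3⟩)
  invFun p := ⟨mk2 (-p.1.1 + p.2.2.1.1) (-p.2.1.1 + p.2.2.1.2) (p.2.1.1 + p.2.2.1.2)
      (-p.1.1 - p.2.2.1.1) (by
        have h1 := p.1.2
        have h2 := p.2.1.2
        have h4 := p.2.2.2
        linear_combination h1 + h2 - h4), by
    have h1 := p.1.2
    have h2 := p.2.1.2
    constructor
    · unfold tr
      rw [mk2_00, mk2_11]
      linear_combination 4 * h1 + h3
    · rw [mk2_01, mk2_10]
      linear_combination 4 * h2 + h3⟩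
  left_inv := by
    rintro ⟨y, ht, hs⟩
    apply Subtype.ext
    apply ext2
    · show -(tr y) + ((y : M2) 1 1 - (y : M2) 0 0) = (y : M2) 0 0
      unfold tr
      linear_combination (-(y : M2) 0 0) * h3
    · show -((y : M2) 0 1 - (y : M2) 1 0) + -((y : M2) 0 1 + (y : M2) 1 0) = (y : M2) 0 1
      linear_combination (-(y : M2) 0 1) * h3
    · show ((y : M2) 0 1 - (y : M2) 1 0) + -((y : M2) 0 1 + (y : M2) 1 0) = (y : M2) 1 0
      linear_combination (-(y : M2) 1 0) * h3
    · show -(tr y) - ((y : M2) 1 1 - (y : M2) 0 0) = (y : M2) 1 1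
      unfold tr
      linear_combination (-(y : M2) 1 1) * h3
  right_inv := by
    rintro ⟨⟨t, ht⟩, ⟨s, hs⟩, ⟨⟨p1, p2⟩, hp⟩⟩
    refine Prod.ext ?_ (Prod.ext ?_ ?_)
    · apply Subtype.ext
      dsimp only
      unfold tr
      simp only [mk2_00, mk2_11]
      linear_combination (-t) * h3
    · apply Subtype.ext
      show (-s + p2) - (s + p2) = s
      linear_combination (-s) * h3
    · apply Subtype.ext
      apply Prod.ext
      · show (-t - p1) - (-t + p1) = p1
        linear_combination (-p1) * h3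
      · show -((-s + p2) + (s + p2)) = p2
        linear_combination (-p2) * h3

section Finite

variable [Fintype F]

theorem card_conic (hq : Fintype.card F % 8 = 3) : Nat.card (Conic F) = Fintype.card F + 1 := by
  have h2 := two_ne_zero_of_mod hq
  rw [Nat.card_congr (conicEquiv (not_isSquare_neg_one hq) h2).symm, Nat.card_eq_fintype_card,
    Fintype.card_option]

theorem ncard_tr_zero' (hq : Fintype.card F % 8 = 3) :
    ({y : S2 | tr y = 0}).ncard = Fintype.card F * (Fintype.card F - 1) := by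
  classical
  have h := L2.ncard_tr (F := F) 0
  have h0 : Fintype.card {a : F // a * (0 - a) - 1 = 0} = 0 := by
    rw [Fintype.card_eq_zero_iff]
    constructor
    rintro ⟨a, ha⟩
    exact not_isSquare_neg_one hq ⟨a, by linear_combination ha⟩
  rw [h0, mul_zero, add_zero] at h
  exact h

theorem ncard_sym (hq : Fintype.card F % 8 = 3) :
    ({y : S2 | (y : M2) 0 1 = (y : M2) 1 0}).ncard = Fintype.card F * (Fintype.card F - 1) := by
  rw [← ncard_tr_zero' hq, ← Nat.card_coe_set_eq, ← Nat.card_coe_set_eq]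
  apply Nat.card_congr
  exact (Equiv.mulLeft (w0 F)).subtypeEquiv (fun y => by
    show (y : M2) 0 1 = (y : M2) 1 0 ↔ tr (w0 F * y) = 0
    unfold tr
    rw [mul_00, mul_11, w0_00, w0_01, w0_10, w0_11]
    constructor
    · intro h; rw [h]; ring
    · intro h; linear_combination -h)

theorem ncard_T (hq : Fintype.card F % 8 = 3) :
    ({y : S2 | (y : M2) 0 0 = (y : M2) 1 1 ∧ (y : M2) 0 1 = -(y : M2) 1 0}).ncard =
      Fintype.card F + 1 := by
  have h2 := two_ne_zero_of_mod hq
  rw [← card_nsTorus (not_isSquare_neg_one hq) h2, ← Nat.card_coe_set_eq]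
  apply Nat.card_congr
  refine Equiv.subtypeEquivRight ?_
  intro y
  rw [mem_nsTorus, neg_one_mul]
  rfl

theorem ncard_TZ (h2 : (2 : F) ≠ 0) :
    ({y : S2 | tr y = 0} ∩
      {y : S2 | (y : M2) 0 0 = (y : M2) 1 1 ∧ (y : M2) 0 1 = -(y : M2) 1 0}).ncard = 2 := by
  have hset : ({y : S2 | tr y = 0} ∩
      {y : S2 | (y : M2) 0 0 = (y : M2) 1 1 ∧ (y : M2) 0 1 = -(y : M2) 1 0}) =
      {w0 F, nOne F * w0 F} := by
    ext y
    simp only [Set.mem_inter_iff, Set.mem_setOf_eq, Set.mem_insert_iff, Set.mem_singleton_iff]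
    constructor
    · rintro ⟨ht, h00, h01⟩
      unfold tr at ht
      have ha : (y : M2) 0 0 = 0 := by
        have : (2 : F) * (y : M2) 0 0 = 0 := by rw [← h00] at ht; linear_combination ht
        exact (mul_eq_zero.mp this).resolve_left h2
      have hd' : (y : M2) 1 1 = 0 := by rw [← h00, ha]
      have hd := det2 y
      rw [ha, hd', h01] at hd
      have hsq : (y : M2) 1 0 ^ 2 = 1 := by linear_combination hd
      rcases sq_eq_one_iff.mp hsq with hc | hc
      · right
        apply ext2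
        · rw [nOne_mul_00, w0_00, ha, neg_zero]
        · rw [nOne_mul_01, w0_01, h01, hc]
        · rw [nOne_mul_10, w0_10, hc, neg_neg]
        · rw [nOne_mul_11, w0_11, hd', neg_zero]
      · left
        apply ext2
        · rw [w0_00, ha]
        · rw [w0_01, h01, hc, neg_neg]
        · rw [w0_10, hc]
        · rw [w0_11, hd']
    · rintro (rfl | rfl)
      · refine ⟨tr_w0, rfl, ?_⟩
        rw [w0_01, w0_10, neg_neg]
      · refine ⟨?_, ?_, ?_⟩
        · rw [tr_nOne_mul, tr_w0, neg_zero]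
        · rw [nOne_mul_00, nOne_mul_11, w0_00, w0_11]
        · rw [nOne_mul_01, nOne_mul_10, w0_01, w0_10, neg_neg]
  have hne : w0 F ≠ nOne F * w0 F := by
    intro h
    have e := congrArg (fun g : S2 => (g : M2) 0 1) h
    simp only [nOne_mul_01, w0_01] at e
    apply h2
    linear_combination e
  rw [hset, Set.ncard_pair hne]

theorem ncard_TS (h2 : (2 : F) ≠ 0) :
    ({y : S2 | (y : M2) 0 0 = (y : M2) 1 1 ∧ (y : M2) 0 1 = -(y : M2) 1 0} ∩
      {y : S2 | (y : M2) 0 1 = (y : M2) 1 0}).ncard = 2 := by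
  have hset : ({y : S2 | (y : M2) 0 0 = (y : M2) 1 1 ∧ (y : M2) 0 1 = -(y : M2) 1 0} ∩
      {y : S2 | (y : M2) 0 1 = (y : M2) 1 0}) = {1, nOne F} := by
    ext y
    simp only [Set.mem_inter_iff, Set.mem_setOf_eq, Set.mem_insert_iff, Set.mem_singleton_iff]
    rw [← isSc_iff]
    constructor
    · rintro ⟨⟨h00, h01⟩, hs⟩
      have hc : (y : M2) 1 0 = 0 := by
        have : (2 : F) * (y : M2) 1 0 = 0 := by linear_combination h01 - hs
        exact (mul_eq_zero.mp this).resolve_left h2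
      exact ⟨by rw [hs, hc], hc, h00⟩
    · rintro ⟨h01, h10, h00⟩
      exact ⟨⟨h00, by rw [h01, h10, neg_zero]⟩, by rw [h01, h10]⟩
  rw [hset, Set.ncard_pair (nOne_ne_one h2).symm]

end Finite

end Cfsg.Agent.Helper37.L3
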