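import Mathlib
import Cfsg.Agent.Lib.Helper37.L3M

set_option autoImplicit false

namespace Cfsg.Agent.Helper37.L3

open Matrix Cfsg.Agent.Helper40 Cfsg.Agent.Helper41 Cfsg.Agent.Helper37
open Cfsg.Agent.Helper37.L2 (tr trace_eq tr_conj mat_ext le_NC conj_eq_iff)

variable {F : Type*} [Field F]

set_option quotPrecheck false in
local notation "S2" => Matrix.SpecialLinearGroup (Fin 2) F
set_option quotPrecheck false in
local notation "M2" => Matrix (Fin 2) (Fin 2) F
set_option quotPrecheck false in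
local notation "C(" g ")" => Subgroup.centralizer ({g} : Set (Matrix.SpecialLinearGroup (Fin 2) F))
set_option quotPrecheck false in
local notation "Sol(" g ")" =>
  Nat.card {y : Matrix.SpecialLinearGroup (Fin 2) F //
    Group.IsSolvable ↥(Subgroup.closure ({g, y} : Set (Matrix.SpecialLinearGroup (Fin 2) F)))}

section Finite

variable [Fintype F]

theorem ncard_ZS (hq : Fintype.card F % 8 = 3) (h3 : (3 : F) = 0) :
    ({y : S2 | tr y = 0} ∩ {y : S2 | (y : M2) 0 1 = (y : M2) 1 0}).ncard =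
      Fintype.card F + 1 := by
  rw [← card_conic hq, ← Nat.card_coe_set_eq]
  exact Nat.card_congr (symZeroEquiv h3)

theorem ncard_P3 (hq : Fintype.card F % 8 = 3) (h3 : (3 : F) = 0) :
    ({y : S2 | tr y ^ 2 = 1 ∧ ((y : M2) 0 1 - (y : M2) 1 0) ^ 2 = 1}).ncard =
      4 * (Fintype.card F + 1) := by
  have h2 := two_ne_zero_of_mod hq
  rw [← Nat.card_coe_set_eq]
  have := Nat.card_congr (p3Equiv (F := F) h3)
  rw [Nat.card_prod, Nat.card_prod, card_sq_one h2, card_conic hq] at this
  rw [← mul_assoc] at this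
  exact this

/-- the solubilizer of the standard element of order four -/
theorem card_sol_w0 (hq : Fintype.card F % 8 = 3) (hq3 : Fintype.card F % 3 = 0)
    (h3 : (3 : F) = 0) : Sol(w0 F) = 2 * Fintype.card F * (Fintype.card F + 1) := by
  have h2 := two_ne_zero_of_mod hq
  set T : Set S2 := {y | (y : M2) 0 0 = (y : M2) 1 1 ∧ (y : M2) 0 1 = -(y : M2) 1 0} with hT
  set Z : Set S2 := {y | tr y = 0} with hZ
  set S : Set S2 := {y | (y : M2) 0 1 = (y : M2) 1 0} with hS
  set P : Set S2 := {y | tr y ^ 2 = 1 ∧ ((y : M2) 0 1 - (y : M2) 1 0) ^ 2 = 1} with hP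
  have hset : {y : S2 | Group.IsSolvable ↥(Subgroup.closure ({w0 F, y} : Set S2))} =
      ((Z ∪ T) ∪ S) ∪ P := by
    ext y
    rw [Set.mem_setOf_eq, solvable_w0_iff hq hq3 h3]
    simp only [Set.mem_union, Set.mem_setOf_eq, hT, hZ, hS, hP]
    tauto
  have hTc : T.ncard = Fintype.card F + 1 := ncard_T hq
  have hZc : Z.ncard = Fintype.card F * (Fintype.card F - 1) := ncard_tr_zero' hq
  have hSc : S.ncard = Fintype.card F * (Fintype.card F - 1) := ncard_sym hq
  have hPc : P.ncard = 4 * (Fintype.card F + 1) := ncard_P3 hq h3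
  have hZT : (Z ∩ T).ncard = 2 := ncard_TZ h2
  have hTS : (T ∩ S).ncard = 2 := ncard_TS h2
  have hZS : (Z ∩ S).ncard = Fintype.card F + 1 := ncard_ZS hq h3
  have n1 := Set.ncard_union_add_ncard_inter Z T (Set.toFinite _) (Set.toFinite _)
  have n2 := Set.ncard_union_add_ncard_inter (Z ∪ T) S (Set.toFinite _) (Set.toFinite _)
  have hdist : (Z ∪ T) ∩ S = (Z ∩ S) ∪ (T ∩ S) := Set.union_inter_distrib_right Z T S
  have hd1 : Disjoint (Z ∩ S) (T ∩ S) := by
    rw [Set.disjoint_left]
    rintro y ⟨hz, hs⟩ ⟨⟨h00, h01⟩, -⟩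
    have hz' : tr y = 0 := hz
    have hs' : (y : M2) 0 1 = (y : M2) 1 0 := hs
    unfold tr at hz'
    have ha : (y : M2) 0 0 = 0 := by
      have : (2 : F) * (y : M2) 0 0 = 0 := by rw [← h00] at hz'; linear_combination hz'
      exact (mul_eq_zero.mp this).resolve_left h2
    have hc : (y : M2) 1 0 = 0 := by
      have : (2 : F) * (y : M2) 1 0 = 0 := by linear_combination h01 - hs'
      exact (mul_eq_zero.mp this).resolve_left h2
    have hd := det2 y
    rw [ha, hc] at hd
    simp at hd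
  have n3 := Set.ncard_union_eq hd1 (Set.toFinite _) (Set.toFinite _)
  have hd2 : Disjoint ((Z ∪ T) ∪ S) P := by
    rw [Set.disjoint_left]
    rintro y hy ⟨hτ, hσ⟩
    rcases hy with (hz | ⟨h00, h01⟩) | hs
    · have hz' : tr y = 0 := hz
      rw [hz'] at hτ
      simp at hτ
    · -- torus elements with `tr² = 1` are scalar
      have hd := det2 y
      unfold tr at hτ
      rw [← h00] at hτ hd
      rw [h01] at hd hσ
      have hc : (y : M2) 1 0 ^ 2 = 0 := by
        linear_combination hd - hτ + ((y : M2) 0 0 ^ 2) * h3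
      have hc0 : (y : M2) 1 0 = 0 := pow_eq_zero_iff two_ne_zero |>.mp hc
      rw [hc0] at hσ
      simp at hσ
    · have hs' : (y : M2) 0 1 = (y : M2) 1 0 := hs
      rw [hs'] at hσ
      simp at hσ
  show Nat.card ↥{y : S2 | Group.IsSolvable ↥(Subgroup.closure ({w0 F, y} : Set S2))} = _
  rw [hset, Nat.card_coe_set_eq, Set.ncard_union_eq hd2 (Set.toFinite _) (Set.toFinite _), hPc]
  rw [hdist, n3, hZS, hTS] at n2
  rw [hZT, hZc, hTc] at n1
  rw [hSc] at n2
  have hq1 : 1 ≤ Fintype.card F := Fintype.card_pos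
  obtain ⟨m, hm⟩ := Nat.exists_eq_add_of_le hq1
  have hA : Fintype.card F * (Fintype.card F - 1) = m * m + m := by
    rw [hm]
    have : 1 + m - 1 = m := by omega
    rw [this]
    ring
  have hB : 2 * Fintype.card F * (Fintype.card F + 1) = 2 * (m * m + m) + 4 * (1 + m) := by
    rw [hm]; ring
  rw [hA] at n1 n2
  rw [hB]
  omega

/-- the solubilizer of an element of order four -/
theorem card_sol_tr_zero (hq : Fintype.card F % 8 = 3) (hq3 : Fintype.card F % 3 = 0)
    (h3 : (3 : F) = 0) {x : S2} (hx : tr x = 0) :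
    Sol(x) = 2 * Fintype.card F * (Fintype.card F + 1) := by
  have h2 := two_ne_zero_of_mod hq
  have hτw : tr (w0 F) ^ 2 ≠ 4 := by
    rw [tr_w0]
    intro h
    apply h2
    have : (2 : F) * 2 = 0 := by linear_combination -h
    exact mul_self_eq_zero.mp this
  obtain ⟨k, hk⟩ := exists_conj_of_tr (u := w0 F) (w := x) hτw (by rw [hx, tr_w0])
  rw [← hk, L2.card_sol_conj, card_sol_w0 hq hq3 h3]

/-- the solubilizer of a non-scalar element with `tr² = 4` -/
theorem card_sol_unip (hq : Fintype.card F % 8 = 3) (h3 : (3 : F) = 0) {x : S2}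
    (hx : ¬ IsSc x) (hτ : tr x ^ 2 = 4) :
    Sol(x) = Fintype.card F * (Fintype.card F + 5) := by
  obtain ⟨k, x', hk, h10, h00, h01⟩ := exists_conj_ut hx hτ
  rw [hk, L2.card_sol_conj, card_sol_ut hq h3 h10 h00 h01]

end Finite

end Cfsg.Agent.Helper37.L3
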