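import Mathlib
import Cfsg.Agent.Lib.Helper37.L3N
import Cfsg.Agent.Lib.Helper41.SL2ClassOdd

set_option autoImplicit false

namespace Cfsg.Agent.Helper37.L3

open Matrix Cfsg.Agent.Helper40 Cfsg.Agent.Helper41 Cfsg.Agent.Helper37
open Cfsg.Agent.Helper37.L2 (tr trace_eq tr_conj mat_ext le_NC conj_eq_iff dm)

/-- solvability of two-generated subgroups passes through the central quotient -/
theorem solvable_mk_iff {G : Type*} [Group G] (x y : G) :
    Group.IsSolvable ↥(Subgroup.closure
      ({(QuotientGroup.mk x : G ⧸ Subgroup.center G), QuotientGroup.mk y} :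
        Set (G ⧸ Subgroup.center G))) ↔
      Group.IsSolvable ↥(Subgroup.closure ({x, y} : Set G)) := by
  set π : G →* G ⧸ Subgroup.center G := QuotientGroup.mk' (Subgroup.center G) with hπ
  set H : Subgroup G := Subgroup.closure ({x, y} : Set G) with hH
  have hmap : H.map π = Subgroup.closure
      ({(QuotientGroup.mk x : G ⧸ Subgroup.center G), QuotientGroup.mk y} :
        Set (G ⧸ Subgroup.center G)) := by
    rw [hH, MonoidHom.map_closure, Set.image_pair]
    rfl
  rw [← hmap]
  have hsurj := MonoidHom.subgroupMap_surjective π H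
  constructor
  · intro hs
    haveI := hs
    have hcomm : ∀ a b : (π.subgroupMap H).ker, a * b = b * a := by
      intro a b
      have ha : (a.1 : G) ∈ Subgroup.center G := by
        have h1 : (π.subgroupMap H) a.1 = 1 := a.2
        have h2 : π (a.1 : G) = 1 := congrArg Subtype.val h1
        exact (QuotientGroup.eq_one_iff _).mp h2
      apply Subtype.ext
      apply Subtype.ext
      show (a.1 : G) * (b.1 : G) = (b.1 : G) * (a.1 : G)
      exact ((Subgroup.mem_center_iff.mp ha) (b.1 : G)).symm
    haveI : Group.IsSolvable (π.subgroupMap H).ker := Group.isSolvable_of_comm hcomm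
    exact Group.isSolvable_of_ker_le_range (π.subgroupMap H).ker.subtype (π.subgroupMap H)
      (by rw [Subgroup.range_subtype])
  · intro hs
    haveI := hs
    exact Group.isSolvable_of_surjective hsurj

variable {F : Type*} [Field F]

set_option quotPrecheck false in
local notation "S2" => Matrix.SpecialLinearGroup (Fin 2) F
set_option quotPrecheck false in
local notation "M2" => Matrix (Fin 2) (Fin 2) F
set_option quotPrecheck false in
local notation "C(" g ")" => Subgroup.centralizer ({g} : Set (Matrix.SpecialLinearGroup (Fin 2) F))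
set_option quotPrecheck false in
local notation "Sol(" g ")" =>
  Nat.card {y : Matrix.SpecialLinearGroup (Fin 2) F //
    Group.IsSolvable ↥(Subgroup.closure ({g, y} : Set (Matrix.SpecialLinearGroup (Fin 2) F)))}

theorem mem_center_iff_isSc (c : S2) : c ∈ Subgroup.center S2 ↔ IsSc c := by
  rw [Cfsg.Agent.S2431.mem_center_iff', isSc_iff]

/-- if the cube of a non-scalar element is scalar, its trace squares to one -/
theorem tr_sq_of_cube {g : S2} (hg : ¬ IsSc g) (hc : IsSc (g * g * g)) : tr g ^ 2 = 1 := by
  by_contra hne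
  have hne' : tr g ^ 2 - 1 ≠ 0 := sub_ne_zero.mpr hne
  have hd := det2 g
  obtain ⟨c01, c10, c00⟩ := hc
  simp only [mul_00, mul_01, mul_10, mul_11] at c01 c10 c00
  apply hg
  refine ⟨?_, ?_, ?_⟩
  · have : (tr g ^ 2 - 1) * (g : M2) 0 1 = 0 := by
      unfold tr
      linear_combination c01 + (g : M2) 0 1 * hd
    exact (mul_eq_zero.mp this).resolve_left hne'
  · have : (tr g ^ 2 - 1) * (g : M2) 1 0 = 0 := by
      unfold tr
      linear_combination c10 + (g : M2) 1 0 * hd
    exact (mul_eq_zero.mp this).resolve_left hne'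
  · have : (tr g ^ 2 - 1) * ((g : M2) 0 0 - (g : M2) 1 1) = 0 := by
      unfold tr
      linear_combination c00 + ((g : M2) 0 0 - (g : M2) 1 1) * hd
    have := (mul_eq_zero.mp this).resolve_left hne'
    linear_combination this

section Finite

variable [Fintype F]

/-- the solubilizer of a split regular semisimple element -/
theorem card_sol_split (hq : Fintype.card F % 8 = 3) (hq3 : Fintype.card F % 3 = 0) {x : S2}
    (hτ : tr x ^ 2 ≠ 4) (ht0 : tr x ≠ 0) {a : F} (ha : a * (tr x - a) - 1 = 0) :
    Sol(x) = 2 * Fintype.card F * (Fintype.card F - 1) := by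
  have ha0 : a ≠ 0 := by
    rintro rfl
    simp at ha
  have hinv : a⁻¹ = tr x - a := by
    apply inv_eq_of_mul_eq_one_right
    linear_combination ha
  have htr : tr (dm (Units.mk0 a ha0)) = tr x := by
    rw [L2.tr_dm, Units.val_inv_eq_inv_val, Units.val_mk0, hinv]; ring
  have ha1 : ((Units.mk0 a ha0 : Fˣ) : F) ^ 2 ≠ 1 := by
    rw [Units.val_mk0]
    intro h
    apply hτ
    have h1 : a * a⁻¹ = 1 := mul_inv_cancel₀ ha0
    have h2 : a⁻¹ = a := by
      have : a * a = 1 := by linear_combination h
      exact inv_eq_of_mul_eq_one_right this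
    have h3 : tr x = 2 * a := by rw [h2] at hinv; linear_combination -hinv
    rw [h3]
    linear_combination 4 * h
  have ha2 : ((Units.mk0 a ha0 : Fˣ) : F) ^ 2 ≠ -1 := by
    rw [Units.val_mk0]
    intro h
    apply ht0
    have h2 : a⁻¹ = -a := by
      have : a * (-a) = 1 := by linear_combination -h
      exact inv_eq_of_mul_eq_one_right this
    rw [h2] at hinv
    linear_combination -hinv
  have hτd : tr (dm (Units.mk0 a ha0)) ^ 2 ≠ 4 := by rw [htr]; exact hτ
  obtain ⟨k, hk⟩ := exists_conj_of_tr (u := dm (Units.mk0 a ha0)) (w := x) hτd htr.symm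
  rw [← hk, L2.card_sol_conj, card_sol_dm' hq hq3 ha1 ha2]

/-- solubilizers in the central quotient -/
theorem card_sol_quot (h2 : (2 : F) ≠ 0) (x : S2) :
    Sol(x) = 2 * Nat.card {y : S2 ⧸ Subgroup.center S2 //
      Group.IsSolvable ↥(Subgroup.closure
        ({(QuotientGroup.mk x : S2 ⧸ Subgroup.center S2), y} :
          Set (S2 ⧸ Subgroup.center S2)))} := by
  set t : Set (S2 ⧸ Subgroup.center S2) := {y | Group.IsSolvable ↥(Subgroup.closure
    ({(QuotientGroup.mk x : S2 ⧸ Subgroup.center S2), y} : Set (S2 ⧸ Subgroup.center S2)))} with ht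
  have e1 : {y : S2 // Group.IsSolvable ↥(Subgroup.closure ({x, y} : Set S2))} ≃
      ↥((QuotientGroup.mk : S2 → S2 ⧸ Subgroup.center S2) ⁻¹' t) :=
    Equiv.subtypeEquivRight (fun y => (solvable_mk_iff x y).symm)
  have e2 := QuotientGroup.preimageMkEquivSubgroupProdSet (Subgroup.center S2) t
  rw [Nat.card_congr (e1.trans e2), Nat.card_prod, card_center_sl2_odd h2]
  rfl

end Finite

end Cfsg.Agent.Helper37.L3
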