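import Mathlib

set_option autoImplicit false

namespace Cfsg.Agent.Helper37

open Nat

/-- order of a Sylow 2-subgroup of `S_n`. -/
def b (n : ℕ) : ℕ := 2 ^ (n.factorial.factorization 2)

/-- the bound for nilpotent subgroups of `S_n`. -/
def B (n : ℕ) : ℕ := if n % 4 = 3 then 3 * b (n - 3) else b n

theorem b_pos (n : ℕ) : 0 < b n := by unfold b; positivity

theorem b_succ (n : ℕ) : b (n + 1) = b n * 2 ^ ((n + 1).factorization 2) := by
  unfold b
  rw [Nat.factorial_succ, Nat.factorization_mul (Nat.succ_ne_zero n) (Nat.factorial_ne_zero n)]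
  simp only [Finsupp.coe_add, Pi.add_apply]
  rw [pow_add, mul_comm]

theorem b_le_succ (n : ℕ) : b n ≤ b (n + 1) := by
  rw [b_succ]
  exact Nat.le_mul_of_pos_right _ (by positivity)

theorem b_mono {m n : ℕ} (h : m ≤ n) : b m ≤ b n := by
  induction h with
  | refl => exact le_rfl
  | step _ ih => exact ih.trans (b_le_succ _)

theorem b_mul_le (k l : ℕ) : b k * b l ≤ b (k + l) := by
  unfold b
  rw [← pow_add]
  apply Nat.pow_le_pow_right (by norm_num)
  have h := Nat.factorial_mul_factorial_dvd_factorial_add k l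
  have h2 := (Nat.factorization_le_iff_dvd (Nat.mul_ne_zero (Nat.factorial_ne_zero k)
    (Nat.factorial_ne_zero l)) (Nat.factorial_ne_zero (k + l))).mpr h
  have h3 := h2 2
  rw [Nat.factorization_mul (Nat.factorial_ne_zero k) (Nat.factorial_ne_zero l)] at h3
  simpa using h3

theorem b_pow_le (k m : ℕ) : b k ^ m ≤ b (k * m) := by
  induction m with
  | zero => simpa using Nat.succ_le_of_lt (b_pos 0)
  | succ m ih =>
    rw [pow_succ, Nat.mul_succ]
    exact (Nat.mul_le_mul_right _ ih).trans (b_mul_le _ _)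

theorem fact2_odd {n : ℕ} (h : n % 2 = 1) : n.factorization 2 = 0 := by
  apply Nat.factorization_eq_zero_of_not_dvd
  omega

theorem fact2_two_mod_four {n : ℕ} (h : n % 4 = 2) : n.factorization 2 = 1 := by
  obtain ⟨k, rfl⟩ : ∃ k, n = 2 * k := ⟨n / 2, by omega⟩
  have hk : k % 2 = 1 := by omega
  have hk0 : k ≠ 0 := by omega
  rw [Nat.factorization_mul (by norm_num) hk0]
  simp only [Finsupp.coe_add, Pi.add_apply]
  rw [fact2_odd hk, Nat.Prime.factorization_self Nat.prime_two]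

theorem fact2_zero_mod_four {n : ℕ} (h : n % 4 = 0) (hn : n ≠ 0) : 2 ≤ n.factorization 2 := by
  obtain ⟨k, rfl⟩ : ∃ k, n = 4 * k := ⟨n / 4, by omega⟩
  have hk0 : k ≠ 0 := by omega
  rw [Nat.factorization_mul (by norm_num) hk0]
  simp only [Finsupp.coe_add, Pi.add_apply]
  have : (4 : ℕ).factorization 2 = 2 := by
    rw [show (4 : ℕ) = 2 ^ 2 by norm_num, Nat.Prime.factorization_pow Nat.prime_two]
    simp
  omega

theorem b_add3_mod0 {n : ℕ} (h : n % 4 = 0) : b (n + 3) = 2 * b n := by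
  rw [show n + 3 = n + 1 + 1 + 1 by ring, b_succ, b_succ, b_succ,
    fact2_odd (by omega : (n + 1) % 2 = 1), fact2_two_mod_four (by omega : (n + 1 + 1) % 4 = 2),
    fact2_odd (by omega : (n + 1 + 1 + 1) % 2 = 1)]
  ring

theorem b_add3_mod1 {n : ℕ} (h : n % 4 = 1) : 8 * b n ≤ b (n + 3) := by
  rw [show n + 3 = n + 1 + 1 + 1 by ring, b_succ, b_succ, b_succ,
    fact2_two_mod_four (by omega : (n + 1) % 4 = 2), fact2_odd (by omega : (n + 1 + 1) % 2 = 1)]
  have h2 := fact2_zero_mod_four (by omega : (n + 1 + 1 + 1) % 4 = 0) (by omega)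
  have : 2 ^ 2 ≤ 2 ^ ((n + 1 + 1 + 1).factorization 2) := Nat.pow_le_pow_right (by norm_num) h2
  have hb := b_pos n
  nlinarith

theorem b_add3_mod2 {n : ℕ} (h : n % 4 = 2) : 4 * b n ≤ b (n + 3) := by
  rw [show n + 3 = n + 1 + 1 + 1 by ring, b_succ, b_succ, b_succ,
    fact2_odd (by omega : (n + 1) % 2 = 1), fact2_odd (by omega : (n + 1 + 1 + 1) % 2 = 1)]
  have h2 := fact2_zero_mod_four (by omega : (n + 1 + 1) % 4 = 0) (by omega)
  have : 2 ^ 2 ≤ 2 ^ ((n + 1 + 1).factorization 2) := Nat.pow_le_pow_right (by norm_num) h2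
  have hb := b_pos n
  nlinarith

theorem b_add3_mod3 {n : ℕ} (h : n % 4 = 3) : 8 * b n ≤ b (n + 3) := by
  rw [show n + 3 = n + 1 + 1 + 1 by ring, b_succ, b_succ, b_succ,
    fact2_odd (by omega : (n + 1 + 1) % 2 = 1),
    fact2_two_mod_four (by omega : (n + 1 + 1 + 1) % 4 = 2)]
  have h2 := fact2_zero_mod_four (by omega : (n + 1) % 4 = 0) (by omega)
  have : 2 ^ 2 ≤ 2 ^ ((n + 1).factorization 2) := Nat.pow_le_pow_right (by norm_num) h2
  have hb := b_pos n
  nlinarith

theorem b_le_B (n : ℕ) : b n ≤ B n := by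
  unfold B
  split_ifs with h
  · obtain ⟨m, rfl⟩ : ∃ m, n = m + 3 := ⟨n - 3, by omega⟩
    rw [Nat.add_sub_cancel, b_add3_mod0 (by omega)]
    have := b_pos m
    omega
  · exact le_rfl

theorem B_pos (n : ℕ) : 0 < B n := (b_pos n).trans_le (b_le_B n)

theorem B_eq_of_mod3 {n : ℕ} (h : (n + 3) % 4 = 3) : B (n + 3) = 3 * b n := by
  unfold B
  rw [if_pos h, Nat.add_sub_cancel]

theorem B_eq_of_not_mod3 {n : ℕ} (h : n % 4 ≠ 3) : B n = b n := by
  unfold B
  rw [if_neg h]

theorem B_mul_le (k l : ℕ) : B k * B l ≤ B (k + l) := by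
  by_cases hk : k % 4 = 3 <;> by_cases hl : l % 4 = 3
  · obtain ⟨k', rfl⟩ : ∃ m, k = m + 3 := ⟨k - 3, by omega⟩
    obtain ⟨l', rfl⟩ : ∃ m, l = m + 3 := ⟨l - 3, by omega⟩
    rw [B_eq_of_mod3 hk, B_eq_of_mod3 hl, B_eq_of_not_mod3 (by omega)]
    have h1 := b_mul_le k' l'
    have h2 : b (k' + l' + 3) = 2 * b (k' + l') := b_add3_mod0 (by omega)
    have h3 : 8 * b (k' + l' + 3) ≤ b (k' + l' + 3 + 3) := b_add3_mod3 (by omega)
    rw [show k' + 3 + (l' + 3) = k' + l' + 3 + 3 by ring]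
    nlinarith [b_pos k', b_pos l']
  · obtain ⟨k', rfl⟩ : ∃ m, k = m + 3 := ⟨k - 3, by omega⟩
    rw [B_eq_of_mod3 hk, B_eq_of_not_mod3 hl]
    have h1 := b_mul_le k' l
    rw [show k' + 3 + l = k' + l + 3 by ring]
    have hc : l % 4 = 0 ∨ l % 4 = 1 ∨ l % 4 = 2 := by omega
    rcases hc with h | h | h
    · rw [B_eq_of_mod3 (by omega)]
      nlinarith
    · rw [B_eq_of_not_mod3 (by omega)]
      have := b_add3_mod1 (n := k' + l) (by omega)
      nlinarith
    · rw [B_eq_of_not_mod3 (by omega)]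
      have := b_add3_mod2 (n := k' + l) (by omega)
      nlinarith
  · obtain ⟨l', rfl⟩ : ∃ m, l = m + 3 := ⟨l - 3, by omega⟩
    rw [B_eq_of_mod3 hl, B_eq_of_not_mod3 hk]
    have h1 := b_mul_le k l'
    rw [show k + (l' + 3) = k + l' + 3 by ring]
    have hc : k % 4 = 0 ∨ k % 4 = 1 ∨ k % 4 = 2 := by omega
    rcases hc with h | h | h
    · rw [B_eq_of_mod3 (by omega)]
      nlinarith
    · rw [B_eq_of_not_mod3 (by omega)]
      have := b_add3_mod1 (n := k + l') (by omega)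
      nlinarith
    · rw [B_eq_of_not_mod3 (by omega)]
      have := b_add3_mod2 (n := k + l') (by omega)
      nlinarith
  · rw [B_eq_of_not_mod3 hk, B_eq_of_not_mod3 hl]
    exact (b_mul_le k l).trans (b_le_B _)

theorem B_le_succ (n : ℕ) : B n ≤ B (n + 1) := by
  by_cases h : n % 4 = 3
  · obtain ⟨m, rfl⟩ : ∃ m, n = m + 3 := ⟨n - 3, by omega⟩
    rw [B_eq_of_mod3 h, B_eq_of_not_mod3 (by omega), b_succ]
    have h1 : b (m + 3) = 2 * b m := b_add3_mod0 (by omega)
    have h2 := fact2_zero_mod_four (by omega : (m + 3 + 1) % 4 = 0) (by omega)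
    have : 2 ^ 2 ≤ 2 ^ ((m + 3 + 1).factorization 2) := Nat.pow_le_pow_right (by norm_num) h2
    have := b_pos m
    nlinarith
  · by_cases h' : n % 4 = 2
    · obtain ⟨m, rfl⟩ : ∃ m, n = m + 2 := ⟨n - 2, by omega⟩
      rw [B_eq_of_not_mod3 h, show m + 2 + 1 = m + 3 by ring, B_eq_of_mod3 (by omega),
        show m + 2 = m + 1 + 1 by ring, b_succ, b_succ, fact2_odd (by omega : (m + 1) % 2 = 1),
        fact2_two_mod_four (by omega : (m + 1 + 1) % 4 = 2)]
      have := b_pos m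
      omega
    · rw [B_eq_of_not_mod3 h, B_eq_of_not_mod3 (by omega)]
      exact b_le_succ n

theorem B_mono {m n : ℕ} (h : m ≤ n) : B m ≤ B n := by
  induction h with
  | refl => exact le_rfl
  | step _ ih => exact ih.trans (B_le_succ _)

theorem B_zero : B 0 = 1 := by
  rw [B_eq_of_not_mod3 (by norm_num)]
  simp [b]

theorem B_one : B 1 = 1 := by
  rw [B_eq_of_not_mod3 (by norm_num)]
  simp [b]

/-- supermultiplicativity -/
theorem B_mul_le_mul (k l : ℕ) (hk : 1 ≤ k) (hl : 1 ≤ l) : B k * B l ≤ B (k * l) := by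
  rcases Nat.eq_or_lt_of_le hk with rfl | hk'
  · rw [B_one, one_mul, one_mul]
  rcases Nat.eq_or_lt_of_le hl with rfl | hl'
  · rw [B_one, mul_one, mul_one]
  refine (B_mul_le k l).trans (B_mono ?_)
  nlinarith

/-- order of a Sylow `p`-subgroup of `S_n`. -/
def tau (p n : ℕ) : ℕ := p ^ (n.factorial.factorization p)

theorem tau_two (n : ℕ) : tau 2 n = b n := rfl

theorem tau_mul {p : ℕ} (hp : p.Prime) (m : ℕ) : tau p (p * m) = p ^ m * tau p m := by
  have := Fact.mk hp
  unfold tau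
  rw [Nat.factorization_def _ hp, Nat.factorization_def _ hp, padicValNat_factorial_mul, pow_add,
    mul_comm]

theorem b_val (n e : ℕ) (h : Nat.log 2 n < 6) (he : ∑ i ∈ Finset.Ico 1 6, n / 2 ^ i = e) :
    b n = 2 ^ e := by
  unfold b
  rw [Nat.factorization_factorial Nat.prime_two h, he]

theorem b_four : b 4 = 8 := by rw [b_val 4 3 (by norm_num [Nat.log]) (by decide)]; norm_num
theorem b_five : b 5 = 8 := by rw [b_val 5 3 (by norm_num [Nat.log]) (by decide)]; norm_num
theorem b_eight : b 8 = 128 := by rw [b_val 8 7 (by norm_num [Nat.log]) (by decide)]; norm_num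
theorem b_nine : b 9 = 128 := by rw [b_val 9 7 (by norm_num [Nat.log]) (by decide)]; norm_num
theorem b_27 : b 27 = 2 ^ 23 := b_val 27 23 (by norm_num [Nat.log]) (by decide)

theorem b_add_two (n : ℕ) : 2 * b n ≤ b (n + 2) := by
  rw [show n + 2 = n + 1 + 1 by ring, b_succ, b_succ]
  rcases Nat.even_or_odd n with h | h
  · have h2 : 1 ≤ (n + 1 + 1).factorization 2 := by
      have : 2 ∣ n + 1 + 1 := by obtain ⟨k, rfl⟩ := h; omega
      exact (Nat.Prime.dvd_iff_one_le_factorization Nat.prime_two (by omega)).mp this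
    have h3 : 2 ^ 1 ≤ 2 ^ ((n + 1 + 1).factorization 2) := Nat.pow_le_pow_right (by norm_num) h2
    have h4 : 1 ≤ 2 ^ ((n + 1).factorization 2) := Nat.one_le_two_pow
    calc 2 * b n = b n * 1 * 2 ^ 1 := by ring
      _ ≤ b n * 2 ^ ((n + 1).factorization 2) * 2 ^ ((n + 1 + 1).factorization 2) :=
        Nat.mul_le_mul (Nat.mul_le_mul_left _ h4) h3
  · have h2 : 1 ≤ (n + 1).factorization 2 := by
      have : 2 ∣ n + 1 := by obtain ⟨k, rfl⟩ := h; omega
      exact (Nat.Prime.dvd_iff_one_le_factorization Nat.prime_two (by omega)).mp this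
    have h3 : 2 ^ 1 ≤ 2 ^ ((n + 1).factorization 2) := Nat.pow_le_pow_right (by norm_num) h2
    have h4 : 1 ≤ 2 ^ ((n + 1 + 1).factorization 2) := Nat.one_le_two_pow
    calc 2 * b n = b n * 2 ^ 1 * 1 := by ring
      _ ≤ b n * 2 ^ ((n + 1).factorization 2) * 2 ^ ((n + 1 + 1).factorization 2) :=
        Nat.mul_le_mul (Nat.mul_le_mul_left _ h3) h4

theorem succ_le_b : ∀ n : ℕ, 4 ≤ n → n + 1 ≤ b n := by
  intro n
  induction n using Nat.strong_induction_on with
  | _ n ih =>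
  intro hn
  rcases Nat.lt_or_ge n 6 with h6 | h6
  · interval_cases n
    · rw [b_four]; norm_num
    · rw [b_five]; norm_num
  · obtain ⟨m, rfl⟩ : ∃ m, n = m + 2 := ⟨n - 2, by omega⟩
    have := ih m (by omega) (by omega)
    have := b_add_two m
    omega

theorem tau_le_b_of_five_le {p : ℕ} (hp : p.Prime) (h5 : 5 ≤ p) (a : ℕ) :
    tau p (p ^ a) ≤ b (p ^ a) := by
  induction a with
  | zero => simp [tau, b]
  | succ a ih =>
    rw [pow_succ, mul_comm, tau_mul hp]
    have h1 : p ≤ b (p - 1) := by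
      have := succ_le_b (p - 1) (by omega)
      omega
    calc p ^ p ^ a * tau p (p ^ a) ≤ b (p - 1) ^ p ^ a * b (p ^ a) :=
          Nat.mul_le_mul (Nat.pow_le_pow_left h1 _) ih
      _ ≤ b ((p - 1) * p ^ a) * b (p ^ a) := Nat.mul_le_mul_right _ (b_pow_le _ _)
      _ ≤ b ((p - 1) * p ^ a + p ^ a) := b_mul_le _ _
      _ = b (p * p ^ a) := by
        congr 1
        obtain ⟨q, rfl⟩ : ∃ q, p = q + 1 := ⟨p - 1, by omega⟩
        rw [Nat.add_sub_cancel]
        ring

theorem tau_three_le_b : ∀ a : ℕ, 2 ≤ a → tau 3 (3 ^ a) ≤ b (3 ^ a) := by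
  intro a
  induction a using Nat.strong_induction_on with
  | _ a ih =>
  intro ha
  rcases Nat.lt_or_ge a 4 with h4 | h4
  · interval_cases a
    · rw [show (3 : ℕ) ^ 2 = 3 * (3 * 1) by norm_num, tau_mul Nat.prime_three,
        tau_mul Nat.prime_three, show (3 : ℕ) * (3 * 1) = 9 by norm_num, b_nine]
      simp [tau]
    · rw [show (3 : ℕ) ^ 3 = 3 * (3 * (3 * 1)) by norm_num, tau_mul Nat.prime_three,
        tau_mul Nat.prime_three, tau_mul Nat.prime_three,
        show (3 : ℕ) * (3 * (3 * 1)) = 27 by norm_num, b_27]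
      simp [tau]
  · obtain ⟨c, rfl⟩ : ∃ c, a = c + 2 := ⟨a - 2, by omega⟩
    have := ih c (by omega) (by omega)
    rw [show (3 : ℕ) ^ (c + 2) = 3 * (3 * 3 ^ c) by ring, tau_mul Nat.prime_three,
      tau_mul Nat.prime_three]
    calc 3 ^ (3 * 3 ^ c) * (3 ^ 3 ^ c * tau 3 (3 ^ c))
        = 81 ^ 3 ^ c * tau 3 (3 ^ c) := by
          rw [← mul_assoc, ← pow_add, show 3 * 3 ^ c + 3 ^ c = 4 * 3 ^ c by ring, pow_mul]
          norm_num
      _ ≤ b 8 ^ 3 ^ c * b (3 ^ c) := by
          apply Nat.mul_le_mul _ this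
          apply Nat.pow_le_pow_left
          rw [b_eight]; norm_num
      _ ≤ b (8 * 3 ^ c) * b (3 ^ c) := Nat.mul_le_mul_right _ (b_pow_le _ _)
      _ ≤ b (8 * 3 ^ c + 3 ^ c) := b_mul_le _ _
      _ = b (3 * (3 * 3 ^ c)) := by congr 1; ring

/-- A Sylow `p`-subgroup of `S_{p^a}` is no larger than the bound `B (p^a)`. -/
theorem tau_le_B {p : ℕ} (hp : p.Prime) (a : ℕ) : tau p (p ^ a) ≤ B (p ^ a) := by
  rcases Nat.lt_or_ge p 5 with h5 | h5
  · have : p = 2 ∨ p = 3 := by
      have := hp.two_le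
      interval_cases p
      · left; rfl
      · right; rfl
      · exact absurd hp (by decide)
    rcases this with rfl | rfl
    · rw [tau_two]; exact b_le_B _
    · rcases Nat.lt_or_ge a 2 with h2 | h2
      · interval_cases a
        · simp [tau, B_one]
        · rw [pow_one, B_eq_of_mod3 (n := 0) (by norm_num)]
          rw [show (3 : ℕ) = 3 * 1 by norm_num, tau_mul Nat.prime_three]
          simp [tau, b]
      · exact (tau_three_le_b a h2).trans (b_le_B _)
  · exact (tau_le_b_of_five_le hp h5 a).trans (b_le_B _)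

end Cfsg.Agent.Helper37
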