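import Mathlib
import Cfsg.Agent.Lib.Helper37.NilpNum

set_option autoImplicit false

namespace Cfsg.Agent.Helper37

open MulAction

theorem prod_B_le_B_prod {ι : Type*} (s : Finset ι) (k : ι → ℕ) (hk : ∀ i ∈ s, 1 ≤ k i) :
    ∏ i ∈ s, B (k i) ≤ B (∏ i ∈ s, k i) := by
  classical
  induction s using Finset.induction_on with
  | empty => simp [B_one]
  | insert a r har ih =>
    rw [Finset.prod_insert har, Finset.prod_insert har]
    have h1 : 1 ≤ ∏ i ∈ r, k i :=
      Nat.succ_le_of_lt (Finset.prod_pos fun i hi => hk i (Finset.mem_insert_of_mem hi))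
    refine (Nat.mul_le_mul_left _ (ih fun i hi => hk i (Finset.mem_insert_of_mem hi))).trans ?_
    exact B_mul_le_mul _ _ (hk a (Finset.mem_insert_self a r)) h1

theorem prod_B_le_B_sum {ι : Type*} (s : Finset ι) (k : ι → ℕ) :
    ∏ i ∈ s, B (k i) ≤ B (∑ i ∈ s, k i) := by
  classical
  induction s using Finset.induction_on with
  | empty => simp [B_zero]
  | insert a r har ih =>
    rw [Finset.prod_insert har, Finset.sum_insert har]
    exact (Nat.mul_le_mul_left _ ih).trans (B_mul_le _ _)

theorem eq_top_of_sylow_le {G : Type*} [Group G] [Finite G] (L : Subgroup G)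
    (h : ∀ (q : ℕ) [Fact q.Prime] (Q : Sylow q G), (Q : Subgroup G) ≤ L) : L = ⊤ := by
  apply Subgroup.eq_top_of_card_eq
  apply Nat.dvd_antisymm (Subgroup.card_subgroup_dvd_card L)
  rw [← Nat.factorization_le_iff_dvd Nat.card_pos.ne' Nat.card_pos.ne']
  intro q
  by_cases hq : q.Prime
  · haveI := Fact.mk hq
    obtain ⟨Q⟩ := (inferInstance : Nonempty (Sylow q G))
    have h1 := Subgroup.card_dvd_of_le (h q Q)
    rw [Sylow.card_eq_multiplicity] at h1
    exact (Nat.Prime.pow_dvd_iff_le_factorization hq Nat.card_pos.ne').mp h1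
  · simp [Nat.factorization_eq_zero_of_not_prime _ hq]

theorem le_normalizer_of_conj_mem {G : Type*} [Group G] (Q K : Subgroup G)
    (h : ∀ g ∈ Q, ∀ x ∈ K, g * x * g⁻¹ ∈ K) : Q ≤ Subgroup.normalizer (K : Set G) := by
  intro g hg
  rw [Subgroup.mem_normalizer_iff]
  intro x
  constructor
  · exact h g hg x
  · intro hx
    have := h g⁻¹ (Q.inv_mem hg) _ hx
    simpa [mul_assoc] using this

theorem sylow_eq_of_nilpotent {G : Type*} [Group G] [Finite G] [Group.IsNilpotent G] (p : ℕ)
    [Fact p.Prime] (P Q : Sylow p G) : Q = P := by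
  have hn : (P : Subgroup G).Normal := inferInstance
  letI := Sylow.unique_of_normal P hn
  exact Subsingleton.elim _ _

/-- In a faithful transitive nilpotent group, a Sylow subgroup acts faithfully on each of its
orbits. -/
theorem sylow_faithful_on_orbit {G α : Type*} [Group G] [Finite G] [MulAction G α]
    [FaithfulSMul G α] [IsPretransitive G α] [Group.IsNilpotent G] (p : ℕ) [Fact p.Prime]
    (P : Sylow p G) (a : α) (g : G) (hg : g ∈ P)
    (hfix : ∀ y ∈ orbit (↥(P : Subgroup G)) a, g • y = y) : g = 1 := by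
  let K : Subgroup G :=
    { carrier := {x | x ∈ P ∧ ∀ y ∈ orbit (↥(P : Subgroup G)) a, x • y = y}
      mul_mem' := by
        rintro x z ⟨hx, hx'⟩ ⟨hz, hz'⟩
        refine ⟨mul_mem hx hz, fun y hy => ?_⟩
        rw [mul_smul, hz' y hy, hx' y hy]
      one_mem' := ⟨one_mem _, fun y _ => one_smul _ y⟩
      inv_mem' := by
        rintro x ⟨hx, hx'⟩
        refine ⟨inv_mem hx, fun y hy => ?_⟩
        rw [inv_smul_eq_iff, hx' y hy] }
  have hKmem : ∀ x, x ∈ K ↔ x ∈ P ∧ ∀ y ∈ orbit (↥(P : Subgroup G)) a, x • y = y := fun x => Iff.rfl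
  have hnorm : Subgroup.normalizer (K : Set G) = ⊤ := by
    apply eq_top_of_sylow_le
    intro q _ Q
    apply le_normalizer_of_conj_mem
    intro h hh x hx
    rw [hKmem] at hx ⊢
    by_cases hqp : q = p
    · subst hqp
      have hQP : Q = P := sylow_eq_of_nilpotent q P Q
      rw [hQP] at hh
      refine ⟨mul_mem (mul_mem hh hx.1) (inv_mem hh), fun y hy => ?_⟩
      have hy' : h⁻¹ • y ∈ orbit (↥(P : Subgroup G)) a := by
        obtain ⟨k, rfl⟩ := hy
        exact ⟨⟨h⁻¹, inv_mem hh⟩ * k, by simp [mul_smul, Subgroup.smul_def]⟩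
      rw [mul_smul, mul_smul, hx.2 _ hy', smul_inv_smul]
    · have hdis : Disjoint (Q : Subgroup G) (P : Subgroup G) :=
        IsPGroup.disjoint_of_ne q p hqp _ _ Q.isPGroup' P.isPGroup'
      have hc : Commute h x :=
        Subgroup.commute_of_normal_of_disjoint _ _ inferInstance inferInstance hdis h x hh hx.1
      have : h * x * h⁻¹ = x := by rw [hc.eq, mul_inv_cancel_right]
      rw [this]
      exact hx
  have hgK : g ∈ K := ⟨hg, hfix⟩
  apply FaithfulSMul.eq_of_smul_eq_smul (α := α)
  intro b
  obtain ⟨n, rfl⟩ := exists_smul_eq G a b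
  have hn : n⁻¹ ∈ Subgroup.normalizer (K : Set G) := hnorm ▸ Subgroup.mem_top _
  have h1 : n⁻¹ * g * n⁻¹⁻¹ ∈ K := (Subgroup.mem_normalizer_iff.mp hn g).mp hgK
  rw [inv_inv] at h1
  have h2 := ((hKmem _).mp h1).2 a (mem_orbit_self a)
  rw [one_smul, ← mul_smul]
  calc (g * n) • a = (n * (n⁻¹ * g * n)) • a := by group
    _ = n • a := by rw [mul_smul, h2]

theorem card_sylow_le_tau {G α : Type*} [Group G] [Finite G] [MulAction G α] [Finite α]
    [FaithfulSMul G α] [IsPretransitive G α] [Group.IsNilpotent G] (p : ℕ) [Fact p.Prime]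
    (P : Sylow p G) (a : α) :
    Nat.card P ≤ tau p (orbit (↥(P : Subgroup G)) a).ncard := by
  have hp : p.Prime := Fact.out
  let φ : ↥(P : Subgroup G) →* Equiv.Perm (orbit (↥(P : Subgroup G)) a) :=
    MulAction.toPermHom _ _
  have hinj : Function.Injective φ := by
    rw [injective_iff_map_eq_one]
    intro x hx
    apply Subtype.ext
    apply sylow_faithful_on_orbit p P a x.1 x.2
    intro y hy
    have := congrArg (fun f : Equiv.Perm (orbit (↥(P : Subgroup G)) a) => (f ⟨y, hy⟩ : α)) hx
    simpa [φ, Subgroup.smul_def] using this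
  have hdvd := Subgroup.card_dvd_of_injective φ hinj
  rw [Nat.card_perm, Nat.card_coe_set_eq, Sylow.card_eq_multiplicity] at hdvd
  rw [Sylow.card_eq_multiplicity]
  unfold tau
  apply Nat.pow_le_pow_right hp.pos
  exact (Nat.Prime.pow_dvd_iff_le_factorization hp (Nat.factorial_ne_zero _)).mp hdvd

/-- A finite nilpotent group acting faithfully and transitively on a finite set `α`
has order at most `B |α|`. -/
theorem card_le_B_of_transitive {G α : Type*} [Group G] [Finite G] [MulAction G α] [Finite α]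
    [FaithfulSMul G α] [IsPretransitive G α] [Group.IsNilpotent G] :
    Nat.card G ≤ B (Nat.card α) := by
  rcases isEmpty_or_nonempty α with hα | ⟨⟨a⟩⟩
  · have h1 : ∀ g : G, g = 1 := fun g =>
      FaithfulSMul.eq_of_smul_eq_smul (α := α) (fun b => (IsEmpty.false b).elim)
    have : Subsingleton G := ⟨fun x y => by rw [h1 x, h1 y]⟩
    rw [Nat.card_of_subsingleton (1 : G)]
    exact B_pos _
  · haveI : Nonempty α := ⟨a⟩
    have hn0 : Nat.card G ≠ 0 := Nat.card_pos.ne'
    have hα0 : 0 < Nat.card α := Nat.card_pos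
    have key : ∀ p : ℕ, p.Prime → ∃ e : ℕ, p ^ e ∣ Nat.card α ∧
        p ^ ((Nat.card G).factorization p) ≤ tau p (p ^ e) := by
      intro p hp
      haveI := Fact.mk hp
      let P : Sylow p G := default
      obtain ⟨e, he⟩ := P.isPGroup'.card_orbit a
      rw [Nat.card_coe_set_eq] at he
      refine ⟨e, ?_, ?_⟩
      · rw [← he]
        exact (IsBlock.orbit_of_normal (N := (P : Subgroup G)) a).ncard_dvd_card
          ⟨a, mem_orbit_self a⟩
      · have := card_sylow_le_tau p P a
        rwa [Sylow.card_eq_multiplicity, he] at this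
    choose! e he using key
    calc Nat.card G = ∏ p ∈ (Nat.card G).primeFactors, p ^ (Nat.card G).factorization p :=
          Nat.prod_primeFactors_pow_factorization hn0
      _ ≤ ∏ p ∈ (Nat.card G).primeFactors, B (p ^ e p) := by
          apply Finset.prod_le_prod'
          intro p hp
          have hpp := Nat.prime_of_mem_primeFactors hp
          exact (he p hpp).2.trans (tau_le_B hpp _)
      _ ≤ B (∏ p ∈ (Nat.card G).primeFactors, p ^ e p) := by
          apply prod_B_le_B_prod
          intro p hp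
          exact Nat.one_le_pow _ _ (Nat.prime_of_mem_primeFactors hp).pos
      _ ≤ B (Nat.card α) := by
          apply B_mono
          apply Nat.le_of_dvd hα0
          apply Finset.prod_dvd_of_isRelPrime
          · intro p hp q hq hpq
            rw [Function.onFun, ← Nat.coprime_iff_isRelPrime]
            apply Nat.Coprime.pow
            exact (Nat.coprime_primes (Nat.prime_of_mem_primeFactors hp)
              (Nat.prime_of_mem_primeFactors hq)).mpr hpq
          · intro p hp
            exact (he p (Nat.prime_of_mem_primeFactors hp)).1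

/-- A nilpotent subgroup of the symmetric group on a finite set `α` has order at most `B |α|`. -/
theorem card_le_B_of_nilpotent {α : Type*} [Finite α] (N : Subgroup (Equiv.Perm α))
    (hN : Group.IsNilpotent N) : Nat.card N ≤ B (Nat.card α) := by
  classical
  haveI : Fintype (orbitRel.Quotient (↥N) α) := Fintype.ofFinite _
  let f : ∀ ω : orbitRel.Quotient (↥N) α, ↥N →* Equiv.Perm ω.orbit :=
    fun ω => MulAction.toPermHom (↥N) ω.orbit
  have hf : ∀ (ω : orbitRel.Quotient (↥N) α) (n : ↥N) (x : ω.orbit), ((f ω n) x : α) = n.1 x :=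
    fun ω n x => rfl
  have hbound : ∀ ω : orbitRel.Quotient (↥N) α, Nat.card (f ω).range ≤ B (Nat.card ω.orbit) := by
    intro ω
    haveI : FaithfulSMul (↥(f ω).range) ω.orbit :=
      ⟨fun {g h} hgh => Subtype.ext (Equiv.ext fun x => hgh x)⟩
    haveI : IsPretransitive (↥(f ω).range) ω.orbit := by
      constructor
      intro x y
      obtain ⟨n, hn⟩ := exists_smul_eq (↥N) x y
      exact ⟨⟨f ω n, n, rfl⟩, hn⟩
    haveI : Group.IsNilpotent (↥(f ω).range) :=
      Group.nilpotent_of_surjective (f ω).rangeRestrict (f ω).rangeRestrict_surjective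
    exact card_le_B_of_transitive
  let Φ : ↥N →* ∀ ω : orbitRel.Quotient (↥N) α, ↥(f ω).range :=
    MonoidHom.pi fun ω => (f ω).rangeRestrict
  have hΦ : Function.Injective Φ := by
    rw [injective_iff_map_eq_one]
    intro n hn
    apply Subtype.ext
    apply Equiv.ext
    intro x
    set ω : orbitRel.Quotient (↥N) α := Quotient.mk'' x with hω
    have hx : x ∈ ω.orbit := orbitRel.Quotient.mem_orbit.mpr rfl
    have h1 := congrFun hn ω
    have h2 : f ω n = 1 := congrArg Subtype.val h1
    have h3 := hf ω n ⟨x, hx⟩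
    rw [h2] at h3
    exact h3.symm
  calc Nat.card N ≤ Nat.card (∀ ω : orbitRel.Quotient (↥N) α, ↥(f ω).range) :=
        Nat.card_le_card_of_injective Φ hΦ
    _ = ∏ ω : orbitRel.Quotient (↥N) α, Nat.card (f ω).range := Nat.card_pi
    _ ≤ ∏ ω : orbitRel.Quotient (↥N) α, B (Nat.card ω.orbit) :=
        Finset.prod_le_prod' fun ω _ => hbound ω
    _ ≤ B (∑ ω : orbitRel.Quotient (↥N) α, Nat.card ω.orbit) := prod_B_le_B_sum _ _
    _ = B (Nat.card α) := by
        rw [Nat.card_congr (selfEquivSigmaOrbits' (↥N) α), Nat.card_sigma]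

end Cfsg.Agent.Helper37
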