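import Mathlib
import Cfsg.Agent.Lib.Helper37.NilpPerm

set_option autoImplicit false

namespace Cfsg.Agent.Helper37

/-- explicit value of `b n` for small `n`. -/
theorem b_eval (n : ℕ) (h : n < 64) :
    b n = 2 ^ (n / 2 + n / 4 + n / 8 + n / 16 + n / 32) := by
  apply b_val n _ _ _
  · rcases Nat.eq_zero_or_pos n with rfl | hn
    · simp
    · exact Nat.log_lt_of_lt_pow hn.ne' (by norm_num; exact h)
  · simp [Finset.sum_Ico_eq_sum_range, Finset.sum_range_succ]

/-- The bound for nilpotent subgroups of `A_m` (in fact for nilpotent groups of even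
permutations of `m` points). -/
def V (m : ℕ) : ℕ :=
  if m ≤ 1 then 1 else if m = 3 then 3 else if m = 5 then 5 else if m = 6 then 9
  else if m = 9 then 81 else B m / 2

/-- the exceptional arguments of `V`. -/
def SpecialV (m : ℕ) : Prop := m ≤ 1 ∨ m = 3 ∨ m = 5 ∨ m = 6 ∨ m = 9

instance (m : ℕ) : Decidable (SpecialV m) := by unfold SpecialV; infer_instance

theorem V_eq_of_not_special {m : ℕ} (h : ¬ SpecialV m) : V m = B m / 2 := by
  unfold SpecialV at h
  push Not at h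
  unfold V
  rw [if_neg (by omega), if_neg h.2.1, if_neg h.2.2.1, if_neg h.2.2.2.1, if_neg h.2.2.2.2]

theorem B_small (n : ℕ) (h : n < 64) :
    B n = if n % 4 = 3 then 3 * 2 ^ ((n - 3) / 2 + (n - 3) / 4 + (n - 3) / 8 + (n - 3) / 16 + (n - 3) / 32)
      else 2 ^ (n / 2 + n / 4 + n / 8 + n / 16 + n / 32) := by
  unfold B
  split_ifs with h3
  · rw [b_eval _ (by omega)]
  · rw [b_eval _ h]

theorem V_zero : V 0 = 1 := by simp [V]
theorem V_one : V 1 = 1 := by simp [V]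
theorem V_two : V 2 = 1 := by simp [V, B_small]
theorem V_three : V 3 = 3 := by simp [V]
theorem V_four : V 4 = 4 := by simp [V, B_small]
theorem V_five : V 5 = 5 := by simp [V]
theorem V_six : V 6 = 9 := by simp [V]
theorem V_seven : V 7 = 12 := by simp [V, B_small]
theorem V_eight : V 8 = 64 := by simp [V, B_small]
theorem V_nine : V 9 = 81 := by simp [V]
theorem V_ten : V 10 = 128 := by simp [V, B_small]
theorem V_eleven : V 11 = 192 := by simp [V, B_small]
theorem V_twelve : V 12 = 512 := by simp [V, B_small]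
theorem V_fourteen : V 14 = 1024 := by simp [V, B_small]
theorem V_fifteen : V 15 = 1536 := by simp [V, B_small]
theorem V_eighteen : V 18 = 32768 := by simp [V, B_small]

theorem half_B_le_V (m : ℕ) : B m / 2 ≤ V m := by
  by_cases h : SpecialV m
  · rcases h with h | rfl | rfl | rfl | rfl
    · interval_cases m <;> simp [V, B_small]
    · simp [V, B_small]
    · simp [V, B_small]
    · simp [V, B_small]
    · simp [V, B_small]
  · rw [V_eq_of_not_special h]

theorem V_le_B (m : ℕ) : V m ≤ B m := by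
  by_cases h : SpecialV m
  · rcases h with h | rfl | rfl | rfl | rfl
    · interval_cases m <;> simp [V, B_small]
    · simp [V, B_small]
    · simp [V, B_small]
    · simp [V, B_small]
    · simp [V, B_small]
  · rw [V_eq_of_not_special h]
    exact Nat.div_le_self _ _

theorem V_pos (m : ℕ) : 0 < V m := by
  by_cases h : SpecialV m
  · rcases h with h | rfl | rfl | rfl | rfl
    · interval_cases m <;> simp [V]
    all_goals simp [V]
  · rw [V_eq_of_not_special h]
    unfold SpecialV at h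
    push Not at h
    have h2 : B 2 ≤ B m := B_mono (by omega)
    have : B 2 = 2 := by simp [B_small]
    omega

/-- `V` is superadditive. -/
theorem V_mul_le (x y : ℕ) : V x * V y ≤ V (x + y) := by
  by_cases hx : SpecialV x <;> by_cases hy : SpecialV y
  · have hx' : x = 0 ∨ x = 1 ∨ x = 3 ∨ x = 5 ∨ x = 6 ∨ x = 9 := by
      unfold SpecialV at hx; omega
    have hy' : y = 0 ∨ y = 1 ∨ y = 3 ∨ y = 5 ∨ y = 6 ∨ y = 9 := by
      unfold SpecialV at hy; omega
    rcases hx' with rfl | rfl | rfl | rfl | rfl | rfl <;>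
      rcases hy' with rfl | rfl | rfl | rfl | rfl | rfl <;>
      simp only [V_zero, V_one, V_two, V_three, V_four, V_five, V_six, V_seven, V_eight, V_nine,
        V_ten, V_eleven, V_twelve, V_fourteen, V_fifteen, V_eighteen, Nat.reduceAdd] <;>
      norm_num
  · rw [V_eq_of_not_special hy]
    refine le_trans ?_ (half_B_le_V _)
    rw [Nat.le_div_iff_mul_le (by norm_num)]
    have h1 := V_le_B x
    have h2 : B y / 2 * 2 ≤ B y := Nat.div_mul_le_self _ _
    calc V x * (B y / 2) * 2 = V x * (B y / 2 * 2) := by ring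
      _ ≤ B x * B y := Nat.mul_le_mul h1 h2
      _ ≤ B (x + y) := B_mul_le _ _
  · rw [V_eq_of_not_special hx]
    refine le_trans ?_ (half_B_le_V _)
    rw [Nat.le_div_iff_mul_le (by norm_num)]
    have h1 := V_le_B y
    have h2 : B x / 2 * 2 ≤ B x := Nat.div_mul_le_self _ _
    calc B x / 2 * V y * 2 = (B x / 2 * 2) * V y := by ring
      _ ≤ B x * B y := Nat.mul_le_mul h2 h1
      _ ≤ B (x + y) := B_mul_le _ _
  · rw [V_eq_of_not_special hx, V_eq_of_not_special hy]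
    refine le_trans ?_ (half_B_le_V _)
    rw [Nat.le_div_iff_mul_le (by norm_num)]
    have h1 : B x / 2 ≤ B x := Nat.div_le_self _ _
    have h2 : B y / 2 * 2 ≤ B y := Nat.div_mul_le_self _ _
    calc B x / 2 * (B y / 2) * 2 = (B x / 2) * (B y / 2 * 2) := by ring
      _ ≤ B x * B y := Nat.mul_le_mul h1 h2
      _ ≤ B (x + y) := B_mul_le _ _

theorem V_le_succ (m : ℕ) : V m ≤ V (m + 1) := by
  rcases Nat.lt_or_ge m 10 with h | h
  · interval_cases m <;>
      simp only [V_zero, V_one, V_two, V_three, V_four, V_five, V_six, V_seven, V_eight, V_nine,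
        V_ten, Nat.reduceAdd] <;> norm_num
  · rw [V_eq_of_not_special (by unfold SpecialV; omega),
      V_eq_of_not_special (by unfold SpecialV; omega)]
    exact Nat.div_le_div_right (B_le_succ m)

theorem V_mono {m n : ℕ} (h : m ≤ n) : V m ≤ V n := by
  induction h with
  | refl => exact le_rfl
  | step _ ih => exact ih.trans (V_le_succ _)

theorem two_B_le_add_two (m : ℕ) : 2 * B m ≤ B (m + 2) := by
  have hc : m % 4 = 0 ∨ m % 4 = 1 ∨ m % 4 = 2 ∨ m % 4 = 3 := by omega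
  rcases hc with h | h | h | h
  · rw [B_eq_of_not_mod3 (by omega), B_eq_of_not_mod3 (by omega)]
    exact b_add_two m
  · obtain ⟨k, rfl⟩ : ∃ k, m = k + 1 := ⟨m - 1, by omega⟩
    rw [B_eq_of_not_mod3 (by omega), show k + 1 + 2 = k + 3 by ring, B_eq_of_mod3 (by omega),
      b_succ, fact2_odd (by omega : (k + 1) % 2 = 1)]
    have := b_pos k
    omega
  · rw [B_eq_of_not_mod3 (by omega), B_eq_of_not_mod3 (by omega)]
    exact b_add_two m
  · obtain ⟨k, rfl⟩ : ∃ k, m = k + 3 := ⟨m - 3, by omega⟩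
    rw [B_eq_of_mod3 h, B_eq_of_not_mod3 (by omega)]
    have h1 : b (k + 3) = 2 * b k := b_add3_mod0 (by omega)
    have h2 := b_add_two (k + 3)
    have h3 : b (k + 3 + 2) = b (k + 3 + 1) * 2 ^ ((k + 3 + 1 + 1).factorization 2) := b_succ _
    have h4 : b (k + 3 + 1) = b (k + 3) * 2 ^ ((k + 3 + 1).factorization 2) := b_succ _
    have h5 := fact2_zero_mod_four (by omega : (k + 3 + 1) % 4 = 0) (by omega)
    have h6 : 2 ^ 2 ≤ 2 ^ ((k + 3 + 1).factorization 2) := Nat.pow_le_pow_right (by norm_num) h5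
    have h7 : 1 ≤ 2 ^ ((k + 3 + 1 + 1).factorization 2) := Nat.one_le_two_pow
    have := b_pos k
    rw [h3, h4, h1]
    calc 2 * (3 * b k) ≤ 2 * b k * 2 ^ 2 * 1 := by omega
      _ ≤ 2 * b k * 2 ^ ((k + 3 + 1).factorization 2) * 2 ^ ((k + 3 + 1 + 1).factorization 2) :=
        Nat.mul_le_mul (Nat.mul_le_mul_left _ h6) h7

/-- `2 B(q) B(y) ≤ B(q y)` for `q ≥ 3`, `y ≥ 2`. -/
theorem two_B_mul_le {q y : ℕ} (hq : 3 ≤ q) (hy : 2 ≤ y) : 2 * (B q * B y) ≤ B (q * y) := by
  by_cases h : q = 3 ∧ y = 2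
  · obtain ⟨rfl, rfl⟩ := h
    simp [B_small]
  · have h1 : q + y + 2 ≤ q * y := by
      have : 3 ≤ q := hq
      rcases Nat.eq_or_lt_of_le hq with rfl | hq'
      · have : 3 ≤ y := by omega
        nlinarith
      · nlinarith
    calc 2 * (B q * B y) ≤ 2 * B (q + y) := Nat.mul_le_mul_left _ (B_mul_le _ _)
      _ ≤ B (q + y + 2) := two_B_le_add_two _
      _ ≤ B (q * y) := B_mono h1

theorem two_succ_le_b : ∀ n : ℕ, 6 ≤ n → 2 * (n + 1) ≤ b n := by
  intro n
  induction n using Nat.strong_induction_on with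
  | _ n ih =>
  intro hn
  rcases Nat.lt_or_ge n 8 with h8 | h8
  · interval_cases n
    · rw [b_eval 6 (by norm_num)]; norm_num
    · rw [b_eval 7 (by norm_num)]; norm_num
  · obtain ⟨m, rfl⟩ : ∃ m, n = m + 2 := ⟨n - 2, by omega⟩
    have := ih m (by omega) (by omega)
    have := b_add_two m
    omega

theorem two_mul_pow_le {a c k0 : ℕ} (hac : a ≤ c) (h0 : 2 * a ^ k0 ≤ c ^ k0) (k : ℕ)
    (hk : k0 ≤ k) : 2 * a ^ k ≤ c ^ k := by
  obtain ⟨d, rfl⟩ := Nat.exists_eq_add_of_le hk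
  rw [pow_add, pow_add, ← mul_assoc]
  exact Nat.mul_le_mul h0 (Nat.pow_le_pow_left hac d)

theorem two_tau_le_b_of_five_le {p : ℕ} (hp : p.Prime) (h5 : 5 ≤ p) (e : ℕ) (he : 1 ≤ e)
    (h55 : p = 5 → 2 ≤ e) : 2 * tau p (p ^ e) ≤ b (p ^ e) := by
  obtain ⟨a, rfl⟩ : ∃ a, e = a + 1 := ⟨e - 1, by omega⟩
  rw [pow_succ', tau_mul hp]
  have ih := tau_le_b_of_five_le hp h5 a
  have hm : 1 ≤ p ^ a := Nat.one_le_pow _ _ hp.pos
  have key : 2 * p ^ p ^ a ≤ b (p - 1) ^ p ^ a := by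
    rcases Nat.eq_or_lt_of_le h5 with rfl | h6
    · have ha : 1 ≤ a := by have := h55 rfl; omega
      have h2 : 2 ≤ 5 ^ a := by
        calc 2 ≤ 5 ^ 1 := by norm_num
          _ ≤ 5 ^ a := Nat.pow_le_pow_right (by norm_num) ha
      rw [show 5 - 1 = 4 by norm_num, b_four]
      exact two_mul_pow_le (by norm_num) (by norm_num : 2 * 5 ^ 2 ≤ 8 ^ 2) _ h2
    · have h7 : 7 ≤ p := by
        rcases Nat.eq_or_lt_of_le h6 with rfl | h7
        · exact absurd hp (by decide)
        · exact h7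
      have h1 : 2 * p ≤ b (p - 1) := by
        have := two_succ_le_b (p - 1) (by omega)
        omega
      exact two_mul_pow_le (le_trans (by omega) h1) (by simpa using h1) _ hm
  calc 2 * (p ^ p ^ a * tau p (p ^ a)) = (2 * p ^ p ^ a) * tau p (p ^ a) := by ring
    _ ≤ b (p - 1) ^ p ^ a * b (p ^ a) := Nat.mul_le_mul key ih
    _ ≤ b ((p - 1) * p ^ a) * b (p ^ a) := Nat.mul_le_mul_right _ (b_pow_le _ _)
    _ ≤ b ((p - 1) * p ^ a + p ^ a) := b_mul_le _ _
    _ = b (p * p ^ a) := by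
      congr 1
      obtain ⟨q, rfl⟩ : ∃ q, p = q + 1 := ⟨p - 1, by omega⟩
      rw [Nat.add_sub_cancel]
      ring

theorem two_tau_three_le_b (e : ℕ) (he : 3 ≤ e) : 2 * tau 3 (3 ^ e) ≤ b (3 ^ e) := by
  rcases Nat.eq_or_lt_of_le he with rfl | h4
  · rw [show (3 : ℕ) ^ 3 = 3 * (3 * (3 * 1)) by norm_num, tau_mul Nat.prime_three,
      tau_mul Nat.prime_three, tau_mul Nat.prime_three,
      show (3 : ℕ) * (3 * (3 * 1)) = 27 by norm_num, b_27]
    simp [tau]
  · obtain ⟨c, rfl⟩ : ∃ c, e = c + 2 := ⟨e - 2, by omega⟩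
    have hc : 2 ≤ c := by omega
    have ih := tau_three_le_b c hc
    have h2 : 2 ≤ 3 ^ c := by
      calc 2 ≤ 3 ^ 1 := by norm_num
        _ ≤ 3 ^ c := Nat.pow_le_pow_right (by norm_num) (by omega)
    rw [show (3 : ℕ) ^ (c + 2) = 3 * (3 * 3 ^ c) by ring, tau_mul Nat.prime_three,
      tau_mul Nat.prime_three]
    calc 2 * (3 ^ (3 * 3 ^ c) * (3 ^ 3 ^ c * tau 3 (3 ^ c)))
        = (2 * 81 ^ 3 ^ c) * tau 3 (3 ^ c) := by
          rw [← mul_assoc (3 ^ (3 * 3 ^ c)), ← pow_add,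
            show 3 * 3 ^ c + 3 ^ c = 4 * 3 ^ c by ring, pow_mul]
          norm_num
          ring
      _ ≤ b 8 ^ 3 ^ c * b (3 ^ c) := by
          apply Nat.mul_le_mul _ ih
          rw [b_eight]
          exact two_mul_pow_le (by norm_num) (by norm_num : 2 * 81 ^ 2 ≤ 128 ^ 2) _ h2
      _ ≤ b (8 * 3 ^ c) * b (3 ^ c) := Nat.mul_le_mul_right _ (b_pow_le _ _)
      _ ≤ b (8 * 3 ^ c + 3 ^ c) := b_mul_le _ _
      _ = b (3 * (3 * 3 ^ c)) := by congr 1; ring

/-- A Sylow `p`-subgroup of `S_{p^e}` (`p` odd) is no larger than `V (p^e)`. -/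
theorem tau_le_V {p : ℕ} (hp : p.Prime) (hp2 : p ≠ 2) (e : ℕ) (he : 1 ≤ e) :
    tau p (p ^ e) ≤ V (p ^ e) := by
  have h3 : 3 ≤ p := by
    have := hp.two_le
    omega
  have gen : 2 * tau p (p ^ e) ≤ b (p ^ e) → tau p (p ^ e) ≤ V (p ^ e) := by
    intro h
    refine le_trans ?_ (half_B_le_V _)
    rw [Nat.le_div_iff_mul_le (by norm_num)]
    calc tau p (p ^ e) * 2 = 2 * tau p (p ^ e) := by ring
      _ ≤ b (p ^ e) := h
      _ ≤ B (p ^ e) := b_le_B _
  rcases Nat.eq_or_lt_of_le h3 with rfl | h4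
  · rcases Nat.lt_or_ge e 3 with h | h
    · interval_cases e
      · rw [pow_one, V_three, show (3 : ℕ) = 3 * 1 by norm_num, tau_mul Nat.prime_three]
        simp [tau]
      · rw [show (3 : ℕ) ^ 2 = 9 by norm_num, V_nine, show (9 : ℕ) = 3 * (3 * 1) by norm_num,
          tau_mul Nat.prime_three, tau_mul Nat.prime_three]
        simp [tau]
    · exact gen (two_tau_three_le_b e h)
  · have h5 : 5 ≤ p := by
      rcases Nat.eq_or_lt_of_le h4 with rfl | h5
      · exact absurd hp (by decide)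
      · exact h5
    by_cases h : p = 5 ∧ e = 1
    · obtain ⟨rfl, rfl⟩ := h
      rw [pow_one, V_five, show (5 : ℕ) = 5 * 1 by norm_num, tau_mul (by norm_num)]
      simp [tau]
    · exact gen (two_tau_le_b_of_five_le hp h5 e he (by omega))

/-- The main numerical lemma for transitive nilpotent groups of even permutations whose
order is not a power of 2. -/
theorem prod_tau_le_V (s : Finset ℕ) (e : ℕ → ℕ) (hs : ∀ p ∈ s, p.Prime) (he : ∀ p ∈ s, 1 ≤ e p)
    (p₀ : ℕ) (hp₀ : p₀ ∈ s) (hp₀2 : p₀ ≠ 2) :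
    ∏ p ∈ s, tau p (p ^ e p) ≤ V (∏ p ∈ s, p ^ e p) := by
  classical
  have hins : s = insert p₀ (s.erase p₀) := (Finset.insert_erase hp₀).symm
  rw [hins, Finset.prod_insert (Finset.notMem_erase _ _), Finset.prod_insert (Finset.notMem_erase _ _)]
  set s' := s.erase p₀
  have hs' : ∀ p ∈ s', p ∈ s := fun p hp => Finset.mem_of_mem_erase hp
  have hT : ∏ p ∈ s', tau p (p ^ e p) ≤ B (∏ p ∈ s', p ^ e p) := by
    refine le_trans (Finset.prod_le_prod' fun p hp => tau_le_B (hs p (hs' p hp)) _) ?_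
    apply prod_B_le_B_prod
    intro p hp
    exact Nat.one_le_pow _ _ (hs p (hs' p hp)).pos
  have hy1 : 1 ≤ ∏ p ∈ s', p ^ e p :=
    Nat.succ_le_of_lt (Finset.prod_pos fun p hp => Nat.pow_pos (hs p (hs' p hp)).pos)
  set y := ∏ p ∈ s', p ^ e p
  have hp₀p := hs p₀ hp₀
  have hq3 : 3 ≤ p₀ ^ e p₀ := by
    have : 3 ≤ p₀ := by have := hp₀p.two_le; omega
    calc 3 ≤ p₀ ^ 1 := by simpa using this
      _ ≤ p₀ ^ e p₀ := Nat.pow_le_pow_right hp₀p.pos (he p₀ hp₀)
  rcases Nat.eq_or_lt_of_le hy1 with h1 | h2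
  · rw [← h1, mul_one]
    rw [← h1, B_one] at hT
    calc tau p₀ (p₀ ^ e p₀) * ∏ p ∈ s', tau p (p ^ e p) ≤ tau p₀ (p₀ ^ e p₀) * 1 :=
          Nat.mul_le_mul_left _ hT
      _ = tau p₀ (p₀ ^ e p₀) := mul_one _
      _ ≤ V (p₀ ^ e p₀) := tau_le_V hp₀p hp₀2 _ (he p₀ hp₀)
  · refine le_trans ?_ (half_B_le_V _)
    rw [Nat.le_div_iff_mul_le (by norm_num)]
    calc (tau p₀ (p₀ ^ e p₀) * ∏ p ∈ s', tau p (p ^ e p)) * 2
        ≤ B (p₀ ^ e p₀) * B y * 2 :=
          Nat.mul_le_mul_right _ (Nat.mul_le_mul (tau_le_B hp₀p _) hT)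
      _ = 2 * (B (p₀ ^ e p₀) * B y) := by ring
      _ ≤ B (p₀ ^ e p₀ * y) := two_B_mul_le hq3 h2

end Cfsg.Agent.Helper37
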