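import Mathlib
import Cfsg.Agent.Lib.Helper37.NilpNumV

set_option autoImplicit false

namespace Cfsg.Agent.Helper37

open MulAction

universe u

/-- Sylow data of a transitive faithful nilpotent group. -/
theorem sylow_data {G α : Type*} [Group G] [Finite G] [MulAction G α] [Finite α]
    [FaithfulSMul G α] [IsPretransitive G α] [Group.IsNilpotent G] (a : α) :
    ∀ p : ℕ, p.Prime → ∃ e : ℕ, p ^ e ∣ Nat.card α ∧
        p ^ ((Nat.card G).factorization p) ≤ tau p (p ^ e) := by
  intro p hp
  have := Fact.mk hp
  let P : Sylow p G := default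
  obtain ⟨e, he⟩ := P.isPGroup'.card_orbit a
  rw [Nat.card_coe_set_eq] at he
  refine ⟨e, ?_, ?_⟩
  · rw [← he]
    exact (IsBlock.orbit_of_normal (N := (P : Subgroup G)) a).ncard_dvd_card
      ⟨a, mem_orbit_self a⟩
  · have := card_sylow_le_tau p P a
    rwa [Sylow.card_eq_multiplicity, he] at this

theorem tau_one (p : ℕ) : tau p 1 = 1 := by simp [tau]

/-- A transitive nilpotent group of even permutations of `α` has order at most `V |α|`. -/
theorem card_le_V_of_transitive_even {α : Type*} [Fintype α] [DecidableEq α]
    (N : Subgroup (Equiv.Perm α)) (hN : Group.IsNilpotent N) [IsPretransitive N α]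
    (hev : ∀ g ∈ N, Equiv.Perm.sign g = 1) : Nat.card N ≤ V (Nat.card α) := by
  rcases isEmpty_or_nonempty α with hα | ⟨⟨a⟩⟩
  · have : Nat.card N ≤ Nat.card (Equiv.Perm α) := Subgroup.card_le_card_group N
    rw [Nat.card_perm, (Nat.card_of_isEmpty : Nat.card α = 0)] at this
    rw [(Nat.card_of_isEmpty : Nat.card α = 0), V_zero]
    simpa using this
  have : Nonempty α := ⟨a⟩
  have hn0 : Nat.card N ≠ 0 := Nat.card_pos.ne'
  have hα0 : 0 < Nat.card α := Nat.card_pos
  have key := sylow_data (G := N) a
  choose! e he using key
  have hprod : Nat.card N = ∏ p ∈ (Nat.card N).primeFactors, p ^ (Nat.card N).factorization p :=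
    Nat.prod_primeFactors_pow_factorization hn0
  by_cases hodd : ∃ p ∈ (Nat.card N).primeFactors, p ≠ 2
  · obtain ⟨p₀, hp₀, hp₀2⟩ := hodd
    have he1 : ∀ p ∈ (Nat.card N).primeFactors, 1 ≤ e p := by
      intro p hp
      have hpp := Nat.prime_of_mem_primeFactors hp
      by_contra h0
      have h0' : e p = 0 := by omega
      have h1 := (he p hpp).2
      rw [h0', pow_zero, tau_one] at h1
      have h2 : 1 ≤ (Nat.card N).factorization p :=
        (Nat.Prime.dvd_iff_one_le_factorization hpp hn0).mp (Nat.dvd_of_mem_primeFactors hp)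
      have h3 : p ^ 1 ≤ p ^ (Nat.card N).factorization p := Nat.pow_le_pow_right hpp.pos h2
      rw [pow_one] at h3
      have := hpp.two_le
      omega
    calc Nat.card N = ∏ p ∈ (Nat.card N).primeFactors, p ^ (Nat.card N).factorization p := hprod
      _ ≤ ∏ p ∈ (Nat.card N).primeFactors, tau p (p ^ e p) := by
          apply Finset.prod_le_prod'
          intro p hp
          exact (he p (Nat.prime_of_mem_primeFactors hp)).2
      _ ≤ V (∏ p ∈ (Nat.card N).primeFactors, p ^ e p) :=
          prod_tau_le_V _ e (fun p hp => Nat.prime_of_mem_primeFactors hp) he1 p₀ hp₀ hp₀2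
      _ ≤ V (Nat.card α) := by
          apply V_mono
          apply Nat.le_of_dvd hα0
          apply Finset.prod_dvd_of_isRelPrime
          · intro p hp q hq hpq
            rw [Function.onFun, ← Nat.coprime_iff_isRelPrime]
            apply Nat.Coprime.pow
            exact (Nat.coprime_primes (Nat.prime_of_mem_primeFactors hp)
              (Nat.prime_of_mem_primeFactors hq)).mpr hpq
          · intro p hp
            exact (he p (Nat.prime_of_mem_primeFactors hp)).1
  · push Not at hodd
    -- `N` is a 2-group
    have hpow : Nat.card N = 2 ^ (Nat.card N).factorization 2 := by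
      by_cases h2 : 2 ∈ (Nat.card N).primeFactors
      · have hs : (Nat.card N).primeFactors = {2} := by
          ext p
          constructor
          · intro hp
            rw [hodd p hp]
            exact Finset.mem_singleton_self 2
          · intro hp
            rw [Finset.mem_singleton] at hp
            rw [hp]
            exact h2
        conv_lhs => rw [hprod, hs, Finset.prod_singleton]
      · have hs : (Nat.card N).primeFactors = ∅ := by
          apply Finset.eq_empty_of_forall_notMem
          intro p hp
          apply h2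
          rw [← hodd p hp]
          exact hp
        have h1 : Nat.card N = 1 := by
          rw [hprod, hs, Finset.prod_empty]
        rw [h1]
        simp
    rcases Nat.eq_or_lt_of_le (Nat.succ_le_of_lt hα0) with h1 | h2
    · have : Nat.card N ≤ Nat.card (Equiv.Perm α) := Subgroup.card_le_card_group N
      rw [Nat.card_perm, ← h1] at this
      rw [← h1]
      simpa [V_one] using this
    · have : Nontrivial α := by
        rw [← Finite.one_lt_card_iff_nontrivial]
        exact h2
      have hle : N ≤ alternatingGroup α := by
        intro g hg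
        exact Equiv.Perm.mem_alternatingGroup.mpr (hev g hg)
      have hdvd : Nat.card N ∣ Nat.card (alternatingGroup α) := Subgroup.card_dvd_of_le hle
      have h2card : 2 * Nat.card (alternatingGroup α) = (Nat.card α).factorial := by
        rw [← Nat.card_perm, Nat.card_eq_fintype_card, Nat.card_eq_fintype_card]
        exact two_mul_card_alternatingGroup
      have hdvd2 : 2 ^ ((Nat.card N).factorization 2 + 1) ∣ (Nat.card α).factorial := by
        rw [← h2card, pow_succ, mul_comm, ← hpow]
        exact Nat.mul_dvd_mul_left 2 hdvd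
      have hle2 : (Nat.card N).factorization 2 + 1 ≤ (Nat.card α).factorial.factorization 2 :=
        (Nat.Prime.pow_dvd_iff_le_factorization Nat.prime_two (Nat.factorial_ne_zero _)).mp hdvd2
      refine le_trans ?_ (half_B_le_V _)
      rw [Nat.le_div_iff_mul_le (by norm_num)]
      calc Nat.card N * 2 = 2 ^ ((Nat.card N).factorization 2 + 1) := by
            rw [pow_succ, ← hpow]
        _ ≤ b (Nat.card α) := by
            unfold b
            exact Nat.pow_le_pow_right (by norm_num) hle2
        _ ≤ B (Nat.card α) := b_le_B _

/-- A nilpotent group of even permutations of a finite set `α` has order at most `V |α|`. -/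
theorem card_le_V_of_nilpotent_even : ∀ (k : ℕ) (α : Type u) [Fintype α] [DecidableEq α]
    (N : Subgroup (Equiv.Perm α)), Nat.card α = k → Group.IsNilpotent N →
    (∀ g ∈ N, Equiv.Perm.sign g = 1) → Nat.card N ≤ V k := by
  intro k
  induction k using Nat.strong_induction_on with
  | _ k ih =>
  intro α _ _ N hk hN hev
  by_cases htr : IsPretransitive N α
  · subst hk
    exact card_le_V_of_transitive_even N hN hev
  · have hex : ∃ a b : α, b ∉ orbit N a := by
      by_contra h
      push Not at h
      apply htr
      constructor
      intro a b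
      exact h a b
    obtain ⟨a, b, hab⟩ := hex
    classical
    let p : α → Prop := fun x => x ∈ orbit N a
    let ι := Equiv.Perm.subtypeCongrHom p
    have hι : Function.Injective ι := Equiv.Perm.subtypeCongrHom_injective p
    have hNr : N ≤ ι.range := by
      intro g hg
      have hinv : ∀ x, p (g x) ↔ p x := by
        intro x
        have : g x = (⟨g, hg⟩ : N) • x := rfl
        show g x ∈ orbit N a ↔ x ∈ orbit N a
        rw [this, ← MulAction.orbit_eq_iff, ← MulAction.orbit_eq_iff (a := x),
          MulAction.orbit_smul]
      have hinv' : ∀ x, ¬ p (g x) ↔ ¬ p x := fun x => not_congr (hinv x)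
      refine ⟨(g.subtypePerm hinv, g.subtypePerm hinv'), ?_⟩
      ext x
      by_cases hx : p x
      · show (Equiv.Perm.subtypeCongr _ _) x = g x
        rw [Equiv.Perm.subtypeCongr.left_apply _ _ hx]
        rfl
      · show (Equiv.Perm.subtypeCongr _ _) x = g x
        rw [Equiv.Perm.subtypeCongr.right_apply _ _ hx]
        rfl
    set M := N.comap ι with hM
    have hMN : M.map ι = N := Subgroup.map_comap_eq_self hNr
    have hcardM : Nat.card M = Nat.card N := by
      rw [← hMN, Subgroup.card_map_of_injective hι]
    have hMnil : Group.IsNilpotent M := by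
      have e1 : M ≃* N := (M.equivMapOfInjective ι hι).trans (MulEquiv.subgroupCongr hMN)
      exact Group.nilpotent_of_mulEquiv e1.symm
    let N₁ := M.map (MonoidHom.fst _ _)
    let N₂ := M.map (MonoidHom.snd _ _)
    have hN₁nil : Group.IsNilpotent N₁ :=
      Group.nilpotent_of_surjective ((MonoidHom.fst _ _).subgroupMap M)
        ((MonoidHom.fst _ _).subgroupMap_surjective M)
    have hN₂nil : Group.IsNilpotent N₂ :=
      Group.nilpotent_of_surjective ((MonoidHom.snd _ _).subgroupMap M)
        ((MonoidHom.snd _ _).subgroupMap_surjective M)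
    have hMK : M ≤ N₁.prod N₂ := by
      intro m hm
      rw [Subgroup.mem_prod]
      exact ⟨⟨m, hm, rfl⟩, ⟨m, hm, rfl⟩⟩
    have hcardK : Nat.card (N₁.prod N₂) = Nat.card N₁ * Nat.card N₂ := by
      rw [Nat.card_congr (Subgroup.prodEquiv N₁ N₂).toEquiv, Nat.card_prod]
    -- sizes
    have hk12 : Nat.card {x // p x} + Nat.card {x // ¬ p x} = k := by
      rw [← hk, ← Nat.card_sum]
      exact Nat.card_congr (Equiv.sumCompl p)
    have hk1 : 0 < Nat.card {x // p x} := by
      have : Nonempty {x // p x} := ⟨⟨a, mem_orbit_self a⟩⟩
      exact Nat.card_pos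
    have hk2 : 0 < Nat.card {x // ¬ p x} := by
      have : Nonempty {x // ¬ p x} := ⟨⟨b, hab⟩⟩
      exact Nat.card_pos
    have hsign : ∀ m ∈ M, Equiv.Perm.sign m.1 * Equiv.Perm.sign m.2 = 1 := by
      intro m hm
      have h1 : ι m ∈ N := hm
      have h2 := hev _ h1
      rw [← h2]
      exact (Equiv.Perm.sign_subtypeCongr m.1 m.2).symm
    by_cases hall : (∀ x ∈ N₁, Equiv.Perm.sign x = 1) ∧ (∀ y ∈ N₂, Equiv.Perm.sign y = 1)
    · have h1 := ih _ (by omega) {x // p x} N₁ rfl hN₁nil hall.1
      have h2 := ih _ (by omega) {x // ¬ p x} N₂ rfl hN₂nil hall.2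
      calc Nat.card N = Nat.card M := hcardM.symm
        _ ≤ Nat.card (N₁.prod N₂) := Subgroup.card_le_of_le hMK
        _ = Nat.card N₁ * Nat.card N₂ := hcardK
        _ ≤ V (Nat.card {x // p x}) * V (Nat.card {x // ¬ p x}) := Nat.mul_le_mul h1 h2
        _ ≤ V (Nat.card {x // p x} + Nat.card {x // ¬ p x}) := V_mul_le _ _
        _ = V k := by rw [hk12]
    · -- some odd element
      let f : (N₁.prod N₂) →* ℤˣ :=
        ((Equiv.Perm.sign).comp ι).comp (N₁.prod N₂).subtype
      have hf : ∀ z : N₁.prod N₂, f z = Equiv.Perm.sign z.1.1 * Equiv.Perm.sign z.1.2 := by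
        intro z
        exact Equiv.Perm.sign_subtypeCongr z.1.1 z.1.2
      have hsurj : ∃ z : N₁.prod N₂, f z = -1 := by
        rw [not_and_or] at hall
        rcases hall with h | h
        · push Not at h
          obtain ⟨x, hx, hx1⟩ := h
          refine ⟨⟨(x, 1), Subgroup.mem_prod.mpr ⟨hx, one_mem _⟩⟩, ?_⟩
          rw [hf]
          simp only [Equiv.Perm.sign_one, mul_one]
          exact (Int.units_eq_one_or _).resolve_left hx1
        · push Not at h
          obtain ⟨y, hy, hy1⟩ := h
          refine ⟨⟨(1, y), Subgroup.mem_prod.mpr ⟨one_mem _, hy⟩⟩, ?_⟩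
          rw [hf]
          simp only [Equiv.Perm.sign_one, one_mul]
          exact (Int.units_eq_one_or _).resolve_left hy1
      have hrange : Nat.card f.range = 2 := by
        have : f.range = ⊤ := by
          rw [eq_top_iff]
          intro u _
          rcases Int.units_eq_one_or u with rfl | rfl
          · exact one_mem _
          · obtain ⟨z, hz⟩ := hsurj
            exact ⟨z, hz⟩
        rw [this, Subgroup.card_top]
        simp
      have hidx : Nat.card f.ker * 2 = Nat.card N₁ * Nat.card N₂ := by
        rw [← hrange, ← Subgroup.index_ker, Subgroup.card_mul_index, hcardK]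
      have hMker : Nat.card M ≤ Nat.card f.ker := by
        let j : M → f.ker := fun m => ⟨⟨m.1, hMK m.2⟩, by
          rw [MonoidHom.mem_ker, hf]
          exact hsign m.1 m.2⟩
        apply Nat.card_le_card_of_injective j
        intro m m' h
        have := congrArg (fun z : f.ker => z.1.1) h
        exact Subtype.ext this
      have h1 := card_le_B_of_nilpotent N₁ hN₁nil
      have h2 := card_le_B_of_nilpotent N₂ hN₂nil
      refine le_trans ?_ (half_B_le_V _)
      rw [Nat.le_div_iff_mul_le (by norm_num), ← hcardM]
      calc Nat.card M * 2 ≤ Nat.card f.ker * 2 := Nat.mul_le_mul_right _ hMker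
        _ = Nat.card N₁ * Nat.card N₂ := hidx
        _ ≤ B (Nat.card {x // p x}) * B (Nat.card {x // ¬ p x}) := Nat.mul_le_mul h1 h2
        _ ≤ B (Nat.card {x // p x} + Nat.card {x // ¬ p x}) := B_mul_le _ _
        _ = B k := by rw [hk12]

end Cfsg.Agent.Helper37
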