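import Mathlib
import Cfsg.Agent.Lib.Helper37.NilpAlt

set_option autoImplicit false

namespace Cfsg.Agent.Helper37

open Equiv
open scoped Pointwise

/-- If `g` commutes with the 3-cycle `c` and has 2-power order, then `g` fixes the support of
`c` pointwise. -/
theorem fixes_support_of_commute {α : Type*} [Fintype α] [DecidableEq α] {c g : Perm α}
    (hc : c.IsThreeCycle) (hcomm : g * c = c * g) (k : ℕ) (hg : g ^ (2 ^ k) = 1) :
    ∀ x ∈ c.support, g x = x := by
  intro x hx
  rw [Perm.mem_support] at hx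
  have hcyc := hc.isCycle
  have hgx : c (g x) ≠ g x := by
    intro h
    have h1 : g (c x) = c (g x) := by
      have := congrArg (fun f : Perm α => f x) hcomm
      simpa [Perm.mul_apply] using this
    rw [← h1] at h
    exact hx (g.injective h)
  obtain ⟨i, hi⟩ := hcyc.exists_pow_eq hx hgx
  have hcommpow : ∀ n : ℕ, g * c ^ n = c ^ n * g := by
    intro n
    induction n with
    | zero => simp
    | succ n ih => rw [pow_succ, ← mul_assoc, ih, mul_assoc, hcomm, mul_assoc]
  have hpow : ∀ n : ℕ, (g ^ n) x = (c ^ (i * n)) x := by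
    intro n
    induction n with
    | zero => simp
    | succ n ih =>
      rw [pow_succ', Perm.mul_apply, ih]
      have h1 := congrArg (fun f : Perm α => f x) (hcommpow (i * n))
      simp only [Perm.mul_apply] at h1
      rw [Nat.mul_succ, pow_add, Perm.mul_apply, hi, h1]
  have h1 := hpow (2 ^ k)
  rw [hg, Perm.one_apply] at h1
  have h2 : c ^ (i * 2 ^ k) = 1 := (hcyc.pow_eq_one_iff' hx).mpr h1.symm
  have h3 : 3 ∣ i * 2 ^ k := by
    rw [← hc.orderOf]
    exact orderOf_dvd_of_pow_eq_one h2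
  have h4 : 3 ∣ i := by
    have hcop : Nat.Coprime 3 (2 ^ k) := Nat.Coprime.pow_right _ (by norm_num)
    exact hcop.dvd_of_dvd_mul_right h3
  have h5 : c ^ i = 1 := by
    rw [← hc.orderOf] at h4
    exact orderOf_dvd_iff_pow_eq_one.mp h4
  rw [← hi, h5, Perm.one_apply]

theorem b_lt_succ_of_mod4 {t : ℕ} (ht : (t + 1) % 4 = 0) : b t < b (t + 1) := by
  rw [b_succ]
  have h2 := fact2_zero_mod_four ht (by omega)
  have h6 : 2 ^ 2 ≤ 2 ^ ((t + 1).factorization 2) := Nat.pow_le_pow_right (by norm_num) h2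
  have := b_pos t
  nlinarith

/-- Structure of the extremal nilpotent subgroups of `S_m`, `m ≡ 3 (mod 4)`. -/
theorem structure_of_extremal {α : Type*} [Fintype α] [DecidableEq α] (m : ℕ)
    (hm : Fintype.card α = m) (hm4 : m % 4 = 3)
    (N : Subgroup (Perm α)) (hN : Group.IsNilpotent N) (hcard : Nat.card N = 3 * b (m - 3)) :
    ∃ (c : Perm α) (Q : Subgroup (Perm α)), c.IsThreeCycle ∧ Nat.card Q = b (m - 3) ∧
      (∀ g ∈ Q, ∀ x ∈ c.support, g x = x) ∧ N = Subgroup.zpowers c ⊔ Q := by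
  set k := (m - 3).factorial.factorization 2 with hk
  have hbk : b (m - 3) = 2 ^ k := rfl
  rw [hbk] at hcard
  have : Fact (Nat.Prime 2) := ⟨Nat.prime_two⟩
  have : Fact (Nat.Prime 3) := ⟨Nat.prime_three⟩
  let S₂ : Sylow 2 N := default
  let S₃ : Sylow 3 N := default
  have hf2 : (3 * 2 ^ k).factorization 2 = k := by
    rw [Nat.factorization_mul (by norm_num) (by positivity)]
    simp only [Finsupp.coe_add, Pi.add_apply]
    rw [Nat.Prime.factorization_pow Nat.prime_two]
    simp
    exact Nat.factorization_eq_zero_of_not_dvd (by norm_num)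
  have hf3 : (3 * 2 ^ k).factorization 3 = 1 := by
    rw [Nat.factorization_mul (by norm_num) (by positivity)]
    simp only [Finsupp.coe_add, Pi.add_apply]
    rw [Nat.Prime.factorization_pow Nat.prime_two, Nat.Prime.factorization_self Nat.prime_three]
    simp
  have hS₂ : Nat.card S₂ = 2 ^ k := by rw [Sylow.card_eq_multiplicity, hcard, hf2]
  have hS₃ : Nat.card S₃ = 3 := by rw [Sylow.card_eq_multiplicity, hcard, hf3, pow_one]
  have hn₂ : (S₂ : Subgroup N).Normal := inferInstance
  have hn₃ : (S₃ : Subgroup N).Normal := inferInstance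
  have hdis : Disjoint (S₂ : Subgroup N) (S₃ : Subgroup N) :=
    IsPGroup.disjoint_of_ne 2 3 (by norm_num) _ _ S₂.isPGroup' S₃.isPGroup'
  have hsup : (S₃ : Subgroup N) ⊔ (S₂ : Subgroup N) = ⊤ := by
    apply Subgroup.eq_top_of_card_eq
    apply Nat.dvd_antisymm (Subgroup.card_subgroup_dvd_card _)
    rw [hcard]
    apply Nat.Coprime.mul_dvd_of_dvd_of_dvd
    · exact Nat.Coprime.pow_right _ (by norm_num)
    · have := Subgroup.card_dvd_of_le (le_sup_left : (S₃ : Subgroup N) ≤ (S₃ : Subgroup N) ⊔ (S₂ : Subgroup N))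
      rwa [hS₃] at this
    · have := Subgroup.card_dvd_of_le (le_sup_right : (S₂ : Subgroup N) ≤ (S₃ : Subgroup N) ⊔ (S₂ : Subgroup N))
      rwa [hS₂] at this
  -- the generator of the Sylow 3-subgroup
  have : IsCyclic S₃ := isCyclic_of_prime_card hS₃
  obtain ⟨c₀, hc₀⟩ := IsCyclic.exists_generator (α := S₃)
  have hc₀' : Subgroup.zpowers c₀ = ⊤ := by
    rw [eq_top_iff]
    intro y _
    exact hc₀ y
  have hord₀ : orderOf c₀ = 3 := by
    rw [← Nat.card_zpowers, hc₀', Subgroup.card_top, hS₃]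
  set c : Perm α := ((c₀ : N) : Perm α) with hcdef
  have hordc : orderOf c = 3 := by
    rw [hcdef, Subgroup.orderOf_coe, Subgroup.orderOf_coe, hord₀]
  have hS₃z : (S₃ : Subgroup N) = Subgroup.zpowers (c₀ : N) := by
    have := congrArg (Subgroup.map (S₃ : Subgroup N).subtype) hc₀'
    rw [MonoidHom.map_zpowers, ← MonoidHom.range_eq_map, Subgroup.range_subtype] at this
    exact this.symm
  set Q : Subgroup (Perm α) := (S₂ : Subgroup N).map N.subtype with hQ
  have hQcard : Nat.card Q = 2 ^ k := by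
    rw [hQ, Subgroup.card_map_of_injective N.subtype_injective, hS₂]
  have hNeq : N = Subgroup.zpowers c ⊔ Q := by
    have := congrArg (Subgroup.map N.subtype) hsup
    rw [Subgroup.map_sup, ← MonoidHom.range_eq_map, Subgroup.range_subtype, hS₃z,
      MonoidHom.map_zpowers] at this
    exact this.symm
  have hcomm : ∀ g ∈ Q, g * c = c * g := by
    rintro _ ⟨g, hg, rfl⟩
    have h1 : Commute g (c₀ : N) :=
      Subgroup.commute_of_normal_of_disjoint _ _ hn₂ hn₃ hdis g (c₀ : N) hg c₀.2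
    have h2 := congrArg (N.subtype) h1.eq
    simpa using h2
  -- cycle type
  obtain ⟨j, hj⟩ := Perm.cycleType_prime_order (σ := c) (by rw [hordc]; exact Nat.prime_three)
  rw [hordc] at hj
  have hsum : 3 * (j + 1) ≤ m := by
    have h1 := Perm.sum_cycleType c
    rw [hj, Multiset.sum_replicate, smul_eq_mul] at h1
    have h2 : c.support.card ≤ Fintype.card α := Finset.card_le_univ _
    rw [hm] at h2
    omega
  have hQle : Q ≤ Subgroup.centralizer {c} := by
    intro g hg
    rw [Subgroup.mem_centralizer_iff]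
    intro y hy
    rw [Set.mem_singleton_iff] at hy
    rw [hy]
    exact (hcomm g hg).symm
  have hdvd : 2 ^ k ∣ (m - 3 * (j + 1)).factorial * 3 ^ (j + 1) * (j + 1).factorial := by
    have h1 := Subgroup.card_dvd_of_le hQle
    rw [hQcard, Perm.nat_card_centralizer, hj, hm, Multiset.sum_replicate, Multiset.prod_replicate,
      Multiset.toFinset_replicate, if_neg (Nat.succ_ne_zero j), Finset.prod_singleton,
      Multiset.count_replicate_self, smul_eq_mul, mul_comm (j + 1) 3] at h1
    exact h1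
  have hj0 : j = 0 := by
    by_contra hj0
    have hdvd' : 2 ^ k ∣ (m - 3 * (j + 1)).factorial * (j + 1).factorial := by
      have hcop : Nat.Coprime (2 ^ k) (3 ^ (j + 1)) :=
        Nat.Coprime.pow _ _ (by norm_num)
      rw [mul_assoc, mul_comm (3 ^ (j + 1)), ← mul_assoc] at hdvd
      exact hcop.dvd_of_dvd_mul_right hdvd
    have hle : k ≤ ((m - 3 * (j + 1)).factorial * (j + 1).factorial).factorization 2 :=
      (Nat.Prime.pow_dvd_iff_le_factorization Nat.prime_two
        (Nat.mul_ne_zero (Nat.factorial_ne_zero _) (Nat.factorial_ne_zero _))).mp hdvd'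
    rw [Nat.factorization_mul (Nat.factorial_ne_zero _) (Nat.factorial_ne_zero _)] at hle
    simp only [Finsupp.coe_add, Pi.add_apply] at hle
    have h1 : 2 ^ k ≤ b (m - 3 * (j + 1)) * b (j + 1) := by
      unfold b
      rw [← pow_add]
      exact Nat.pow_le_pow_right (by norm_num) hle
    have h2 : b (m - 3 * (j + 1)) * b (j + 1) ≤ b (m - 4) :=
      (b_mul_le _ _).trans (b_mono (by omega))
    have h3 : b (m - 4) < b (m - 4 + 1) := b_lt_succ_of_mod4 (by omega)
    rw [show m - 4 + 1 = m - 3 by omega, hbk] at h3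
    omega
  subst hj0
  have h3c : c.IsThreeCycle := by
    unfold Perm.IsThreeCycle
    rw [hj]
    rfl
  refine ⟨c, Q, h3c, hQcard, ?_, hNeq⟩
  intro g hg
  apply fixes_support_of_commute h3c (hcomm g hg) k
  have h1 : (⟨g, hg⟩ : Q) ^ Nat.card Q = 1 := pow_card_eq_one'
  rw [hQcard] at h1
  exact congrArg Subtype.val h1

/-- The pointwise stabilizer of a finset. -/
def fixSub {α : Type*} (T : Finset α) : Subgroup (Perm α) where
  carrier := {f | ∀ x ∈ T, f x = x}
  mul_mem' := by
    intro f g hf hg x hx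
    rw [Perm.mul_apply, hg x hx, hf x hx]
  one_mem' := fun x _ => rfl
  inv_mem' := by
    intro f hf x hx
    rw [Perm.inv_eq_iff_eq, hf x hx]

theorem mem_fixSub {α : Type*} (T : Finset α) (f : Perm α) :
    f ∈ fixSub T ↔ ∀ x ∈ T, f x = x := Iff.rfl

theorem card_fixSub {α : Type*} [Fintype α] [DecidableEq α] (T : Finset α) :
    Nat.card (fixSub T) = (Fintype.card α - T.card).factorial := by
  have e1 : Perm {a // a ∉ T} ≃ {f : Perm α // ∀ a, ¬ (a ∉ T) → f a = a} :=
    Perm.subtypeEquivSubtypePerm (fun a => a ∉ T)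
  have e2 : {f : Perm α // ∀ a, ¬ (a ∉ T) → f a = a} ≃ fixSub T :=
    Equiv.subtypeEquivRight (fun f => by
      rw [mem_fixSub]
      constructor
      · intro h x hx
        exact h x (not_not.mpr hx)
      · intro h x hx
        exact h x (not_not.mp hx))
  rw [← Nat.card_congr (e1.trans e2), Nat.card_perm, Nat.card_eq_fintype_card,
    Fintype.card_subtype_compl, Fintype.card_coe]

/-- Two `2`-subgroups of full order in a pointwise stabilizer are conjugate in it. -/
theorem conj_in_fixSub {α : Type*} [Fintype α] [DecidableEq α] (T : Finset α)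
    (Q₁ Q' : Subgroup (Perm α)) (h₁ : Q₁ ≤ fixSub T) (h' : Q' ≤ fixSub T)
    (hc₁ : Nat.card Q₁ = b (Fintype.card α - T.card))
    (hc' : Nat.card Q' = b (Fintype.card α - T.card)) :
    ∃ τ ∈ fixSub T, Q' = Q₁.map (MulAut.conj τ).toMonoidHom := by
  have : Fact (Nat.Prime 2) := ⟨Nat.prime_two⟩
  set H := fixSub T with hH
  have hb : b (Fintype.card α - T.card) = 2 ^ (Nat.card H).factorization 2 := by
    rw [card_fixSub]
    rfl
  have hcard₁ : Nat.card (Q₁.subgroupOf H) = 2 ^ (Nat.card H).factorization 2 := by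
    rw [Nat.card_congr (Subgroup.subgroupOfEquivOfLe h₁).toEquiv, hc₁, hb]
  have hcard' : Nat.card (Q'.subgroupOf H) = 2 ^ (Nat.card H).factorization 2 := by
    rw [Nat.card_congr (Subgroup.subgroupOfEquivOfLe h').toEquiv, hc', hb]
  let S₁ : Sylow 2 H := Sylow.ofCard (Q₁.subgroupOf H) hcard₁
  let S' : Sylow 2 H := Sylow.ofCard (Q'.subgroupOf H) hcard'
  obtain ⟨τ, hτ⟩ := MulAction.exists_smul_eq H S₁ S'
  refine ⟨τ.1, τ.2, ?_⟩
  have h1 : (S' : Subgroup H) = MulAut.conj τ • (S₁ : Subgroup H) := by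
    rw [← hτ, Sylow.coe_subgroup_smul]
  have h2 : (S' : Subgroup H) = Q'.subgroupOf H := Sylow.coe_ofCard _ _
  have h3 : (S₁ : Subgroup H) = Q₁.subgroupOf H := Sylow.coe_ofCard _ _
  rw [h2, h3] at h1
  ext x
  constructor
  · intro hx
    have hxH : x ∈ H := h' hx
    have h4 : (⟨x, hxH⟩ : H) ∈ Q'.subgroupOf H := Subgroup.mem_subgroupOf.mpr hx
    rw [h1, Subgroup.mem_pointwise_smul_iff_inv_smul_mem] at h4
    rw [Subgroup.mem_map]
    refine ⟨(τ.1)⁻¹ * x * τ.1, ?_, ?_⟩
    · have := Subgroup.mem_subgroupOf.mp h4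
      simpa [MulAut.smul_def, MulAut.conj_inv_apply] using this
    · simp [MulAut.conj_apply, mul_assoc]
  · rintro ⟨y, hy, rfl⟩
    have hyH : y ∈ H := h₁ hy
    have h4 : (⟨y, hyH⟩ : H) ∈ Q₁.subgroupOf H := Subgroup.mem_subgroupOf.mpr hy
    have h5 : MulAut.conj τ • (⟨y, hyH⟩ : H) ∈ MulAut.conj τ • Q₁.subgroupOf H :=
      Subgroup.smul_mem_pointwise_smul _ _ _ h4
    rw [← h1] at h5
    have := Subgroup.mem_subgroupOf.mp h5
    simpa [MulAut.smul_def, MulAut.conj_apply] using this

/-- Conjugacy of the extremal nilpotent subgroups, from their structure. -/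
theorem conj_of_structure {α : Type*} [Fintype α] [DecidableEq α] (m : ℕ)
    (hm : Fintype.card α = m)
    (c c' : Perm α) (Q Q' : Subgroup (Perm α)) (hc : c.IsThreeCycle) (hc' : c'.IsThreeCycle)
    (hQ : Nat.card Q = b (m - 3)) (hQ' : Nat.card Q' = b (m - 3))
    (hfix : ∀ g ∈ Q, ∀ x ∈ c.support, g x = x) (hfix' : ∀ g ∈ Q', ∀ x ∈ c'.support, g x = x) :
    ∃ g : Perm α, Subgroup.zpowers c' ⊔ Q' =
      (Subgroup.zpowers c ⊔ Q).map (MulAut.conj g).toMonoidHom := by
  have hconj : IsConj c c' := by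
    rw [Perm.isConj_iff_cycleType_eq]
    unfold Perm.IsThreeCycle at hc hc'
    rw [hc, hc']
  obtain ⟨σ, hσ⟩ := isConj_iff.mp hconj
  set Q₁ := Q.map (MulAut.conj σ).toMonoidHom with hQ₁
  have hQ₁fix : Q₁ ≤ fixSub c'.support := by
    rintro _ ⟨g, hg, rfl⟩
    rw [mem_fixSub]
    intro y hy
    rw [← hσ, Perm.support_conj, Finset.mem_map] at hy
    obtain ⟨x, hx, rfl⟩ := hy
    show (σ * g * σ⁻¹) (σ x) = σ x
    simp only [Perm.mul_apply]
    rw [show σ⁻¹ (σ x) = x by simp, hfix g hg x hx]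
  have hQ'fix : Q' ≤ fixSub c'.support := fun g hg => hfix' g hg
  have hcard₁ : Nat.card Q₁ = b (Fintype.card α - c'.support.card) := by
    rw [hQ₁, Subgroup.card_map_of_injective (MulAut.conj σ).injective, hQ, hc'.card_support, hm]
  have hcard' : Nat.card Q' = b (Fintype.card α - c'.support.card) := by
    rw [hQ', hc'.card_support, hm]
  obtain ⟨τ, hτH, hτ⟩ := conj_in_fixSub c'.support Q₁ Q' hQ₁fix hQ'fix hcard₁ hcard'
  have hτc : τ * c' * τ⁻¹ = c' := by
    have hdis : Perm.Disjoint τ c' := by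
      intro x
      by_cases hx : x ∈ c'.support
      · left
        exact hτH x hx
      · right
        exact Perm.notMem_support.mp hx
    rw [hdis.commute.eq, mul_inv_cancel_right]
  refine ⟨τ * σ, ?_⟩
  have hcomp : (MulAut.conj (τ * σ)).toMonoidHom =
      (MulAut.conj τ).toMonoidHom.comp (MulAut.conj σ).toMonoidHom := by
    ext x
    simp [MulAut.conj_apply, mul_assoc]
  rw [hcomp, ← Subgroup.map_map, Subgroup.map_sup, MonoidHom.map_zpowers, Subgroup.map_sup,
    MonoidHom.map_zpowers, ← hQ₁, ← hτ]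
  congr 2
  show c' = τ * (σ * c * σ⁻¹) * τ⁻¹
  rw [hσ, hτc]

end Cfsg.Agent.Helper37
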