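import Mathlib
import Cfsg.Agent.Lib.Helper37.NilpConj

set_option autoImplicit false

namespace Cfsg.Agent.Helper37

open Equiv
open scoped Pointwise

/-- General structure theorem: a nilpotent subgroup of `S_m` of order `3 * 2 ^ κ` with
`2 ^ κ > b (m - 4)` is `⟨c⟩ × Q` for a 3-cycle `c`, with `Q` fixing the support of `c`. -/
theorem structure_of_extremal_gen {α : Type*} [Fintype α] [DecidableEq α] (m : ℕ)
    (hm : Fintype.card α = m) (k : ℕ) (hk : b (m - 4) < 2 ^ k)
    (N : Subgroup (Perm α)) (hN : Group.IsNilpotent N) (hcard : Nat.card N = 3 * 2 ^ k) :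
    ∃ (c : Perm α) (Q : Subgroup (Perm α)), c.IsThreeCycle ∧ Nat.card Q = 2 ^ k ∧
      (∀ g ∈ Q, ∀ x ∈ c.support, g x = x) ∧ N = Subgroup.zpowers c ⊔ Q := by
  have : Fact (Nat.Prime 2) := ⟨Nat.prime_two⟩
  have : Fact (Nat.Prime 3) := ⟨Nat.prime_three⟩
  let S₂ : Sylow 2 N := default
  let S₃ : Sylow 3 N := default
  have hf2 : (3 * 2 ^ k).factorization 2 = k := by
    rw [Nat.factorization_mul (by norm_num) (by positivity)]
    simp only [Finsupp.coe_add, Pi.add_apply]
    rw [Nat.Prime.factorization_pow Nat.prime_two]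
    simp
    exact Nat.factorization_eq_zero_of_not_dvd (by norm_num)
  have hf3 : (3 * 2 ^ k).factorization 3 = 1 := by
    rw [Nat.factorization_mul (by norm_num) (by positivity)]
    simp only [Finsupp.coe_add, Pi.add_apply]
    rw [Nat.Prime.factorization_pow Nat.prime_two, Nat.Prime.factorization_self Nat.prime_three]
    simp
  have hS₂ : Nat.card S₂ = 2 ^ k := by rw [Sylow.card_eq_multiplicity, hcard, hf2]
  have hS₃ : Nat.card S₃ = 3 := by rw [Sylow.card_eq_multiplicity, hcard, hf3, pow_one]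
  have hn₂ : (S₂ : Subgroup N).Normal := inferInstance
  have hn₃ : (S₃ : Subgroup N).Normal := inferInstance
  have hdis : Disjoint (S₂ : Subgroup N) (S₃ : Subgroup N) :=
    IsPGroup.disjoint_of_ne 2 3 (by norm_num) _ _ S₂.isPGroup' S₃.isPGroup'
  have hsup : (S₃ : Subgroup N) ⊔ (S₂ : Subgroup N) = ⊤ := by
    apply Subgroup.eq_top_of_card_eq
    apply Nat.dvd_antisymm (Subgroup.card_subgroup_dvd_card _)
    rw [hcard]
    apply Nat.Coprime.mul_dvd_of_dvd_of_dvd
    · exact Nat.Coprime.pow_right _ (by norm_num)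
    · have := Subgroup.card_dvd_of_le
        (le_sup_left : (S₃ : Subgroup N) ≤ (S₃ : Subgroup N) ⊔ (S₂ : Subgroup N))
      rwa [hS₃] at this
    · have := Subgroup.card_dvd_of_le
        (le_sup_right : (S₂ : Subgroup N) ≤ (S₃ : Subgroup N) ⊔ (S₂ : Subgroup N))
      rwa [hS₂] at this
  have : IsCyclic S₃ := isCyclic_of_prime_card hS₃
  obtain ⟨c₀, hc₀⟩ := IsCyclic.exists_generator (α := S₃)
  have hc₀' : Subgroup.zpowers c₀ = ⊤ := by
    rw [eq_top_iff]
    intro y _
    exact hc₀ y
  have hord₀ : orderOf c₀ = 3 := by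
    rw [← Nat.card_zpowers, hc₀', Subgroup.card_top, hS₃]
  set c : Perm α := ((c₀ : N) : Perm α) with hcdef
  have hordc : orderOf c = 3 := by
    rw [hcdef, Subgroup.orderOf_coe, Subgroup.orderOf_coe, hord₀]
  have hS₃z : (S₃ : Subgroup N) = Subgroup.zpowers (c₀ : N) := by
    have := congrArg (Subgroup.map (S₃ : Subgroup N).subtype) hc₀'
    rw [MonoidHom.map_zpowers, ← MonoidHom.range_eq_map, Subgroup.range_subtype] at this
    exact this.symm
  set Q : Subgroup (Perm α) := (S₂ : Subgroup N).map N.subtype with hQ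
  have hQcard : Nat.card Q = 2 ^ k := by
    rw [hQ, Subgroup.card_map_of_injective N.subtype_injective, hS₂]
  have hNeq : N = Subgroup.zpowers c ⊔ Q := by
    have := congrArg (Subgroup.map N.subtype) hsup
    rw [Subgroup.map_sup, ← MonoidHom.range_eq_map, Subgroup.range_subtype, hS₃z,
      MonoidHom.map_zpowers] at this
    exact this.symm
  have hcomm : ∀ g ∈ Q, g * c = c * g := by
    rintro _ ⟨g, hg, rfl⟩
    have h1 : Commute g (c₀ : N) :=
      Subgroup.commute_of_normal_of_disjoint _ _ hn₂ hn₃ hdis g (c₀ : N) hg c₀.2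
    have h2 := congrArg (N.subtype) h1.eq
    simpa using h2
  obtain ⟨j, hj⟩ := Perm.cycleType_prime_order (σ := c) (by rw [hordc]; exact Nat.prime_three)
  rw [hordc] at hj
  have hsum : 3 * (j + 1) ≤ m := by
    have h1 := Perm.sum_cycleType c
    rw [hj, Multiset.sum_replicate, smul_eq_mul] at h1
    have h2 : c.support.card ≤ Fintype.card α := Finset.card_le_univ _
    rw [hm] at h2
    omega
  have hQle : Q ≤ Subgroup.centralizer {c} := by
    intro g hg
    rw [Subgroup.mem_centralizer_iff]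
    intro y hy
    rw [Set.mem_singleton_iff] at hy
    rw [hy]
    exact (hcomm g hg).symm
  have hdvd : 2 ^ k ∣ (m - 3 * (j + 1)).factorial * 3 ^ (j + 1) * (j + 1).factorial := by
    have h1 := Subgroup.card_dvd_of_le hQle
    rw [hQcard, Perm.nat_card_centralizer, hj, hm, Multiset.sum_replicate, Multiset.prod_replicate,
      Multiset.toFinset_replicate, if_neg (Nat.succ_ne_zero j), Finset.prod_singleton,
      Multiset.count_replicate_self, smul_eq_mul, mul_comm (j + 1) 3] at h1
    exact h1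
  have hj0 : j = 0 := by
    by_contra hj0
    have hdvd' : 2 ^ k ∣ (m - 3 * (j + 1)).factorial * (j + 1).factorial := by
      have hcop : Nat.Coprime (2 ^ k) (3 ^ (j + 1)) :=
        Nat.Coprime.pow _ _ (by norm_num)
      rw [mul_assoc, mul_comm (3 ^ (j + 1)), ← mul_assoc] at hdvd
      exact hcop.dvd_of_dvd_mul_right hdvd
    have hle : k ≤ ((m - 3 * (j + 1)).factorial * (j + 1).factorial).factorization 2 :=
      (Nat.Prime.pow_dvd_iff_le_factorization Nat.prime_two
        (Nat.mul_ne_zero (Nat.factorial_ne_zero _) (Nat.factorial_ne_zero _))).mp hdvd'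
    rw [Nat.factorization_mul (Nat.factorial_ne_zero _) (Nat.factorial_ne_zero _)] at hle
    simp only [Finsupp.coe_add, Pi.add_apply] at hle
    have h1 : 2 ^ k ≤ b (m - 3 * (j + 1)) * b (j + 1) := by
      unfold b
      rw [← pow_add]
      exact Nat.pow_le_pow_right (by norm_num) hle
    have h2 : b (m - 3 * (j + 1)) * b (j + 1) ≤ b (m - 4) :=
      (b_mul_le _ _).trans (b_mono (by omega))
    omega
  subst hj0
  have h3c : c.IsThreeCycle := by
    unfold Perm.IsThreeCycle
    rw [hj]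
    rfl
  refine ⟨c, Q, h3c, hQcard, ?_, hNeq⟩
  intro g hg
  apply fixes_support_of_commute h3c (hcomm g hg) k
  have h1 : (⟨g, hg⟩ : Q) ^ Nat.card Q = 1 := pow_card_eq_one'
  rw [hQcard] at h1
  exact congrArg Subtype.val h1

/-- Sylow conjugacy inside a subgroup `H`. -/
theorem conj_in_subgroup {G : Type*} [Group G] [Finite G] (p : ℕ) [Fact p.Prime] (H : Subgroup G)
    (Q₁ Q' : Subgroup G) (h₁ : Q₁ ≤ H) (h' : Q' ≤ H)
    (hc₁ : Nat.card Q₁ = p ^ (Nat.card H).factorization p)
    (hc' : Nat.card Q' = p ^ (Nat.card H).factorization p) :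
    ∃ τ ∈ H, Q' = Q₁.map (MulAut.conj τ).toMonoidHom := by
  have hcard₁ : Nat.card (Q₁.subgroupOf H) = p ^ (Nat.card H).factorization p := by
    rw [Nat.card_congr (Subgroup.subgroupOfEquivOfLe h₁).toEquiv, hc₁]
  have hcard' : Nat.card (Q'.subgroupOf H) = p ^ (Nat.card H).factorization p := by
    rw [Nat.card_congr (Subgroup.subgroupOfEquivOfLe h').toEquiv, hc']
  let S₁ : Sylow p H := Sylow.ofCard (Q₁.subgroupOf H) hcard₁
  let S' : Sylow p H := Sylow.ofCard (Q'.subgroupOf H) hcard'
  obtain ⟨τ, hτ⟩ := MulAction.exists_smul_eq H S₁ S'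
  refine ⟨τ.1, τ.2, ?_⟩
  have h1 : (S' : Subgroup H) = MulAut.conj τ • (S₁ : Subgroup H) := by
    rw [← hτ, Sylow.coe_subgroup_smul]
  have h2 : (S' : Subgroup H) = Q'.subgroupOf H := Sylow.coe_ofCard _ _
  have h3 : (S₁ : Subgroup H) = Q₁.subgroupOf H := Sylow.coe_ofCard _ _
  rw [h2, h3] at h1
  ext x
  constructor
  · intro hx
    have hxH : x ∈ H := h' hx
    have h4 : (⟨x, hxH⟩ : H) ∈ Q'.subgroupOf H := Subgroup.mem_subgroupOf.mpr hx
    rw [h1, Subgroup.mem_pointwise_smul_iff_inv_smul_mem] at h4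
    rw [Subgroup.mem_map]
    refine ⟨(τ.1)⁻¹ * x * τ.1, ?_, ?_⟩
    · have := Subgroup.mem_subgroupOf.mp h4
      simpa [MulAut.smul_def, MulAut.conj_inv_apply] using this
    · simp [MulAut.conj_apply, mul_assoc]
  · rintro ⟨y, hy, rfl⟩
    have hyH : y ∈ H := h₁ hy
    have h4 : (⟨y, hyH⟩ : H) ∈ Q₁.subgroupOf H := Subgroup.mem_subgroupOf.mpr hy
    have h5 : MulAut.conj τ • (⟨y, hyH⟩ : H) ∈ MulAut.conj τ • Q₁.subgroupOf H :=
      Subgroup.smul_mem_pointwise_smul _ _ _ h4
    rw [← h1] at h5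
    have := Subgroup.mem_subgroupOf.mp h5
    simpa [MulAut.smul_def, MulAut.conj_apply] using this

/-- The even permutations fixing a finset pointwise. -/
def altFix {α : Type*} [Fintype α] [DecidableEq α] (T : Finset α) : Subgroup (Perm α) :=
  (alternatingGroup {a // a ∉ T}).map (Perm.ofSubtype)

theorem mem_altFix {α : Type*} [Fintype α] [DecidableEq α] (T : Finset α) (f : Perm α) :
    f ∈ altFix T ↔ (∀ x ∈ T, f x = x) ∧ Perm.sign f = 1 := by
  unfold altFix
  constructor
  · rintro ⟨g, hg, rfl⟩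
    refine ⟨fun x hx => Perm.ofSubtype_apply_of_not_mem g (not_not.mpr hx), ?_⟩
    rw [Perm.sign_ofSubtype]
    exact Perm.mem_alternatingGroup.mp hg
  · rintro ⟨hfix, hsign⟩
    have h₂ : ∀ x, f x ≠ x → x ∉ T := fun x hx hxT => hx (hfix x hxT)
    have h₁ : ∀ x, f x ∉ T ↔ x ∉ T := by
      intro x
      constructor
      · intro h hxT
        rw [hfix x hxT] at h
        exact h hxT
      · intro h hfx
        have h1 := hfix (f x) hfx
        have h2 : f x = x := f.injective h1
        rw [h2] at hfx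
        exact h hfx
    refine ⟨f.subtypePerm h₁, ?_, Perm.ofSubtype_subtypePerm h₁ h₂⟩
    rw [SetLike.mem_coe, Perm.mem_alternatingGroup, Perm.sign_subtypePerm f h₁ h₂, hsign]

theorem two_mul_card_altFix {α : Type*} [Fintype α] [DecidableEq α] (T : Finset α)
    (h2 : 2 ≤ Fintype.card α - T.card) :
    2 * Nat.card (altFix T) = (Fintype.card α - T.card).factorial := by
  have hc : Fintype.card {a // a ∉ T} = Fintype.card α - T.card := by
    rw [Fintype.card_subtype_compl, Fintype.card_coe]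
  have : Nontrivial {a // a ∉ T} := by
    rw [← Fintype.one_lt_card_iff_nontrivial, hc]
    omega
  unfold altFix
  rw [Subgroup.card_map_of_injective Perm.ofSubtype_injective, Nat.card_eq_fintype_card,
    two_mul_card_alternatingGroup, Fintype.card_perm, hc]

/-- Conjugacy (by an even permutation) of the extremal nilpotent subgroups of `A_m`, from their
structure. -/
theorem conj_of_structure_alt {α : Type*} [Fintype α] [DecidableEq α] (m : ℕ)
    (hm : Fintype.card α = m) (hm5 : 5 ≤ m) (k : ℕ) (hk : 2 * 2 ^ k = b (m - 3))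
    (c c' : Perm α) (Q Q' : Subgroup (Perm α)) (hc : c.IsThreeCycle) (hc' : c'.IsThreeCycle)
    (hQ : Nat.card Q = 2 ^ k) (hQ' : Nat.card Q' = 2 ^ k)
    (hfix : ∀ g ∈ Q, ∀ x ∈ c.support, g x = x) (hfix' : ∀ g ∈ Q', ∀ x ∈ c'.support, g x = x)
    (hev : ∀ g ∈ Q, Perm.sign g = 1) (hev' : ∀ g ∈ Q', Perm.sign g = 1) :
    ∃ g : Perm α, Perm.sign g = 1 ∧ Subgroup.zpowers c' ⊔ Q' =
      (Subgroup.zpowers c ⊔ Q).map (MulAut.conj g).toMonoidHom := by
  have : Fact (Nat.Prime 2) := ⟨Nat.prime_two⟩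
  have hconj : IsConj c c' := by
    rw [Perm.isConj_iff_cycleType_eq]
    unfold Perm.IsThreeCycle at hc hc'
    rw [hc, hc']
  obtain ⟨σ₀, hσ₀⟩ := isConj_iff.mp hconj
  -- an even conjugating element
  have hσex : ∃ σ : Perm α, Perm.sign σ = 1 ∧ σ * c * σ⁻¹ = c' := by
    rcases Int.units_eq_one_or (Perm.sign σ₀) with h1 | h1
    · exact ⟨σ₀, h1, hσ₀⟩
    · have hcard : 1 < (c.supportᶜ).card := by
        rw [Finset.card_compl, hc.card_support, hm]
        omega
      obtain ⟨u, hu, v, hv, huv⟩ := Finset.one_lt_card.mp hcard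
      rw [Finset.mem_compl, Perm.notMem_support] at hu hv
      have hdis : Perm.Disjoint (swap u v) c := by
        intro x
        by_cases hx : c x = x
        · right; exact hx
        · left
          apply Equiv.swap_apply_of_ne_of_ne
          · rintro rfl; exact hx hu
          · rintro rfl; exact hx hv
      refine ⟨σ₀ * swap u v, ?_, ?_⟩
      · rw [Perm.sign_mul, h1, Perm.sign_swap huv]
        rfl
      · rw [mul_inv_rev, ← hσ₀]
        have : swap u v * c * (swap u v)⁻¹ = c := by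
          rw [hdis.commute.eq, mul_inv_cancel_right]
        calc σ₀ * swap u v * c * ((swap u v)⁻¹ * σ₀⁻¹)
            = σ₀ * (swap u v * c * (swap u v)⁻¹) * σ₀⁻¹ := by group
          _ = σ₀ * c * σ₀⁻¹ := by rw [this]
  obtain ⟨σ, hσsign, hσ⟩ := hσex
  set Q₁ := Q.map (MulAut.conj σ).toMonoidHom with hQ₁
  have hQ₁fix : Q₁ ≤ altFix c'.support := by
    rintro _ ⟨g, hg, rfl⟩
    rw [mem_altFix]
    constructor
    · intro y hy
      rw [← hσ, Perm.support_conj, Finset.mem_map] at hy
      obtain ⟨x, hx, rfl⟩ := hy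
      show (σ * g * σ⁻¹) (σ x) = σ x
      simp only [Perm.mul_apply]
      rw [show σ⁻¹ (σ x) = x by simp, hfix g hg x hx]
    · show Perm.sign (σ * g * σ⁻¹) = 1
      rw [Perm.sign_mul, Perm.sign_mul, Perm.sign_inv, hev g hg, mul_one, ← Perm.sign_mul]
      rw [Perm.sign_mul, hσsign, one_mul]
  have hQ'fix : Q' ≤ altFix c'.support := by
    intro g hg
    rw [mem_altFix]
    exact ⟨hfix' g hg, hev' g hg⟩
  have h2card := two_mul_card_altFix c'.support (by rw [hc'.card_support, hm]; omega)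
  rw [hc'.card_support, hm] at h2card
  have hsyl : 2 ^ k = 2 ^ (Nat.card (altFix c'.support)).factorization 2 := by
    have hne : Nat.card (altFix c'.support) ≠ 0 := Nat.card_pos.ne'
    have h1 : b (m - 3) = 2 ^ ((Nat.card (altFix c'.support)).factorization 2 + 1) := by
      unfold b
      rw [← h2card, Nat.factorization_mul (by norm_num) hne]
      simp only [Finsupp.coe_add, Pi.add_apply]
      rw [Nat.Prime.factorization_self Nat.prime_two, add_comm]
    rw [h1, pow_succ] at hk
    omega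
  have hcard₁ : Nat.card Q₁ = 2 ^ (Nat.card (altFix c'.support)).factorization 2 := by
    rw [hQ₁, Subgroup.card_map_of_injective (MulAut.conj σ).injective, hQ, hsyl]
  have hcard' : Nat.card Q' = 2 ^ (Nat.card (altFix c'.support)).factorization 2 := by
    rw [hQ', hsyl]
  obtain ⟨τ, hτH, hτ⟩ := conj_in_subgroup 2 (altFix c'.support) Q₁ Q' hQ₁fix hQ'fix hcard₁ hcard'
  rw [mem_altFix] at hτH
  have hτc : τ * c' * τ⁻¹ = c' := by
    have hdis : Perm.Disjoint τ c' := by
      intro x
      by_cases hx : x ∈ c'.support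
      · left
        exact hτH.1 x hx
      · right
        exact Perm.notMem_support.mp hx
    rw [hdis.commute.eq, mul_inv_cancel_right]
  refine ⟨τ * σ, by rw [Perm.sign_mul, hτH.2, hσsign, one_mul], ?_⟩
  have hcomp : (MulAut.conj (τ * σ)).toMonoidHom =
      (MulAut.conj τ).toMonoidHom.comp (MulAut.conj σ).toMonoidHom := by
    ext x
    simp [MulAut.conj_apply, mul_assoc]
  rw [hcomp, ← Subgroup.map_map, Subgroup.map_sup, MonoidHom.map_zpowers, Subgroup.map_sup,
    MonoidHom.map_zpowers, ← hQ₁, ← hτ]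
  congr 2
  show c' = τ * (σ * c * σ⁻¹) * τ⁻¹
  rw [hσ, hτc]

end Cfsg.Agent.Helper37
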