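import Mathlib
import Cfsg.Agent.Lib.Helper74.ONSNUM1
import Cfsg.Agent.Lib.Helper74.ONSNUM2
import Cfsg.Agent.Lib.Helper74.ONSCARD
import Cfsg.Agent.Lib.Helper9.ONSSYL
import Cfsg.Agent.Lib.Helper60.ONSFIX
import Cfsg.Agent.Lib.Helper82.ONSGEN

/-!
ONS server (S1699): an element of order 19 centralises every normal subgroup of order dividing 122760 (CEN),
and the abstract simplicity argument (CORE).
-/

set_option autoImplicit false

namespace Cfsg.Agent.Helper37.ONSCore
universe u

/-- (CEN) an element `s` with `s ^ 19 = 1` centralises every normal subgroup whose order divides `122760`. -/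
theorem centralizes_normal {G : Type u} [Group G] [Finite G] (N : Subgroup G) [N.Normal] (s : G)
    (hs : s ^ 19 = 1) (hN : Nat.card N ∣ 122760) : ∀ x ∈ N, s * x * s⁻¹ = x := by
  have h19 : ¬ 19 ∣ Nat.card N := fun h => by
    have := h.trans hN
    norm_num at this
  have hCN : N ⊓ Subgroup.centralizer {s} = N := by
    apply Cfsg.Agent.Helper82.ONS.eq_of_contains_sylows N _ inf_le_left
    intro r _
    obtain ⟨P, hP⟩ := Cfsg.Agent.Helper9.ONS.exists_invariant_sylow N s hs h19 r
    refine ⟨P, ?_⟩
    have hRN : (P : Subgroup N).map N.subtype ≤ N := by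
      rintro _ ⟨y, -, rfl⟩
      exact y.2
    have hcardR : Nat.card ((P : Subgroup N).map N.subtype) = Nat.card (P : Subgroup N) :=
      Subgroup.card_map_of_injective N.subtype_injective
    obtain ⟨k, hk⟩ := (IsPGroup.iff_card.mp P.isPGroup')
    have hdvd : r ^ k ∣ 122760 := by
      rw [← hk, ← hcardR]
      exact (Subgroup.card_dvd_of_le hRN).trans hN
    have h5 := Cfsg.Agent.Helper74.ONS.prime_pow_dvd r k (Fact.out) hdvd
    rw [← hk, ← hcardR] at h5
    have hfix := Cfsg.Agent.Helper60.ONS.centralizes_of_normalizes Cfsg.Agent.Helper74.ONS.num19 _ s hs hP h5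
    intro x hx
    refine ⟨hRN hx, ?_⟩
    show x ∈ Subgroup.centralizer {s}
    rw [Subgroup.mem_centralizer_iff]
    intro h hh
    rw [Set.mem_singleton_iff] at hh
    subst hh
    have h1 := hfix x hx
    calc h * x = (h * x * h⁻¹) * h := by group
      _ = x * h := by rw [h1]
  intro x hx
  have hxC : x ∈ N ⊓ Subgroup.centralizer {s} := by
    rw [hCN]
    exact hx
  have h1 := (Subgroup.mem_centralizer_iff.mp hxC.2) s (Set.mem_singleton s)
  rw [h1]
  group

/-- (CORE) the abstract simplicity argument. -/
theorem simple_core {G : Type u} [Group G] [Finite G] (H : Subgroup G) (L : Subgroup H)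
    (hidx : H.index = 122760) (h19 : 19 ∣ Nat.card H)
    (hP1 : ∀ M : Subgroup H, M.Normal → M = ⊥ ∨ L ≤ M)
    (hP2 : ∀ N : Subgroup G, N.Normal → L.map H.subtype ≤ N → N = ⊤)
    (hF : Subgroup.center G ≤ H) : IsSimpleGroup G := by
  have hnt : Nontrivial G := by
    by_contra hcon
    rw [not_nontrivial_iff_subsingleton] at hcon
    have : H = ⊤ := Subsingleton.elim _ _
    rw [this, Subgroup.index_top] at hidx
    norm_num at hidx
  refine { toNontrivial := hnt, eq_bot_or_eq_top_of_normal := ?_ }
  intro N hN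
  rcases hP1 (N.subgroupOf H) inferInstance with h | h
  · left
    have hNH : N ⊓ H = ⊥ := by
      rw [Subgroup.subgroupOf_eq_bot, disjoint_iff] at h
      exact h
    have hcard : Nat.card N ∣ 122760 := hidx ▸ Cfsg.Agent.Helper74.ONS.card_dvd_index_of_inf_eq_bot N H hNH
    have : Fact (Nat.Prime 19) := ⟨by norm_num⟩
    obtain ⟨x, hx⟩ := exists_prime_orderOf_dvd_card' 19 h19
    have hs19 : (x : G) ^ 19 = 1 := by
      rw [← Subgroup.coe_pow, ← hx, pow_orderOf_eq_one]
      rfl
    have hx1 : x ≠ 1 := by
      intro h1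
      rw [h1, orderOf_one] at hx
      norm_num at hx
    have hcen := centralizes_normal N (x : G) hs19 hcard
    have hsC : (x : G) ∈ Subgroup.centralizer (N : Set G) := by
      rw [Subgroup.mem_centralizer_iff]
      intro y hy
      have h1 := hcen y hy
      calc y * (x : G) = ((x : G) * y * (x : G)⁻¹) * (x : G) := by rw [h1]
        _ = (x : G) * y := by group
    rcases hP1 ((Subgroup.centralizer (N : Set G)).subgroupOf H) inferInstance with h2 | h2
    · exfalso
      have hxm : x ∈ (Subgroup.centralizer (N : Set G)).subgroupOf H := Subgroup.mem_subgroupOf.mpr hsC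
      rw [h2, Subgroup.mem_bot] at hxm
      exact hx1 hxm
    · have hCtop : Subgroup.centralizer (N : Set G) = ⊤ := by
        apply hP2 _ inferInstance
        rintro _ ⟨l, hl, rfl⟩
        exact Subgroup.mem_subgroupOf.mp (h2 hl)
      have hNZ : N ≤ Subgroup.center G := by
        intro n hn
        rw [Subgroup.mem_center_iff]
        intro g
        have hg : g ∈ Subgroup.centralizer (N : Set G) := hCtop ▸ Subgroup.mem_top g
        exact ((Subgroup.mem_centralizer_iff.mp hg) n hn).symm
      exact le_bot_iff.mp (hNH ▸ le_inf le_rfl (hNZ.trans hF))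
  · right
    apply hP2 N hN
    rintro _ ⟨l, hl, rfl⟩
    exact Subgroup.mem_subgroupOf.mp (h hl)

end Cfsg.Agent.Helper37.ONSCore
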