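import Cfsg.Agent.Lib.Helper28.S1692.Model

/-!
ONS server (S1699): in helper28's verified action of the presented O'Nan group on 122760 points, the base point `o`
is the only point fixed by all of `a, …, f`.  One kernel-evaluated Bool check over the table files `F_*`.
-/

set_option autoImplicit false
set_option maxRecDepth 100000
set_option linter.all false

namespace Cfsg.Agent.Helper37.ONSFix

open Cfsg.Agent.Helper28 Cfsg.Agent.Helper28.S1692
open Cfsg.Spor.ON (Gen)

noncomputable section

/-- `f` moves `p` -/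
def movB (f : Pt → Pt) (p : Pt) : Bool := Bool.rec true false (beqPt (f p) p)

/-- `p` is the base point or one of `a, …, f` moves it -/
def fixChk (p : Pt) : Bool :=
  orB (beqPt p o) (orB (movB f_a p) (orB (movB f_b p) (orB (movB f_c p) (orB (movB f_d p)
    (orB (movB f_e p) (movB f_f p))))))

theorem fix_chk : allPts fixChk = true := by decide +kernel

theorem beqPt_refl (p : Pt) : beqPt p p = true := by
  unfold beqPt
  rw [Nat.beq_refl, Nat.beq_refl, Nat.beq_refl]
  rfl

theorem movB_of_fix (f : Pt → Pt) (p : Pt) (h : f p = p) : movB f p = false := by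
  unfold movB
  rw [h, beqPt_refl]

theorem only_fixed (p : Pt) (ha : f_a p = p) (hb : f_b p = p) (hc : f_c p = p) (hd : f_d p = p)
    (he : f_e p = p) (hf : f_f p = p) : p = o := by
  have h := allPts_sound _ fix_chk p
  unfold fixChk at h
  rw [movB_of_fix _ _ ha, movB_of_fix _ _ hb, movB_of_fix _ _ hc, movB_of_fix _ _ hd,
    movB_of_fix _ _ he, movB_of_fix _ _ hf] at h
  rcases orB_true h with h1 | h1
  · exact beqPt_sound _ _ h1
  · exact absurd h1 (by decide)

theorem lift_of_apply (x : Gen) (p : Pt) :
    FreeGroup.lift (permOf fwd inv hfi hif) (FreeGroup.of x) p = fwd x p := by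
  rw [FreeGroup.lift_apply_of]
  rfl

/-- the hypothesis `hfix` of the ONS piece (D) `center_le_subH`, for helper28's S1692 model -/
theorem hfix : ∀ p, (∀ s ∈ S, FreeGroup.lift (permOf fwd inv hfi hif) s p = p) → p = o := by
  intro p hp
  have ha := hp Cfsg.Spor.ON.a (by simp [S])
  have hb := hp Cfsg.Spor.ON.b (by simp [S])
  have hc := hp Cfsg.Spor.ON.c (by simp [S])
  have hd := hp Cfsg.Spor.ON.d (by simp [S])
  have he := hp Cfsg.Spor.ON.e (by simp [S])
  have hf := hp Cfsg.Spor.ON.f (by simp [S])
  rw [show Cfsg.Spor.ON.a = FreeGroup.of Gen.a from rfl, lift_of_apply] at ha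
  rw [show Cfsg.Spor.ON.b = FreeGroup.of Gen.b from rfl, lift_of_apply] at hb
  rw [show Cfsg.Spor.ON.c = FreeGroup.of Gen.c from rfl, lift_of_apply] at hc
  rw [show Cfsg.Spor.ON.d = FreeGroup.of Gen.d from rfl, lift_of_apply] at hd
  rw [show Cfsg.Spor.ON.e = FreeGroup.of Gen.e from rfl, lift_of_apply] at he
  rw [show Cfsg.Spor.ON.f = FreeGroup.of Gen.f from rfl, lift_of_apply] at hf
  exact only_fixed p ha hb hc hd he hf

end

end Cfsg.Agent.Helper37.ONSFix
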