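import Mathlib
import Cfsg.Prelude.Def_Spor_ON

/-!
Basic relations in the presented O'Nan group, and the subgroup `⟨a, …, f⟩` spelled as in S1692 / S1693.
-/

set_option autoImplicit false

namespace Cfsg.Agent.Helper37.ONSRel
open Cfsg Cfsg.Spor

/-- the relators of the presented O'Nan group -/
abbrev onRels : Set (FreeGroup ON.Gen) := coxRelators ON.edges ∪ {r | r ∈ ON.extra}

/-- the subgroup `⟨a, …, f⟩` of the presented O'Nan group, spelled as in S1692 / S1693 -/
abbrev onH : Subgroup (PresentedGroup onRels) :=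
  (Subgroup.closure ({ON.a, ON.b, ON.c, ON.d, ON.e, ON.f} : Set (FreeGroup ON.Gen))).map
    (PresentedGroup.mk onRels)

theorem cox_rel (x y : ON.Gen) (hx : x ∈ coxNodes ON.edges) (hy : y ∈ coxNodes ON.edges) :
    (PresentedGroup.mk onRels (FreeGroup.of x * FreeGroup.of y)) ^ coxLabel ON.edges x y = 1 := by
  rw [← map_pow]
  exact PresentedGroup.one_of_mem (Or.inl ⟨x, hx, y, hy, rfl⟩)

theorem sq_one (x : ON.Gen) (hx : x ∈ coxNodes ON.edges) :
    PresentedGroup.mk onRels (FreeGroup.of x) * PresentedGroup.mk onRels (FreeGroup.of x) = 1 := by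
  have h := cox_rel x x hx hx
  have hl : coxLabel ON.edges x x = 1 := by simp [coxLabel]
  rw [hl, pow_one, map_mul] at h
  exact h

theorem cube_one (x y : ON.Gen) (hx : x ∈ coxNodes ON.edges) (hy : y ∈ coxNodes ON.edges)
    (hl : coxLabel ON.edges x y = 3) :
    (PresentedGroup.mk onRels (FreeGroup.of x) * PresentedGroup.mk onRels (FreeGroup.of y)) ^ 3 = 1 := by
  have h3 := cox_rel x y hx hy
  rw [hl, map_mul] at h3
  exact h3

/-- in a group: `x² = y² = (xy)³ = 1` and two of `1, x, y` coincide, then `xy = 1`. -/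
theorem mul_eq_one_of_not_distinct {M : Type*} [Group M] (x y : M) (hx : x * x = 1) (hy : y * y = 1)
    (hxy : (x * y) ^ 3 = 1) (h : x = 1 ∨ y = 1 ∨ x = y) : x * y = 1 := by
  rcases h with h | h | h
  · subst h
    rw [one_mul] at hxy ⊢
    have : y ^ 3 = y := by rw [pow_succ, pow_two, hy, one_mul]
    rw [this] at hxy
    exact hxy
  · subst h
    rw [mul_one] at hxy ⊢
    have : x ^ 3 = x := by rw [pow_succ, pow_two, hx, one_mul]
    rw [this] at hxy
    exact hxy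
  · subst h
    exact hx

theorem mem_onH (x : ON.Gen)
    (hx : FreeGroup.of x ∈ ({ON.a, ON.b, ON.c, ON.d, ON.e, ON.f} : Set (FreeGroup ON.Gen))) :
    PresentedGroup.mk onRels (FreeGroup.of x) ∈ onH :=
  Subgroup.mem_map_of_mem _ (Subgroup.subset_closure hx)

theorem memS_a : FreeGroup.of ON.Gen.a ∈ ({ON.a, ON.b, ON.c, ON.d, ON.e, ON.f} : Set (FreeGroup ON.Gen)) := by
  simp [ON.a]
theorem memS_b : FreeGroup.of ON.Gen.b ∈ ({ON.a, ON.b, ON.c, ON.d, ON.e, ON.f} : Set (FreeGroup ON.Gen)) := by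
  simp [ON.b]
theorem memS_c : FreeGroup.of ON.Gen.c ∈ ({ON.a, ON.b, ON.c, ON.d, ON.e, ON.f} : Set (FreeGroup ON.Gen)) := by
  simp [ON.c]
theorem memS_d : FreeGroup.of ON.Gen.d ∈ ({ON.a, ON.b, ON.c, ON.d, ON.e, ON.f} : Set (FreeGroup ON.Gen)) := by
  simp [ON.d]
theorem memS_e : FreeGroup.of ON.Gen.e ∈ ({ON.a, ON.b, ON.c, ON.d, ON.e, ON.f} : Set (FreeGroup ON.Gen)) := by
  simp [ON.e]
theorem memS_f : FreeGroup.of ON.Gen.f ∈ ({ON.a, ON.b, ON.c, ON.d, ON.e, ON.f} : Set (FreeGroup ON.Gen)) := by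
  simp [ON.f]

/-- the generator `x` as an element of `onH` -/
def genH (x : ON.Gen)
    (hx : FreeGroup.of x ∈ ({ON.a, ON.b, ON.c, ON.d, ON.e, ON.f} : Set (FreeGroup ON.Gen))) : ↥onH :=
  ⟨PresentedGroup.mk onRels (FreeGroup.of x), mem_onH x hx⟩

theorem genH_sq (x : ON.Gen) (hx) (hn : x ∈ coxNodes ON.edges) : genH x hx * genH x hx = 1 :=
  Subtype.ext (sq_one x hn)

theorem genH_cube (x y : ON.Gen) (hx) (hy) (hxn : x ∈ coxNodes ON.edges) (hyn : y ∈ coxNodes ON.edges)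
    (hl : coxLabel ON.edges x y = 3) : (genH x hx * genH y hy) ^ 3 = 1 :=
  Subtype.ext (by
    rw [Subgroup.coe_pow, Subgroup.coe_mul]
    exact cube_one x y hxn hyn hl)

end Cfsg.Agent.Helper37.ONSRel
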