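import Mathlib
import Cfsg.Prelude.Def_Spor_ON
import Cfsg.Prelude.Def_Sporadic
import Cfsg.Agent.Lib.Helper37.ONSRel
import Cfsg.Agent.Lib.Helper37.ONSCore
import Cfsg.Agent.Lib.Helper9.ONSA
import Cfsg.Agent.Lib.Helper74.ONSB

/-!
ONS server (S1699): the presented O'Nan group is simple of order 460815505920, from its inputs
(S1692 index, strong S1693, `|PSL(3,7)|`, `Z(ON) ≤ ⟨a, …, f⟩`).
-/

set_option autoImplicit false

namespace Cfsg.Agent.Helper37.ONSMain
open Cfsg Cfsg.Spor Cfsg.Agent.Helper37.ONSRel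

/-- the products `ab`, `bc`, `de`, `ef` lie in every normal subgroup of index 2 of `⟨a, …, f⟩`. -/
theorem even_mem (L : Subgroup ↥onH) [L.Normal] (hL : L.index = 2) :
    genH .a memS_a * genH .b memS_b ∈ L ∧ genH .b memS_b * genH .c memS_c ∈ L ∧
    genH .d memS_d * genH .e memS_e ∈ L ∧ genH .e memS_e * genH .f memS_f ∈ L := by
  refine ⟨?_, ?_, ?_, ?_⟩
  · exact Cfsg.Agent.Helper74.ONS.mul_mem_of_index_two L hL _ _
      (genH_sq _ _ (by decide)) (genH_sq _ _ (by decide))
      (genH_cube _ _ _ _ (by decide) (by decide) (by decide))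
  · exact Cfsg.Agent.Helper74.ONS.mul_mem_of_index_two L hL _ _
      (genH_sq _ _ (by decide)) (genH_sq _ _ (by decide))
      (genH_cube _ _ _ _ (by decide) (by decide) (by decide))
  · exact Cfsg.Agent.Helper74.ONS.mul_mem_of_index_two L hL _ _
      (genH_sq _ _ (by decide)) (genH_sq _ _ (by decide))
      (genH_cube _ _ _ _ (by decide) (by decide) (by decide))
  · exact Cfsg.Agent.Helper74.ONS.mul_mem_of_index_two L hL _ _
      (genH_sq _ _ (by decide)) (genH_sq _ _ (by decide))
      (genH_cube _ _ _ _ (by decide) (by decide) (by decide))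

/-- S1699 from its inputs: S1692 (index), the strong form of S1693 (L37), `|PSL(3,7)|`, and `Z(ON) ≤ ⟨a, …, f⟩`. -/
theorem isON_of
    (hidx : onH.index = 122760)
    (hL : ∃ L : Subgroup ↥onH, L.Normal ∧ L.index = 2 ∧
      Nonempty (L ≃* Matrix.ProjectiveSpecialLinearGroup (Fin 3) (ZMod 7)) ∧
      ∀ M : Subgroup ↥onH, M.Normal → M = ⊥ ∨ L ≤ M)
    (hcardPSL : Nat.card (Matrix.ProjectiveSpecialLinearGroup (Fin 3) (ZMod 7)) = 1876896)
    (hcen : Subgroup.center (PresentedGroup onRels) ≤ onH) : Cfsg.IsON Cfsg.Spor.ON := by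
  obtain ⟨L, hLn, hL2, ⟨e⟩, hP1⟩ := hL
  have hcL : Nat.card L = 1876896 := by rw [Nat.card_congr e.toEquiv, hcardPSL]
  have hcH : Nat.card ↥onH = 3753792 := by
    have := L.card_mul_index
    rw [hcL, hL2] at this
    omega
  have hcG : Nat.card (PresentedGroup onRels) = 460815505920 := by
    have := onH.card_mul_index
    rw [hcH, hidx] at this
    omega
  have hfin : Finite (PresentedGroup onRels) := Nat.finite_of_card_ne_zero (by rw [hcG]; norm_num)
  refine ⟨?_, hcG⟩
  apply Cfsg.Agent.Helper37.ONSCore.simple_core onH L hidx (by rw [hcH]; norm_num) hP1 ?_ hcen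
  intro N hN hLN
  obtain ⟨h1, h2, h3, h4⟩ := even_mem L hL2
  apply Cfsg.Agent.Helper9.ONS.top_of_even_mem N
  · have := hLN (Subgroup.mem_map_of_mem onH.subtype h1)
    simpa [genH, map_mul, ON.a, ON.b] using this
  · have := hLN (Subgroup.mem_map_of_mem onH.subtype h2)
    simpa [genH, map_mul, ON.b, ON.c] using this
  · have := hLN (Subgroup.mem_map_of_mem onH.subtype h3)
    simpa [genH, map_mul, ON.d, ON.e] using this
  · have := hLN (Subgroup.mem_map_of_mem onH.subtype h4)
    simpa [genH, map_mul, ON.e, ON.f] using this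

end Cfsg.Agent.Helper37.ONSMain
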