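import Mathlib
import Cfsg.Prelude.Def_Characters
import Cfsg.Prelude.Def_Blocks
import Cfsg.Agent.Lib.Helper80.RMKDefs
import Cfsg.Agent.Lib.Helper79.Glaub.Pkg

/-!
# RMK server (helper80, S4581): piece (ISO) `cnt_congr` (helper37)
-/

set_option autoImplicit false
set_option linter.style.haveILetI false

namespace Cfsg.Agent.Helper37.RMK

open Cfsg Cfsg.Agent.Helper80 Cfsg.Agent.Helper80.RMK
open scoped ComplexConjugate

universe u

/-- `Good` is invariant under pulling back along an isomorphism -/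
theorem h37_good_irrComp (r : Bool) {A B : Type u} [Group A] [Group B] (e : A ≃* B)
    (χ : IrrCharacter B) : Good r (Cfsg.Agent.Helper79.Glaub.irrComp e χ) ↔ Good r χ := by
  unfold Good
  have hdeg : charDegree ((Cfsg.Agent.Helper79.Glaub.irrComp e χ : IrrCharacter A) : A → ℂ) =
      charDegree (χ : B → ℂ) := by
    unfold charDegree
    rw [Cfsg.Agent.Helper79.Glaub.irrComp_apply, map_one]
  rw [hdeg]
  constructor
  · rintro ⟨h1, h2⟩
    refine ⟨fun hr b => ?_, h2⟩
    have := h1 hr (e.symm b)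
    rw [Cfsg.Agent.Helper79.Glaub.irrComp_apply, MulEquiv.apply_symm_apply] at this
    exact this
  · rintro ⟨h1, h2⟩
    refine ⟨fun hr a => ?_, h2⟩
    rw [Cfsg.Agent.Helper79.Glaub.irrComp_apply]
    exact h1 hr (e a)

/-- (ISO) the count is invariant under isomorphism -/
theorem cnt_congr (r : Bool) {A B : Type u} [Group A] [Group B] (e : A ≃* B) :
    cnt r A = cnt r B := by
  unfold cnt
  apply Nat.card_congr
  refine ⟨fun χ => ⟨Cfsg.Agent.Helper79.Glaub.irrComp e.symm χ.1,
      (h37_good_irrComp r e.symm χ.1).2 χ.2⟩,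
    fun χ => ⟨Cfsg.Agent.Helper79.Glaub.irrComp e χ.1, (h37_good_irrComp r e χ.1).2 χ.2⟩, ?_, ?_⟩
  · intro χ
    apply Subtype.ext
    exact Cfsg.Agent.Helper79.Glaub.irrComp_symm e χ.1
  · intro χ
    apply Subtype.ext
    exact Cfsg.Agent.Helper79.Glaub.irrComp_symm' e χ.1

end Cfsg.Agent.Helper37.RMK
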