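import Mathlib
import Cfsg.Prelude.Def_Characters
import Cfsg.Prelude.Def_Blocks
import Cfsg.Agent.Lib.Helper80.RMKDefs
import Cfsg.Agent.Lib.Helper79.Inflation

/-!
# RMK server (helper80, S4581): piece (KERQ) `cnt_quotient` (helper37)
-/

set_option autoImplicit false
set_option linter.style.haveILetI false

namespace Cfsg.Agent.Helper37.RMK

open Cfsg Cfsg.Agent.Helper80 Cfsg.Agent.Helper80.RMK
open scoped ComplexConjugate

universe u

/-- `Good` is invariant under inflation -/
theorem h37_good_inflate (r : Bool) {A : Type u} [Group A] [Finite A] (K : Subgroup A) [K.Normal]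
    (ψ : IrrCharacter (A ⧸ K)) : Good r (Cfsg.Agent.Helper79.inflate K ψ) ↔ Good r ψ := by
  unfold Good
  rw [Cfsg.Agent.Helper79.charDegree_inflate]
  constructor
  · rintro ⟨h1, h2⟩
    refine ⟨fun hr x => ?_, h2⟩
    obtain ⟨a, rfl⟩ := QuotientGroup.mk_surjective x
    have := h1 hr a
    rw [Cfsg.Agent.Helper79.inflate_apply] at this
    exact this
  · rintro ⟨h1, h2⟩
    refine ⟨fun hr a => ?_, h2⟩
    rw [Cfsg.Agent.Helper79.inflate_apply]
    exact h1 hr _

/-- (KERQ) the good characters of `A` trivial on the normal subgroup `K` are the good characters of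
`A ⧸ K` (use `Helper79.inflateEquiv`) -/
theorem cnt_quotient (r : Bool) {A : Type u} [Group A] [Finite A] (K : Subgroup A) [K.Normal] :
    Nat.card {χ : IrrCharacter A // Good r χ ∧ ∀ k ∈ K, (χ : A → ℂ) k = (χ : A → ℂ) 1} =
      cnt r (A ⧸ K) := by
  unfold cnt
  symm
  apply Nat.card_congr
  refine Equiv.ofBijective
    (fun ψ => ⟨Cfsg.Agent.Helper79.inflate K ψ.1, (h37_good_inflate r K ψ.1).2 ψ.2,
      fun k hk => (Cfsg.Agent.Helper79.mem_irrKer _ k).1
        (Cfsg.Agent.Helper79.le_irrKer_inflate K ψ.1 hk)⟩) ⟨?_, ?_⟩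
  · intro ψ ψ' h
    apply Subtype.ext
    exact Cfsg.Agent.Helper79.inflate_injective K (congrArg Subtype.val h)
  · rintro ⟨χ, hg, hk⟩
    obtain ⟨ψ, hψ⟩ := Cfsg.Agent.Helper79.exists_deflate K χ
      (fun k hk' => (Cfsg.Agent.Helper79.mem_irrKer χ k).2 (hk k hk'))
    refine ⟨⟨ψ, ?_⟩, ?_⟩
    · rw [← h37_good_inflate r K ψ, hψ]; exact hg
    · apply Subtype.ext
      exact hψ

end Cfsg.Agent.Helper37.RMK
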