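import Mathlib
import Cfsg.Prelude.Def_Characters
import Cfsg.Prelude.Def_Blocks
import Cfsg.Agent.Lib.Helper80.RMKDefs
import Cfsg.Agent.Lib.Helper42.RMKKERQ
import Cfsg.Agent.Lib.Helper69.RMKL2
import Cfsg.Agent.Lib.Helper69.RMKINVTRIV
import Cfsg.Agent.Lib.Helper19.RMKGT1
import Cfsg.Agent.Lib.Helper19.RMKQN

/-!
# RMK server (helper80, S4581): piece (STEPA) `step_odd` (helper37)
-/

set_option autoImplicit false
set_option linter.style.haveILetI false

namespace Cfsg.Agent.Helper37.RMK

open Cfsg Cfsg.Agent.Helper80 Cfsg.Agent.Helper80.RMK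
open scoped ComplexConjugate

universe u

/-- the order of `M.subgroupOf N` divides the order of `M` -/
theorem h37_card_subgroupOf_dvd {G : Type u} [Group G] [Finite G] (M N : Subgroup G) :
    Nat.card ↥(M.subgroupOf N) ∣ Nat.card ↥M := by
  let f : ↥(M.subgroupOf N) →* ↥M :=
    { toFun := fun x => ⟨((x : ↥N) : G), Subgroup.mem_subgroupOf.1 x.2⟩
      map_one' := rfl
      map_mul' := fun _ _ => rfl }
  have hf : Function.Injective f := by
    intro x y h
    apply Subtype.ext
    apply Subtype.ext
    exact congrArg (fun z : ↥M => (z : G)) h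
  exact Subgroup.card_dvd_of_injective f hf

/-- (STEPA) the induction step over a normal subgroup of odd order -/
theorem step_odd (r : Bool) {G : Type u} [Group G] [Finite G] [Group.IsSolvable G]
    (M : Subgroup G) [M.Normal] (hM : M ≠ ⊥) (hodd : Odd (Nat.card ↥M))
    (hcomm : ∀ a ∈ M, ∀ b ∈ M, a * b = b * a)
    (hIH : IH.{u} r (Nat.card G)) (P : Sylow 2 G)
    (hself : r = false → Subgroup.normalizer ((P : Subgroup G) : Set G) = (P : Subgroup G)) :
    cnt r G = cnt r ↥(Subgroup.normalizer ((P : Subgroup G) : Set G)) := by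
  -- step 1: every good character of `G` is trivial on `M`
  have h1 : cnt r G =
      Nat.card {χ : IrrCharacter G // Good r χ ∧ ∀ k ∈ M, (χ : G → ℂ) k = (χ : G → ℂ) 1} := by
    unfold cnt
    apply Nat.card_congr
    refine Equiv.subtypeEquivRight (fun χ => ?_)
    constructor
    · intro hχ
      refine ⟨hχ, ?_⟩
      cases r with
      | true => exact Cfsg.Agent.Helper69.RMK.odd_normal_le_ker M hodd χ hχ
      | false =>
        exact Cfsg.Agent.Helper69.RMK.odd_normal_le_ker_of_self_normalizing M hodd hcomm P
          (hself rfl) χ hχ.2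
    · exact fun h => h.1
  -- step 2: pass to the quotient
  have h2 := Cfsg.Agent.Helper42.RMK.cnt_quotient r M
  -- step 3: the induction hypothesis for `G ⧸ M`
  have hlt : Nat.card (G ⧸ M) < Nat.card G := by
    have hc := Subgroup.card_eq_card_quotient_mul_card_subgroup M
    have hM1 : 1 < Nat.card ↥M := (Subgroup.one_lt_card_iff_ne_bot M).2 hM
    have hq : 0 < Nat.card (G ⧸ M) := Nat.card_pos
    rw [hc]
    nlinarith
  have h3 := hIH (G ⧸ M) hlt (P.mapSurjective (QuotientGroup.mk'_surjective M))
    (fun hr => Cfsg.Agent.Helper19.RMK.self_normalizing_quotient M P (hself hr))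
  -- step 4: the normalizer of the image
  have h4 := Cfsg.Agent.Helper19.RMK.cnt_normalizer_quotient r M P
  -- step 5: every good character of `N_G(P)` is trivial on `M ⊓ N_G(P)`
  have h5 : Nat.card {ψ : IrrCharacter ↥(Subgroup.normalizer ((P : Subgroup G) : Set G)) //
        Good r ψ ∧ ∀ k : ↥(Subgroup.normalizer ((P : Subgroup G) : Set G)), (k : G) ∈ M →
          (ψ : ↥(Subgroup.normalizer ((P : Subgroup G) : Set G)) → ℂ) k =
            (ψ : ↥(Subgroup.normalizer ((P : Subgroup G) : Set G)) → ℂ) 1} =
      cnt r ↥(Subgroup.normalizer ((P : Subgroup G) : Set G)) := by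
    unfold cnt
    apply Nat.card_congr
    refine Equiv.subtypeEquivRight (fun ψ => ?_)
    constructor
    · exact fun h => h.1
    · intro hψ
      refine ⟨hψ, ?_⟩
      cases r with
      | true =>
        intro k hk
        have hodd' : Odd (Nat.card ↥(M.subgroupOf
            (Subgroup.normalizer ((P : Subgroup G) : Set G)))) :=
          Odd.of_dvd_nat hodd (h37_card_subgroupOf_dvd M _)
        exact Cfsg.Agent.Helper69.RMK.odd_normal_le_ker
          (M.subgroupOf (Subgroup.normalizer ((P : Subgroup G) : Set G))) hodd' ψ hψ k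
          (Subgroup.mem_subgroupOf.2 hk)
      | false =>
        intro k hk
        have hkP : (k : G) ∈ (P : Subgroup G) := by
          have hk2 : (k : G) ∈ Subgroup.normalizer ((P : Subgroup G) : Set G) := k.2
          exact (SetLike.ext_iff.1 (hself rfl) (k : G)).1 hk2
        obtain ⟨n, hn⟩ := IsPGroup.exists_card_eq P.2
        have hcop : (Nat.card ↥M).Coprime (Nat.card ↥(P : Subgroup G)) := by
          rw [hn]
          exact Nat.Coprime.pow_right n (Nat.coprime_two_right.2 hodd)
        have hdisj := Subgroup.disjoint_of_coprime_natCard hcop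
        have hk1 : (k : G) = 1 := Subgroup.disjoint_def.1 hdisj hk hkP
        have : k = 1 := Subtype.ext hk1
        rw [this]
  rw [h1, h2, h3, h4, h5]

end Cfsg.Agent.Helper37.RMK
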