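import Mathlib
import Cfsg.Agent.Lib.Helper2.SR0

/-!
SR server (helper2, S2281), piece (C14): for `n = 2` the element `g = L(1 + bN) U(s b E_11 + r (E_01 + E_10))`
conjugates the regular unipotent `u` to `T_{e_0}(s b (1 - b) - 2 r) u`.
-/

set_option autoImplicit false

namespace Cfsg.Agent.Helper37.SR

open Matrix Cfsg Cfsg.Agent.Helper13 Cfsg.Agent.Helper84.SpRoot Cfsg.Agent.Helper5.SpAut
open Cfsg.Agent.Helper2.SR

variable {F : Type*} [Field F]

/-- the matrix of `g = L(A) U(S)`, `A = 1 + b N`, `S = s b E_11 + r (E_01 + E_10)` -/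
def c14gM (s b r : F) : Matrix (Fin (0 + 2) ⊕ Fin (0 + 2)) (Fin (0 + 2) ⊕ Fin (0 + 2)) F :=
  Matrix.fromBlocks !![1, b; 0, 1] !![b * r, r + s * b * b; r, s * b] 0 !![1, 0; -b, 1]

theorem c14gM_mem (s b r : F) : c14gM s b r ∈ Matrix.symplecticGroup (Fin (0 + 2)) F := by
  rw [SymplecticGroup.mem_iff]
  unfold c14gM Matrix.J
  rw [Matrix.fromBlocks_transpose, Matrix.fromBlocks_multiply, Matrix.fromBlocks_multiply]
  congr 1 <;> ext i j <;> fin_cases i <;> fin_cases j <;>
    simp [Matrix.mul_apply, Fin.sum_univ_two, Matrix.vecMul, dotProduct, Matrix.transpose_apply] <;> ring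

theorem c14_uM_mem (s : F) : uM (m := 0) s ∈ Matrix.symplecticGroup (Fin (0 + 2)) F := by
  rw [SymplecticGroup.mem_iff]
  unfold uM Matrix.J
  rw [Matrix.fromBlocks_transpose, Matrix.fromBlocks_multiply, Matrix.fromBlocks_multiply]
  congr 1 <;> ext i j <;> fin_cases i <;> fin_cases j <;>
    simp [Matrix.mul_apply, Fin.sum_univ_two, Pm, Nm, Pinv, Ym, jB] <;> ring

theorem c14_uEl_val (s : F) : (uEl (m := 0) s).val = uM (m := 0) s := by
  unfold uEl
  rw [dif_pos (c14_uM_mem s)]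

/-- (C14) -/
theorem exists_g_two (s b r : F) :
    ∃ g : Matrix.symplecticGroup (Fin (0 + 2)) F,
      g * uEl (m := 0) s * g⁻¹ = sympT (be 0) (s * b * (1 - b) - 2 * r) * uEl (m := 0) s := by
  refine ⟨⟨c14gM s b r, c14gM_mem s b r⟩, ?_⟩
  rw [mul_inv_eq_iff_eq_mul]
  apply Subtype.ext
  rw [Submonoid.coe_mul, Submonoid.coe_mul, Submonoid.coe_mul, c14_uEl_val]
  show c14gM s b r * uM (m := 0) s =
    Cfsg.sympTransvection (0 + 2) (be 0) (s * b * (1 - b) - 2 * r) * uM (m := 0) s * c14gM s b r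
  have hT : Cfsg.sympTransvection (0 + 2) (be (m := 0) (F := F) 0) (s * b * (1 - b) - 2 * r) =
      Matrix.fromBlocks 1 !![s * b * (1 - b) - 2 * r, 0; 0, 0] 0 1 := by
    unfold Cfsg.sympTransvection Matrix.J be
    ext i j
    rcases i with i | i <;> rcases j with j | j <;> fin_cases i <;> fin_cases j <;>
      simp [Matrix.vecMulVec_apply, Matrix.mulVec, dotProduct, Fintype.sum_sum_type, Fin.sum_univ_two,
        Matrix.one_apply, Pi.single_apply]
  rw [hT]
  unfold c14gM uM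
  rw [Matrix.fromBlocks_multiply, Matrix.fromBlocks_multiply, Matrix.fromBlocks_multiply]
  congr 1 <;> ext i j <;> fin_cases i <;> fin_cases j <;>
    simp [Matrix.mul_apply, Fin.sum_univ_two, Matrix.vecMul, dotProduct, Matrix.transpose_apply,
      Pm, Nm, Pinv, Ym, jB] <;> ring

end Cfsg.Agent.Helper37.SR
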