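import Mathlib
import Cfsg.Agent.Lib.Helper98.WR0

/-!
# WR server (helper98, S2347): piece (M0) `exists_gl_vec` (helper37)
-/

set_option autoImplicit false

namespace Cfsg.Agent.Helper37.WR

open Matrix Cfsg.Agent.Helper98.SPE Cfsg.Agent.Helper98.WR

universe u v

section CNT

variable {F : Type*} [Field F] {n : ℕ}

/-- piece M0 [MED]. `GL_n` is transitive on nonzero vectors. -/
theorem exists_gl_vec (x x₀ : Fin n → F) (hx : x ≠ 0) (hx₀ : x₀ ≠ 0) :
    ∃ g : GL (Fin n) F, (g : Matrix (Fin n) (Fin n) F) *ᵥ x = x₀ := by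
  classical
  let e1 := LinearEquiv.toSpanNonzeroSingleton F (Fin n → F) x hx
  let e2 := LinearEquiv.toSpanNonzeroSingleton F (Fin n → F) x₀ hx₀
  let f : ↥(F ∙ x) ≃ₗ[F] ↥(F ∙ x₀) := e1.symm ≪≫ₗ e2
  obtain ⟨g, hg⟩ := Submodule.exists_linearEquiv_restrict_eq f
  have hgx : g x = x₀ := by
    have h1 := hg ⟨x, Submodule.mem_span_singleton_self x⟩
    have h2 : e1 1 = ⟨x, Submodule.mem_span_singleton_self x⟩ :=
      LinearEquiv.toSpanNonzeroSingleton_one F (Fin n → F) x hx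
    have h3 : f ⟨x, Submodule.mem_span_singleton_self x⟩ = e2 1 := by
      change e2 (e1.symm ⟨x, Submodule.mem_span_singleton_self x⟩) = e2 1
      rw [← h2, LinearEquiv.symm_apply_apply]
    have h4 : ((e2 1 : ↥(F ∙ x₀)) : Fin n → F) = x₀ := by
      rw [LinearEquiv.toSpanNonzeroSingleton_one]
    rw [h3] at h1
    rw [← h1, h4]
  let A : Matrix (Fin n) (Fin n) F := LinearMap.toMatrix' (g : (Fin n → F) →ₗ[F] (Fin n → F))
  let B : Matrix (Fin n) (Fin n) F := LinearMap.toMatrix' (g.symm : (Fin n → F) →ₗ[F] (Fin n → F))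
  have hAB : A * B = 1 := by
    rw [← LinearMap.toMatrix'_comp]
    have : (g : (Fin n → F) →ₗ[F] (Fin n → F)) ∘ₗ (g.symm : (Fin n → F) →ₗ[F] (Fin n → F)) =
        LinearMap.id := by
      ext y : 1
      simp
    rw [this, LinearMap.toMatrix'_id]
  have hBA : B * A = 1 := by
    rw [← LinearMap.toMatrix'_comp]
    have : (g.symm : (Fin n → F) →ₗ[F] (Fin n → F)) ∘ₗ (g : (Fin n → F) →ₗ[F] (Fin n → F)) =
        LinearMap.id := by
      ext y : 1
      simp
    rw [this, LinearMap.toMatrix'_id]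
  refine ⟨⟨A, B, hAB, hBA⟩, ?_⟩
  change A *ᵥ x = x₀
  rw [LinearMap.toMatrix'_mulVec]
  exact hgx

end CNT

end Cfsg.Agent.Helper37.WR
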