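import Mathlib
import Cfsg.Agent.Lib.Helper98.WR0

/-!
# WR server (helper98, S2347): piece (W0) `two_ne_zero_of_odd_card` (helper37)
-/

set_option autoImplicit false

namespace Cfsg.Agent.Helper37.WR

open Matrix Cfsg.Agent.Helper98.SPE Cfsg.Agent.Helper98.WR

universe u v

section WEYL

variable {F : Type*} [Field F] {n : ℕ} (ψ : AddChar F ℂ)

/-- piece W0. -/
theorem two_ne_zero_of_odd_card [Fintype F] (h : Odd (Fintype.card F)) : (2 : F) ≠ 0 := by
  intro h2
  obtain ⟨p, hp⟩ := CharP.exists F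
  haveI := hp
  have hp2 : p ∣ 2 := by
    have := (CharP.cast_eq_zero_iff F p 2).1 (by exact_mod_cast h2)
    exact this
  have hpc : p ∣ Fintype.card F := by
    have hprime : p.Prime := CharP.char_is_prime F p
    haveI : Fact p.Prime := ⟨hprime⟩
    obtain ⟨k, hk, hcard⟩ := FiniteField.card F p
    rw [hcard]
    exact dvd_pow_self p k.ne_zero
  have hp' : p = 1 ∨ p = 2 := (Nat.dvd_prime Nat.prime_two).1 hp2
  rcases hp' with hp1 | hp2'
  · exact (CharP.char_is_prime F p).ne_one hp1
  · rw [hp2'] at hpc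
    exact (Nat.not_even_iff_odd.2 h) (even_iff_two_dvd.2 hpc)

end WEYL

end Cfsg.Agent.Helper37.WR
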