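import Mathlib
import Cfsg.Agent.Lib.Helper98.WR0
import Cfsg.Agent.S0765

/-!
# WR server (helper98, S2347): core of piece (W10) `exists_mem_EGrp`, with (W3) as a hypothesis (helper37)
-/

set_option autoImplicit false

namespace Cfsg.Agent.Helper37.WR

open Matrix Cfsg.Agent.Helper98.SPE Cfsg.Agent.Helper98.WR

universe u v

section WEYL

variable {F : Type*} [Field F] {n : ℕ} (ψ : AddChar F ℂ)

/-- (W10) with the statement of (W3) as a hypothesis -/
theorem exists_mem_EGrp_of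
    (hW3 : ∀ (w : Fin n ⊕ Fin n → F) (c : F),
      ∃ A : (Module.End ℂ ((Fin n → F) → ℂ))ˣ, ∀ v : Fin n ⊕ Fin n → F,
        (A : Module.End ℂ ((Fin n → F) → ℂ)) * wOp ψ v =
          wOp ψ (Cfsg.sympTransvection n w c *ᵥ v) * (A : Module.End ℂ ((Fin n → F) → ℂ)))
    (g : ↥(Matrix.symplecticGroup (Fin n) F)) :
    ∃ A : (Module.End ℂ ((Fin n → F) → ℂ))ˣ, (g, A) ∈ EGrp ψ n := by
  let S : Subgroup ↥(Matrix.symplecticGroup (Fin n) F) :=
    (EGrp ψ n).map (MonoidHom.fst _ _)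
  have hS : (⊤ : Subgroup ↥(Matrix.symplecticGroup (Fin n) F)) ≤ S := by
    rw [← Cfsg.Agent.S0765.result (F := F) n, Subgroup.closure_le]
    rintro t ⟨w, c, ht⟩
    obtain ⟨A, hA⟩ := hW3 w c
    refine ⟨(t, A), ?_, rfl⟩
    rw [SetLike.mem_coe, mem_EGrp]
    intro v
    change (A : Module.End ℂ ((Fin n → F) → ℂ)) * wOp ψ v =
      wOp ψ ((t : Matrix (Fin n ⊕ Fin n) (Fin n ⊕ Fin n) F) *ᵥ v) *
        (A : Module.End ℂ ((Fin n → F) → ℂ))
    rw [ht]
    exact hA v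
  obtain ⟨e, he, heg⟩ := hS (Subgroup.mem_top g)
  refine ⟨e.2, ?_⟩
  have : (g, e.2) = e := by
    rw [← heg]
    rfl
  rw [this]
  exact he

end WEYL

end Cfsg.Agent.Helper37.WR
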