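import Mathlib
import Cfsg.Agent.Lib.Helper98.WR0
import Cfsg.Agent.Lib.Helper22.WRW3
import Cfsg.Agent.Lib.Helper37.WRW10Core

/-!
# WR server (helper98, S2347): piece (W10) `exists_mem_EGrp` (helper37)
-/

set_option autoImplicit false

namespace Cfsg.Agent.Helper37.WR

open Matrix Cfsg.Agent.Helper98.SPE Cfsg.Agent.Helper98.WR

universe u v

section WEYL

variable {F : Type*} [Field F] {n : ℕ} (ψ : AddChar F ℂ)

variable [Fintype F]

/-- piece W10 [MED] (uses W3 and `Cfsg.Agent.S0765.result`). -/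
theorem exists_mem_EGrp (h2 : (2 : F) ≠ 0) (hψ : ψ 1 ≠ 1)
    (g : ↥(Matrix.symplecticGroup (Fin n) F)) :
    ∃ A : (Module.End ℂ ((Fin n → F) → ℂ))ˣ, (g, A) ∈ EGrp ψ n :=
  exists_mem_EGrp_of ψ
    (fun w c => Cfsg.Agent.Helper22.WR.exists_transvection_op ψ h2 hψ w c) g

end WEYL

end Cfsg.Agent.Helper37.WR
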