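import Mathlib
import Cfsg.Agent.Lib.Helper98.WR0

/-!
# WR server (helper98, S2347): pieces (W4) `rOp_mul_wOp`, (W4b) `rOp_mul_rOp` (helper37)
-/

set_option autoImplicit false

namespace Cfsg.Agent.Helper37.WR

open Matrix Cfsg.Agent.Helper98.SPE Cfsg.Agent.Helper98.WR

universe u v

section WEYL

variable {F : Type*} [Field F] {n : ℕ} (ψ : AddChar F ℂ)

/-- piece W4 [EASY]. -/
theorem rOp_mul_wOp (v : Fin n ⊕ Fin n → F) :
    rOp F n * wOp ψ v = wOp ψ (-v) * rOp F n := by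
  apply LinearMap.ext
  intro f
  funext x
  rw [Module.End.mul_apply, Module.End.mul_apply, rOp_apply, wOp_apply, wOp_apply, rOp_apply]
  have h1 : ((-v) ∘ Sum.inl : Fin n → F) = -(v ∘ Sum.inl) := rfl
  have h2 : ((-v) ∘ Sum.inr : Fin n → F) = -(v ∘ Sum.inr) := rfl
  rw [h1, h2]
  have e1 : (v ∘ Sum.inl) ⬝ᵥ (-x) + (v ∘ Sum.inl) ⬝ᵥ (v ∘ Sum.inr) / 2 =
      (-(v ∘ Sum.inl)) ⬝ᵥ x + (-(v ∘ Sum.inl)) ⬝ᵥ (-(v ∘ Sum.inr)) / 2 := by
    rw [dotProduct_neg, neg_dotProduct, neg_dotProduct, dotProduct_neg, neg_neg]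
  have e2 : -x + v ∘ Sum.inr = -(x + -(v ∘ Sum.inr)) := by
    rw [neg_add, neg_neg]
  rw [e1, e2]

/-- piece W4b [EASY]. -/
theorem rOp_mul_rOp : rOp F n * rOp F n = 1 := by
  apply LinearMap.ext
  intro f
  funext x
  rw [Module.End.mul_apply, rOp_apply, rOp_apply, neg_neg]
  rfl

end WEYL

end Cfsg.Agent.Helper37.WR
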