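import Mathlib
import Cfsg.Agent.Lib.Helper98.WR0

/-!
# WR server (helper98, S2347): piece (W6a) `isCompl_evenSub_oddSub` (helper37)
-/

set_option autoImplicit false

namespace Cfsg.Agent.Helper37.WR

open Matrix Cfsg.Agent.Helper98.SPE Cfsg.Agent.Helper98.WR

universe u v

section WEYL

/-- piece W6a [EASY-MED]. -/
theorem isCompl_evenSub_oddSub (F : Type*) [Field F] (n : ℕ) :
    IsCompl (evenSub F n) (oddSub F n) := by
  constructor
  · rw [Submodule.disjoint_def]
    intro f he ho
    funext x
    have h1 := (mem_evenSub f).1 he x
    have h2 := (mem_oddSub f).1 ho x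
    rw [h1] at h2
    have h3 : (2 : ℂ) * f x = 0 := by linear_combination h2
    have := mul_eq_zero.1 h3
    rcases this with h | h
    · exact absurd h two_ne_zero
    · exact h
  · rw [codisjoint_iff, eq_top_iff]
    intro f _
    rw [Submodule.mem_sup]
    refine ⟨fun x => (f x + f (-x)) / 2, ?_, fun x => (f x - f (-x)) / 2, ?_, ?_⟩
    · rw [mem_evenSub]
      intro x
      simp only [neg_neg]
      ring
    · rw [mem_oddSub]
      intro x
      simp only [neg_neg]
      ring
    · funext x
      simp only [Pi.add_apply]
      ring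

end WEYL

end Cfsg.Agent.Helper37.WR
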